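import Mathlib

set_option autoImplicit false

namespace Cfsg.Agent.Helper10

open scoped commutatorElement

variable {G : Type*} [Group G]

theorem conj_commutator_mem_left {H K : Subgroup G} {x y a : G} (hx : x ∈ H) (hy : y ∈ H)
    (ha : a ∈ K) : x * ⁅y, a⁆ * x⁻¹ ∈ ⁅H, K⁆ := by
  have e : x * ⁅y, a⁆ * x⁻¹ = ⁅x * y, a⁆ * ⁅x, a⁆⁻¹ := by
    simp only [commutatorElement_def]; group
  rw [e]
  exact Subgroup.mul_mem _ (Subgroup.commutator_mem_commutator (H.mul_mem hx hy) ha)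
    (Subgroup.inv_mem _ (Subgroup.commutator_mem_commutator hx ha))

theorem map_conj_commutator_le_left (H K : Subgroup G) {x : G} (hx : x ∈ H) :
    (⁅H, K⁆).map (MulAut.conj x).toMonoidHom ≤ ⁅H, K⁆ := by
  rw [Subgroup.map_le_iff_le_comap, Subgroup.commutator_le]
  intro y hy a ha
  rw [Subgroup.mem_comap]
  exact conj_commutator_mem_left hx hy ha

/-- `H` normalizes `⁅H, K⁆`. -/
theorem le_normalizer_commutator_left (H K : Subgroup G) :
    H ≤ Subgroup.normalizer ((⁅H, K⁆ : Subgroup G) : Set G) := by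
  intro x hx
  rw [Subgroup.mem_normalizer_iff]
  intro n
  constructor
  · intro hn
    exact map_conj_commutator_le_left H K hx ⟨n, hn, rfl⟩
  · intro hn
    have := map_conj_commutator_le_left H K (H.inv_mem hx) ⟨x * n * x⁻¹, hn, rfl⟩
    have e : (MulAut.conj x⁻¹).toMonoidHom (x * n * x⁻¹) = n := by
      show x⁻¹ * (x * n * x⁻¹) * x⁻¹⁻¹ = n
      group
    rwa [e] at this

/-- `K` normalizes `⁅H, K⁆`. -/
theorem le_normalizer_commutator_right (H K : Subgroup G) :
    K ≤ Subgroup.normalizer ((⁅H, K⁆ : Subgroup G) : Set G) := by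
  rw [Subgroup.commutator_comm]
  exact le_normalizer_commutator_left K H

/-- The three subgroups lemma modulo a subgroup `N` normalized by `A`, `B`, `C`. -/
theorem three_subgroups_mod {A B C N : Subgroup G}
    (hA : A ≤ Subgroup.normalizer (N : Set G)) (hB : B ≤ Subgroup.normalizer (N : Set G))
    (hC : C ≤ Subgroup.normalizer (N : Set G))
    (h1 : ⁅⁅B, C⁆, A⁆ ≤ N) (h2 : ⁅⁅C, A⁆, B⁆ ≤ N) : ⁅⁅A, B⁆, C⁆ ≤ N := by
  set T := Subgroup.normalizer (N : Set G) with hT
  haveI hNn : (N.subgroupOf T).Normal := Subgroup.normal_in_normalizer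
  have hmap : ∀ X : Subgroup G, X ≤ T → (X.subgroupOf T).map T.subtype = X := by
    intro X hX
    rw [Subgroup.subgroupOf_map_subtype]
    exact inf_eq_left.mpr hX
  have key : ∀ X Y Z : Subgroup G, X ≤ T → Y ≤ T → Z ≤ T →
      (⁅⁅X.subgroupOf T, Y.subgroupOf T⁆, Z.subgroupOf T⁆ ≤ N.subgroupOf T ↔ ⁅⁅X, Y⁆, Z⁆ ≤ N) := by
    intro X Y Z hX hY hZ
    show _ ≤ N.comap T.subtype ↔ _
    rw [← Subgroup.map_le_iff_le_comap, Subgroup.map_commutator, Subgroup.map_commutator,
      hmap X hX, hmap Y hY, hmap Z hZ]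
  have k1 := (key B C A hB hC hA).mpr h1
  have k2 := (key C A B hC hA hB).mpr h2
  have k3 : ⁅⁅A.subgroupOf T, B.subgroupOf T⁆, C.subgroupOf T⁆ ≤ N.subgroupOf T := by
    have hq : ∀ X : Subgroup ↥T, X ≤ N.subgroupOf T ↔
        X.map (QuotientGroup.mk' (N.subgroupOf T)) = ⊥ := by
      intro X
      rw [Subgroup.map_eq_bot_iff, QuotientGroup.ker_mk']
    rw [hq] at k1 k2 ⊢
    rw [Subgroup.map_commutator, Subgroup.map_commutator] at k1 k2 ⊢
    exact Subgroup.commutator_commutator_eq_bot_of_rotate k1 k2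
  exact (key A B C hA hB hC).mp k3

end Cfsg.Agent.Helper10
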