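import Mathlib

set_option autoImplicit false

namespace Cfsg.Agent.Helper10

variable {G : Type*} [Group G]

/-- Two Sylow `p`-subgroups of `G` lying in a subgroup `K` are conjugate by an element of `K`. -/
theorem sylow_conj_in_subgroup [Finite G] {p : ℕ} [Fact p.Prime] (P Q : Sylow p G) (K : Subgroup G)
    (hP : (P : Subgroup G) ≤ K) (hQ : (Q : Subgroup G) ≤ K) :
    ∃ c ∈ K, ∀ x : G, x ∈ (Q : Subgroup G) ↔ c⁻¹ * x * c ∈ (P : Subgroup G) := by
  obtain ⟨⟨c, hcK⟩, hc⟩ := MulAction.exists_smul_eq K (P.subtype hP) (Q.subtype hQ)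
  refine ⟨c, hcK, fun x => ?_⟩
  have key : ∀ y : K, y ∈ (Q.subtype hQ : Subgroup K) ↔
      (⟨c, hcK⟩ : K)⁻¹ * y * ⟨c, hcK⟩ ∈ (P.subtype hP : Subgroup K) := by
    intro y
    rw [← hc, Sylow.coe_subgroup_smul, Subgroup.mem_pointwise_smul_iff_inv_smul_mem]
    simp [MulAut.smul_def, MulAut.conj_inv_apply]
  constructor
  · intro hx
    have hxK : x ∈ K := hQ hx
    have h1 : (⟨x, hxK⟩ : K) ∈ (Q.subtype hQ : Subgroup K) := by
      rw [Sylow.coe_subtype, Subgroup.mem_subgroupOf]; exact hx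
    have h2 := (key ⟨x, hxK⟩).mp h1
    rw [Sylow.coe_subtype, Subgroup.mem_subgroupOf] at h2
    simpa using h2
  · intro hx
    have hxK : x ∈ K := by
      have h1 : c⁻¹ * x * c ∈ K := hP hx
      have : x = c * (c⁻¹ * x * c) * c⁻¹ := by group
      rw [this]
      exact K.mul_mem (K.mul_mem hcK h1) (K.inv_mem hcK)
    have h2 : (⟨c, hcK⟩ : K)⁻¹ * (⟨x, hxK⟩ : K) * ⟨c, hcK⟩ ∈ (P.subtype hP : Subgroup K) := by
      rw [Sylow.coe_subtype, Subgroup.mem_subgroupOf]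
      simpa using hx
    have h1 := (key ⟨x, hxK⟩).mpr h2
    rw [Sylow.coe_subtype, Subgroup.mem_subgroupOf] at h1
    exact h1

/-- conjugate of a Sylow subgroup, as a Sylow subgroup, with membership characterization -/
theorem sylow_conj_mem [Finite G] {p : ℕ} [Fact p.Prime] (P : Sylow p G) (g x : G) :
    x ∈ ((g • P : Sylow p G) : Subgroup G) ↔ g⁻¹ * x * g ∈ (P : Subgroup G) := by
  rw [Sylow.coe_subgroup_smul, Subgroup.mem_pointwise_smul_iff_inv_smul_mem]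
  simp [MulAut.smul_def, MulAut.conj_inv_apply]

end Cfsg.Agent.Helper10

namespace Cfsg.Agent.Helper10

variable {G : Type*} [Group G]

/-- A `p`-subgroup `R ≤ K` is conjugate by an element of `K` into any Sylow `p`-subgroup of `G` lying in `K`. -/
theorem pSubgroup_conj_into_sylow_in_subgroup [Finite G] {p : ℕ} [Fact p.Prime] (Q : Sylow p G)
    (K : Subgroup G) (hQ : (Q : Subgroup G) ≤ K) (R : Subgroup G) (hR : IsPGroup p R) (hRK : R ≤ K) :
    ∃ c ∈ K, ∀ x ∈ R, c⁻¹ * x * c ∈ (Q : Subgroup G) := by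
  have hR' : IsPGroup p (R.subgroupOf K) := hR.comap_subtype
  obtain ⟨R1, hR1⟩ := hR'.exists_le_sylow
  obtain ⟨⟨c, hcK⟩, hc⟩ := MulAction.exists_smul_eq K (Q.subtype hQ) R1
  refine ⟨c, hcK, fun x hx => ?_⟩
  have hxK : x ∈ K := hRK hx
  have h1 : (⟨x, hxK⟩ : K) ∈ (R1 : Subgroup K) := hR1 (by rw [Subgroup.mem_subgroupOf]; exact hx)
  rw [← hc, Sylow.coe_subgroup_smul, Subgroup.mem_pointwise_smul_iff_inv_smul_mem] at h1
  have h2 : (⟨c, hcK⟩ : K)⁻¹ * ⟨x, hxK⟩ * ⟨c, hcK⟩ ∈ (Q.subtype hQ : Subgroup K) := by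
    simpa [MulAut.smul_def] using h1
  rw [Sylow.coe_subtype, Subgroup.mem_subgroupOf] at h2
  simpa using h2

end Cfsg.Agent.Helper10
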