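import Mathlib
import Cfsg.Prelude.Def_ConjugacyFunctors
import Cfsg.Agent.Lib.Helper10.SylowAux

set_option autoImplicit false

namespace Cfsg.Agent.Helper10

open Cfsg

variable {G : Type*} [Group G]

/-- right conjugation of a set: `A ↦ g⁻¹ A g` -/
def rcs (g : G) (A : Set G) : Set G := (fun a => g⁻¹ * a * g) '' A

theorem rcs_one (A : Set G) : rcs 1 A = A := by
  unfold rcs; simp

theorem rcs_mul (g h : G) (A : Set G) : rcs (g * h) A = rcs h (rcs g A) := by
  unfold rcs
  rw [Set.image_image]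
  congr 1
  funext a
  group

theorem rcs_mono (g : G) {A B : Set G} (h : A ⊆ B) : rcs g A ⊆ rcs g B := Set.image_mono h

theorem mem_rcs {g : G} {A : Set G} {y : G} : y ∈ rcs g A ↔ g * y * g⁻¹ ∈ A := by
  unfold rcs
  constructor
  · rintro ⟨a, ha, rfl⟩
    have : g * (g⁻¹ * a * g) * g⁻¹ = a := by group
    rw [this]; exact ha
  · intro h
    exact ⟨g * y * g⁻¹, h, by group⟩

theorem rcs_inv_rcs (g : G) (A : Set G) : rcs g⁻¹ (rcs g A) = A := by
  rw [← rcs_mul, mul_inv_cancel, rcs_one]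

/-- right conjugate of a subgroup -/
def rcg (g : G) (B : Subgroup G) : Subgroup G := B.map (MulAut.conj g⁻¹).toMonoidHom

theorem coe_rcg (g : G) (B : Subgroup G) : ((rcg g B : Subgroup G) : Set G) = rcs g (B : Set G) := by
  unfold rcg rcs
  ext y
  simp only [Subgroup.coe_map, MulEquiv.coe_toMonoidHom]
  constructor
  · rintro ⟨a, ha, rfl⟩
    exact ⟨a, ha, by simp [MulAut.conj_apply]⟩
  · rintro ⟨a, ha, rfl⟩
    exact ⟨a, ha, by simp [MulAut.conj_apply]⟩

theorem mem_rcg {g : G} {B : Subgroup G} {y : G} : y ∈ rcg g B ↔ g * y * g⁻¹ ∈ B := by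
  rw [← SetLike.mem_coe, coe_rcg, mem_rcs]; rfl

theorem rcg_mul (g h : G) (B : Subgroup G) : rcg (g * h) B = rcg h (rcg g B) := by
  apply SetLike.coe_injective
  rw [coe_rcg, coe_rcg, coe_rcg, rcs_mul]

theorem rcg_one (B : Subgroup G) : rcg 1 B = B := by
  apply SetLike.coe_injective
  rw [coe_rcg, rcs_one]

theorem rcg_mono (g : G) {A B : Subgroup G} (h : A ≤ B) : rcg g A ≤ rcg g B := Subgroup.map_mono h

theorem card_rcg (g : G) (B : Subgroup G) : Nat.card (rcg g B) = Nat.card B := by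
  unfold rcg
  exact (Nat.card_congr (B.equivMapOfInjective _ (MulAut.conj g⁻¹).injective).toEquiv).symm

theorem rcg_le_iff {g : G} {A B : Subgroup G} : rcg g A ≤ B ↔ A ≤ rcg g⁻¹ B := by
  constructor
  · intro h a ha
    rw [mem_rcg]
    apply h
    rw [mem_rcg]
    simpa [mul_assoc] using ha
  · intro h y hy
    rw [mem_rcg] at hy
    have := h hy
    rw [mem_rcg] at this
    simpa [mul_assoc] using this

/-- membership in the normalizer via right conjugation -/
theorem mem_normalizer_iff_rcg {g : G} {B : Subgroup G} :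
    g ∈ Subgroup.normalizer (B : Set G) ↔ rcg g B = B := by
  constructor
  · intro hg
    ext y
    rw [mem_rcg]
    exact ((Subgroup.mem_normalizer_iff.mp hg) y).symm
  · intro h
    rw [Subgroup.mem_normalizer_iff]
    intro y
    rw [← mem_rcg, h]

theorem rcg_eq_of_le_of_finite [Finite G] {g : G} {B : Subgroup G} (h : rcg g B ≤ B) : rcg g B = B := by
  apply Subgroup.eq_of_le_of_card_ge h
  rw [card_rcg]

/-- Chains of conjugations in normalizers of members of a family. -/
inductive Chain (𝓕 : Set (Subgroup G)) : Set G → G → Prop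
  | nil (A : Set G) : Chain 𝓕 A 1
  | cons (A : Set G) (T : Subgroup G) (x g : G) : T ∈ 𝓕 → x ∈ Subgroup.normalizer (T : Set G) →
      A ⊆ (T : Set G) → Chain 𝓕 (rcs x A) g → Chain 𝓕 A (x * g)

variable {𝓕 : Set (Subgroup G)}

theorem Chain.mono {A B : Set G} {g : G} (h : Chain 𝓕 B g) (hAB : A ⊆ B) : Chain 𝓕 A g := by
  induction h generalizing A with
  | nil B => exact Chain.nil A
  | cons B T x g hT hx hBT _ ih =>
    exact Chain.cons A T x g hT hx (hAB.trans hBT) (ih (rcs_mono x hAB))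

theorem Chain.single {A : Set G} {T : Subgroup G} {x : G} (hT : T ∈ 𝓕)
    (hx : x ∈ Subgroup.normalizer (T : Set G)) (hAT : A ⊆ (T : Set G)) : Chain 𝓕 A x := by
  have := Chain.cons A T x 1 hT hx hAT (Chain.nil _)
  rwa [mul_one] at this

theorem Chain.trans {A : Set G} {g h : G} (h1 : Chain 𝓕 A g) (h2 : Chain 𝓕 (rcs g A) h) :
    Chain 𝓕 A (g * h) := by
  induction h1 with
  | nil A => rw [one_mul]; rwa [rcs_one] at h2
  | cons A T x g hT hx hAT _ ih =>
    rw [mul_assoc]
    apply Chain.cons A T x (g * h) hT hx hAT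
    apply ih
    rwa [← rcs_mul]

theorem Chain.inv {A : Set G} {g : G} (h1 : Chain 𝓕 A g) : Chain 𝓕 (rcs g A) g⁻¹ := by
  induction h1 with
  | nil A => rw [inv_one]; exact Chain.nil _
  | cons A T x g hT hx hAT _ ih =>
    rw [mul_inv_rev, rcs_mul]
    apply Chain.trans ih
    rw [rcs_inv_rcs]
    apply Chain.single hT (Subgroup.inv_mem _ hx)
    -- rcs x A ⊆ T
    intro y hy
    rw [mem_rcs] at hy
    have := hAT hy
    have hx' := (Subgroup.mem_normalizer_iff.mp hx y).mpr this
    exact hx'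

end Cfsg.Agent.Helper10

namespace Cfsg.Agent.Helper10

open Cfsg

variable {G : Type*} [Group G]

/-- a relative Sylow argument: a `p`-subgroup of `K` is `K`-conjugate into any `p`-subgroup of `K`
of index prime to `p` in `K` -/
theorem conj_into_relSylow [Finite G] {p : ℕ} [Fact p.Prime] (K Q R : Subgroup G) (hQK : Q ≤ K)
    (hQ : IsPGroup p Q) (hidx : ¬ p ∣ Q.relIndex K) (hRK : R ≤ K) (hR : IsPGroup p R) :
    ∃ c ∈ K, rcg c R ≤ Q := by
  have hQ' : IsPGroup p (Q.subgroupOf K) := hQ.comap_subtype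
  have hidx' : ¬ p ∣ (Q.subgroupOf K).index := hidx
  let Q'' : Sylow p K := hQ'.toSylow hidx'
  have hR' : IsPGroup p (R.subgroupOf K) := hR.comap_subtype
  obtain ⟨R1, hR1⟩ := hR'.exists_le_sylow
  obtain ⟨⟨c, hcK⟩, hc⟩ := MulAction.exists_smul_eq K Q'' R1
  refine ⟨c, hcK, fun y hy => ?_⟩
  rw [mem_rcg] at hy
  have hxK : c * y * c⁻¹ ∈ K := hRK hy
  have h1 : (⟨c * y * c⁻¹, hxK⟩ : K) ∈ (R1 : Subgroup K) := hR1 (by rw [Subgroup.mem_subgroupOf]; exact hy)
  rw [← hc, Sylow.coe_subgroup_smul, Subgroup.mem_pointwise_smul_iff_inv_smul_mem] at h1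
  have h2 : (⟨c, hcK⟩ : K)⁻¹ * ⟨c * y * c⁻¹, hxK⟩ * ⟨c, hcK⟩ ∈ (Q'' : Subgroup K) := by
    simpa [MulAut.smul_def] using h1
  have h3 : (⟨c, hcK⟩ : K)⁻¹ * ⟨c * y * c⁻¹, hxK⟩ * ⟨c, hcK⟩ ∈ Q.subgroupOf K := by
    have : (Q'' : Subgroup K) = Q.subgroupOf K := IsPGroup.toSylow_coe hQ' hidx'
    rwa [this] at h2
  rw [Subgroup.mem_subgroupOf] at h3
  have : y = c⁻¹ * (c * y * c⁻¹) * c := by group
  rw [this]
  simpa using h3

/-- membership in the normalizer from two-sided conjugation closure -/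
theorem mem_normalizer_of_conj_mem {B : Subgroup G} {x : G} (h1 : ∀ b ∈ B, x * b * x⁻¹ ∈ B)
    (h2 : ∀ b ∈ B, x⁻¹ * b * x ∈ B) : x ∈ Subgroup.normalizer (B : Set G) := by
  rw [Subgroup.mem_normalizer_iff]
  intro b
  constructor
  · exact h1 b
  · intro hb
    have := h2 _ hb
    have e : x⁻¹ * (x * b * x⁻¹) * x = b := by group
    rwa [e] at this

/-- normalizers grow in nilpotent subgroups -/
theorem lt_inf_normalizer_of_lt (S B : Subgroup G) [hS : Group.IsNilpotent S] (hBS : B < S) :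
    B < S ⊓ Subgroup.normalizer (B : Set G) := by
  have hle : B ≤ S ⊓ Subgroup.normalizer (B : Set G) := le_inf hBS.le Subgroup.le_normalizer
  refine lt_of_le_of_ne hle ?_
  intro heq
  have hB' : B.subgroupOf S < ⊤ := by
    rw [lt_top_iff_ne_top, Ne, Subgroup.subgroupOf_eq_top]
    exact fun h => hBS.not_ge h
  have := normalizerCondition_of_isNilpotent (G := S) (B.subgroupOf S) hB'
  obtain ⟨x, hxN, hxB⟩ := SetLike.exists_of_lt this
  apply hxB
  rw [Subgroup.mem_subgroupOf, heq]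
  refine ⟨x.2, ?_⟩
  have hx1 := Subgroup.mem_normalizer_iff.mp hxN
  have hx2 := Subgroup.mem_normalizer_iff.mp (Subgroup.inv_mem _ hxN)
  apply mem_normalizer_of_conj_mem
  · intro b hb
    have hbS : b ∈ S := hBS.le hb
    have := (hx1 ⟨b, hbS⟩).mp (by rw [Subgroup.mem_subgroupOf]; exact hb)
    rw [Subgroup.mem_subgroupOf] at this
    simpa using this
  · intro b hb
    have hbS : b ∈ S := hBS.le hb
    have := (hx2 ⟨b, hbS⟩).mp (by rw [Subgroup.mem_subgroupOf]; exact hb)
    rw [Subgroup.mem_subgroupOf] at this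
    simpa using this

end Cfsg.Agent.Helper10

namespace Cfsg.Agent.Helper10

open Cfsg

variable {G : Type*} [Group G]

theorem rcg_normalizer (k : G) (B : Subgroup G) :
    rcg k (Subgroup.normalizer (B : Set G)) = Subgroup.normalizer ((rcg k B : Subgroup G) : Set G) :=
  Subgroup.map_equiv_normalizer_eq B (MulAut.conj k⁻¹)

theorem rcg_inf (k : G) (A B : Subgroup G) : rcg k (A ⊓ B) = rcg k A ⊓ rcg k B :=
  Subgroup.map_inf A B _ (MulAut.conj k⁻¹).injective

theorem rcg_inv_rcg (g : G) (B : Subgroup G) : rcg g⁻¹ (rcg g B) = B := by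
  rw [← rcg_mul, mul_inv_cancel, rcg_one]

theorem rcg_rcg_inv (g : G) (B : Subgroup G) : rcg g (rcg g⁻¹ B) = B := by
  rw [← rcg_mul, inv_mul_cancel, rcg_one]

theorem isPGroup_rcg {p : ℕ} (g : G) {B : Subgroup G} (hB : IsPGroup p B) : IsPGroup p (rcg g B) :=
  hB.map _

theorem card_lt_card_of_lt [Finite G] {A B : Subgroup G} (h : A < B) : Nat.card A < Nat.card B := by
  by_contra hcon
  push_neg at hcon
  exact h.ne (Subgroup.eq_of_le_of_card_ge h.le hcon)

section main

variable [Finite G] {p : ℕ} [Fact p.Prime] (S : Subgroup G) (hS : IsPGroup p S)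
  (𝓕 : Set (Subgroup G))
  (hF : ∀ T : Subgroup G, T ≤ S → ∃ U ∈ 𝓕, U ≤ S ∧ (∃ g : G, rcg g T = U) ∧
    ¬ p ∣ (S ⊓ Subgroup.normalizer (U : Set G)).relIndex (Subgroup.normalizer (U : Set G)))

include hS in
/-- adjusting a conjugating element so that it carries the normalizer in `S` into `S` -/
theorem adjust_conj (U : Subgroup G)
    (hsyl : ¬ p ∣ (S ⊓ Subgroup.normalizer (U : Set G)).relIndex (Subgroup.normalizer (U : Set G)))
    (B' : Subgroup G) (k : G) (hk : rcg k B' = U) :
    ∃ k' : G, rcg k' B' = U ∧ rcg k' (S ⊓ Subgroup.normalizer (B' : Set G)) ≤ S ⊓ Subgroup.normalizer (U : Set G) := by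
  have hR : rcg k (S ⊓ Subgroup.normalizer (B' : Set G)) ≤ Subgroup.normalizer (U : Set G) := by
    rw [← hk, ← rcg_normalizer]
    exact rcg_mono k inf_le_right
  have hRp : IsPGroup p (rcg k (S ⊓ Subgroup.normalizer (B' : Set G))) :=
    isPGroup_rcg k (hS.to_le inf_le_left)
  obtain ⟨c, hcN, hc⟩ := conj_into_relSylow (Subgroup.normalizer (U : Set G))
    (S ⊓ Subgroup.normalizer (U : Set G)) _ inf_le_right (hS.to_le inf_le_left) hsyl hR hRp
  refine ⟨k * c, ?_, ?_⟩
  · rw [rcg_mul, hk]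
    exact mem_normalizer_iff_rcg.mp hcN
  · rw [rcg_mul]
    exact hc

include hS hF in
theorem alperin_aux (n : ℕ) : ∀ B : Subgroup G, B ≤ S → Nat.card S - Nat.card B ≤ n →
    ∀ g : G, rcg g B ≤ S → Chain 𝓕 (B : Set G) g := by
  have hStop : ∀ g : G, rcg g S ≤ S → Chain 𝓕 (S : Set G) g := by
    intro g hg
    have hgN : g ∈ Subgroup.normalizer (S : Set G) := mem_normalizer_iff_rcg.mpr (rcg_eq_of_le_of_finite hg)
    obtain ⟨U, hU, hUS, ⟨g', hg'⟩, -⟩ := hF S le_rfl
    have hUS' : U = S := by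
      apply Subgroup.eq_of_le_of_card_ge hUS
      rw [← hg', card_rcg]
    rw [hUS'] at hU
    exact Chain.single hU hgN le_rfl
  induction n with
  | zero =>
    intro B hBS hcard g hg
    have : B = S := by
      apply Subgroup.eq_of_le_of_card_ge hBS
      omega
    subst this
    exact hStop g hg
  | succ n ih =>
    intro B hBS hcard g hg
    by_cases hBeq : B = S
    · subst hBeq
      exact hStop g hg
    have hBlt : B < S := lt_of_le_of_ne hBS hBeq
    haveI : Group.IsNilpotent S := hS.isNilpotent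
    obtain ⟨U, hU, hUS, ⟨h, hh⟩, hsyl⟩ := hF B hBS
    -- first leg
    have hB1 : B < S ⊓ Subgroup.normalizer (B : Set G) := lt_inf_normalizer_of_lt S B hBlt
    obtain ⟨h', hh', hh'N⟩ := adjust_conj S hS U hsyl B h hh
    have hc1 : Chain 𝓕 ((S ⊓ Subgroup.normalizer (B : Set G) : Subgroup G) : Set G) h' := by
      apply ih _ inf_le_left _ h' (le_trans hh'N inf_le_left)
      have := card_lt_card_of_lt hB1
      omega
    have hcB : Chain 𝓕 (B : Set G) h' := hc1.mono (by exact_mod_cast hB1.le)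
    -- second leg
    set B' := rcg g B with hB'
    have hB'card : Nat.card B' = Nat.card B := card_rcg g B
    have hB'lt : B' < S := by
      refine lt_of_le_of_ne hg ?_
      intro heq
      have h1 := card_lt_card_of_lt hBlt
      rw [← heq, hB'card] at h1
      exact lt_irrefl _ h1
    have hB'1 : B' < S ⊓ Subgroup.normalizer (B' : Set G) := lt_inf_normalizer_of_lt S B' hB'lt
    have hk0 : rcg (g⁻¹ * h) B' = U := by
      rw [rcg_mul, hB', rcg_inv_rcg, hh]
    obtain ⟨k', hk', hk'N⟩ := adjust_conj S hS U hsyl B' (g⁻¹ * h) hk0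
    have hc2 : Chain 𝓕 ((S ⊓ Subgroup.normalizer (B' : Set G) : Subgroup G) : Set G) k' := by
      apply ih _ inf_le_left _ k' (le_trans hk'N inf_le_left)
      have := card_lt_card_of_lt hB'1
      omega
    have hcB' : Chain 𝓕 (B' : Set G) k' := hc2.mono (by exact_mod_cast hB'1.le)
    -- middle
    have hm : rcg (h'⁻¹ * g * k') U = U := by
      rw [rcg_mul, rcg_mul, ← hh', rcg_inv_rcg, ← hB', hk', hh']
    have hmN : h'⁻¹ * g * k' ∈ Subgroup.normalizer (U : Set G) := mem_normalizer_iff_rcg.mpr hm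
    have hcU : Chain 𝓕 (U : Set G) (h'⁻¹ * g * k') := Chain.single hU hmN le_rfl
    -- assemble
    have e1 : rcs h' (B : Set G) = (U : Set G) := by rw [← coe_rcg, hh']
    have hc12 : Chain 𝓕 (B : Set G) (h' * (h'⁻¹ * g * k')) := Chain.trans hcB (by rw [e1]; exact hcU)
    have e2 : rcs (h' * (h'⁻¹ * g * k')) (B : Set G) = (U : Set G) := by
      rw [rcs_mul, e1, ← coe_rcg, hm]
    have hinv : Chain 𝓕 (rcs k' (B' : Set G)) k'⁻¹ := hcB'.inv
    have e3 : rcs k' (B' : Set G) = (U : Set G) := by rw [← coe_rcg, hk']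
    rw [e3] at hinv
    have hfin := Chain.trans hc12 (by rw [e2]; exact hinv)
    have e4 : h' * (h'⁻¹ * g * k') * k'⁻¹ = g := by group
    rwa [e4] at hfin

include hS hF in
/-- Alperin–Goldschmidt in chain form -/
theorem alperin_chain (A : Set G) (g : G) (hA : A ⊆ (S : Set G)) (hAg : rcs g A ⊆ (S : Set G)) :
    Chain 𝓕 A g := by
  have hB : Subgroup.closure A ≤ S := (Subgroup.closure_le S).mpr hA
  have hBg : rcg g (Subgroup.closure A) ≤ S := by
    rw [rcg_le_iff, Subgroup.closure_le]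
    intro a ha
    rw [SetLike.mem_coe, mem_rcg]
    apply hAg
    rw [mem_rcs]
    simpa [mul_assoc] using ha
  have := alperin_aux S hS 𝓕 hF _ (Subgroup.closure A) hB le_rfl g hBg
  exact this.mono Subgroup.subset_closure

end main

end Cfsg.Agent.Helper10

namespace Cfsg.Agent.Helper10

open Cfsg

variable {G : Type*} [Group G] {𝓕 : Set (Subgroup G)}

theorem ofFn_cons_eq {n : ℕ} (a : G) (f : Fin n → G) :
    List.ofFn (Fin.cons a f : Fin (n + 1) → G) = a :: List.ofFn f := by
  rw [List.ofFn_succ]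
  simp

/-- the `Fin`-indexed form of a chain, as in `IsConjugationFamily` -/
theorem Chain.toFin {A : Set G} {g : G} (h : Chain 𝓕 A g) :
    ∃ (n : ℕ) (T : Fin n → Subgroup G) (x : Fin n → G), (List.ofFn x).prod = g ∧
      (∀ i, T i ∈ 𝓕) ∧ (∀ i, x i ∈ Subgroup.normalizer ((T i : Subgroup G) : Set G)) ∧
      (∀ h : 0 < n, A ⊆ T ⟨0, h⟩) ∧
      ∀ (i : Fin n) (h : i.val + 1 < n),
        (fun a => (((List.ofFn x).take (i.val + 1)).prod)⁻¹ * a * ((List.ofFn x).take (i.val + 1)).prod) '' A ⊆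
          T ⟨i.val + 1, h⟩ := by
  induction h with
  | nil A =>
    refine ⟨0, Fin.elim0, Fin.elim0, by simp, fun i => i.elim0, fun i => i.elim0, fun h => absurd h (lt_irrefl 0),
      fun i => i.elim0⟩
  | cons A T₀ x₀ g hT hx hAT _ ih =>
    obtain ⟨n, T, x, hprod, hT', hx', h0, hstep⟩ := ih
    refine ⟨n + 1, Fin.cons T₀ T, Fin.cons x₀ x, ?_, ?_, ?_, ?_, ?_⟩
    · rw [ofFn_cons_eq, List.prod_cons, hprod]
    · intro i
      refine Fin.cases ?_ (fun j => ?_) i
      · simpa using hT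
      · simpa using hT' j
    · intro i
      refine Fin.cases ?_ (fun j => ?_) i
      · simpa using hx
      · simpa using hx' j
    · intro _
      have : (⟨0, by omega⟩ : Fin (n + 1)) = 0 := rfl
      rw [this, Fin.cons_zero]
      exact hAT
    · intro i hi
      have hin : i.val < n := by omega
      have e1 : (⟨i.val + 1, hi⟩ : Fin (n + 1)) = Fin.succ ⟨i.val, hin⟩ := rfl
      rw [e1, Fin.cons_succ, ofFn_cons_eq, List.take_succ_cons, List.prod_cons]
      rcases Nat.eq_zero_or_pos i.val with h00 | hpos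
      · -- i = 0
        have e2 : (List.take i.val (List.ofFn x)).prod = 1 := by rw [h00]; simp
        rw [e2, mul_one]
        have := h0 (by omega)
        have e3 : (⟨i.val, hin⟩ : Fin n) = ⟨0, by omega⟩ := by
          apply Fin.ext; exact h00
        rw [e3]
        exact this
      · obtain ⟨j, hj⟩ := Nat.exists_eq_succ_of_ne_zero (Nat.pos_iff_ne_zero.mp hpos)
        have hj' : j + 1 < n := by omega
        have := hstep ⟨j, by omega⟩ hj'
        have e3 : (⟨i.val, hin⟩ : Fin n) = ⟨j + 1, hj'⟩ := by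
          apply Fin.ext; exact hj
        rw [e3]
        intro y hy
        obtain ⟨a, ha, rfl⟩ := hy
        apply this
        refine ⟨x₀⁻¹ * a * x₀, ⟨a, ha, rfl⟩, ?_⟩
        have e4 : i.val = j + 1 := hj
        simp only [e4]
        group

end Cfsg.Agent.Helper10
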