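import Mathlib
import Cfsg.Prelude.Def_ConjugacyFunctors
import Cfsg.Agent.Lib.Helper10.Alperin

set_option autoImplicit false

namespace Cfsg.Agent.Helper10

open Cfsg

variable {G : Type*} [Group G]

/-- a `p`-subgroup of `H` containing a subgroup of index prime to `p` in `H` equals it -/
theorem eq_of_le_of_relIndex [Finite G] {p : ℕ} [Fact p.Prime] {P Q H : Subgroup G} (hPQ : P ≤ Q)
    (hQH : Q ≤ H) (hQ : IsPGroup p Q) (h : ¬ p ∣ P.relIndex H) : P = Q := by
  have h1 : P.relIndex Q * Q.relIndex H = P.relIndex H := Subgroup.relIndex_mul_relIndex P Q H hPQ hQH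
  have h2 : ¬ p ∣ P.relIndex Q := fun hd => h (h1 ▸ Dvd.dvd.mul_right hd _)
  obtain ⟨n, hn⟩ := hQ.index (P.subgroupOf Q)
  have h3 : P.relIndex Q = p ^ n := hn
  have hn0 : n = 0 := by
    by_contra hne
    exact h2 (h3 ▸ dvd_pow_self p hne)
  rw [hn0, pow_zero] at h3
  exact le_antisymm hPQ (Subgroup.relIndex_eq_one.mp h3)

theorem relIndex_rcg (g : G) (A B : Subgroup G) : (rcg g A).relIndex (rcg g B) = A.relIndex B :=
  Subgroup.relIndex_map_map_of_injective A B (MulAut.conj g⁻¹).injective

theorem rcg_self_of_mem {g : G} {P : Subgroup G} (hg : g ∈ P) : rcg g P = P := by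
  ext y
  rw [mem_rcg]
  constructor
  · intro h
    have : y = g⁻¹ * (g * y * g⁻¹) * g := by group
    rw [this]
    exact P.mul_mem (P.mul_mem (P.inv_mem hg) h) hg
  · intro h
    exact P.mul_mem (P.mul_mem hg h) (P.inv_mem hg)

section cf

variable {p : ℕ} {W : Subgroup G → Subgroup G} (hW : IsConjugacyFunctor p W)

include hW in
theorem cf_rcg {P : Subgroup G} (hP : IsPGroup p P) (g : G) : W (rcg g P) = rcg g (W P) :=
  (hW P hP).2.2 g⁻¹

include hW in
theorem cf_le {P : Subgroup G} (hP : IsPGroup p P) : W P ≤ P := (hW P hP).1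

include hW in
theorem cf_normalizer_le {P : Subgroup G} (hP : IsPGroup p P) :
    Subgroup.normalizer (P : Set G) ≤ Subgroup.normalizer ((W P : Subgroup G) : Set G) := by
  intro g hg
  rw [mem_normalizer_iff_rcg] at hg ⊢
  rw [← cf_rcg hW hP, hg]

include hW in
theorem cf_le_normalizer {P : Subgroup G} (hP : IsPGroup p P) :
    P ≤ Subgroup.normalizer ((W P : Subgroup G) : Set G) :=
  Subgroup.le_normalizer.trans (cf_normalizer_le hW hP)

end cf

theorem functorTower_succ' (W : Subgroup G → Subgroup G) (S T : Subgroup G) (i : ℕ) :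
    functorTower W S T (i + 1) = functorTower W S (W (S ⊓ Subgroup.normalizer (T : Set G))) i := by
  induction i with
  | zero => rfl
  | succ i ih =>
    show W (S ⊓ Subgroup.normalizer ((functorTower W S T (i + 1) : Subgroup G) : Set G)) = _
    rw [ih]
    rfl

theorem functorTower_const (W : Subgroup G → Subgroup G) (S T : Subgroup G)
    (h : W (S ⊓ Subgroup.normalizer (T : Set G)) = T) (i : ℕ) : functorTower W S T i = T := by
  induction i with
  | zero => rfl
  | succ i ih =>
    show W (S ⊓ Subgroup.normalizer ((functorTower W S T i : Subgroup G) : Set G)) = _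
    rw [ih, h]

section main

variable [Finite G] {p : ℕ} [Fact p.Prime] (S : Subgroup G) (hS : IsPGroup p S) (hidx : ¬ p ∣ S.index)

include hS hidx in
/-- every subgroup of `S` has a fully normalized conjugate, via an element carrying the
normalizer in `S` into `S` -/
theorem exists_good_conj (T : Subgroup G) :
    ∃ x : G, rcg x (S ⊓ Subgroup.normalizer (T : Set G)) ≤ S ∧
      ¬ p ∣ (S ⊓ Subgroup.normalizer ((rcg x T : Subgroup G) : Set G)).relIndex
        (Subgroup.normalizer ((rcg x T : Subgroup G) : Set G)) := by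
  set N := Subgroup.normalizer (T : Set G) with hN
  have hQ : IsPGroup p ((S ⊓ N).subgroupOf N) := (hS.to_le inf_le_left).comap_subtype
  obtain ⟨R1, hR1⟩ := hQ.exists_le_sylow
  set R : Subgroup G := (R1 : Subgroup N).map N.subtype with hR
  have hRp : IsPGroup p R := R1.isPGroup'.map _
  have hRN : R ≤ N := by
    rintro _ ⟨y, -, rfl⟩
    exact y.2
  have hSNR : S ⊓ N ≤ R := by
    intro y hy
    have hyN : y ∈ N := hy.2
    exact ⟨⟨y, hyN⟩, hR1 (by rw [Subgroup.mem_subgroupOf]; exact hy), rfl⟩
  have hRidx : ¬ p ∣ R.relIndex N := by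
    have : R.relIndex N = (R1 : Subgroup N).index := by
      rw [Subgroup.relIndex, hR, Subgroup.subgroupOf,
        Subgroup.comap_map_eq_self_of_injective N.subtype_injective]
    rw [this]
    exact R1.not_dvd_index
  obtain ⟨c, -, hc⟩ := conj_into_relSylow (⊤ : Subgroup G) S R le_top hS
    (by rwa [Subgroup.relIndex_top_right]) le_top hRp
  refine ⟨c, (rcg_mono c hSNR).trans hc, ?_⟩
  have h1 : rcg c R ≤ S ⊓ Subgroup.normalizer ((rcg c T : Subgroup G) : Set G) := by
    refine le_inf hc ?_
    rw [← rcg_normalizer]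
    exact rcg_mono c hRN
  have h2 := Subgroup.relIndex_mul_relIndex (rcg c R)
    (S ⊓ Subgroup.normalizer ((rcg c T : Subgroup G) : Set G))
    (Subgroup.normalizer ((rcg c T : Subgroup G) : Set G)) h1 inf_le_right
  have h3 : (rcg c R).relIndex (Subgroup.normalizer ((rcg c T : Subgroup G) : Set G)) = R.relIndex N := by
    rw [← rcg_normalizer, relIndex_rcg]
  intro hd
  apply hRidx
  rw [← h3, ← h2]
  exact Dvd.dvd.mul_left hd _

include hS hidx in
theorem wellPlaced_step {W : Subgroup G → Subgroup G} (hW : IsConjugacyFunctor p W)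
    (T : Subgroup G) (hT : T ≤ S)
    (ih : ∀ T₁ : Subgroup G, T₁ ≤ S →
      Nat.card ↥(S ⊓ Subgroup.normalizer (T : Set G)) < Nat.card ↥(S ⊓ Subgroup.normalizer (T₁ : Set G)) →
      ∃ g : G, rcg g (S ⊓ Subgroup.normalizer (T₁ : Set G)) ≤ S ∧ IsWellPlaced p W S (rcg g T₁)) :
    ∃ g : G, rcg g (S ⊓ Subgroup.normalizer (T : Set G)) ≤ S ∧ IsWellPlaced p W S (rcg g T) := by
  obtain ⟨x, hx1, hx2⟩ := exists_good_conj S hS hidx T
  set T' := rcg x T with hT'
  set N0 := S ⊓ Subgroup.normalizer (T : Set G) with hN0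
  set N' := S ⊓ Subgroup.normalizer (T' : Set G) with hN'
  have hN0N' : rcg x N0 ≤ N' :=
    le_inf hx1 (by rw [hT', ← rcg_normalizer]; exact rcg_mono x inf_le_right)
  have hTN0 : T ≤ N0 := le_inf hT Subgroup.le_normalizer
  have hT'N' : T' ≤ N' := (rcg_mono x hTN0).trans hN0N'
  have hN'p : IsPGroup p N' := hS.to_le inf_le_left
  have hcard0 : Nat.card N0 ≤ Nat.card N' := by
    rw [← card_rcg x N0]; exact Subgroup.card_le_of_le hN0N'
  have hSW : S ⊓ Subgroup.normalizer ((W S : Subgroup G) : Set G) = S :=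
    inf_eq_left.mpr (cf_le_normalizer hW hS)
  by_cases hN'S : N' = S
  · refine ⟨x, hx1, hT'N'.trans inf_le_left, ?_⟩
    intro i
    cases i with
    | zero => exact hx2
    | succ i =>
      rw [functorTower_succ']
      have hWS : W (S ⊓ Subgroup.normalizer ((W S : Subgroup G) : Set G)) = W S := by rw [hSW]
      rw [← hN', hN'S, functorTower_const W S (W S) hWS i, hSW]
      intro hd
      exact hidx (hd.trans (Subgroup.relIndex_dvd_index_of_le (cf_le_normalizer hW hS)))
  · have hlt : N' < S := lt_of_le_of_ne inf_le_left hN'S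
    haveI : Group.IsNilpotent S := hS.isNilpotent
    have h1 := lt_inf_normalizer_of_lt S N' hlt
    set T₁ := W N' with hT₁
    set N₁ := S ⊓ Subgroup.normalizer (T₁ : Set G) with hN₁
    have h2 : S ⊓ Subgroup.normalizer (N' : Set G) ≤ N₁ := inf_le_inf_left S (cf_normalizer_le hW hN'p)
    have hN'N₁ : N' < N₁ := lt_of_lt_of_le h1 h2
    have hT₁S : T₁ ≤ S := (cf_le hW hN'p).trans inf_le_left
    obtain ⟨g, hg1, hg2⟩ := ih T₁ hT₁S (lt_of_le_of_lt hcard0 (card_lt_card_of_lt hN'N₁))
    refine ⟨x * g, ?_, ?_⟩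
    · rw [rcg_mul]
      exact (rcg_mono g (hN0N'.trans hN'N₁.le)).trans hg1
    · rw [rcg_mul]
      have hgN' : rcg g N' ≤ S := (rcg_mono g hN'N₁.le).trans hg1
      have heq : rcg g N' = S ⊓ Subgroup.normalizer ((rcg g T' : Subgroup G) : Set G) := by
        apply eq_of_le_of_relIndex (p := p) (H := Subgroup.normalizer ((rcg g T' : Subgroup G) : Set G))
        · exact le_inf hgN' (by rw [← rcg_normalizer]; exact rcg_mono g inf_le_right)
        · exact inf_le_right
        · exact hS.to_le inf_le_left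
        · rw [← rcg_normalizer, relIndex_rcg]; exact hx2
      refine ⟨(rcg_mono g hT'N').trans hgN', ?_⟩
      intro i
      cases i with
      | zero =>
        show ¬ p ∣ (S ⊓ Subgroup.normalizer ((rcg g T' : Subgroup G) : Set G)).relIndex
          (Subgroup.normalizer ((rcg g T' : Subgroup G) : Set G))
        rw [← heq, ← rcg_normalizer, relIndex_rcg]; exact hx2
      | succ i =>
        rw [functorTower_succ', ← heq, cf_rcg hW hN'p]
        exact hg2.2 i

include hS hidx in
/-- every subgroup of a Sylow subgroup has a well placed conjugate -/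
theorem exists_wellPlaced {W : Subgroup G → Subgroup G} (hW : IsConjugacyFunctor p W) :
    ∀ T : Subgroup G, T ≤ S →
      ∃ g : G, rcg g (S ⊓ Subgroup.normalizer (T : Set G)) ≤ S ∧ IsWellPlaced p W S (rcg g T) := by
  intro T
  induction hn : Nat.card S - Nat.card ↥(S ⊓ Subgroup.normalizer (T : Set G))
    using Nat.strong_induction_on generalizing T with
  | _ n ih =>
    intro hT
    apply wellPlaced_step S hS hidx hW T hT
    intro T₁ hT₁ hlt
    refine ih _ ?_ T₁ rfl hT₁
    have : Nat.card ↥(S ⊓ Subgroup.normalizer (T₁ : Set G)) ≤ Nat.card S :=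
      Subgroup.card_le_of_le inf_le_left
    omega

end main

end Cfsg.Agent.Helper10
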