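import Mathlib
import Cfsg.Prelude.Def_ConjugacyFunctors
import Cfsg.Agent.Lib.Helper10.WellPlaced

set_option autoImplicit false

namespace Cfsg.Agent.Helper10

open Cfsg

variable {G : Type*} [Group G]

/-- two `p`-subgroups of `H` of index prime to `p` in `H` are conjugate in `H` -/
theorem exists_rcg_eq_of_relSylow [Finite G] {p : ℕ} [Fact p.Prime] (H R T' : Subgroup G)
    (hRH : R ≤ H) (hRp : IsPGroup p R) (hRidx : ¬ p ∣ R.relIndex H)
    (hTH : T' ≤ H) (hTp : IsPGroup p T') (hTidx : ¬ p ∣ T'.relIndex H) :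
    ∃ c ∈ H, rcg c T' = R := by
  obtain ⟨c, hcH, hc⟩ := conj_into_relSylow H R T' hRH hRp hRidx hTH hTp
  refine ⟨c, hcH, ?_⟩
  apply eq_of_le_of_relIndex (p := p) hc hRH hRp
  have : rcg c H = H := rcg_self_of_mem hcH
  rw [← this, relIndex_rcg]
  exact hTidx

/-- control of strong fusion in `H` may be tested on any Sylow `p`-subgroup of `H` -/
theorem csf_transfer [Finite G] {p : ℕ} [Fact p.Prime] {W : Subgroup G → Subgroup G}
    (hW : IsConjugacyFunctor p W) {H : Subgroup G} (hc : ControlsStrongFusionIn p W H)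
    (R : Subgroup G) (hRH : R ≤ H) (hRp : IsPGroup p R) (hRidx : ¬ p ∣ R.relIndex H)
    (A : Set G) (h : G) (hh : h ∈ H) (hAR : A ⊆ R) (hhA : (fun a => h * a * h⁻¹) '' A ⊆ R) :
    ∃ x ∈ H ⊓ Subgroup.normalizer ((W R : Subgroup G) : Set G), ∀ a ∈ A, x * a * x⁻¹ = h * a * h⁻¹ := by
  obtain ⟨T', hT'H, hT'p, hT'idx, hT'⟩ := hc
  obtain ⟨c, hcH, hcR⟩ := exists_rcg_eq_of_relSylow H R T' hRH hRp hRidx hT'H hT'p hT'idx
  have hmemR : ∀ y : G, y ∈ R ↔ c * y * c⁻¹ ∈ T' := by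
    intro y; rw [← hcR, mem_rcg]
  obtain ⟨x, hx, hxA⟩ := hT' ((fun t => c * t * c⁻¹) '' A) (c * h * c⁻¹)
    (H.mul_mem (H.mul_mem hcH hh) (H.inv_mem hcH))
    (by
      rintro _ ⟨t, ht, rfl⟩
      exact (hmemR t).mp (hAR ht))
    (by
      rintro _ ⟨_, ⟨t, ht, rfl⟩, rfl⟩
      have h1 : h * t * h⁻¹ ∈ R := hhA ⟨t, ht, rfl⟩
      have h2 := (hmemR _).mp h1
      have e : c * h * c⁻¹ * (c * t * c⁻¹) * (c * h * c⁻¹)⁻¹ = c * (h * t * h⁻¹) * c⁻¹ := by group
      show c * h * c⁻¹ * (c * t * c⁻¹) * (c * h * c⁻¹)⁻¹ ∈ (T' : Set G)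
      rw [e]; exact h2)
  refine ⟨c⁻¹ * x * c, ⟨H.mul_mem (H.mul_mem (H.inv_mem hcH) hx.1) hcH, ?_⟩, ?_⟩
  · rw [← hcR, cf_rcg hW hT'p, ← rcg_normalizer]
    show c⁻¹ * x * c ∈ rcg c (Subgroup.normalizer ((W T' : Subgroup G) : Set G))
    rw [mem_rcg]
    have e : c * (c⁻¹ * x * c) * c⁻¹ = x := by group
    rw [e]; exact hx.2
  · intro t ht
    have h1 := hxA (c * t * c⁻¹) ⟨t, ht, rfl⟩
    have e1 : (c⁻¹ * x * c) * t * (c⁻¹ * x * c)⁻¹ = c⁻¹ * (x * (c * t * c⁻¹) * x⁻¹) * c := by group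
    rw [e1, h1]; group

/-- the next term of the tower of a well placed subgroup is well placed -/
theorem isWellPlaced_next {p : ℕ} {W : Subgroup G → Subgroup G} (hW : IsConjugacyFunctor p W)
    {S T : Subgroup G} (hS : IsPGroup p S) (hT : IsWellPlaced p W S T) :
    IsWellPlaced p W S (W (S ⊓ Subgroup.normalizer (T : Set G))) := by
  refine ⟨(cf_le hW (hS.to_le inf_le_left)).trans inf_le_left, fun i => ?_⟩
  rw [← functorTower_succ']
  exact hT.2 (i + 1)

section main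

variable [Finite G] {p : ℕ} [Fact p.Prime] (S : Subgroup G) (hS : IsPGroup p S)
  {W : Subgroup G → Subgroup G} (hW : IsConjugacyFunctor p W)
  (hloc : ∀ T : Subgroup G, T ≠ ⊥ → IsWellPlaced p W S T →
    ControlsStrongFusionIn p W (Subgroup.normalizer (T : Set G)))

include hS hW hloc in
theorem wellPlaced_fusion_aux (n : ℕ) : ∀ T : Subgroup G, T ≠ ⊥ → IsWellPlaced p W S T →
    Nat.card S - Nat.card ↥(S ⊓ Subgroup.normalizer (T : Set G)) ≤ n →
    ∀ (B : Set G) (h : G), h ∈ Subgroup.normalizer (T : Set G) →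
      B ⊆ (S ⊓ Subgroup.normalizer (T : Set G) : Subgroup G) →
      (fun a => h * a * h⁻¹) '' B ⊆ (S ⊓ Subgroup.normalizer (T : Set G) : Subgroup G) →
      ∃ y ∈ Subgroup.normalizer ((W S : Subgroup G) : Set G), ∀ b ∈ B, y * b * y⁻¹ = h * b * h⁻¹ := by
  induction n with
  | zero =>
    intro T hTne hT hcard B h hh hB hhB
    set R := S ⊓ Subgroup.normalizer (T : Set G) with hR
    have hRS : R = S := by
      apply Subgroup.eq_of_le_of_card_ge inf_le_left
      have h0 : Nat.card S - Nat.card R ≤ 0 := hcard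
      show Nat.card S ≤ Nat.card R
      omega
    obtain ⟨x, hx, hxB⟩ := csf_transfer hW (hloc T hTne hT) R inf_le_right (hS.to_le inf_le_left)
      (hT.2 0) B h hh hB hhB
    rw [hRS] at hx
    exact ⟨x, hx.2, hxB⟩
  | succ n ih =>
    intro T hTne hT hcard B h hh hB hhB
    set R := S ⊓ Subgroup.normalizer (T : Set G) with hR
    have hRp : IsPGroup p R := hS.to_le inf_le_left
    obtain ⟨x, hx, hxB⟩ := csf_transfer hW (hloc T hTne hT) R inf_le_right hRp
      (hT.2 0) B h hh hB hhB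
    by_cases hRS : R = S
    · rw [hRS] at hx
      exact ⟨x, hx.2, hxB⟩
    have hlt : R < S := lt_of_le_of_ne inf_le_left hRS
    have hnil : Group.IsNilpotent S := hS.isNilpotent
    have h1 := lt_inf_normalizer_of_lt S R hlt
    set T₁ := W R with hT₁
    have hT₁wp : IsWellPlaced p W S T₁ := isWellPlaced_next hW hS hT
    have hTR : T ≤ R := le_inf hT.1 Subgroup.le_normalizer
    have hRne : R ≠ ⊥ := fun hbot => hTne (le_bot_iff.mp (hbot ▸ hTR))
    have hT₁ne : T₁ ≠ ⊥ := (hW R hRp).2.1 hRne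
    set R₁ := S ⊓ Subgroup.normalizer (T₁ : Set G) with hR₁
    have h2 : S ⊓ Subgroup.normalizer (R : Set G) ≤ R₁ := inf_le_inf_left S (cf_normalizer_le hW hRp)
    have hRR₁ : R < R₁ := lt_of_lt_of_le h1 h2
    have hcard1 : Nat.card S - Nat.card R₁ ≤ n := by
      have := card_lt_card_of_lt hRR₁
      have h3 : Nat.card R₁ ≤ Nat.card S := Subgroup.card_le_of_le inf_le_left
      have h0 : Nat.card S - Nat.card R ≤ n + 1 := hcard
      omega
    obtain ⟨y, hy, hyB⟩ := ih T₁ hT₁ne hT₁wp hcard1 B x hx.2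
      (fun b hb => hRR₁.le (hB hb))
      (by
        rintro _ ⟨b, hb, rfl⟩
        apply hRR₁.le
        show x * b * x⁻¹ ∈ R
        rw [hxB b hb]
        exact hhB ⟨b, hb, rfl⟩)
    exact ⟨y, hy, fun b hb => (hyB b hb).trans (hxB b hb)⟩

include hS hW hloc in
theorem wellPlaced_chain_fusion {A : Set G} {g : G}
    (hc : Chain {T : Subgroup G | IsWellPlaced p W S T} A g) :
    ∃ y ∈ Subgroup.normalizer ((W S : Subgroup G) : Set G), ∀ a ∈ A, y⁻¹ * a * y = g⁻¹ * a * g := by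
  induction hc with
  | nil A => exact ⟨1, Subgroup.one_mem _, fun a _ => by simp⟩
  | cons A T x g hT hx hAT _ ih =>
    obtain ⟨y₂, hy₂, hy₂A⟩ := ih
    by_cases hTne : T = ⊥
    · refine ⟨1, Subgroup.one_mem _, fun a ha => ?_⟩
      have h1 : a = 1 := by
        have := hAT ha
        rw [hTne] at this
        exact Subgroup.mem_bot.mp this
      subst h1; simp
    · have hTR : T ≤ S ⊓ Subgroup.normalizer (T : Set G) := le_inf hT.1 Subgroup.le_normalizer
      obtain ⟨y₁, hy₁, hy₁A⟩ := wellPlaced_fusion_aux S hS hW hloc (Nat.card S) T hTne hT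
        (Nat.sub_le _ _) A x⁻¹ (Subgroup.inv_mem _ hx) (fun a ha => hTR (hAT ha))
        (by
          rintro _ ⟨a, ha, rfl⟩
          apply hTR
          exact (Subgroup.mem_normalizer_iff.mp (Subgroup.inv_mem _ hx) a).mp (hAT ha))
      refine ⟨y₁⁻¹ * y₂, Subgroup.mul_mem _ (Subgroup.inv_mem _ hy₁) hy₂, fun a ha => ?_⟩
      have h1 := hy₁A a ha
      have h2 := hy₂A (x⁻¹ * a * x) ⟨a, ha, rfl⟩
      calc (y₁⁻¹ * y₂)⁻¹ * a * (y₁⁻¹ * y₂) = y₂⁻¹ * (y₁ * a * y₁⁻¹) * y₂ := by group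
        _ = y₂⁻¹ * (x⁻¹ * a * x) * y₂ := by rw [h1, inv_inv]
        _ = g⁻¹ * (x⁻¹ * a * x) * g := h2
        _ = (x * g)⁻¹ * a * (x * g) := by group

end main

end Cfsg.Agent.Helper10
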