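import Mathlib
import Cfsg.Prelude.Def_ConjugacyFunctors
import Cfsg.Agent.Lib.Helper10.Alperin

set_option autoImplicit false

namespace Cfsg.Agent.Helper10

open Cfsg

variable {G : Type*} [Group G]

/-- chains of conjugations by elements `x ∈ N(T)` with a side condition `St T x` -/
inductive XChain (St : Subgroup G → G → Prop) : Set G → G → Prop
  | nil (A : Set G) : XChain St A 1
  | cons (A : Set G) (T : Subgroup G) (x g : G) : St T x → x ∈ Subgroup.normalizer (T : Set G) →
      A ⊆ (T : Set G) → XChain St (rcs x A) g → XChain St A (x * g)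

variable {St : Subgroup G → G → Prop}

theorem XChain.mono {A B : Set G} {g : G} (h : XChain St B g) (hAB : A ⊆ B) : XChain St A g := by
  induction h generalizing A with
  | nil B => exact XChain.nil A
  | cons B T x g hT hx hBT _ ih =>
    exact XChain.cons A T x g hT hx (hAB.trans hBT) (ih (rcs_mono x hAB))

theorem XChain.single {A : Set G} {T : Subgroup G} {x : G} (hT : St T x)
    (hx : x ∈ Subgroup.normalizer (T : Set G)) (hAT : A ⊆ (T : Set G)) : XChain St A x := by
  have := XChain.cons A T x 1 hT hx hAT (XChain.nil _)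
  rwa [mul_one] at this

theorem XChain.trans {A : Set G} {g h : G} (h1 : XChain St A g) (h2 : XChain St (rcs g A) h) :
    XChain St A (g * h) := by
  induction h1 with
  | nil A => rw [one_mul]; rwa [rcs_one] at h2
  | cons A T x g hT hx hAT _ ih =>
    rw [mul_assoc]
    apply XChain.cons A T x (g * h) hT hx hAT
    apply ih
    rwa [← rcs_mul]

theorem XChain.inv (hinv : ∀ T x, St T x → St T x⁻¹) {A : Set G} {g : G} (h1 : XChain St A g) :
    XChain St (rcs g A) g⁻¹ := by
  induction h1 with
  | nil A => rw [inv_one]; exact XChain.nil _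
  | cons A T x g hT hx hAT _ ih =>
    rw [mul_inv_rev, rcs_mul]
    apply XChain.trans ih
    rw [rcs_inv_rcs]
    apply XChain.single (hinv T x hT) (Subgroup.inv_mem _ hx)
    intro y hy
    rw [mem_rcs] at hy
    have := hAT hy
    exact (Subgroup.mem_normalizer_iff.mp hx y).mpr this

/-- the `Fin`-indexed form of a chain, as in `IsConjugationFamily` -/
theorem XChain.toFin {A : Set G} {g : G} (h : XChain St A g) :
    ∃ (n : ℕ) (T : Fin n → Subgroup G) (x : Fin n → G), (List.ofFn x).prod = g ∧
      (∀ i, St (T i) (x i)) ∧ (∀ i, x i ∈ Subgroup.normalizer ((T i : Subgroup G) : Set G)) ∧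
      (∀ h : 0 < n, A ⊆ T ⟨0, h⟩) ∧
      ∀ (i : Fin n) (h : i.val + 1 < n),
        (fun a => (((List.ofFn x).take (i.val + 1)).prod)⁻¹ * a * ((List.ofFn x).take (i.val + 1)).prod) '' A ⊆
          T ⟨i.val + 1, h⟩ := by
  induction h with
  | nil A =>
    refine ⟨0, Fin.elim0, Fin.elim0, by simp, fun i => i.elim0, fun i => i.elim0, fun h => absurd h (lt_irrefl 0),
      fun i => i.elim0⟩
  | cons A T₀ x₀ g hT hx hAT _ ih =>
    obtain ⟨n, T, x, hprod, hT', hx', h0, hstep⟩ := ih
    refine ⟨n + 1, Fin.cons T₀ T, Fin.cons x₀ x, ?_, ?_, ?_, ?_, ?_⟩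
    · rw [ofFn_cons_eq, List.prod_cons, hprod]
    · intro i
      refine Fin.cases ?_ (fun j => ?_) i
      · simpa using hT
      · simpa using hT' j
    · intro i
      refine Fin.cases ?_ (fun j => ?_) i
      · simpa using hx
      · simpa using hx' j
    · intro _
      have : (⟨0, by omega⟩ : Fin (n + 1)) = 0 := rfl
      rw [this, Fin.cons_zero]
      exact hAT
    · intro i hi
      have hin : i.val < n := by omega
      have e1 : (⟨i.val + 1, hi⟩ : Fin (n + 1)) = Fin.succ ⟨i.val, hin⟩ := rfl
      rw [e1, Fin.cons_succ, ofFn_cons_eq, List.take_succ_cons, List.prod_cons]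
      rcases Nat.eq_zero_or_pos i.val with h00 | hpos
      · -- i = 0
        have e2 : (List.take i.val (List.ofFn x)).prod = 1 := by rw [h00]; simp
        rw [e2, mul_one]
        have := h0 (by omega)
        have e3 : (⟨i.val, hin⟩ : Fin n) = ⟨0, by omega⟩ := by
          apply Fin.ext; exact h00
        rw [e3]
        exact this
      · obtain ⟨j, hj⟩ := Nat.exists_eq_succ_of_ne_zero (Nat.pos_iff_ne_zero.mp hpos)
        have hj' : j + 1 < n := by omega
        have := hstep ⟨j, by omega⟩ hj'
        have e3 : (⟨i.val, hin⟩ : Fin n) = ⟨j + 1, hj'⟩ := by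
          apply Fin.ext; exact hj
        rw [e3]
        intro y hy
        obtain ⟨a, ha, rfl⟩ := hy
        apply this
        refine ⟨x₀⁻¹ * a * x₀, ⟨a, ha, rfl⟩, ?_⟩
        have e4 : i.val = j + 1 := hj
        simp only [e4]
        group


end Cfsg.Agent.Helper10
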