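import Mathlib
import Cfsg.Prelude.Def_ConjugacyFunctors
import Cfsg.Agent.Lib.Helper10.XChain
import Cfsg.Agent.Lib.Helper10.Fusion

set_option autoImplicit false

namespace Cfsg.Agent.Helper10

open Cfsg

variable {G : Type*} [Group G]

/-- the step condition of Alperin's theorem with tame intersections -/
def TameStep {p : ℕ} (P : Sylow p G) (T : Subgroup G) (x : G) : Prop :=
  ∃ Q : Sylow p G, T = (P : Subgroup G) ⊓ (Q : Subgroup G) ∧
    ¬ p ∣ ((P : Subgroup G) ⊓ Subgroup.normalizer (T : Set G)).relIndex (Subgroup.normalizer (T : Set G)) ∧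
    ¬ p ∣ ((Q : Subgroup G) ⊓ Subgroup.normalizer (T : Set G)).relIndex (Subgroup.normalizer (T : Set G)) ∧
    ((Q : Subgroup G) = (P : Subgroup G) ∨ ∃ k : ℕ, orderOf x = p ^ k)

theorem TameStep.inv {p : ℕ} {P : Sylow p G} (T : Subgroup G) (x : G) (h : TameStep P T x) :
    TameStep P T x⁻¹ := by
  obtain ⟨Q, h1, h2, h3, h4⟩ := h
  refine ⟨Q, h1, h2, h3, ?_⟩
  rcases h4 with h4 | ⟨k, hk⟩
  · exact Or.inl h4
  · exact Or.inr ⟨k, by rw [orderOf_inv]; exact hk⟩

theorem exists_orderOf_eq_of_mem_pGroup {p : ℕ} [hp : Fact p.Prime] {R : Subgroup G} (hR : IsPGroup p R)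
    {r : G} (hr : r ∈ R) : ∃ k : ℕ, orderOf r = p ^ k := by
  obtain ⟨k, hk⟩ := hR ⟨r, hr⟩
  have h1 : r ^ (p ^ k) = 1 := by
    have := congrArg Subtype.val hk
    simpa using this
  obtain ⟨j, -, hj⟩ := (Nat.dvd_prime_pow hp.out).mp (orderOf_dvd_of_pow_eq_one h1)
  exact ⟨j, hj⟩

section main

variable [Finite G] {p : ℕ} [Fact p.Prime] (P : Sylow p G)

/-- conjugation by an element of `N_G(P)` is a single step -/
theorem tame_NP_step {A : Set G} {g : G} (hg : g ∈ Subgroup.normalizer ((P : Subgroup G) : Set G))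
    (hA : A ⊆ ((P : Subgroup G) : Set G)) : XChain (TameStep P) A g := by
  have hPP : (P : Subgroup G) ⊓ (P : Subgroup G) = P := inf_idem _
  have hPN : (P : Subgroup G) ⊓ Subgroup.normalizer ((P : Subgroup G) : Set G) = P :=
    inf_eq_left.mpr Subgroup.le_normalizer
  have hgood : ¬ p ∣ ((P : Subgroup G) ⊓ Subgroup.normalizer ((P : Subgroup G) : Set G)).relIndex
      (Subgroup.normalizer ((P : Subgroup G) : Set G)) := by
    rw [hPN]
    intro hd
    exact P.not_dvd_index (hd.trans (Subgroup.relIndex_dvd_index_of_le Subgroup.le_normalizer))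
  apply XChain.single (T := (P : Subgroup G)) ?_ hg hA
  exact ⟨P, hPP.symm, hgood, hgood, Or.inl rfl⟩

variable (U : Subgroup G) (hUP : U ≤ (P : Subgroup G))
  (hUgood : ¬ p ∣ ((P : Subgroup G) ⊓ Subgroup.normalizer (U : Set G)).relIndex (Subgroup.normalizer (U : Set G)))
  (hF : ∀ E : Subgroup G, E ≤ (P : Subgroup G) → Nat.card U < Nat.card E → ∀ m : G,
    rcg m E ≤ (P : Subgroup G) → XChain (TameStep P) (E : Set G) m)

include hUP hUgood hF in
theorem tame_pelement (z : G) (hzN : z ∈ Subgroup.normalizer (U : Set G))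
    (hz : ∃ k : ℕ, orderOf z = p ^ k) : XChain (TameStep P) (U : Set G) z := by
  set N := Subgroup.normalizer (U : Set G) with hN
  set R := (P : Subgroup G) ⊓ N with hR
  have hRp : IsPGroup p R := P.isPGroup'.to_le inf_le_left
  -- a Sylow subgroup of `N` containing `z`
  have hZp : IsPGroup p (Subgroup.zpowers z) := by
    obtain ⟨k, hk⟩ := hz
    apply IsPGroup.of_card (n := k)
    rw [Nat.card_zpowers, hk]
  have hZN : Subgroup.zpowers z ≤ N := by rw [Subgroup.zpowers_le]; exact hzN
  obtain ⟨R1, hR1⟩ := (hZp.comap_subtype (K := N)).exists_le_sylow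
  set R' : Subgroup G := (R1 : Subgroup N).map N.subtype with hR'
  have hR'p : IsPGroup p R' := R1.isPGroup'.map _
  have hR'N : R' ≤ N := by
    rintro _ ⟨y, -, rfl⟩
    exact y.2
  have hzR' : z ∈ R' :=
    ⟨⟨z, hzN⟩, hR1 (by rw [Subgroup.mem_comap]; exact Subgroup.mem_zpowers z), rfl⟩
  have hR'idx : ¬ p ∣ R'.relIndex N := by
    have : R'.relIndex N = (R1 : Subgroup N).index := by
      rw [Subgroup.relIndex, hR', Subgroup.subgroupOf,
        Subgroup.comap_map_eq_self_of_injective N.subtype_injective]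
    rw [this]
    exact R1.not_dvd_index
  -- a Sylow subgroup of `G` containing `R'`
  obtain ⟨Q, hQ⟩ := hR'p.exists_le_sylow
  have hQN : (Q : Subgroup G) ⊓ N = R' :=
    (eq_of_le_of_relIndex (p := p) (le_inf hQ hR'N) inf_le_right (Q.isPGroup'.to_le inf_le_left) hR'idx).symm
  -- `U ≤ R'`
  have hUR' : U ≤ R' := by
    obtain ⟨c, hcN, hc⟩ := exists_rcg_eq_of_relSylow N R' R hR'N hR'p hR'idx inf_le_right hRp hUgood
    rw [← hc]
    have hUR : U ≤ R := le_inf hUP Subgroup.le_normalizer
    have := rcg_mono c hUR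
    rwa [mem_normalizer_iff_rcg.mp hcN] at this
  have hUD : U ≤ (P : Subgroup G) ⊓ (Q : Subgroup G) := le_inf hUP (hUR'.trans hQ)
  by_cases hD : U = (P : Subgroup G) ⊓ (Q : Subgroup G)
  · -- a direct step
    apply XChain.single (T := U) ?_ hzN le_rfl
    refine ⟨Q, hD, hUgood, ?_, Or.inr hz⟩
    rw [hQN]; exact hR'idx
  · -- through the larger group `E`
    set D := (P : Subgroup G) ⊓ (Q : Subgroup G) with hDdef
    have hUltD : U < D := lt_of_le_of_ne hUD hD
    have hDp : IsPGroup p D := P.isPGroup'.to_le inf_le_left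
    have hnil : Group.IsNilpotent D := hDp.isNilpotent
    set E := D ⊓ N with hE
    have hUE : U < E := lt_inf_normalizer_of_lt D U hUltD
    have hEP : E ≤ (P : Subgroup G) := inf_le_left.trans inf_le_left
    have hER' : E ≤ R' := by
      rw [← hQN]
      exact le_inf (inf_le_left.trans inf_le_right) inf_le_right
    obtain ⟨m, hmN, hm⟩ := exists_rcg_eq_of_relSylow N R R' inf_le_right hRp hUgood hR'N hR'p hR'idx
    have hEm : rcg m E ≤ (P : Subgroup G) := by
      have := rcg_mono m hER'
      rw [hm] at this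
      exact this.trans inf_le_left
    have hCm : XChain (TameStep P) (U : Set G) m :=
      (hF E hEP (card_lt_card_of_lt hUE) m hEm).mono (SetLike.coe_subset_coe.mpr hUE.le)
    have hmU : rcs m (U : Set G) = U := by
      rw [← coe_rcg, mem_normalizer_iff_rcg.mp hmN]
    have hzm : m⁻¹ * z * m ∈ (P : Subgroup G) := by
      have : m⁻¹ * z * m ∈ rcg m R' := by
        rw [mem_rcg]
        have e : m * (m⁻¹ * z * m) * m⁻¹ = z := by group
        rw [e]; exact hzR'
      rw [hm] at this
      exact this.1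
    have hzmN : m⁻¹ * z * m ∈ N := N.mul_mem (N.mul_mem (N.inv_mem hmN) hzN) hmN
    have hCz : XChain (TameStep P) (U : Set G) (m⁻¹ * z * m) :=
      tame_NP_step P (Subgroup.le_normalizer hzm) (SetLike.coe_subset_coe.mpr hUP)
    have hzmU : rcs (m⁻¹ * z * m) (U : Set G) = U := by
      rw [← coe_rcg, mem_normalizer_iff_rcg.mp hzmN]
    have h3 : XChain (TameStep P) (U : Set G) m⁻¹ := by
      have := hCm.inv TameStep.inv
      rwa [hmU] at this
    have h4 : XChain (TameStep P) (U : Set G) (m * (m⁻¹ * z * m) * m⁻¹) := by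
      apply XChain.trans
      · apply XChain.trans hCm
        rw [hmU]; exact hCz
      · rw [rcs_mul, hmU, hzmU]; exact h3
    have e : m * (m⁻¹ * z * m) * m⁻¹ = z := by group
    rwa [e] at h4

include hUP hUgood hF in
theorem tame_normalizer (hUlt : U < (P : Subgroup G)) (x : G)
    (hxN : x ∈ Subgroup.normalizer (U : Set G)) : XChain (TameStep P) (U : Set G) x := by
  set N := Subgroup.normalizer (U : Set G) with hN
  set R := (P : Subgroup G) ⊓ N with hR
  have hRp : IsPGroup p R := P.isPGroup'.to_le inf_le_left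
  have hnil : Group.IsNilpotent (P : Subgroup G) := P.isPGroup'.isNilpotent
  have hUR : U < R := lt_inf_normalizer_of_lt (P : Subgroup G) U hUlt
  set K := Subgroup.closure {z : G | z ∈ N ∧ ∃ k : ℕ, orderOf z = p ^ k} with hK
  have hKN : K ≤ N := by
    rw [hK, Subgroup.closure_le]
    exact fun z hz => hz.1
  have hRK : R ≤ K := by
    intro r hr
    apply Subgroup.subset_closure
    exact ⟨hr.2, exists_orderOf_eq_of_mem_pGroup hRp hr⟩
  have hRxK : rcg x R ≤ K := by
    intro y hy
    rw [mem_rcg] at hy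
    apply Subgroup.subset_closure
    refine ⟨?_, ?_⟩
    · have : y = x⁻¹ * (x * y * x⁻¹) * x := by group
      rw [this]
      exact N.mul_mem (N.mul_mem (N.inv_mem hxN) hy.2) hxN
    · obtain ⟨k, hk⟩ := exists_orderOf_eq_of_mem_pGroup hRp hy
      refine ⟨k, ?_⟩
      rw [← hk]
      have : x * y * x⁻¹ = MulAut.conj x y := by simp [MulAut.conj_apply]
      rw [this, MulEquiv.orderOf_eq]
  have hRKidx : ¬ p ∣ R.relIndex K := by
    intro hd
    apply hUgood
    rw [← Subgroup.relIndex_mul_relIndex R K N hRK hKN]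
    exact Dvd.dvd.mul_right hd _
  have hRxKidx : ¬ p ∣ (rcg x R).relIndex K := by
    intro hd
    apply hUgood
    have h1 : (rcg x R).relIndex N = R.relIndex N := by
      have := relIndex_rcg x R N
      rwa [rcg_self_of_mem hxN] at this
    rw [← h1, ← Subgroup.relIndex_mul_relIndex (rcg x R) K N hRxK hKN]
    exact Dvd.dvd.mul_right hd _
  obtain ⟨c, hcK, hc⟩ := exists_rcg_eq_of_relSylow K (rcg x R) R hRxK (isPGroup_rcg x hRp) hRxKidx
    hRK hRp hRKidx
  -- `y = x c⁻¹` normalizes `R`
  have hy : rcg (x * c⁻¹) R = R := by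
    rw [rcg_mul, ← hc, rcg_inv_rcg]
  have hcN : c ∈ N := hKN hcK
  have hyN : x * c⁻¹ ∈ N := N.mul_mem hxN (N.inv_mem hcN)
  have hCy : XChain (TameStep P) (U : Set G) (x * c⁻¹) :=
    (hF R inf_le_left (card_lt_card_of_lt hUR) (x * c⁻¹) (hy.le.trans inf_le_left)).mono
      (SetLike.coe_subset_coe.mpr hUR.le)
  have hyU : rcs (x * c⁻¹) (U : Set G) = U := by
    rw [← coe_rcg, mem_normalizer_iff_rcg.mp hyN]
  -- elements of `K`
  have hCK : ∀ k ∈ K, k ∈ N ∧ XChain (TameStep P) (U : Set G) k := by
    intro k hk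
    induction hk using Subgroup.closure_induction with
    | mem z hz => exact ⟨hz.1, tame_pelement P U hUP hUgood hF z hz.1 hz.2⟩
    | one => exact ⟨N.one_mem, XChain.nil _⟩
    | mul a b _ _ iha ihb =>
      refine ⟨N.mul_mem iha.1 ihb.1, XChain.trans iha.2 ?_⟩
      rw [← coe_rcg, mem_normalizer_iff_rcg.mp iha.1]
      exact ihb.2
    | inv a _ iha =>
      refine ⟨N.inv_mem iha.1, ?_⟩
      have := iha.2.inv TameStep.inv
      rwa [← coe_rcg, mem_normalizer_iff_rcg.mp iha.1] at this
  have h4 : XChain (TameStep P) (U : Set G) (x * c⁻¹ * c) := by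
    apply XChain.trans hCy
    rw [hyU]
    exact (hCK c hcK).2
  have e : x * c⁻¹ * c = x := by group
  rwa [e] at h4

end main

section final

variable [Finite G] {p : ℕ} [Fact p.Prime] (P : Sylow p G)

theorem tame_main (n : ℕ) : ∀ B : Subgroup G, B ≤ (P : Subgroup G) →
    Nat.card (P : Subgroup G) - Nat.card B ≤ n → ∀ g : G, rcg g B ≤ (P : Subgroup G) →
    XChain (TameStep P) (B : Set G) g := by
  have hS : IsPGroup p (P : Subgroup G) := P.isPGroup'
  have hnil : Group.IsNilpotent (P : Subgroup G) := hS.isNilpotent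
  have hbase : ∀ g : G, rcg g (P : Subgroup G) ≤ (P : Subgroup G) →
      XChain (TameStep P) ((P : Subgroup G) : Set G) g := by
    intro g hg
    exact tame_NP_step P (mem_normalizer_iff_rcg.mpr (rcg_eq_of_le_of_finite hg)) le_rfl
  induction n with
  | zero =>
    intro B hBS hcard g hg
    have hB : B = (P : Subgroup G) := by
      apply Subgroup.eq_of_le_of_card_ge hBS
      omega
    subst hB
    exact hbase g hg
  | succ n ih =>
    intro B hBS hcard g hg
    by_cases hBeq : B = (P : Subgroup G)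
    · subst hBeq
      exact hbase g hg
    have hBlt : B < (P : Subgroup G) := lt_of_le_of_ne hBS hBeq
    set S := (P : Subgroup G) with hSdef
    set B' := rcg g B with hB'
    have hcardB' : Nat.card B' = Nat.card B := card_rcg g B
    have hB'lt : B' < S := by
      refine lt_of_le_of_ne hg ?_
      intro heq
      have := card_lt_card_of_lt hBlt
      rw [← heq, hcardB'] at this
      exact lt_irrefl _ this
    obtain ⟨h, hh1, hh2⟩ := exists_good_conj S hS P.not_dvd_index B
    set U := rcg h B with hU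
    have hBNB : B ≤ S ⊓ Subgroup.normalizer (B : Set G) := le_inf hBS Subgroup.le_normalizer
    have hUS : U ≤ S := (rcg_mono h hBNB).trans hh1
    have hconj : rcg (g⁻¹ * h) B' = U := by
      rw [hB', ← rcg_mul]
      have e : g * (g⁻¹ * h) = h := by group
      rw [e]
    obtain ⟨k, hk1, hk2⟩ := adjust_conj S hS U hh2 B' (g⁻¹ * h) hconj
    set x := h⁻¹ * g * k with hx
    have hxU : rcg x U = U := by
      rw [hU, ← rcg_mul]
      have e : h * x = g * k := by rw [hx]; group
      rw [e, rcg_mul]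
      exact hk1
    have hxN : x ∈ Subgroup.normalizer (U : Set G) := mem_normalizer_iff_rcg.mpr hxU
    have hNB : B < S ⊓ Subgroup.normalizer (B : Set G) := lt_inf_normalizer_of_lt S B hBlt
    have hNB' : B' < S ⊓ Subgroup.normalizer (B' : Set G) := lt_inf_normalizer_of_lt S B' hB'lt
    have hcardNB : Nat.card S - Nat.card ↥(S ⊓ Subgroup.normalizer (B : Set G)) ≤ n := by
      have := card_lt_card_of_lt hNB
      omega
    have hcardNB' : Nat.card S - Nat.card ↥(S ⊓ Subgroup.normalizer (B' : Set G)) ≤ n := by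
      have := card_lt_card_of_lt hNB'
      omega
    have hCh := ih _ inf_le_left hcardNB h hh1
    have hCk := ih _ inf_le_left hcardNB' k (hk2.trans inf_le_left)
    have hcardU : Nat.card U = Nat.card B := card_rcg h B
    have hUlt : U < S := by
      refine lt_of_le_of_ne hUS ?_
      intro heq
      have := card_lt_card_of_lt hBlt
      rw [← heq, hcardU] at this
      exact lt_irrefl _ this
    have hCx : XChain (TameStep P) (U : Set G) x := by
      apply tame_normalizer P U hUS hh2 ?_ hUlt x hxN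
      intro E hE hcardE m hm
      apply ih E hE ?_ m hm
      have : Nat.card E ≤ Nat.card S := Subgroup.card_le_of_le hE
      omega
    have h1 : XChain (TameStep P) (B : Set G) h :=
      hCh.mono (SetLike.coe_subset_coe.mpr hBNB)
    have h2 : XChain (TameStep P) (rcs h (B : Set G)) x := by
      rw [← coe_rcg]; exact hCx
    have h3 : XChain (TameStep P) (rcs (h * x) (B : Set G)) k⁻¹ := by
      have h5 := (hCk.mono (SetLike.coe_subset_coe.mpr hNB'.le)).inv TameStep.inv
      have e1 : rcs (h * x) (B : Set G) = rcs k (B' : Set G) := by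
        rw [rcs_mul, ← coe_rcg, ← coe_rcg, ← coe_rcg, hk1, ← hU, hxU]
      rw [e1]; exact h5
    have h4 := (h1.trans h2).trans h3
    have e : h * x * k⁻¹ = g := by rw [hx]; group
    rwa [e] at h4

theorem tame_chain (A : Set G) (g : G) (hA : A ⊆ ((P : Subgroup G) : Set G))
    (hAg : rcs g A ⊆ ((P : Subgroup G) : Set G)) : XChain (TameStep P) A g := by
  have hB : Subgroup.closure A ≤ (P : Subgroup G) := (Subgroup.closure_le _).mpr hA
  have hBg : rcg g (Subgroup.closure A) ≤ (P : Subgroup G) := by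
    rw [rcg_le_iff, Subgroup.closure_le]
    intro a ha
    rw [SetLike.mem_coe, mem_rcg]
    apply hAg
    rw [mem_rcs]
    simpa [mul_assoc] using ha
  exact (tame_main P _ (Subgroup.closure A) hB le_rfl g hBg).mono Subgroup.subset_closure

end final

end Cfsg.Agent.Helper10
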