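import Mathlib
import Cfsg.Prelude.Def_Transfer
import Cfsg.Agent.Lib.Helper10.TameAlperin

set_option autoImplicit false

namespace Cfsg.Agent.Helper10

open Cfsg

variable {G : Type*} [Group G]

theorem sup_eq_top_of_isPGroup_quotient [Finite G] {p : ℕ} [hp : Fact p.Prime] (K : Subgroup G)
    [K.Normal] (hK : IsPGroup p (G ⧸ K)) (R : Subgroup G) (hR : ¬ p ∣ R.index) : K ⊔ R = ⊤ := by
  rw [← Subgroup.index_eq_one]
  have h1 : (K ⊔ R).index ∣ K.index := Subgroup.index_dvd_of_le le_sup_left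
  have h2 : (K ⊔ R).index ∣ R.index := Subgroup.index_dvd_of_le le_sup_right
  obtain ⟨k, hk⟩ := hK.exists_card_eq
  have h3 : K.index = p ^ k := by
    rw [Subgroup.index_eq_card]; exact hk
  rw [h3] at h1
  obtain ⟨j, -, hj⟩ := (Nat.dvd_prime_pow hp.out).mp h1
  rcases Nat.eq_zero_or_pos j with rfl | hjpos
  · simpa using hj
  · exfalso
    apply hR
    refine dvd_trans ?_ h2
    rw [hj]
    exact dvd_pow_self p hjpos.ne'

theorem exists_mul_of_isPGroup_quotient [Finite G] {p : ℕ} [hp : Fact p.Prime] (K : Subgroup G)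
    [K.Normal] (hK : IsPGroup p (G ⧸ K)) (R : Subgroup G) (hR : ¬ p ∣ R.index) (n : G) :
    ∃ r ∈ R, ∃ c ∈ K, n = r * c := by
  have h1 : n ∈ R ⊔ K := by
    rw [sup_comm, sup_eq_top_of_isPGroup_quotient K hK R hR]; exact Subgroup.mem_top _
  rw [← SetLike.mem_coe, Subgroup.mul_normal] at h1
  obtain ⟨r, hr, u, hu, hru⟩ := Set.mem_mul.mp h1
  exact ⟨r, hr, u, hu, hru.symm⟩

theorem exists_mul_of_isPGroup_quotient_subgroup [Finite G] {p : ℕ} [hp : Fact p.Prime]
    (N C R : Subgroup G) [hCn : (C.subgroupOf N).Normal]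
    (hq : IsPGroup p (↥N ⧸ C.subgroupOf N)) (hR : ¬ p ∣ R.relIndex N) (n : G) (hn : n ∈ N) :
    ∃ r ∈ R, r ∈ N ∧ ∃ c ∈ C, n = r * c := by
  obtain ⟨r, hr, c, hc, hrc⟩ := exists_mul_of_isPGroup_quotient (p := p) (C.subgroupOf N) hq
    (R.subgroupOf N) hR ⟨n, hn⟩
  refine ⟨r, hr, r.2, c, hc, ?_⟩
  have := congrArg Subtype.val hrc
  simpa using this

/-- the `p'`-part of an element: some `p`-power power of `g` has order prime to `p` -/
theorem exists_pow_coprime_order [Finite G] {p : ℕ} [hp : Fact p.Prime] (g : G) :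
    ∃ e : ℕ, (orderOf (g ^ (p ^ e))).Coprime p := by
  have hpos : orderOf g ≠ 0 := (orderOf_pos g).ne'
  obtain ⟨e, m, hm, hgm⟩ := Nat.exists_eq_pow_mul_and_not_dvd hpos p hp.out.ne_one
  refine ⟨e, ?_⟩
  have h1 : orderOf (g ^ (p ^ e)) = m := by
    rw [orderOf_pow, hgm, Nat.gcd_eq_right (Dvd.intro _ rfl)]
    exact Nat.mul_div_cancel_left m (pow_pos hp.out.pos e)
  rw [h1]
  exact ((Nat.Prime.coprime_iff_not_dvd hp.out).mpr hm).symm

/-- Frobenius' condition: `p'`-elements normalizing a `p`-subgroup centralize it -/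
def FrobCond (p : ℕ) (G : Type*) [Group G] : Prop :=
  ∀ Q : Subgroup G, IsPGroup p Q → ∀ g ∈ Subgroup.normalizer (Q : Set G),
    Nat.Coprime (orderOf g) p → g ∈ Subgroup.centralizer (Q : Set G)

theorem isPGroup_quotient_of_frobCond [Finite G] {p : ℕ} [hp : Fact p.Prime] (h : FrobCond p G)
    (T : Subgroup G) (hT : IsPGroup p T) :
    IsPGroup p (↥(Subgroup.normalizer (T : Set G)) ⧸
      (Subgroup.centralizer (T : Set G)).subgroupOf (Subgroup.normalizer (T : Set G))) := by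
  intro x
  induction x using QuotientGroup.induction_on with
  | H n =>
    obtain ⟨e, he⟩ := exists_pow_coprime_order (p := p) (n : G)
    refine ⟨e, ?_⟩
    rw [← QuotientGroup.mk_pow, QuotientGroup.eq_one_iff, Subgroup.mem_subgroupOf]
    have := h T hT ((n : G) ^ (p ^ e)) (Subgroup.pow_mem _ n.2 _) he
    simpa using this

/-- `P` controls fusion in itself -/
def ControlsOwnFusion (P : Subgroup G) : Prop :=
  ∀ (A : Set G) (g : G), A ⊆ (P : Set G) → rcs g A ⊆ (P : Set G) →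
    ∃ y ∈ P, ∀ a ∈ A, y⁻¹ * a * y = g⁻¹ * a * g

theorem fc_of_tame [Finite G] {p : ℕ} [Fact p.Prime] (P : Sylow p G)
    (hfac : ∀ (T : Subgroup G) (x : G), TameStep P T x → T ≠ ⊥ → x ∈ Subgroup.normalizer (T : Set G) →
      ∃ y ∈ (P : Subgroup G), y ∈ Subgroup.normalizer (T : Set G) ∧
        ∃ c ∈ Subgroup.centralizer (T : Set G), x = y * c) :
    ControlsOwnFusion (P : Subgroup G) := by
  have key : ∀ (A : Set G) (g : G), XChain (TameStep P) A g → A ⊆ ((P : Subgroup G) : Set G) →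
      ∃ y ∈ (P : Subgroup G), ∀ a ∈ A, y⁻¹ * a * y = g⁻¹ * a * g := by
    intro A g hc
    induction hc with
    | nil A => intro _; exact ⟨1, Subgroup.one_mem _, fun a _ => by simp⟩
    | cons A T x g hSt hx hAT _ ih =>
      intro hAP
      have hTP : T ≤ (P : Subgroup G) := by
        obtain ⟨Q, hQ, -⟩ := hSt
        rw [hQ]; exact inf_le_left
      have hxA : rcs x A ⊆ (T : Set G) := by
        rintro _ ⟨a, ha, rfl⟩
        have := (Subgroup.mem_normalizer_iff.mp (Subgroup.inv_mem _ hx) a).mp (hAT ha)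
        simpa using this
      obtain ⟨y₂, hy₂, hy₂A⟩ := ih (hxA.trans (SetLike.coe_subset_coe.mpr hTP))
      by_cases hT : T = ⊥
      · refine ⟨1, Subgroup.one_mem _, fun a ha => ?_⟩
        have h1 : a = 1 := by
          have := hAT ha
          rw [hT] at this
          exact Subgroup.mem_bot.mp this
        subst h1; simp
      obtain ⟨y₁, hy₁P, hy₁N, c, hc, hxyc⟩ := hfac T x hSt hT hx
      refine ⟨y₁ * y₂, Subgroup.mul_mem _ hy₁P hy₂, fun a ha => ?_⟩
      have h1 : x⁻¹ * a * x = y₁⁻¹ * a * y₁ := by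
        have h2 : y₁⁻¹ * a * y₁ ∈ T := by
          have := (Subgroup.mem_normalizer_iff.mp (Subgroup.inv_mem _ hy₁N) a).mp (hAT ha)
          simpa using this
        have h3 := (Subgroup.mem_centralizer_iff.mp hc) _ h2
        rw [hxyc]
        calc (y₁ * c)⁻¹ * a * (y₁ * c) = c⁻¹ * ((y₁⁻¹ * a * y₁) * c) := by group
          _ = c⁻¹ * (c * (y₁⁻¹ * a * y₁)) := by rw [h3]
          _ = y₁⁻¹ * a * y₁ := by group
      have h4 := hy₂A (x⁻¹ * a * x) ⟨a, ha, rfl⟩
      calc (y₁ * y₂)⁻¹ * a * (y₁ * y₂) = y₂⁻¹ * (y₁⁻¹ * a * y₁) * y₂ := by group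
        _ = y₂⁻¹ * (x⁻¹ * a * x) * y₂ := by rw [h1]
        _ = g⁻¹ * (x⁻¹ * a * x) * g := h4
        _ = (x * g)⁻¹ * a * (x * g) := by group
  intro A g hA hgA
  exact key A g (tame_chain P A g hA hgA) hA

/-- fusion control from a `p`-group quotient hypothesis on tame intersections -/
theorem fc_of_tame_quotient [Finite G] {p : ℕ} [Fact p.Prime] (P : Sylow p G)
    (h : ∀ (T : Subgroup G) (x : G), TameStep P T x → T ≠ ⊥ →
      IsPGroup p (↥(Subgroup.normalizer (T : Set G)) ⧸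
        (Subgroup.centralizer (T : Set G)).subgroupOf (Subgroup.normalizer (T : Set G)))) :
    ControlsOwnFusion (P : Subgroup G) := by
  apply fc_of_tame P
  intro T x hSt hT hx
  obtain ⟨Q, hQ, h2, -, -⟩ := id hSt
  obtain ⟨r, hr, hrN, c, hc, hrc⟩ := exists_mul_of_isPGroup_quotient_subgroup (p := p)
    (Subgroup.normalizer (T : Set G)) (Subgroup.centralizer (T : Set G))
    ((P : Subgroup G) ⊓ Subgroup.normalizer (T : Set G)) (h T x hSt hT) h2 x hx
  exact ⟨r, hr.1, hrN, c, hc, hrc⟩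

end Cfsg.Agent.Helper10
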