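import Mathlib
import Cfsg.Prelude.Def_Solvable

set_option autoImplicit false

namespace Cfsg.Agent.Helper10

open Cfsg

variable {G : Type*} [Group G]

theorem card_sup_dvd_mul_of_normal (a b : Subgroup G) [hb : b.Normal] :
    Nat.card (a ⊔ b : Subgroup G) ∣ Nat.card a * Nat.card b := by
  have h1 : Nat.card b * b.relIndex (a ⊔ b) = Nat.card (a ⊔ b : Subgroup G) := by
    have := Subgroup.relIndex_mul_relIndex (⊥ : Subgroup G) b (a ⊔ b) bot_le le_sup_right
    rw [Subgroup.relIndex_bot_left, Subgroup.relIndex_bot_left] at this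
    exact this
  rw [← h1, Subgroup.relIndex_sup_right, mul_comm]
  exact Nat.mul_dvd_mul_right (Subgroup.relIndex_dvd_card b a) _

/-- the join of a family of normal subgroups whose orders satisfy a multiplicative, divisor-closed
condition again satisfies it -/
theorem card_sSup_normal_of [Finite G] (C : ℕ → Prop) (h1 : C 1)
    (hmul : ∀ a b : ℕ, C a → C b → C (a * b)) (hdvd : ∀ a b : ℕ, a ∣ b → C b → C a)
    (𝒮 : Set (Subgroup G)) (h𝒮 : ∀ N ∈ 𝒮, N.Normal ∧ C (Nat.card N)) :
    (sSup 𝒮).Normal ∧ C (Nat.card (sSup 𝒮 : Subgroup G)) := by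
  classical
  have : Fintype (Subgroup G) := Fintype.ofFinite _
  have key : ((𝒮.toFinset).sup id).Normal ∧ C (Nat.card ((𝒮.toFinset).sup id : Subgroup G)) := by
    apply Finset.sup_induction (p := fun N : Subgroup G => N.Normal ∧ C (Nat.card N))
    · refine ⟨inferInstance, ?_⟩
      rw [Subgroup.card_bot]
      exact h1
    · rintro a ⟨ha, hac⟩ b ⟨hb, hbc⟩
      refine ⟨inferInstance, ?_⟩
      exact hdvd _ _ (card_sup_dvd_mul_of_normal a b) (hmul _ _ hac hbc)
    · intro N hN
      rw [Set.mem_toFinset] at hN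
      exact h𝒮 N hN
  rw [Finset.sup_id_eq_sSup, Set.coe_toFinset] at key
  exact key

theorem pPrimeCore_normal (p : ℕ) : (pPrimeCore p G).Normal :=
  Subgroup.sSup_normal _ (fun _ hH => hH.1)

theorem card_pPrimeCore_coprime [Finite G] (p : ℕ) : (Nat.card (pPrimeCore p G)).Coprime p :=
  (card_sSup_normal_of (fun n => n.Coprime p) (Nat.coprime_one_left p)
    (fun _ _ ha hb => Nat.Coprime.mul_left ha hb)
    (fun _ _ hab hb => Nat.Coprime.coprime_dvd_left hab hb) _ (fun _ hN => hN)).2

theorem pCore_normal (p : ℕ) : (pCore p G).Normal :=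
  Subgroup.sSup_normal _ (fun _ hH => hH.1)

theorem pCore_isPGroup (p : ℕ) [Fact p.Prime] : IsPGroup p (pCore p G) :=
  Sylow.sSup_of_normal _ (fun _ h => h.2) (fun _ h => h.1)

end Cfsg.Agent.Helper10
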