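import Mathlib
import Cfsg.Prelude.Def_Transfer
import Cfsg.Agent.Lib.Helper10.Frobenius

set_option autoImplicit false

namespace Cfsg.Agent.Helper10

open Cfsg
open scoped commutatorElement

universe u

variable {G : Type*} [Group G]

/-- a normal Hall `p'`-subgroup -/
def NPC (p : ℕ) (G : Type*) [Group G] : Prop :=
  ∃ N : Subgroup G, N.Normal ∧ (Nat.card N).Coprime p ∧ ∃ k : ℕ, N.index = p ^ k

theorem isComplement'_of_npc [Finite G] {p : ℕ} [hp : Fact p.Prime] {N : Subgroup G}
    (h2 : (Nat.card N).Coprime p) (h3 : ∃ k : ℕ, N.index = p ^ k) (P : Sylow p G) :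
    N.IsComplement' (P : Subgroup G) := by
  obtain ⟨k, hk⟩ := h3
  have hcard : Nat.card N * p ^ k = Nat.card G := by rw [← hk]; exact N.card_mul_index
  have hNpos : Nat.card N ≠ 0 := Nat.card_pos.ne'
  have hnd : ¬ p ∣ Nat.card N := by
    intro hd
    have := Nat.Coprime.eq_one_of_dvd h2.symm hd
    exact hp.out.ne_one this
  have hfac : (Nat.card G).factorization p = k := by
    rw [← hcard, Nat.factorization_mul hNpos (pow_ne_zero k hp.out.ne_zero)]
    simp [Nat.factorization_eq_zero_of_not_dvd hnd, hp.out.factorization_pow]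
  have hP : Nat.card (P : Subgroup G) = p ^ k := by rw [P.card_eq_multiplicity, hfac]
  apply Subgroup.isComplement'_of_coprime
  · rw [hP]; exact hcard
  · rw [hP]; exact Nat.Coprime.pow_right k h2

theorem NPC.hasNormalPComplement [Finite G] {p : ℕ} [hp : Fact p.Prime] (h : NPC p G) :
    HasNormalPComplement p G := by
  obtain ⟨N, h1, h2, h3⟩ := h
  exact ⟨default, N, h1, isComplement'_of_npc h2 h3 default⟩

theorem npc_of_isComplement' [Finite G] {p : ℕ} [hp : Fact p.Prime] {N : Subgroup G} (hN : N.Normal)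
    (P : Sylow p G) (h : N.IsComplement' (P : Subgroup G)) : NPC p G := by
  have hcard : Nat.card N * Nat.card (P : Subgroup G) = Nat.card G := h.card_mul
  have hidx : N.index = Nat.card (P : Subgroup G) := by
    have h1 := N.card_mul_index
    have hNpos : 0 < Nat.card N := Nat.card_pos
    exact Nat.eq_of_mul_eq_mul_left hNpos (h1.trans hcard.symm)
  refine ⟨N, hN, ?_, (Nat.card G).factorization p, by rw [hidx, P.card_eq_multiplicity]⟩
  have hNpos : Nat.card N ≠ 0 := Nat.card_pos.ne'
  have hfac : (Nat.card N).factorization p = 0 := by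
    have h2 : (Nat.card G).factorization p =
        (Nat.card N).factorization p + (Nat.card G).factorization p := by
      conv_lhs => rw [← hcard, P.card_eq_multiplicity,
        Nat.factorization_mul hNpos (pow_ne_zero _ hp.out.ne_zero)]
      simp [hp.out.factorization_pow]
    omega
  rcases (Nat.factorization_eq_zero_iff _ _).mp hfac with h1 | h1 | h1
  · exact absurd hp.out h1
  · exact ((Nat.Prime.coprime_iff_not_dvd hp.out).mpr h1).symm
  · exact absurd h1 hNpos

theorem npc_of_hasNormalPComplement [Finite G] {p : ℕ} [hp : Fact p.Prime]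
    (h : HasNormalPComplement p G) : NPC p G := by
  obtain ⟨P, N, hN, hc⟩ := h
  exact npc_of_isComplement' hN P hc

theorem le_of_coprime_of_index_pow [Finite G] {p : ℕ} [hp : Fact p.Prime] {N : Subgroup G}
    [N.Normal] (hN : ∃ k : ℕ, N.index = p ^ k) {L : Subgroup G} (hL : (Nat.card L).Coprime p) :
    L ≤ N := by
  obtain ⟨k, hk⟩ := hN
  rw [← Subgroup.relIndex_eq_one]
  have h1 : N.relIndex L ∣ p ^ k := hk ▸ Subgroup.relIndex_dvd_index_of_normal N L
  have h2 : N.relIndex L ∣ Nat.card L := Subgroup.index_dvd_card _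
  have h3 : (Nat.card L).Coprime (p ^ k) := Nat.Coprime.pow_right k hL
  exact Nat.eq_one_of_dvd_coprimes h3 h2 h1

theorem mem_of_coprime_order_of_index_pow [Finite G] {p : ℕ} [hp : Fact p.Prime] {N : Subgroup G}
    [N.Normal] (hN : ∃ k : ℕ, N.index = p ^ k) {g : G} (hg : (orderOf g).Coprime p) : g ∈ N := by
  have h1 : (Nat.card (Subgroup.zpowers g)).Coprime p := by
    rw [Nat.card_zpowers]; exact hg
  exact le_of_coprime_of_index_pow hN h1 (Subgroup.mem_zpowers g)

theorem NPC.subgroup [Finite G] {p : ℕ} [hp : Fact p.Prime] (h : NPC p G) (H : Subgroup G) :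
    NPC p H := by
  obtain ⟨N, hN, hc, k, hk⟩ := h
  refine ⟨N.subgroupOf H, Subgroup.Normal.subgroupOf hN H, ?_, ?_⟩
  · have hdvd : Nat.card (N.subgroupOf H) ∣ Nat.card N := by
      have hinj : Function.Injective ((H.subtype.comp (N.subgroupOf H).subtype).codRestrict N
          (fun x => x.2)) := by
        intro a b hab
        have := congrArg Subtype.val hab
        exact Subtype.ext (Subtype.ext this)
      exact Subgroup.card_dvd_of_injective _ hinj
    exact Nat.Coprime.coprime_dvd_left hdvd hc
  · have h1 : (N.subgroupOf H).index ∣ p ^ k := hk ▸ Subgroup.relIndex_dvd_index_of_normal N H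
    obtain ⟨j, -, hj⟩ := (Nat.dvd_prime_pow hp.out).mp h1
    exact ⟨j, hj⟩

theorem frobCond_subgroup {p : ℕ} (h : FrobCond p G) (K : Subgroup G) : FrobCond p K := by
  intro Q hQ g hg hcop
  have hQ' : IsPGroup p (Q.map K.subtype) := hQ.map _
  have hgN : (g : G) ∈ Subgroup.normalizer ((Q.map K.subtype : Subgroup G) : Set G) := by
    rw [Subgroup.mem_normalizer_iff]
    intro y
    constructor
    · rintro ⟨q, hq, rfl⟩
      exact ⟨g * q * g⁻¹, (Subgroup.mem_normalizer_iff.mp hg q).mp hq, by simp⟩
    · rintro ⟨q, hq, hqy⟩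
      have hyK : y ∈ K := by
        have : y = (g : G)⁻¹ * (q : G) * g := by
          rw [show (q : G) = K.subtype q from rfl, hqy]; group
        rw [this]
        exact K.mul_mem (K.mul_mem (K.inv_mem g.2) q.2) g.2
      refine ⟨⟨y, hyK⟩, ?_, rfl⟩
      apply (Subgroup.mem_normalizer_iff.mp hg ⟨y, hyK⟩).mpr
      have : g * ⟨y, hyK⟩ * g⁻¹ = q := by
        apply Subtype.ext
        simpa using hqy.symm
      rw [this]; exact hq
  have hord : orderOf (g : G) = orderOf g := Subgroup.orderOf_coe g
  have := h _ hQ' (g : G) hgN (by rw [hord]; exact hcop)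
  rw [Subgroup.mem_centralizer_iff] at this ⊢
  intro q hq
  apply Subtype.ext
  have := this (q : G) ⟨q, hq, rfl⟩
  simpa using this

end Cfsg.Agent.Helper10
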