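import Mathlib
import Cfsg.Prelude.Def_Transfer
import Cfsg.Agent.Lib.Helper10.Frobenius2

set_option autoImplicit false

namespace Cfsg.Agent.Helper10

open Cfsg
open scoped commutatorElement

universe u

/-- fusion control by `P` makes the focal subgroup equal to the derived subgroup -/
theorem focal_le_commutator_of_fc {G : Type*} [Group G] (P : Subgroup G) (hFC : ControlsOwnFusion P) :
    P.focalSubgroup ≤ ⁅P, P⁆ := by
  rw [Subgroup.focalSubgroup_def, Subgroup.closure_le]
  rintro g ⟨hgP, x, hxP, u, rfl⟩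
  have hy : x⁻¹ ∈ P := P.inv_mem hxP
  have h2 : u⁻¹⁻¹ * x⁻¹ * u⁻¹ ∈ P := by
    have e2 : u⁻¹⁻¹ * x⁻¹ * u⁻¹ = x⁻¹ * ⁅x, u⁆ := by
      rw [commutatorElement_def]; group
    rw [e2]
    exact P.mul_mem hy hgP
  obtain ⟨y, hyP, hyA⟩ := hFC {x⁻¹} u⁻¹ (Set.singleton_subset_iff.mpr hy) (by
    rintro _ ⟨a, ha, rfl⟩
    rw [Set.mem_singleton_iff.mp ha]
    exact h2)
  have h3 := hyA x⁻¹ rfl
  have e : ⁅x, u⁆ = ⁅x, y⁻¹⁆ := by
    rw [commutatorElement_def, commutatorElement_def]
    have e1 : x * u * x⁻¹ * u⁻¹ = x * (u⁻¹⁻¹ * x⁻¹ * u⁻¹) := by group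
    rw [e1, ← h3]
    group
  rw [SetLike.mem_coe, e]
  exact Subgroup.commutator_mem_commutator hxP (P.inv_mem hyP)

theorem commutator_lt_of_pgroup {G : Type*} [Group G] [Finite G] {p : ℕ} [Fact p.Prime]
    (P : Subgroup G) (hP : IsPGroup p P) (hne : P ≠ ⊥) : ⁅P, P⁆ < P := by
  have hle : ⁅P, P⁆ ≤ P := by
    rw [Subgroup.commutator_le]
    intro a ha b hb
    rw [commutatorElement_def]
    exact P.mul_mem (P.mul_mem (P.mul_mem ha hb) (P.inv_mem ha)) (P.inv_mem hb)
  refine lt_of_le_of_ne hle ?_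
  · intro heq
    have hnt : Nontrivial P := (Subgroup.nontrivial_iff_ne_bot P).mpr hne
    have hnil : Group.IsNilpotent P := hP.isNilpotent
    have h1 := Group.IsSolvable.commutator_lt_top_of_nontrivial (G := P)
    have h2 : Subgroup.map P.subtype (commutator P) = Subgroup.map P.subtype ⊤ := by
      rw [Subgroup.map_subtype_commutator, heq, ← MonoidHom.range_eq_map, Subgroup.range_subtype]
    have h3 := Subgroup.map_injective P.subtype_injective h2
    exact h1.ne h3

theorem npc_of_frobCond {p : ℕ} [hp : Fact p.Prime] : ∀ (n : ℕ) (G : Type u) [Group G] [Finite G],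
    Nat.card G = n → FrobCond p G → NPC p G := by
  intro n
  induction n using Nat.strong_induction_on with
  | _ n ih =>
    intro G _ _ hcard hF
    let P : Sylow p G := default
    by_cases hP : (P : Subgroup G) = ⊥
    · refine ⟨⊤, inferInstance, ?_, 0, by simp⟩
      have h1 := P.not_dvd_index
      rw [hP, Subgroup.index_bot] at h1
      rw [Subgroup.card_top]
      exact ((Nat.Prime.coprime_iff_not_dvd hp.out).mpr h1).symm
    · have hFC : ControlsOwnFusion (P : Subgroup G) := by
        apply fc_of_tame_quotient P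
        intro T x hSt _
        have hTP : T ≤ (P : Subgroup G) := by
          obtain ⟨Q, hQ, -⟩ := hSt
          rw [hQ]; exact inf_le_left
        exact isPGroup_quotient_of_frobCond hF T (P.isPGroup'.to_le hTP)
      have hfoc : (P : Subgroup G).focalSubgroup < (P : Subgroup G) :=
        lt_of_le_of_lt (focal_le_commutator_of_fc _ hFC) (commutator_lt_of_pgroup _ P.isPGroup' hP)
      set K : Subgroup G := ((P : Subgroup G).transferFocal).ker with hK
      have hsurj := Subgroup.transferFocal_surjective P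
      have hKtop : K ≠ ⊤ := by
        intro htop
        have h1 : ∀ y : (P : Subgroup G) ⧸ (P : Subgroup G).focalSubgroupOf, y = 1 := by
          intro y
          obtain ⟨g, rfl⟩ := hsurj y
          have : g ∈ K := by rw [htop]; exact Subgroup.mem_top g
          exact this
        have h2 : (P : Subgroup G).focalSubgroupOf = ⊤ := by
          rw [eq_top_iff]
          intro y _
          have := h1 (QuotientGroup.mk y)
          rwa [QuotientGroup.eq_one_iff] at this
        have h3 : (P : Subgroup G).focalSubgroup = (P : Subgroup G) := by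
          rw [← Subgroup.map_focalSubgroupOf, h2, ← MonoidHom.range_eq_map, Subgroup.range_subtype]
        exact hfoc.ne h3
      have hKidx : ∃ j : ℕ, K.index = p ^ j := by
        have h1 : K.index = Nat.card ((P : Subgroup G) ⧸ (P : Subgroup G).focalSubgroupOf) := by
          rw [hK, Subgroup.index_ker, MonoidHom.range_eq_top.mpr hsurj, Subgroup.card_top]
        have h2 : Nat.card ((P : Subgroup G) ⧸ (P : Subgroup G).focalSubgroupOf) ∣
            Nat.card (P : Subgroup G) := Subgroup.card_quotient_dvd_card _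
        obtain ⟨m, hm⟩ := P.isPGroup'.exists_card_eq
        rw [hm, ← h1] at h2
        obtain ⟨j, -, hj⟩ := (Nat.dvd_prime_pow hp.out).mp h2
        exact ⟨j, hj⟩
      have hKlt : Nat.card K < n := by
        have := card_lt_card_of_lt (lt_top_iff_ne_top.mpr hKtop)
        rwa [Subgroup.card_top, hcard] at this
      obtain ⟨M, hMn, hMc, i, hMi⟩ := ih (Nat.card K) hKlt K rfl (frobCond_subgroup hF K)
      obtain ⟨j, hj⟩ := hKidx
      refine ⟨M.map K.subtype, ?_, ?_, i + j, ?_⟩
      · constructor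
        rintro _ ⟨m, hm, rfl⟩ g
        have hL : (Nat.card (M.map (MulAut.conjNormal g : K ≃* K).toMonoidHom)).Coprime p := by
          have : Nat.card (M.map (MulAut.conjNormal g : K ≃* K).toMonoidHom) = Nat.card M :=
            (Nat.card_congr (M.equivMapOfInjective _
              (MulAut.conjNormal g : K ≃* K).injective).toEquiv).symm
          rw [this]; exact hMc
        have hle := le_of_coprime_of_index_pow (p := p) ⟨i, hMi⟩ hL
        have hmem : (MulAut.conjNormal g : K ≃* K) m ∈ M := hle ⟨m, hm, rfl⟩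
        refine ⟨(MulAut.conjNormal g : K ≃* K) m, hmem, ?_⟩
        simp [MulAut.conjNormal_apply]
      · have : Nat.card (M.map K.subtype) = Nat.card M :=
          (Nat.card_congr (M.equivMapOfInjective _ K.subtype_injective).toEquiv).symm
        rw [this]; exact hMc
      · rw [Subgroup.index_map_subtype, hMi, hj, pow_add]

/-- Frobenius' condition may be tested on the subgroups of one Sylow subgroup -/
theorem frobCond_of_sylow {G : Type*} [Group G] [Finite G] {p : ℕ} [Fact p.Prime] (P : Sylow p G)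
    (h : ∀ Q : Subgroup G, Q ≤ (P : Subgroup G) → ∀ g ∈ Subgroup.normalizer (Q : Set G),
      Nat.Coprime (orderOf g) p → g ∈ Subgroup.centralizer (Q : Set G)) : FrobCond p G := by
  intro Q hQ g hg hcop
  obtain ⟨c, -, hc⟩ := conj_into_relSylow (⊤ : Subgroup G) (P : Subgroup G) Q le_top P.isPGroup'
    (by rw [Subgroup.relIndex_top_right]; exact P.not_dvd_index) le_top hQ
  have hgN : c⁻¹ * g * c ∈ Subgroup.normalizer ((rcg c Q : Subgroup G) : Set G) := by
    rw [← rcg_normalizer, mem_rcg]
    have e : c * (c⁻¹ * g * c) * c⁻¹ = g := by group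
    rw [e]; exact hg
  have hord : orderOf (c⁻¹ * g * c) = orderOf g := by
    have : c⁻¹ * g * c = MulAut.conj c⁻¹ g := by simp [MulAut.conj_apply]
    rw [this, MulEquiv.orderOf_eq]
  have h1 := h (rcg c Q) hc _ hgN (by rw [hord]; exact hcop)
  rw [Subgroup.mem_centralizer_iff] at h1 ⊢
  intro q hq
  have h2 := h1 (c⁻¹ * q * c) (by
    show c⁻¹ * q * c ∈ rcg c Q
    rw [mem_rcg]
    have e : c * (c⁻¹ * q * c) * c⁻¹ = q := by group
    rw [e]; exact hq)
  have e1 : q * g = c * ((c⁻¹ * q * c) * (c⁻¹ * g * c)) * c⁻¹ := by group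
  rw [e1, h2]
  group

/-- fusion control by `P` gives Frobenius' condition for the subgroups of `P` -/
theorem sylow_cond_of_fc {G : Type*} [Group G] [Finite G] {p : ℕ} [Fact p.Prime] (P : Sylow p G)
    (hFC : ControlsOwnFusion (P : Subgroup G)) :
    ∀ Q : Subgroup G, Q ≤ (P : Subgroup G) → ∀ g ∈ Subgroup.normalizer (Q : Set G),
      Nat.Coprime (orderOf g) p → g ∈ Subgroup.centralizer (Q : Set G) := by
  intro Q hQP g hg hcop
  have hgQ : rcs g (Q : Set G) = Q := by
    rw [← coe_rcg, mem_normalizer_iff_rcg.mp hg]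
  obtain ⟨y, hyP, hyA⟩ := hFC (Q : Set G) g (SetLike.coe_subset_coe.mpr hQP)
    (by rw [hgQ]; exact SetLike.coe_subset_coe.mpr hQP)
  have hpow : ∀ m : ℕ, ∀ a ∈ Q, (y ^ m)⁻¹ * a * y ^ m = (g ^ m)⁻¹ * a * g ^ m := by
    intro m
    induction m with
    | zero => intro a _; simp
    | succ m ih =>
      intro a ha
      have h1 := ih a ha
      have hmem : (g ^ m)⁻¹ * a * g ^ m ∈ Q := by
        have hgm : (g ^ m)⁻¹ ∈ Subgroup.normalizer (Q : Set G) :=
          Subgroup.inv_mem _ (Subgroup.pow_mem _ hg m)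
        have := (Subgroup.mem_normalizer_iff.mp hgm a).mp ha
        simpa using this
      have h2 := hyA _ hmem
      calc (y ^ (m + 1))⁻¹ * a * y ^ (m + 1) = y⁻¹ * ((y ^ m)⁻¹ * a * y ^ m) * y := by
            rw [pow_succ]; group
        _ = y⁻¹ * ((g ^ m)⁻¹ * a * g ^ m) * y := by rw [h1]
        _ = g⁻¹ * ((g ^ m)⁻¹ * a * g ^ m) * g := h2
        _ = (g ^ (m + 1))⁻¹ * a * g ^ (m + 1) := by rw [pow_succ]; group
  obtain ⟨k, hk⟩ := P.isPGroup' ⟨y, hyP⟩
  have hyk : y ^ (p ^ k) = 1 := by
    have := congrArg Subtype.val hk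
    simpa using this
  have hgk : g ^ (p ^ k) ∈ Subgroup.centralizer (Q : Set G) := by
    rw [Subgroup.mem_centralizer_iff]
    intro a ha
    have := hpow (p ^ k) a ha
    rw [hyk] at this
    have e : a * g ^ (p ^ k) = g ^ (p ^ k) * ((g ^ (p ^ k))⁻¹ * a * g ^ (p ^ k)) := by group
    rw [e, ← this]
    simp
  have hcop' : (p ^ k).Coprime (orderOf g) := Nat.Coprime.pow_left k hcop.symm
  obtain ⟨m, hm⟩ := exists_pow_eq_self_of_coprime hcop'
  rw [← hm]
  exact Subgroup.pow_mem _ hgk m

end Cfsg.Agent.Helper10
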