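import Mathlib
import Cfsg.Prelude.Def_Transfer
import Cfsg.Agent.Lib.Helper10.Frobenius3

set_option autoImplicit false

namespace Cfsg.Agent.Helper10

open Cfsg
open scoped commutatorElement

variable {G : Type*} [Group G]

theorem npc_data_of_isComplement' [Finite G] {p : ℕ} [hp : Fact p.Prime] {N : Subgroup G}
    (P : Sylow p G) (h : N.IsComplement' (P : Subgroup G)) :
    (Nat.card N).Coprime p ∧ ∃ k : ℕ, N.index = p ^ k := by
  have hcard : Nat.card N * Nat.card (P : Subgroup G) = Nat.card G := h.card_mul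
  have hidx : N.index = Nat.card (P : Subgroup G) := by
    have h1 := N.card_mul_index
    have hNpos : 0 < Nat.card N := Nat.card_pos
    exact Nat.eq_of_mul_eq_mul_left hNpos (h1.trans hcard.symm)
  refine ⟨?_, (Nat.card G).factorization p, by rw [hidx, P.card_eq_multiplicity]⟩
  have hNpos : Nat.card N ≠ 0 := Nat.card_pos.ne'
  have hfac : (Nat.card N).factorization p = 0 := by
    have h2 : (Nat.card G).factorization p =
        (Nat.card N).factorization p + (Nat.card G).factorization p := by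
      conv_lhs => rw [← hcard, P.card_eq_multiplicity,
        Nat.factorization_mul hNpos (pow_ne_zero _ hp.out.ne_zero)]
      simp [hp.out.factorization_pow]
    omega
  rcases (Nat.factorization_eq_zero_iff _ _).mp hfac with h1 | h1 | h1
  · exact absurd hp.out h1
  · exact ((Nat.Prime.coprime_iff_not_dvd hp.out).mpr h1).symm
  · exact absurd h1 hNpos

/-- in a group with a normal Hall `p'`-subgroup, `p'`-elements normalizing a `p`-subgroup
centralize it -/
theorem centralizes_of_npc [Finite G] {p : ℕ} [hp : Fact p.Prime] {N : Subgroup G} [hN : N.Normal]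
    (hc : (Nat.card N).Coprime p) (hk : ∃ k : ℕ, N.index = p ^ k)
    (Q : Subgroup G) (hQ : IsPGroup p Q) (g : G) (hg : g ∈ Subgroup.normalizer (Q : Set G))
    (hcop : (orderOf g).Coprime p) : g ∈ Subgroup.centralizer (Q : Set G) := by
  have hgN : g ∈ N := mem_of_coprime_order_of_index_pow hk hcop
  obtain ⟨m, hm⟩ := hQ.exists_card_eq
  have hQN : Q ⊓ N = ⊥ := by
    apply Subgroup.inf_eq_bot_of_coprime
    rw [hm]
    exact (Nat.Coprime.pow_right m hc).symm
  rw [Subgroup.mem_centralizer_iff]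
  intro a ha
  have h1 : g * a * g⁻¹ * a⁻¹ ∈ Q :=
    Q.mul_mem ((Subgroup.mem_normalizer_iff.mp hg a).mp ha) (Q.inv_mem ha)
  have h2 : g * a * g⁻¹ * a⁻¹ ∈ N := by
    have h3 : a * g⁻¹ * a⁻¹ ∈ N := hN.conj_mem _ (N.inv_mem hgN) a
    have e : g * a * g⁻¹ * a⁻¹ = g * (a * g⁻¹ * a⁻¹) := by group
    rw [e]
    exact N.mul_mem hgN h3
  have h4 : g * a * g⁻¹ * a⁻¹ ∈ Q ⊓ N := ⟨h1, h2⟩
  rw [hQN, Subgroup.mem_bot] at h4
  have e : a * g = (g * a * g⁻¹ * a⁻¹)⁻¹ * (g * a) := by group
  rw [e, h4]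
  simp

/-- Frobenius' normal `p`-complement theorem, one direction -/
theorem frobCond_of_npc [Finite G] {p : ℕ} [hp : Fact p.Prime] (h : NPC p G) : FrobCond p G := by
  obtain ⟨N, hN, hc, hk⟩ := h
  intro Q hQ g hg hcop
  exact centralizes_of_npc hc hk Q hQ g hg hcop

/-- Frobenius' condition from normal `p`-complements in the `p`-local subgroups -/
theorem frobCond_of_local [Finite G] {p : ℕ} [hp : Fact p.Prime]
    (h : ∀ Q : Subgroup G, IsPGroup p Q → Q ≠ ⊥ → NPC p (Subgroup.normalizer (Q : Set G))) :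
    FrobCond p G := by
  intro Q hQ g hg hcop
  by_cases hQb : Q = ⊥
  · rw [hQb, Subgroup.mem_centralizer_iff]
    intro a ha
    rw [Subgroup.mem_bot.mp ha]; simp
  obtain ⟨M, hM, hc, hk⟩ := h Q hQ hQb
  set H := Subgroup.normalizer (Q : Set G) with hH
  have hQ' : IsPGroup p (Q.subgroupOf H) := hQ.comap_subtype
  have hnorm : (Q.subgroupOf H).Normal := Subgroup.normal_in_normalizer
  have hg' : (⟨g, hg⟩ : H) ∈ Subgroup.normalizer ((Q.subgroupOf H : Subgroup H) : Set H) := by
    rw [Subgroup.normalizer_eq_top]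
    exact Subgroup.mem_top _
  have hord : orderOf (⟨g, hg⟩ : H) = orderOf g := (Subgroup.orderOf_coe (⟨g, hg⟩ : H)).symm
  have h1 := centralizes_of_npc (p := p) hc hk (Q.subgroupOf H) hQ' ⟨g, hg⟩ hg'
    (by rw [hord]; exact hcop)
  rw [Subgroup.mem_centralizer_iff] at h1 ⊢
  intro a ha
  have haH : a ∈ H := Subgroup.le_normalizer ha
  have h2 := h1 ⟨a, haH⟩ (by rw [SetLike.mem_coe, Subgroup.mem_subgroupOf]; exact ha)
  have := congrArg Subtype.val h2
  simpa using this

end Cfsg.Agent.Helper10
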