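import Mathlib
import Cfsg.Prelude.Def_Transfer
import Cfsg.Agent.Lib.Helper10.Frobenius4

set_option autoImplicit false

namespace Cfsg.Agent.Helper10

open Cfsg

variable {G : Type*} [Group G]

/-- a normal `p`-complement of a normal subgroup of `p`-power index is a normal `p`-complement -/
theorem npc_of_normal_subgroup_npc [Finite G] {p : ℕ} [hp : Fact p.Prime] (K H : Subgroup G)
    (hKH : K ≤ H) (hn : H ≤ Subgroup.normalizer (K : Set G)) (hidx : ∃ j : ℕ, K.relIndex H = p ^ j)
    (h : NPC p K) : NPC p H := by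
  obtain ⟨M, hMn, hMc, i, hMi⟩ := h
  obtain ⟨j, hj⟩ := hidx
  set MG : Subgroup G := M.map K.subtype with hMG
  have hMGK : MG ≤ K := by
    rintro _ ⟨m, -, rfl⟩
    exact m.2
  have hcardMG : Nat.card MG = Nat.card M :=
    (Nat.card_congr (M.equivMapOfInjective _ K.subtype_injective).toEquiv).symm
  have hMGsub : MG.subgroupOf K = M := by
    rw [hMG, Subgroup.subgroupOf, Subgroup.comap_map_eq_self_of_injective K.subtype_injective]
  have key : ∀ h ∈ H, ∀ m ∈ MG, h * m * h⁻¹ ∈ MG := by
    intro h hh m hm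
    set L0 : Subgroup G := MG.map (MulAut.conj h).toMonoidHom with hL0
    have hL0K : L0 ≤ K := by
      rintro _ ⟨y, hy, rfl⟩
      have := (Subgroup.mem_normalizer_iff.mp (hn hh) y).mp (hMGK hy)
      simpa [MulAut.conj_apply] using this
    have hcardL0 : Nat.card L0 = Nat.card MG :=
      (Nat.card_congr (MG.equivMapOfInjective _ (MulAut.conj h).injective).toEquiv).symm
    have hcardL : Nat.card (L0.subgroupOf K) = Nat.card L0 :=
      Nat.card_congr (Subgroup.subgroupOfEquivOfLe hL0K).toEquiv
    have hLc : (Nat.card (L0.subgroupOf K)).Coprime p := by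
      rw [hcardL, hcardL0, hcardMG]; exact hMc
    have hle := le_of_coprime_of_index_pow (p := p) ⟨i, hMi⟩ hLc
    have hmem : h * m * h⁻¹ ∈ L0 := ⟨m, hm, by simp [MulAut.conj_apply]⟩
    have h1 : (⟨h * m * h⁻¹, hL0K hmem⟩ : K) ∈ M := hle (by rw [Subgroup.mem_subgroupOf]; exact hmem)
    exact ⟨⟨h * m * h⁻¹, hL0K hmem⟩, h1, rfl⟩
  refine ⟨MG.subgroupOf H, ?_, ?_, i + j, ?_⟩
  · constructor
    intro n hn' g
    rw [Subgroup.mem_subgroupOf] at hn' ⊢
    have := key g g.2 n hn'
    simpa using this
  · have : Nat.card (MG.subgroupOf H) = Nat.card MG :=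
      Nat.card_congr (Subgroup.subgroupOfEquivOfLe (hMGK.trans hKH)).toEquiv
    rw [this, hcardMG]; exact hMc
  · show MG.relIndex H = p ^ (i + j)
    rw [← Subgroup.relIndex_mul_relIndex MG K H hMGK hKH, hj, pow_add]
    congr 1
    show (MG.subgroupOf K).index = p ^ i
    rw [hMGsub]; exact hMi

/-- a group with a central Sylow `p`-subgroup has a normal `p`-complement -/
theorem npc_of_central_sylow [Finite G] {p : ℕ} [hp : Fact p.Prime] (P : Sylow p G)
    (hP : ∀ x ∈ (P : Subgroup G), ∀ c : G, x * c = c * x) : NPC p G := by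
  have hPc : Subgroup.normalizer ((P : Subgroup G) : Set G) ≤ Subgroup.centralizer ((P : Subgroup G) : Set G) := by
    intro n _
    rw [Subgroup.mem_centralizer_iff]
    intro x hx
    exact hP x hx n
  have h1 := MonoidHom.ker_transferSylow_isComplement' P hPc
  exact npc_of_isComplement' inferInstance P h1

end Cfsg.Agent.Helper10
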