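import Mathlib
import Cfsg.Prelude.Def_Blocks
import Cfsg.Agent.Lib.Helper24.CharLinear
import Cfsg.Agent.Lib.Helper24.CharInduced

/-!
# S0996 (Brauer–Reynolds, self-centralizing case): definitions for the farm-out

See `plans/S0996_proof.md`, `plans/S0996_helper17_proof.md` and the skeleton `plans/BR996_Skel.lean.txt`.
-/

set_option autoImplicit false

namespace Cfsg.Agent.Helper10.BR996

open scoped ComplexConjugate
open Cfsg Cfsg.Agent.Helper24

universe u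

variable {G : Type u} [Group G] [Fintype G]

open Classical in
/-- The sum of `ψ` over the subgroup `P`. -/
noncomputable def psum (P : Subgroup G) (ψ : G → ℂ) : ℂ :=
  ∑ z : G, if z ∈ P then ψ z else 0

open Classical in
/-- The sum of `ψ` over `P ∖ {1}` (the "deficiency" `p A(ψ) - ψ(1)`). -/
noncomputable def dsum (P : Subgroup G) (ψ : G → ℂ) : ℂ :=
  ∑ z : G, if z ∈ P ∧ z ≠ 1 then ψ z else 0

/-- The weight `A(ψ) = ⟨ψ|_P, 1_P⟩ = |P|⁻¹ ∑_{z ∈ P} ψ(z)`. -/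
noncomputable def Aw (P : Subgroup G) (ψ : G → ℂ) : ℂ :=
  (Nat.card P : ℂ)⁻¹ * psum P ψ

/-- The permutation character `1_N^G`, `N = N_G(P)`. -/
noncomputable def permN (P : Subgroup G) : G → ℂ :=
  indFun (Subgroup.normalizer (P : Set G)) (fun _ => (1 : ℂ))

/-- The permutation character `Π = 1_P^G`. -/
noncomputable def permP (P : Subgroup G) : G → ℂ :=
  indFun P (fun _ => (1 : ℂ))

/-- Brauer's theorem for a self-centralizing subgroup `P` of prime order `p` with `|N_G(P):P| = w`,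
`t = (p-1)/w`: the irreducible characters split into `X` (`w` of them, constant `±1` on `P ∖ 1`),
`Y` (`t` of them, the exceptional ones) and the rest (vanishing on `P ∖ 1`). -/
structure BrauerData (p : ℕ) (P : Subgroup G) (w t : ℕ) where
  X : Finset (IrrCharacter G)
  Y : Finset (IrrCharacter G)
  sg : IrrCharacter G → ℤ
  d0 : ℤ
  disj : Disjoint X Y
  cardX : X.card = w
  cardY : Y.card = t
  sg_pm : ∀ χ ∈ X, sg χ = 1 ∨ sg χ = -1
  d0_pm : d0 = 1 ∨ d0 = -1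
  valX : ∀ χ ∈ X, ∀ z ∈ P, z ≠ 1 → (χ : G → ℂ) z = (sg χ : ℂ)
  valD : ∀ χ : IrrCharacter G, χ ∉ X → χ ∉ Y → ∀ z ∈ P, z ≠ 1 → (χ : G → ℂ) z = 0
  regY : ∀ θ ∈ Y, ∀ θ' ∈ Y, ∀ g : G, ¬ p ∣ orderOf g → (θ : G → ℂ) g = (θ' : G → ℂ) g
  sumY : ∀ θ ∈ Y, dsum P (θ : G → ℂ) = (d0 : ℂ) * (w : ℂ)

end Cfsg.Agent.Helper10.BR996
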