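import Mathlib

/-!
# Brauer–Reynolds (S0996): the arithmetic lemmas L5, L6, L7 of `plans/S0996_proof.md`

Pure statements about natural numbers; `p = w * t + 1`, `r = 1 + n * p`, `2 * n ≤ p + 1`.
-/

set_option autoImplicit false

namespace Cfsg.Agent.Helper10.BRArith

/-- L5: a degree `x = u p + 1 > 1` dividing `w (1 + n p)` is `1 + n p` when `2 n ≤ p + 1`. -/
theorem L5 {p w t n u x : ℕ} (hp : p = w * t + 1) (hw : 1 ≤ w) (ht : 1 ≤ t)
    (hn : 2 * n ≤ p + 1) (hu : 1 ≤ u) (hx : x = u * p + 1) (hdvd : x ∣ w * (1 + n * p)) :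
    u = n := by
  obtain ⟨y, hy⟩ := hdvd
  subst hx
  have hwp : w < p := by
    have : w * 1 ≤ w * t := Nat.mul_le_mul_left w ht
    omega
  have hyZ : (w : ℤ) * (1 + n * p) = (u * p + 1) * y := by exact_mod_cast hy
  have hkey : (y : ℤ) - w = p * (w * n - u * y) := by linarith
  rcases lt_trichotomy y w with hlt | heq | hgt
  · -- y < w : impossible
    exfalso
    have hd : (p : ℤ) ∣ (w : ℤ) - y := ⟨-(w * n - u * y), by linarith⟩
    have hpos : (0 : ℤ) < (w : ℤ) - y := by
      have : (y : ℤ) < w := by exact_mod_cast hlt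
      linarith
    have hle := Int.le_of_dvd hpos hd
    have h1 : (w : ℤ) < p := by exact_mod_cast hwp
    have h2 : (0 : ℤ) ≤ y := by positivity
    linarith
  · -- y = w
    subst heq
    have h0 : (p : ℤ) * (y * n - u * y) = 0 := by linarith
    have hp0 : (p : ℤ) ≠ 0 := by
      have : 0 < p := by omega
      exact_mod_cast this.ne'
    have h1 : (y : ℤ) * n - u * y = 0 := by
      rcases mul_eq_zero.mp h0 with h | h
      · exact absurd h hp0
      · exact h
    have h2 : (y : ℤ) * (n - u) = 0 := by linarith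
    have hy0 : (y : ℤ) ≠ 0 := by
      have : 0 < y := hw
      exact_mod_cast this.ne'
    rcases mul_eq_zero.mp h2 with h | h
    · exact absurd h hy0
    · have : (n : ℤ) = u := by linarith
      exact_mod_cast this.symm
  · -- y > w : the F(p,u,h) case, contradiction with 2 n ≤ p + 1
    exfalso
    set h : ℤ := w * n - u * y with hh
    have hpZ : (p : ℤ) = w * t + 1 := by exact_mod_cast hp
    have hp1 : (1 : ℤ) ≤ p := by
      have : 1 ≤ p := by omega
      exact_mod_cast this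
    have hhpos : 0 < h := by
      have h1 : (0 : ℤ) < (y : ℤ) - w := by
        have : (w : ℤ) < y := by exact_mod_cast hgt
        linarith
      rw [hkey] at h1
      have hp0 : (0 : ℤ) < p := by linarith
      by_contra hneg
      push_neg at hneg
      nlinarith
    -- w (n - u) = h (1 + u p)
    have h1 : (w : ℤ) * (n - u) = h * (1 + u * p) := by
      have : (y : ℤ) = w + p * h := by linarith
      have e1 : (w : ℤ) * n = h + u * y := by rw [hh]; ring
      rw [this] at e1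
      linear_combination e1
    -- w ∣ h (u+1)
    have hdv : (w : ℤ) ∣ h * (u + 1) := by
      have e2 : h * (u + 1) = w * (n - u) - w * (h * u * t) := by
        rw [h1, hpZ]; ring
      rw [e2]
      exact dvd_sub (dvd_mul_right _ _) (dvd_mul_right _ _)
    obtain ⟨h', hh'⟩ := hdv
    have hw0 : (0 : ℤ) < w := by exact_mod_cast hw
    have hu0 : (1 : ℤ) ≤ u := by exact_mod_cast hu
    have hh'pos : 0 < h' := by
      have : 0 < (w : ℤ) * h' := by
        rw [← hh']
        positivity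
      by_contra hneg
      push_neg at hneg
      nlinarith
    -- (n - u)(u + 1) = h' (1 + u p)
    have h2 : ((n : ℤ) - u) * (u + 1) = h' * (1 + u * p) := by
      have e3 : (w : ℤ) * (((n : ℤ) - u) * (u + 1)) = w * (h' * (1 + u * p)) := by
        calc (w : ℤ) * (((n : ℤ) - u) * (u + 1)) = (w * (n - u)) * (u + 1) := by ring
          _ = (h * (1 + u * p)) * (u + 1) := by rw [h1]
          _ = (h * (u + 1)) * (1 + u * p) := by ring
          _ = (w * h') * (1 + u * p) := by rw [hh']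
          _ = w * (h' * (1 + u * p)) := by ring
      exact mul_left_cancel₀ hw0.ne' e3
    have hnZ : (2 : ℤ) * n ≤ p + 1 := by exact_mod_cast hn
    have h3 : (1 : ℤ) + u * p ≤ ((n : ℤ) - u) * (u + 1) := by
      rw [h2]
      have : (0 : ℤ) ≤ 1 + u * p := by positivity
      nlinarith
    nlinarith

/-- L6: for `t ≥ 2`, a degree `x = u p - 1` dividing `w (1 + n p)` with `x² < p w (1 + n p)`
has `u = 1`. -/
theorem L6 {p w t n u x : ℕ} (hp : p = w * t + 1) (hw : 1 ≤ w) (ht : 2 ≤ t)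
    (hn : 2 * n ≤ p + 1) (hu : 1 ≤ u) (hx : x + 1 = u * p) (hdvd : x ∣ w * (1 + n * p))
    (hsq : x * x < p * w * (1 + n * p)) : u = 1 := by
  by_contra hne
  have hu2 : 2 ≤ u := by omega
  obtain ⟨y, hy⟩ := hdvd
  have hpZ : (p : ℤ) = w * t + 1 := by exact_mod_cast hp
  have hxZ : (x : ℤ) = u * p - 1 := by
    have : (x : ℤ) + 1 = u * p := by exact_mod_cast hx
    linarith
  have hyZ : (w : ℤ) * (1 + n * p) = x * y := by exact_mod_cast hy
  have hw0 : (0 : ℤ) < w := by exact_mod_cast hw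
  have ht2 : (2 : ℤ) ≤ t := by exact_mod_cast ht
  have hu2Z : (2 : ℤ) ≤ u := by exact_mod_cast hu2
  have hp0 : (0 : ℤ) < p := by rw [hpZ]; positivity
  have hnZ : (2 : ℤ) * n ≤ p + 1 := by exact_mod_cast hn
  have hy0 : (0 : ℤ) ≤ y := by positivity
  have hn0 : (0 : ℤ) ≤ n := by positivity
  set h : ℤ := u * y - w * n with hh
  have hkey : (y : ℤ) + w = p * h := by
    rw [hh, hxZ] at *
    linarith
  have hhpos : 0 < h := by
    have : (0 : ℤ) < p * h := by rw [← hkey]; linarith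
    by_contra hneg
    push_neg at hneg
    nlinarith
  -- w (n + u) = h (u p - 1)
  have h1 : (w : ℤ) * (n + u) = h * (u * p - 1) := by
    have hyy : (y : ℤ) = p * h - w := by linarith
    have e1 : (w : ℤ) * n = u * y - h := by rw [hh]; ring
    rw [hyy] at e1
    linear_combination e1
  have hdv : (w : ℤ) ∣ h * (u - 1) := by
    have e2 : h * (u - 1) = w * (n + u) - w * (h * u * t) := by
      rw [h1, hpZ]; ring
    rw [e2]
    exact dvd_sub (dvd_mul_right _ _) (dvd_mul_right _ _)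
  obtain ⟨h', hh'⟩ := hdv
  have hh'pos : 0 < h' := by
    have : 0 < (w : ℤ) * h' := by
      rw [← hh']
      have : (0 : ℤ) < u - 1 := by linarith
      positivity
    by_contra hneg
    push_neg at hneg
    nlinarith
  -- n + u = h' p + h t
  have h2 : (n : ℤ) + u = h' * p + h * t := by
    have e3 : (w : ℤ) * ((n : ℤ) + u) = w * (h' * p + h * t) := by
      calc (w : ℤ) * ((n : ℤ) + u) = h * (u * p - 1) := h1
        _ = (h * (u - 1)) * p + h * (p - 1) := by ring
        _ = (w * h') * p + h * (w * t) := by rw [hh', hpZ]; ring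
        _ = w * (h' * p + h * t) := by ring
    exact mul_left_cancel₀ hw0.ne' e3
  have h3 : (p : ℤ) + 3 ≤ 2 * u := by nlinarith
  have h4 : (p : ℤ) ^ 2 + 3 * p - 2 ≤ 2 * x := by rw [hxZ]; nlinarith
  have h5 : (2 : ℤ) * w ≤ p - 1 := by rw [hpZ]; nlinarith
  have h6 : (2 : ℤ) * (1 + n * p) ≤ p ^ 2 + p + 2 := by nlinarith
  have hsqZ : (x : ℤ) * x < p * w * (1 + n * p) := by exact_mod_cast hsq
  have hx0 : (0 : ℤ) ≤ x := by positivity
  have h7 : ((p : ℤ) ^ 2 + 3 * p - 2) ^ 2 ≤ (2 * x) ^ 2 := by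
    have : (0 : ℤ) ≤ (p : ℤ) ^ 2 + 3 * p - 2 := by nlinarith
    exact pow_le_pow_left₀ this h4 2
  have h8 : (4 : ℤ) * (p * w * (1 + n * p)) ≤ p * (p - 1) * (p ^ 2 + p + 2) := by
    have a1 : (0 : ℤ) ≤ 2 * (1 + n * p) := by positivity
    have a2 : (2 : ℤ) * w * (2 * (1 + n * p)) ≤ (p - 1) * (p ^ 2 + p + 2) := by
      have b1 : (0 : ℤ) ≤ p - 1 := by linarith
      calc (2 : ℤ) * w * (2 * (1 + n * p)) ≤ (p - 1) * (2 * (1 + n * p)) :=
            mul_le_mul_of_nonneg_right h5 a1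
        _ ≤ (p - 1) * (p ^ 2 + p + 2) := mul_le_mul_of_nonneg_left h6 b1
    nlinarith
  nlinarith

/-- L7: for `t ≥ 2`, an exceptional degree `x₀ = u₀ p - w > 0` dividing `w (1 + n p)` forces
`n + 1 = u₀ t`. -/
theorem L7 {p w t n u0 x0 : ℕ} (hp : p = w * t + 1) (hw : 1 ≤ w) (ht : 2 ≤ t)
    (hn : 2 * n ≤ p + 1) (hx : x0 + w = u0 * p) (hx0 : 0 < x0) (hdvd : x0 ∣ w * (1 + n * p)) :
    n + 1 = u0 * t := by
  obtain ⟨y, hy⟩ := hdvd
  have hpZ : (p : ℤ) = w * t + 1 := by exact_mod_cast hp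
  have hxZ : (x0 : ℤ) = u0 * p - w := by
    have : (x0 : ℤ) + w = u0 * p := by exact_mod_cast hx
    linarith
  have hyZ : (w : ℤ) * (1 + n * p) = x0 * y := by exact_mod_cast hy
  have hw0 : (0 : ℤ) < w := by exact_mod_cast hw
  have ht2 : (2 : ℤ) ≤ t := by exact_mod_cast ht
  have hp0 : (0 : ℤ) < p := by rw [hpZ]; positivity
  have hnZ : (2 : ℤ) * n ≤ p + 1 := by exact_mod_cast hn
  have hy0 : (0 : ℤ) ≤ y := by positivity
  have hn0 : (0 : ℤ) ≤ n := by positivity
  have hu1 : 1 ≤ u0 := by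
    rcases Nat.eq_zero_or_pos u0 with h | h
    · subst h; omega
    · exact h
  have hu1Z : (1 : ℤ) ≤ u0 := by exact_mod_cast hu1
  -- p ∣ y + 1
  have hcop : IsCoprime (p : ℤ) (w : ℤ) := ⟨1, -t, by rw [hpZ]; ring⟩
  have hd1 : (p : ℤ) ∣ w * (y + 1) := by
    refine ⟨u0 * y - w * n, ?_⟩
    rw [hxZ] at hyZ
    linarith
  have hd2 : (p : ℤ) ∣ (y : ℤ) + 1 := hcop.dvd_of_dvd_mul_left hd1
  obtain ⟨h0, hh0⟩ := hd2
  have hh0pos : 0 < h0 := by
    have : (0 : ℤ) < p * h0 := by rw [← hh0]; linarith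
    by_contra hneg
    push_neg at hneg
    nlinarith
  -- w (n + h0) = u0 (h0 p - 1)
  have h1 : (w : ℤ) * (n + h0) = u0 * (h0 * p - 1) := by
    have hyy : (y : ℤ) = p * h0 - 1 := by linarith
    rw [hxZ, hyy] at hyZ
    have e1 : (p : ℤ) * (w * (n + h0)) = p * (u0 * (h0 * p - 1)) := by linarith
    exact mul_left_cancel₀ hp0.ne' e1
  rcases (show h0 = 1 ∨ 2 ≤ h0 by omega) with h01 | h02
  · subst h01
    have e2 : (w : ℤ) * ((n : ℤ) + 1) = w * (u0 * t) := by
      rw [h1, hpZ]; ring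
    have := mul_left_cancel₀ hw0.ne' e2
    exact_mod_cast this
  · exfalso
    have hdv : (w : ℤ) ∣ u0 * (h0 - 1) := by
      have e2 : (u0 : ℤ) * (h0 - 1) = w * (n + h0) - w * (u0 * h0 * t) := by
        rw [h1, hpZ]; ring
      rw [e2]
      exact dvd_sub (dvd_mul_right _ _) (dvd_mul_right _ _)
    obtain ⟨h'', hh''⟩ := hdv
    have hh''pos : 0 < h'' := by
      have : 0 < (w : ℤ) * h'' := by
        rw [← hh'']
        have : (0 : ℤ) < h0 - 1 := by linarith
        positivity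
      by_contra hneg
      push_neg at hneg
      nlinarith
    -- n + h0 = h'' p + u0 t
    have h2 : (n : ℤ) + h0 = h'' * p + u0 * t := by
      have e3 : (w : ℤ) * ((n : ℤ) + h0) = w * (h'' * p + u0 * t) := by
        calc (w : ℤ) * ((n : ℤ) + h0) = u0 * (h0 * p - 1) := h1
          _ = (u0 * (h0 - 1)) * p + u0 * (p - 1) := by ring
          _ = (w * h'') * p + u0 * (w * t) := by rw [hh'', hpZ]; ring
          _ = w * (h'' * p + u0 * t) := by ring
      exact mul_left_cancel₀ hw0.ne' e3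
    -- h0 - 1 ≤ w h''
    have h3 : h0 - 1 ≤ (w : ℤ) * h'' := by
      rw [← hh'']
      have : (0 : ℤ) ≤ h0 - 1 := by linarith
      nlinarith
    have h5 : (2 : ℤ) * w ≤ p - 1 := by rw [hpZ]; nlinarith
    -- n ≥ h''(p - w) + u0 t - 1 ≥ p - w + t - 1
    have h6 : (p : ℤ) - w + t - 1 ≤ n := by
      have a1 : (p : ℤ) - w ≤ h'' * (p - w) := by
        have : (0 : ℤ) ≤ p - w := by linarith
        nlinarith
      have a2 : (t : ℤ) ≤ u0 * t := by nlinarith
      nlinarith
    linarith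

end Cfsg.Agent.Helper10.BRArith
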