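import Mathlib
import Cfsg.Prelude.Def_OddOrderLocal
import Cfsg.Agent.Lib.Helper10.Cores

set_option autoImplicit false

namespace Cfsg.Agent.Helper10

open Cfsg

universe u

/-- `n` is a `π`-number: all prime divisors lie in `π`. -/
def IsPiNum (π : Set ℕ) (n : ℕ) : Prop := ∀ p : ℕ, p.Prime → p ∣ n → p ∈ π

theorem isPiNum_one (π : Set ℕ) : IsPiNum π 1 := by
  intro p hp h
  exact absurd (Nat.dvd_one.mp h) hp.one_lt.ne'

theorem IsPiNum.mul {π : Set ℕ} {a b : ℕ} (ha : IsPiNum π a) (hb : IsPiNum π b) :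
    IsPiNum π (a * b) := by
  intro p hp h
  rcases (Nat.Prime.dvd_mul hp).mp h with h | h
  · exact ha p hp h
  · exact hb p hp h

theorem IsPiNum.of_dvd {π : Set ℕ} {a b : ℕ} (hab : a ∣ b) (hb : IsPiNum π b) : IsPiNum π a :=
  fun p hp h => hb p hp (h.trans hab)

section
variable {G : Type*} [Group G]

theorem card_piCore [Finite G] (π : Set ℕ) : IsPiNum π (Nat.card ↥(piCore π G)) :=
  (card_sSup_normal_of (IsPiNum π) (isPiNum_one π) (fun _ _ ha hb => ha.mul hb)
    (fun _ _ hab hb => hb.of_dvd hab) _ (fun _ hN => hN)).2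

theorem le_piCore (π : Set ℕ) {N : Subgroup G} (hN : N.Normal) (h : IsPiNum π (Nat.card ↥N)) :
    N ≤ piCore π G :=
  le_sSup ⟨hN, h⟩

theorem piCore_characteristic (π : Set ℕ) : (piCore π G).Characteristic := by
  rw [Subgroup.characteristic_iff_map_le]
  intro φ
  rw [Subgroup.map_le_iff_le_comap]
  unfold Cfsg.piCore
  apply sSup_le
  rintro N ⟨hNn, hN⟩
  rw [← Subgroup.map_le_iff_le_comap]
  apply le_sSup
  refine ⟨hNn.map φ.toMonoidHom φ.surjective, ?_⟩
  rw [Nat.card_congr (N.equivMapOfInjective φ.toMonoidHom φ.injective).symm.toEquiv]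
  exact hN

theorem map_subtype_piCore_le [Finite G] (π : Set ℕ) (N : Subgroup G) [N.Normal] :
    (piCore π ↥N).map N.subtype ≤ piCore π G := by
  haveI : (piCore π ↥N).Characteristic := piCore_characteristic π
  haveI : ((piCore π ↥N).map N.subtype).Normal :=
    ConjAct.normal_of_characteristic_of_normal
  apply le_piCore π inferInstance
  rw [Nat.card_congr ((piCore π ↥N).equivMapOfInjective N.subtype
    N.subtype_injective).symm.toEquiv]
  exact card_piCore π

end

theorem subnormal_le_piCore_aux (π : Set ℕ) :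
    ∀ (n : ℕ) (G : Type u) [Group G] [Finite G],
    Nat.card G = n → ∀ H : Subgroup G, H.IsSubnormal → IsPiNum π (Nat.card ↥H) →
      H ≤ piCore π G := by
  intro n
  induction n using Nat.strong_induction_on with
  | _ n ih =>
  intro G _ _ hn H hH hp
  by_cases hHt : H = ⊤
  · subst hHt
    exact le_piCore π inferInstance hp
  obtain ⟨N, hNn, hHN, hNt⟩ := hH.exists_normal_and_le_and_lt_top_of_ne hHt
  have hcard : Nat.card N < n := by
    rw [← hn]
    have h1 : Nat.card N * N.index = Nat.card G := Subgroup.card_mul_index N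
    have h2 : N.index ≠ 1 := fun h => hNt.ne (Subgroup.index_eq_one.mp h)
    have h3 : N.index ≠ 0 := Subgroup.index_ne_zero_of_finite
    have h4 : 0 < Nat.card N := Nat.card_pos
    nlinarith [Nat.two_le_iff N.index |>.mpr ⟨h3, h2⟩]
  have h1 := ih _ hcard N rfl (H.subgroupOf N) hH.subgroupOf
    (by rw [Nat.card_congr (Subgroup.subgroupOfEquivOfLe hHN).toEquiv]; exact hp)
  have h2 := Subgroup.map_mono (f := N.subtype) h1
  rw [Subgroup.map_subgroupOf_eq_of_le hHN] at h2
  exact h2.trans (map_subtype_piCore_le π N)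

/-- A subnormal `π`-subgroup lies in `O_π`. -/
theorem subnormal_le_piCore {G : Type u} [Group G] [Finite G] (π : Set ℕ)
    (H : Subgroup G) (hH : H.IsSubnormal) (hp : IsPiNum π (Nat.card ↥H)) :
    H ≤ piCore π G :=
  subnormal_le_piCore_aux π _ G rfl H hH hp

/-- `O_π(G / O_π(G)) = 1`. -/
theorem piCore_quotient_eq_bot {G : Type u} [Group G] [Finite G] (π : Set ℕ) :
    piCore π (G ⧸ piCore π G) = ⊥ := by
  rw [eq_bot_iff]
  set R := piCore π G with hR
  set φ := QuotientGroup.mk' R with hφ
  have hsurj : Function.Surjective φ := QuotientGroup.mk'_surjective R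
  set Nbar := piCore π (G ⧸ R) with hNbar
  set N := Nbar.comap φ with hN
  have hNn : N.Normal := (piCore_normal π (G ⧸ R)).comap φ
  have hRN : R ≤ N := by
    intro x hx
    rw [hN, Subgroup.mem_comap]
    have : φ x = 1 := (QuotientGroup.eq_one_iff x).mpr hx
    rw [this]; exact one_mem _
  have hcard : Nat.card ↥N = Nat.card ↥Nbar * Nat.card ↥R := by
    have h1 : Nat.card ↥R * R.relIndex N = Nat.card ↥N := by
      have := Subgroup.relIndex_mul_relIndex ⊥ R N bot_le hRN
      rwa [Subgroup.relIndex_bot_left, Subgroup.relIndex_bot_left] at this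
    have h2 : R.relIndex N = Nat.card ↥Nbar := by
      have h3 := Subgroup.relIndex_comap (H := (⊥ : Subgroup (G ⧸ R))) φ N
      rw [MonoidHom.comap_bot, hφ, QuotientGroup.ker_mk', Subgroup.relIndex_bot_left,
        ← hφ, Subgroup.map_comap_eq_self_of_surjective hsurj] at h3
      exact h3
    rw [← h1, h2, mul_comm]
  have hpi : IsPiNum π (Nat.card ↥N) := by
    rw [hcard]; exact (card_piCore π).mul (card_piCore π)
  have hle : N ≤ R := le_piCore π hNn hpi
  intro y hy
  obtain ⟨x, rfl⟩ := hsurj y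
  have hx : x ∈ N := hy
  rw [Subgroup.mem_bot]
  exact (QuotientGroup.eq_one_iff x).mpr (hle hx)

end Cfsg.Agent.Helper10
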