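import Mathlib
import Cfsg.Prelude.Def_Blocks
import Cfsg.Agent.Lib.Helper24.CharLinear
import Cfsg.Agent.Lib.Helper24.CharInduced
import Cfsg.Agent.Lib.Helper24.CharComplete
import Cfsg.Agent.Lib.Helper24.CharAlgebra
import Cfsg.Agent.Lib.Helper24.CharIntegral
import Cfsg.Agent.Lib.Helper10.BR996Defs
import Cfsg.Agent.Lib.Helper10.BRArith
import Cfsg.Agent.Lib.Helper1.BR996NUM1
import Cfsg.Agent.Lib.Helper2.BR996G3
import Cfsg.Agent.Lib.Helper2.BR996T1MERGE
import Cfsg.Agent.Lib.Helper3.BR996ENDD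
import Cfsg.Agent.Lib.Helper5.BR996ADAPT
import Cfsg.Agent.Lib.Helper5.BR996VALS
import Cfsg.Agent.Lib.Helper6.BR996GA
import Cfsg.Agent.Lib.Helper6.BR996ENDF
import Cfsg.Agent.Lib.Helper7.BR996NUM2
import Cfsg.Agent.Lib.Helper12.BR996GBW
import Cfsg.Agent.Lib.Helper12.BR996RANK
import Cfsg.Agent.Lib.Helper12.BR996WT
import Cfsg.Agent.Lib.Helper12.BR996DEGNORM
import Cfsg.Agent.Lib.Helper13.BR996CC
import Cfsg.Agent.Lib.Helper14.BR996SIMPLE
import Cfsg.Agent.Lib.Helper16.BR996ENDE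
import Cfsg.Agent.Lib.Helper16.BR996INVOL
import Cfsg.Agent.Lib.Helper23.BR996MUSTAR
import Cfsg.Agent.Lib.Helper25.BR996PERF
import Cfsg.Agent.Lib.Helper28.BR996NUM3

/-!
# S0996 (Brauer–Reynolds, self-centralizing case) — ASSEMBLY
-/

set_option autoImplicit false
set_option linter.unusedSectionVars false
set_option linter.unusedVariables false

namespace Cfsg.Agent.Helper10.BR996.Asm

open scoped ComplexConjugate
open Cfsg Cfsg.Agent.Helper24 Cfsg.Agent.Helper10.BR996

universe u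

variable {G : Type u} [Group G] [Fintype G] [Fintype (IrrCharacter G)]
  (p : ℕ) [Fact p.Prime] (P : Subgroup G)

local notation "𝒩" => Subgroup.normalizer (P : Set G)

/-! ## PIECE GB (adapter onto helper12's `card_normalizer_of_card` and helper2's G3) -/

omit [Fintype (IrrCharacter G)] in
theorem exists_compl_normalizer (hcard : Nat.card P = p)
    (hcent : Subgroup.centralizer (P : Set G) ≤ P) (hw2 : 2 ≤ P.relIndex 𝒩) (n : ℕ) (hn : 1 ≤ n)
    (hidx : (𝒩).index = 1 + n * p)
    (hH : ∀ x : G, x ∉ 𝒩 →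
      Nat.card ↥(𝒩 ⊓ (𝒩).map (MulAut.conj x).toMonoidHom) = P.relIndex 𝒩) :
    ∃ W : Subgroup G, W ≤ 𝒩 ∧ Nat.card W = P.relIndex 𝒩 ∧ W ⊓ P = ⊥ ∧ IsCyclic W ∧
      Nat.card (Subgroup.normalizer (W : Set G)) = P.relIndex 𝒩 * (n + 1) := by
  obtain ⟨W, hWN, hW⟩ := Cfsg.Agent.Helper2.BR996G3.exists_compl P p hcard hcent
  exact ⟨W, hWN, hW, Cfsg.Agent.Helper2.BR996G3.inf_eq_bot_of_card P p hcard hcent W hW,
    Cfsg.Agent.Helper2.BR996G3.isCyclic_of_card P p hcard hcent W hWN hW,
    Cfsg.Agent.Helper12.BR996GB.card_normalizer_of_card P p hcard hcent _ n rfl hw2 hidx hH W hWN hW⟩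

/-! ## Linearity -/

omit [Fintype (IrrCharacter G)] [Fact p.Prime] in
theorem dsum_lin {ι : Type*} (s : Finset ι) (c : ι → ℂ) (f : ι → G → ℂ) :
    dsum P (∑ i ∈ s, c i • f i) = ∑ i ∈ s, c i * dsum P (f i) := by
  classical
  simp only [dsum, Finset.sum_apply, Pi.smul_apply, smul_eq_mul, Finset.mul_sum]
  rw [Finset.sum_comm]
  refine Finset.sum_congr rfl fun z _ => ?_
  split_ifs with h
  · rfl
  · simp

/-- splitting a sum over `univ` along two disjoint finsets -/
theorem sum_split {ι M : Type*} [Fintype ι] [DecidableEq ι] [AddCommMonoid M] (X Y : Finset ι)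
    (hdisj : Disjoint X Y) (f : ι → M) :
    ∑ i, f i = ∑ i ∈ X, f i + ∑ i ∈ Y, f i + ∑ i ∈ (Finset.univ \ X) \ Y, f i := by
  have h1 : ∑ i ∈ Finset.univ \ X, f i + ∑ i ∈ X, f i = ∑ i, f i :=
    Finset.sum_sdiff (Finset.subset_univ X)
  have hY : Y ⊆ Finset.univ \ X := by
    intro i hi
    rw [Finset.mem_sdiff]
    exact ⟨Finset.mem_univ _, fun hx => (Finset.disjoint_left.mp hdisj hx hi)⟩
  have h2 : ∑ i ∈ (Finset.univ \ X) \ Y, f i + ∑ i ∈ Y, f i = ∑ i ∈ Finset.univ \ X, f i :=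
    Finset.sum_sdiff hY
  rw [← h1, ← h2]
  abel

/-! ## Consequences of the Brauer data -/

section Data

variable {p P}
variable {w' t' : ℕ} (D : BrauerData p P w' t')

theorem two_le_p : 2 ≤ p := (Fact.out : p.Prime).two_le

theorem dsum_of_mem_X (hcard : Nat.card P = p) {χ : IrrCharacter G} (hχ : χ ∈ D.X) :
    dsum P (χ : G → ℂ) = ((p : ℂ) - 1) * (D.sg χ : ℂ) :=
  dsum_const p P hcard _ (D.valX χ hχ)

theorem dsum_of_not_mem (hcard : Nat.card P = p) {χ : IrrCharacter G} (hχ : χ ∉ D.X)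
    (hχ' : χ ∉ D.Y) : dsum P (χ : G → ℂ) = 0 := by
  rw [dsum_const p P hcard 0 (D.valD χ hχ hχ'), mul_zero]

/-- the weights are natural numbers and satisfy the integral weight relations -/
theorem weights (hcard : Nat.card P = p) :
    ∃ a : IrrCharacter G → ℕ, (∀ χ : IrrCharacter G, Aw P (χ : G → ℂ) = (a χ : ℂ)) ∧
      (∀ χ ∈ D.X, (p : ℤ) * a χ = charDegree (χ : G → ℂ) + D.sg χ * ((p : ℤ) - 1)) ∧
      (∀ χ ∈ D.Y, (p : ℤ) * a χ = charDegree (χ : G → ℂ) + D.d0 * w') ∧
      (∀ χ : IrrCharacter G, χ ∉ D.X → χ ∉ D.Y → (p : ℤ) * a χ = charDegree (χ : G → ℂ)) := by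
  have h1 : ∀ χ : IrrCharacter G, ∃ a : ℕ, Aw P (χ : G → ℂ) = (a : ℂ) :=
    fun χ => Aw_nat P (isCharacter_of_isIrrCharacter χ.2)
  choose a ha using h1
  have key : ∀ χ : IrrCharacter G,
      (p : ℂ) * (a χ : ℂ) = (charDegree (χ : G → ℂ) : ℂ) + dsum P (χ : G → ℂ) := by
    intro χ
    rw [← ha χ, Aw_eq p P hcard, irr_one_eq_charDegree χ.2]
  refine ⟨a, ha, ?_, ?_, ?_⟩
  · intro χ hχ
    have := key χ
    rw [dsum_of_mem_X D hcard hχ] at this
    have h2 : (((p : ℤ) * a χ : ℤ) : ℂ) =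
        ((charDegree (χ : G → ℂ) + D.sg χ * ((p : ℤ) - 1) : ℤ) : ℂ) := by
      push_cast
      rw [this]
      ring
    exact_mod_cast h2
  · intro χ hχ
    have := key χ
    rw [D.sumY χ hχ] at this
    have h2 : (((p : ℤ) * a χ : ℤ) : ℂ) = ((charDegree (χ : G → ℂ) + D.d0 * w' : ℤ) : ℂ) := by
      push_cast
      rw [this]
    exact_mod_cast h2
  · intro χ hχ hχ'
    have := key χ
    rw [dsum_of_not_mem D hcard hχ hχ', add_zero] at this
    have h2 : (((p : ℤ) * a χ : ℤ) : ℂ) = ((charDegree (χ : G → ℂ) : ℤ) : ℂ) := by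
      push_cast
      rw [this]
    exact_mod_cast h2

theorem principal_coe : ((principalChar G : IrrCharacter G) : G → ℂ) = fun _ => (1 : ℂ) := rfl

theorem charDegree_principal : charDegree ((principalChar G : IrrCharacter G) : G → ℂ) = 1 := by
  apply charDegree_natCast 1
  simp [principal_coe]

/-- the principal character lies in `X` with sign `+1` as soon as it does not lie in `Y` -/
theorem principal_mem (hcard : Nat.card P = p) (hY : principalChar G ∉ D.Y) :
    principalChar G ∈ D.X ∧ D.sg (principalChar G) = 1 := by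
  have hp2 : 2 ≤ p := two_le_p
  have hp1 : (p : ℂ) - 1 ≠ 0 := by
    intro h
    have h' : (p : ℂ) = 1 := by linear_combination h
    have : (p : ℕ) = 1 := by exact_mod_cast h'
    omega
  have hd : dsum P ((principalChar G : IrrCharacter G) : G → ℂ) = ((p : ℂ) - 1) * 1 :=
    dsum_const p P hcard 1 (fun z _ _ => rfl)
  by_cases hX : principalChar G ∈ D.X
  · refine ⟨hX, ?_⟩
    rw [dsum_of_mem_X D hcard hX] at hd
    have := mul_left_cancel₀ hp1 hd
    exact_mod_cast this
  · exfalso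
    rw [dsum_of_not_mem D hcard hX hY] at hd
    rw [mul_one] at hd
    exact hp1 hd.symm

end Data

section Data2

variable {p P}
variable {w' t' : ℕ} (D : BrauerData p P w' t')

open Classical in
/-- the degree equation, split along `X`, `Y` -/
theorem degeq (hcard : Nat.card P = p) :
    ((p : ℤ) - 1) * ∑ χ ∈ D.X, D.sg χ * (charDegree (χ : G → ℂ) : ℤ) +
      D.d0 * w' * ∑ χ ∈ D.Y, (charDegree (χ : G → ℂ) : ℤ) = 0 := by
  have h := degree_equation p P hcard
  rw [sum_split D.X D.Y D.disj] at h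
  have hX : ∑ χ ∈ D.X, (charDegree (χ : G → ℂ) : ℂ) * dsum P (χ : G → ℂ) =
      ∑ χ ∈ D.X, ((p : ℂ) - 1) * ((D.sg χ : ℂ) * (charDegree (χ : G → ℂ) : ℂ)) := by
    refine Finset.sum_congr rfl fun χ hχ => ?_
    rw [dsum_of_mem_X D hcard hχ]
    ring
  have hY : ∑ χ ∈ D.Y, (charDegree (χ : G → ℂ) : ℂ) * dsum P (χ : G → ℂ) =
      ∑ χ ∈ D.Y, ((D.d0 : ℂ) * (w' : ℂ)) * (charDegree (χ : G → ℂ) : ℂ) := by
    refine Finset.sum_congr rfl fun χ hχ => ?_
    rw [D.sumY χ hχ]
    ring
  have hR : ∑ χ ∈ (Finset.univ \ D.X) \ D.Y, (charDegree (χ : G → ℂ) : ℂ) * dsum P (χ : G → ℂ) =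
      0 := by
    refine Finset.sum_eq_zero fun χ hχ => ?_
    rw [Finset.mem_sdiff, Finset.mem_sdiff] at hχ
    rw [dsum_of_not_mem D hcard hχ.1.2 hχ.2, mul_zero]
  rw [hX, hY, hR, add_zero, ← Finset.mul_sum, ← Finset.mul_sum] at h
  have h2 : ((((p : ℤ) - 1) * ∑ χ ∈ D.X, D.sg χ * (charDegree (χ : G → ℂ) : ℤ) +
      D.d0 * w' * ∑ χ ∈ D.Y, (charDegree (χ : G → ℂ) : ℤ) : ℤ) : ℂ) = ((0 : ℤ) : ℂ) := by
    push_cast
    exact h
  exact_mod_cast h2

/-- the multiplicities of `π = 1_N^G` -/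
theorem perm_mult (hcard : Nat.card P = p) (hcent : Subgroup.centralizer (P : Set G) ≤ P)
    (n : ℕ) (hidx : (𝒩).index = 1 + n * p) (a : IrrCharacter G → ℕ)
    (ha : ∀ χ : IrrCharacter G, Aw P (χ : G → ℂ) = (a χ : ℂ)) :
    ∃ m : IrrCharacter G → ℕ,
      (∀ χ : IrrCharacter G, classInner (χ : G → ℂ) (permN P) = (m χ : ℂ)) ∧
      (∀ χ, m χ ≤ a χ) ∧ m (principalChar G) = 1 ∧
      (∑ χ : IrrCharacter G, m χ * charDegree (χ : G → ℂ) = 1 + n * p) ∧
      (∑ χ : IrrCharacter G, (m χ : ℂ) * dsum P (χ : G → ℂ) = (p : ℂ) - 1) ∧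
      (∑ χ : IrrCharacter G, m χ * a χ = n + 1) ∧
      (classInner (permN P) (permN P) = ∑ χ : IrrCharacter G, (m χ : ℂ) ^ 2) := by
  have hπ : IsCharacter G (permN P) := permN_isCharacter P
  have h0 : ∀ χ : IrrCharacter G, ∃ m a' : ℕ, classInner (χ : G → ℂ) (permN P) = (m : ℂ) ∧
      Aw P (χ : G → ℂ) = (a' : ℂ) ∧ m ≤ a' :=
    fun χ => inner_permN_le P (isCharacter_of_isIrrCharacter χ.2)
  choose m a' h1 h2 h3 using h0
  have haa : ∀ χ, a' χ = a χ := by
    intro χ
    have := (h2 χ).symm.trans (ha χ)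
    exact_mod_cast this
  have hcomm : ∀ χ : IrrCharacter G, classInner (permN P) (χ : G → ℂ) = (m χ : ℂ) := by
    intro χ
    rw [classInner_char_comm hπ (isCharacter_of_isIrrCharacter χ.2), h1 χ]
  have hdec : permN P = ∑ χ : IrrCharacter G, (m χ : ℂ) • (χ : G → ℂ) := by
    have := (isCharacter_decomp hπ).2
    simp only [hcomm] at this
    exact this
  have hm1 : m (principalChar G) = 1 := by
    have := hcomm (principalChar G)
    rw [principal_coe, classInner_permN_one P] at this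
    exact_mod_cast this.symm
  have hdegC : ∑ χ : IrrCharacter G, (m χ : ℂ) * (charDegree (χ : G → ℂ) : ℂ) = 1 + n * p := by
    have h4 := congrFun hdec 1
    rw [permN_one P, hidx] at h4
    simp only [Finset.sum_apply, Pi.smul_apply, smul_eq_mul] at h4
    have h5 : ∑ χ : IrrCharacter G, (m χ : ℂ) * (charDegree (χ : G → ℂ) : ℂ) =
        ∑ χ : IrrCharacter G, (m χ : ℂ) * (χ : G → ℂ) 1 :=
      Finset.sum_congr rfl (fun χ _ => by rw [irr_one_eq_charDegree χ.2])
    rw [h5, ← h4]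
    push_cast
    ring
  have hdsum : ∑ χ : IrrCharacter G, (m χ : ℂ) * dsum P (χ : G → ℂ) = (p : ℂ) - 1 := by
    rw [← dsum_lin P, ← hdec, dsum_const p P hcard 1 (fun z hz hz1 => permN_of_mem p P hcard hcent hz hz1),
      mul_one]
  have hp0 : (p : ℂ) ≠ 0 := by
    have : 2 ≤ p := two_le_p
    exact_mod_cast (by omega : p ≠ 0)
  refine ⟨m, h1, fun χ => (haa χ) ▸ h3 χ, hm1, by exact_mod_cast hdegC, hdsum, ?_, ?_⟩
  · have key : ∀ χ : IrrCharacter G,
        (p : ℂ) * (a χ : ℂ) = (charDegree (χ : G → ℂ) : ℂ) + dsum P (χ : G → ℂ) := by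
      intro χ
      rw [← ha χ, Aw_eq p P hcard, irr_one_eq_charDegree χ.2]
    have h5 : (p : ℂ) * ∑ χ : IrrCharacter G, (m χ : ℂ) * (a χ : ℂ) = (p : ℂ) * ((n : ℂ) + 1) := by
      rw [Finset.mul_sum]
      have : ∀ χ : IrrCharacter G, (p : ℂ) * ((m χ : ℂ) * (a χ : ℂ)) =
          (m χ : ℂ) * (charDegree (χ : G → ℂ) : ℂ) + (m χ : ℂ) * dsum P (χ : G → ℂ) := by
        intro χ
        rw [← mul_add, ← key χ]
        ring
      simp only [this]
      rw [Finset.sum_add_distrib, hdegC, hdsum]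
      ring
    have h6 := mul_left_cancel₀ hp0 h5
    exact_mod_cast h6
  · have h7 : classInner (permN P) (permN P) =
        classInner (∑ χ : IrrCharacter G, (m χ : ℂ) • (χ : G → ℂ)) (permN P) := by
      rw [← hdec]
    rw [h7, classInner_sum_left]
    refine Finset.sum_congr rfl fun χ _ => ?_
    rw [classInner_smul_left, h1 χ]
    ring

open Classical in
/-- the deficiency of `π` in integral form -/
theorem perm_def (hcard : Nat.card P = p) (m : IrrCharacter G → ℕ)
    (hm : ∑ χ : IrrCharacter G, (m χ : ℂ) * dsum P (χ : G → ℂ) = (p : ℂ) - 1) :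
    ((p : ℤ) - 1) * ∑ χ ∈ D.X, D.sg χ * (m χ : ℤ) + D.d0 * w' * ∑ χ ∈ D.Y, (m χ : ℤ) =
      (p : ℤ) - 1 := by
  rw [sum_split D.X D.Y D.disj] at hm
  have hX : ∑ χ ∈ D.X, (m χ : ℂ) * dsum P (χ : G → ℂ) =
      ∑ χ ∈ D.X, ((p : ℂ) - 1) * ((D.sg χ : ℂ) * (m χ : ℂ)) := by
    refine Finset.sum_congr rfl fun χ hχ => ?_
    rw [dsum_of_mem_X D hcard hχ]
    ring
  have hY : ∑ χ ∈ D.Y, (m χ : ℂ) * dsum P (χ : G → ℂ) =
      ∑ χ ∈ D.Y, ((D.d0 : ℂ) * (w' : ℂ)) * (m χ : ℂ) := by
    refine Finset.sum_congr rfl fun χ hχ => ?_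
    rw [D.sumY χ hχ]
    ring
  have hR : ∑ χ ∈ (Finset.univ \ D.X) \ D.Y, (m χ : ℂ) * dsum P (χ : G → ℂ) = 0 := by
    refine Finset.sum_eq_zero fun χ hχ => ?_
    rw [Finset.mem_sdiff, Finset.mem_sdiff] at hχ
    rw [dsum_of_not_mem D hcard hχ.1.2 hχ.2, mul_zero]
  rw [hX, hY, hR, add_zero, ← Finset.mul_sum, ← Finset.mul_sum] at hm
  have h2 : ((((p : ℤ) - 1) * ∑ χ ∈ D.X, D.sg χ * (m χ : ℤ) +
      D.d0 * w' * ∑ χ ∈ D.Y, (m χ : ℤ) : ℤ) : ℂ) = (((p : ℤ) - 1 : ℤ) : ℂ) := by
    push_cast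
    exact hm
  exact_mod_cast h2

end Data2

/-! ## Small group-theoretic facts -/

section Grp

omit [Fintype G] [Fintype (IrrCharacter G)] in
/-- a cyclic group has at most one involution -/
theorem invol_unique_of_isCyclic {H : Type*} [Group H] [Finite H] [IsCyclic H] {x y : H}
    (hx : x * x = 1) (hx1 : x ≠ 1) (hy : y * y = 1) (hy1 : y ≠ 1) : x = y := by
  classical
  haveI := Fintype.ofFinite H
  by_contra hne
  have h1 := IsCyclic.card_pow_eq_one_le (α := H) (n := 2) (by norm_num)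
  have hsub : ({1, x, y} : Finset H) ⊆ Finset.univ.filter (fun a : H => a ^ 2 = 1) := by
    intro a ha
    rw [Finset.mem_insert, Finset.mem_insert, Finset.mem_singleton] at ha
    rw [Finset.mem_filter]
    refine ⟨Finset.mem_univ _, ?_⟩
    rcases ha with rfl | rfl | rfl
    · simp
    · rw [pow_two, hx]
    · rw [pow_two, hy]
  have h3 : ({1, x, y} : Finset H).card = 3 := by
    rw [Finset.card_insert_of_notMem, Finset.card_insert_of_notMem, Finset.card_singleton]
    · rw [Finset.mem_singleton]; exact hne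
    · rw [Finset.mem_insert, Finset.mem_singleton]
      rintro (h | h)
      · exact hx1 h.symm
      · exact hy1 h.symm
  have := Finset.card_le_card hsub
  omega

omit [Fintype G] [Fintype (IrrCharacter G)] in
/-- the normalizer of a cyclic subgroup centralizes its involution -/
theorem normalizer_le_centralizer_invol [Finite G] (W : Subgroup G) (hWc : IsCyclic W) {τ : G}
    (hτW : τ ∈ W) (hτ2 : τ * τ = 1) (hτ1 : τ ≠ 1) :
    Subgroup.normalizer (W : Set G) ≤ Subgroup.centralizer ({τ} : Set G) := by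
  intro g hg
  rw [Subgroup.mem_centralizer_iff]
  intro h hh
  rw [Set.mem_singleton_iff] at hh
  subst hh
  have hmem : g * h * g⁻¹ ∈ W := (Subgroup.mem_normalizer_iff.mp hg h).mp hτW
  have hx : (⟨g * h * g⁻¹, hmem⟩ : W) * ⟨g * h * g⁻¹, hmem⟩ = 1 := by
    apply Subtype.ext
    show g * h * g⁻¹ * (g * h * g⁻¹) = 1
    calc g * h * g⁻¹ * (g * h * g⁻¹) = g * (h * h) * g⁻¹ := by group
      _ = 1 := by rw [hτ2]; group
  have hx1 : (⟨g * h * g⁻¹, hmem⟩ : W) ≠ 1 := by
    intro h1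
    have h2 : g * h * g⁻¹ = 1 := congrArg Subtype.val h1
    apply hτ1
    calc h = g⁻¹ * (g * h * g⁻¹) * g := by group
      _ = 1 := by rw [h2]; group
  have hy : (⟨h, hτW⟩ : W) * ⟨h, hτW⟩ = 1 := Subtype.ext hτ2
  have hy1 : (⟨h, hτW⟩ : W) ≠ 1 := fun h1 => hτ1 (congrArg Subtype.val h1)
  have := invol_unique_of_isCyclic hx hx1 hy hy1
  have h3 : g * h * g⁻¹ = h := congrArg Subtype.val this
  calc h * g = (g * h * g⁻¹) * g := by rw [h3]
    _ = g * h := by group

omit [Fintype G] [Fintype (IrrCharacter G)] in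
theorem le_centralizer_of_isCyclic (W : Subgroup G) (hWc : IsCyclic W) {τ : G} (hτW : τ ∈ W) :
    W ≤ Subgroup.centralizer ({τ} : Set G) := by
  intro g hg
  rw [Subgroup.mem_centralizer_iff]
  intro h hh
  rw [Set.mem_singleton_iff] at hh
  subst hh
  have := (isMulCommutative_iff.mp (IsCyclic.commutative (α := W))) ⟨h, hτW⟩ ⟨g, hg⟩
  exact congrArg Subtype.val this

end Grp

/-! ## Degrees and the rank step -/

section Deg

theorem deg_dvd (hcard : Nat.card P = p) (n : ℕ) (hidx : (𝒩).index = 1 + n * p)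
    (χ : IrrCharacter G) : charDegree (χ : G → ℂ) ∣ p * P.relIndex 𝒩 * (1 + n * p) := by
  have := charDegree_dvd_card χ.2
  rwa [card_eq p P hcard, hidx] at this

theorem deg_sq (hcard : Nat.card P = p) (n : ℕ) (hidx : (𝒩).index = 1 + n * p) :
    ∑ χ : IrrCharacter G, charDegree (χ : G → ℂ) ^ 2 = p * P.relIndex 𝒩 * (1 + n * p) := by
  rw [sum_charDegree_sq, card_eq p P hcard, hidx]

theorem rank_step (hcard : Nat.card P = p) (hcent : Subgroup.centralizer (P : Set G) ≤ P)
    (hw2 : 2 ≤ P.relIndex 𝒩) (n : ℕ) (hn1 : 1 ≤ n) (hidx : (𝒩).index = 1 + n * p)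
    (m : IrrCharacter G → ℕ)
    (hinner : classInner (permN P) (permN P) = ∑ χ : IrrCharacter G, (m χ : ℂ) ^ 2)
    (hsum : ∑ χ : IrrCharacter G, m χ ^ 2 = n + 1) :
    ∃ W : Subgroup G, W ≤ 𝒩 ∧ Nat.card W = P.relIndex 𝒩 ∧ W ⊓ P = ⊥ ∧ IsCyclic W ∧
      Nat.card (Subgroup.normalizer (W : Set G)) = P.relIndex 𝒩 * (n + 1) := by
  have hrank : classInner (permN P) (permN P) = ((n : ℂ) + 1) := by
    rw [hinner]
    have : ((∑ χ : IrrCharacter G, m χ ^ 2 : ℕ) : ℂ) = ((n + 1 : ℕ) : ℂ) := by rw [hsum]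
    push_cast at this
    exact this
  exact exists_compl_normalizer p P hcard hcent hw2 n hn1 hidx
    (card_inf_conj_of_rank p P hcard hcent n hidx hrank)

theorem dvd_step (hcard : Nat.card P = p) (n : ℕ) (hidx : (𝒩).index = 1 + n * p) (hn : n + 1 < p)
    (hw1 : 1 ≤ P.relIndex 𝒩) (W : Subgroup G)
    (hNW : Nat.card (Subgroup.normalizer (W : Set G)) = P.relIndex 𝒩 * (n + 1)) :
    n + 1 ∣ p - 1 := by
  have h1 : Nat.card (Subgroup.normalizer (W : Set G)) ∣ Nat.card G :=
    Subgroup.card_subgroup_dvd_card _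
  rw [hNW, card_eq p P hcard, hidx] at h1
  exact num_dvd (Fact.out : p.Prime) hw1 hn h1

end Deg

/-! ## The main argument, `t ≥ 2` -/

/-- the conclusion of S0996 -/
def Concl (G : Type u) [Group G] (p : ℕ) : Prop :=
  (∃ (F : Type) (_ : Field F) (_ : Fintype F), Fintype.card F = p ∧ 3 < p ∧
      Nonempty (G ≃* Matrix.ProjectiveSpecialLinearGroup (Fin 2) F)) ∨
    (∃ (m : ℕ) (F : Type) (_ : Field F) (_ : Fintype F), Fintype.card F = 2 ^ m ∧ p = 2 ^ m + 1 ∧
      3 < p ∧ Nonempty (G ≃* Matrix.ProjectiveSpecialLinearGroup (Fin 2) F))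

section Main

open Classical in
theorem main_t2 (hperf : commutator G = ⊤) (hcard : Nat.card P = p)
    (hcent : Subgroup.centralizer (P : Set G) ≤ P) (n : ℕ) (hidx : (𝒩).index = 1 + n * p)
    (hn : 2 * n ≤ p + 1) (hn1 : 1 ≤ n) (w t : ℕ) (hw : P.relIndex 𝒩 = w) (hp : p = w * t + 1)
    (hw2 : 2 ≤ w) (ht : 2 ≤ t) (D : BrauerData p P w t) : Concl G p := by
  obtain ⟨a, ha, hwX, hwY, hwD⟩ := weights D hcard
  have hpZ : (p : ℤ) = w * t + 1 := by exact_mod_cast hp
  have hwt : 2 * w ≤ w * t := by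
    calc 2 * w = w * 2 := by ring
      _ ≤ w * t := Nat.mul_le_mul_left w ht
  have hp5 : 5 ≤ p := by omega
  -- the principal character is in `X`
  have hYone : principalChar G ∉ D.Y := by
    intro hY
    have h1 := hwY _ hY
    rw [charDegree_principal] at h1
    have hwtZ : (2 : ℤ) * w ≤ w * t := by exact_mod_cast hwt
    have hw2Z : (2 : ℤ) ≤ w := by exact_mod_cast hw2
    have ha0 : (0 : ℤ) ≤ a (principalChar G) := by positivity
    have hp0 : (0 : ℤ) ≤ p := by positivity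
    push_cast at h1
    rcases D.d0_pm with h | h
    · rw [h] at h1
      rcases Nat.eq_zero_or_pos (a (principalChar G)) with h0 | h0
      · rw [h0] at h1
        push_cast at h1
        omega
      · have : (1 : ℤ) ≤ a (principalChar G) := by exact_mod_cast h0
        have hpa : (p : ℤ) * 1 ≤ p * a (principalChar G) := mul_le_mul_of_nonneg_left this hp0
        linarith
    · rw [h] at h1
      have hpa : (0 : ℤ) ≤ p * a (principalChar G) := mul_nonneg hp0 ha0
      linarith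
  obtain ⟨hone, hsg1⟩ := principal_mem D hcard hYone
  have hdeg1 := charDegree_principal (G := G)
  have hYdeg : ∀ i ∈ D.Y, ∀ j ∈ D.Y, charDegree (i : G → ℂ) = charDegree (j : G → ℂ) := by
    intro i hi j hj
    have h1 : ¬ p ∣ orderOf (1 : G) := by
      rw [orderOf_one]
      exact fun h => (Fact.out : p.Prime).one_lt.not_ge (Nat.le_of_dvd one_pos h)
    have := D.regY i hi j hj 1 h1
    rw [irr_one_eq_charDegree i.2, irr_one_eq_charDegree j.2] at this
    exact_mod_cast this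
  have hdvd : ∀ i : IrrCharacter G, charDegree (i : G → ℂ) ∣ p * w * (1 + n * p) := by
    intro i
    have := deg_dvd p P hcard n hidx i
    rwa [hw] at this
  have hsq : ∑ i : IrrCharacter G, charDegree (i : G → ℂ) ^ 2 = p * w * (1 + n * p) := by
    rw [deg_sq p P hcard n hidx, hw]
  have hnorm : ∑ i : IrrCharacter G, a i ^ 2 = w * (n + 1) := by
    rw [norm_identity p P hcard hcent a ha n hidx, hw]
  obtain ⟨e, u0, he, hplus, hminus, hYa, hK, hcases⟩ :=
    num_core (fun χ : IrrCharacter G => charDegree (χ : G → ℂ)) a D.X D.Y D.sg D.d0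
      (principalChar G) p w t n hp hw2 ht hn1 hn D.disj D.cardX D.cardY D.sg_pm D.d0_pm hone hsg1
      hdeg1 (fun χ h => eq_principal_of_degree_one hperf χ h) (fun χ => charDegree_pos χ.2)
      hwX hwY hwD hYdeg hdvd hsq (degeq D hcard) hnorm
  -- the permutation character
  obtain ⟨m, hm, hma, hm1, hmdeg, hmdsum, hmwt, hinner⟩ := perm_mult hcard hcent n hidx a ha
  have hmdef := perm_def D hcard m hmdsum
  have ha1 : a (principalChar G) = 1 := by
    have h1 := hwX _ hone
    rw [hsg1, hdeg1] at h1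
    have hp0 : (p : ℤ) ≠ 0 := by omega
    have h2 : (p : ℤ) * a (principalChar G) = (p : ℤ) * 1 := by
      rw [h1]; push_cast; ring
    exact_mod_cast mul_left_cancel₀ hp0 h2
  obtain ⟨hmD, hm0, hmsq⟩ :=
    num_perm (fun χ : IrrCharacter G => charDegree (χ : G → ℂ)) a m D.X D.Y D.sg D.d0
      (principalChar G) p w n (by omega) (by omega) D.disj D.d0_pm hone hsg1 ha1 hdeg1 D.sg_pm
      (fun i hi h1 h2 => (hplus i hi h1 h2).1) (fun i hi h => (hminus i hi h).2) hK hm1 hma
      hmdeg hmdef hmwt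
  obtain ⟨W, hWN, hWcard, hWP, hWc, hNW⟩ :=
    rank_step p P hcard hcent (by omega) n hn1 hidx m hinner hmsq
  have hnp : n + 1 < p := by omega
  have hdvd1 : n + 1 ∣ p - 1 := dvd_step p P hcard n hidx hnp (by omega) W hNW
  have hp1 : p - 1 = w * t := by omega
  have hYne : D.Y.Nonempty := by
    rw [← Finset.card_pos, D.cardY]; omega
  obtain ⟨θ, hθ⟩ := hYne
  have hθone : θ ≠ principalChar G := by
    intro h
    rw [h] at hθ
    exact hYone hθ
  -- the ending `n = 1` (used twice)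
  have endN1 : n = 1 → Concl G p := by
    intro hn1'
    subst hn1'
    left
    refine endF p P hcard hcent hperf (by rw [hidx, one_mul]) ?_
    rw [hw, hp1]
    calc w = w * 1 := (mul_one w).symm
      _ < w * t := Nat.mul_lt_mul_of_pos_left (by omega) (by omega)
  rcases hcases with ⟨hd0, hnt, hwe⟩ | ⟨hd0, hu0, hwe⟩
  swap
  · -- `δ₀ = -1`
    have hdegθ : charDegree (θ : G → ℂ) = w := by
      have := (hYa θ hθ).2
      rw [hd0, hu0] at this
      push_cast at this
      have h2 : (charDegree (θ : G → ℂ) : ℤ) = (w : ℤ) := by rw [this]; ring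
      exact_mod_cast h2
    have hge := degree_ge_of_ne_principal p P hcard hcent hperf n hidx hn1 hn θ hθone
    rw [hdegθ] at hge
    have ht2 : t = 2 := by
      have h1 : w * t ≤ w * 2 := by omega
      have := Nat.le_of_mul_le_mul_left h1 (by omega : 0 < w)
      omega
    subst ht2
    apply endN1
    -- `(n+1) ∣ 2 w = 2 + 2 e (n+1)`
    have h1 : n + 1 ∣ 2 + 2 * e * (n + 1) := by
      have : w * 2 = 2 + 2 * e * (n + 1) := by rw [hwe]; ring
      rw [← this, ← hp1]
      exact hdvd1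
    have h2 : n + 1 ∣ 2 := by
      have h3 : n + 1 ∣ 2 * e * (n + 1) := Dvd.intro_left _ rfl
      exact (Nat.dvd_add_left h3).mp h1
    have := Nat.le_of_dvd (by norm_num) h2
    omega
  · -- `δ₀ = +1`
    have hu0 : u0 = 1 := num_u0 hp (by omega) hnt hwe (by rw [← hp1]; exact hdvd1)
    subst hu0
    have htn : t = n + 1 := by omega
    have hwe' : w = 2 + e * t := by rw [htn]; omega
    have haY : ∀ i ∈ D.Y, a i = 1 := fun i hi => (hYa i hi).1
    have hYdeg' : ∀ i ∈ D.Y, charDegree (i : G → ℂ) + w = p := by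
      intro i hi
      have := (hYa i hi).2
      rw [hd0] at this
      push_cast at this
      have h2 : ((charDegree (i : G → ℂ) + w : ℕ) : ℤ) = (p : ℤ) := by
        push_cast; rw [this]; ring
      exact_mod_cast h2
    have hA : ∀ θ ∈ D.Y, Aw P (θ : G → ℂ) = 1 := by
      intro i hi
      rw [ha i, haY i hi, Nat.cast_one]
    have hπ : ∀ θ ∈ D.Y, classInner (θ : G → ℂ) (permN P) = 0 := by
      intro i hi
      have hne : i ≠ principalChar G := by
        intro h
        rw [h] at hi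
        exact hYone hi
      rw [hm i, hm0 i (Finset.mem_union_right _ hi) hne, Nat.cast_zero]
    obtain ⟨hweven, hmu⟩ := mustar p P hcard hcent w t hw hp ht D hA hπ
    -- the involution of `W`
    haveI : Finite W := inferInstance
    have h2dvd : 2 ∣ Nat.card W := by
      rw [hWcard, hw]; exact even_iff_two_dvd.mp hweven
    obtain ⟨τ0, hτ0⟩ := exists_prime_orderOf_dvd_card' 2 h2dvd
    have hτW : (τ0 : G) ∈ W := τ0.2
    have hτ2 : (τ0 : G) * (τ0 : G) = 1 := by
      have : τ0 ^ 2 = 1 := by rw [← hτ0]; exact pow_orderOf_eq_one τ0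
      have h2 := congrArg Subtype.val this
      rw [pow_two] at h2
      exact h2
    have hτ1 : (τ0 : G) ≠ 1 := by
      intro h
      have : τ0 = 1 := Subtype.ext h
      rw [this, orderOf_one] at hτ0
      omega
    have hτN : (τ0 : G) ∈ 𝒩 := hWN hτW
    have hτP : (τ0 : G) ∉ P := by
      intro h
      have : (τ0 : G) ∈ W ⊓ P := ⟨hτW, h⟩
      rw [hWP, Subgroup.mem_bot] at this
      exact hτ1 this
    obtain ⟨ε, hε, hεY⟩ := hmu (τ0 : G) hτN hτP hτ2
    set τ : G := (τ0 : G) with hτdef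
    -- the centralizer of `τ`
    have hNC : Subgroup.normalizer (W : Set G) ≤ Subgroup.centralizer ({τ} : Set G) :=
      normalizer_le_centralizer_invol W hWc hτW hτ2 hτ1
    have hWle : W ≤ Subgroup.centralizer ({τ} : Set G) := le_centralizer_of_isCyclic W hWc hτW
    have hc_ge : w * t ≤ Nat.card (Subgroup.centralizer ({τ} : Set G)) := by
      have := Subgroup.card_le_of_le hNC
      rw [hNW, hw, ← htn] at this
      exact this
    -- the values at `τ`
    have hv0 : ∀ χ : IrrCharacter G, ∃ v : ℤ, (χ : G → ℂ) τ = (v : ℂ) ∧ |v| ≤ (a χ : ℤ) :=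
      fun χ => val_invol p P hcard hcent (isCharacter_of_isIrrCharacter χ.2) (a χ) (ha χ) hτN hτP hτ2
    choose v hv hvabs using hv0
    have hv1 : v (principalChar G) = 1 := by
      have h : (1 : ℂ) = (v (principalChar G) : ℂ) := hv (principalChar G)
      exact_mod_cast h.symm
    have hvplus : ∀ i ∈ D.X, i ≠ principalChar G → D.sg i = 1 → |v i| ≤ t := by
      intro i hi h1 h2
      have := hvabs i
      rw [(hplus i hi h1 h2).2] at this
      rw [htn]
      exact_mod_cast this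
    have hvminus : ∀ i ∈ D.X, D.sg i = -1 → v i = 0 := by
      intro i hi h
      have := hvabs i
      rw [(hminus i hi h).2] at this
      exact abs_eq_zero.mp (le_antisymm (by exact_mod_cast this) (abs_nonneg _))
    have hvY : ∀ i ∈ D.Y, v i = ε := by
      intro i hi
      have := (hv i).symm.trans (hεY i hi)
      exact_mod_cast this
    have hvD : ∀ i, i ∉ D.X → i ∉ D.Y → v i = a i := by
      intro i hi hi'
      have h1 : classInner (i : G → ℂ) (permN P) = Aw P (i : G → ℂ) := by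
        rw [hm i, ha i, hmD i hi hi']
      have h2 := val_of_inner_eq p P hcard hcent (isCharacter_of_isIrrCharacter i.2) h1 hτN hτP
      rw [hv i, ha i] at h2
      exact_mod_cast h2
    have hcc : ∑ i, v i ^ 2 = (Nat.card (Subgroup.centralizer ({τ} : Set G)) : ℤ) := by
      have h1 := second_orthogonality' τ τ
      rw [if_pos (IsConj.refl τ)] at h1
      have h2 : ∑ χ : IrrCharacter G, (χ : G → ℂ) τ * conj ((χ : G → ℂ) τ) =
          ((∑ i, v i ^ 2 : ℤ) : ℂ) := by
        push_cast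
        refine Finset.sum_congr rfl fun χ _ => ?_
        rw [hv χ, map_intCast, pow_two]
      rw [h2] at h1
      exact_mod_cast h1
    have horth : ∑ i : IrrCharacter G, v i * (charDegree (i : G → ℂ) : ℤ) = 0 := by
      have h1 := second_orthogonality' τ (1 : G)
      rw [if_neg (by rw [isConj_one_right]; exact hτ1)] at h1
      have h2 : ∑ χ : IrrCharacter G, (χ : G → ℂ) τ * conj ((χ : G → ℂ) 1) =
          ((∑ i : IrrCharacter G, v i * (charDegree (i : G → ℂ) : ℤ) : ℤ) : ℂ) := by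
        push_cast
        refine Finset.sum_congr rfl fun χ _ => ?_
        rw [hv χ, irr_one_eq_charDegree χ.2, Complex.conj_natCast]
      rw [h2] at h1
      exact_mod_cast h1
    have hwD' : ∀ i : IrrCharacter G, i ∉ D.X → i ∉ D.Y →
        charDegree (i : G → ℂ) = p * a i ∧ 0 < a i := by
      intro i hi hi'
      have h1 := hwD i hi hi'
      have h2 : charDegree (i : G → ℂ) = p * a i := by exact_mod_cast h1.symm
      refine ⟨h2, ?_⟩
      have := charDegree_pos i.2
      rw [h2] at this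
      rcases Nat.eq_zero_or_pos (a i) with h0 | h0
      · rw [h0, mul_zero] at this; omega
      · exact h0
    obtain ⟨hc_eq, hor⟩ :=
      num_tau (fun χ : IrrCharacter G => charDegree (χ : G → ℂ)) a v D.X D.Y D.sg
        (principalChar G) p w t n e (Nat.card (Subgroup.centralizer ({τ} : Set G))) ε hp hw2 ht htn
        hwe' D.disj D.cardY D.sg_pm hone hsg1 hdeg1 he hplus hYdeg' hwD' hK hv1 hvplus hvminus hε
        hvY hvD hcc hc_ge horth
    by_cases ht2 : t = 2
    · exact endN1 (by omega)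
    have ht3 : 3 ≤ t := by omega
    have hcce := hor.resolve_left ht2
    -- the class multiplication constant
    have hG : Nat.card G = p * w * (1 + n * p) := by rw [card_eq p P hcard, hw, hidx]
    have hcount : Nat.card {d : G × G // (d.1 * τ * d.1⁻¹) * (d.2 * τ * d.2⁻¹) = τ} =
        (w * t - w) * (w * t) ^ 2 := by
      have hcc1 := class_const τ τ τ
      have hsumC : ∑ χ : IrrCharacter G,
          (χ : G → ℂ) τ * (χ : G → ℂ) τ * conj ((χ : G → ℂ) τ) / (χ : G → ℂ) 1 =
          ((∑ i : IrrCharacter G, (v i : ℚ) ^ 3 / (charDegree (i : G → ℂ) : ℚ) : ℚ) : ℂ) := by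
        push_cast
        refine Finset.sum_congr rfl fun χ _ => ?_
        rw [hv χ, map_intCast, irr_one_eq_charDegree χ.2]
        ring
      rw [hsumC, hG] at hcc1
      have h3 : ((Nat.card {d : G × G // (d.1 * τ * d.1⁻¹) * (d.2 * τ * d.2⁻¹) = τ} : ℚ) : ℂ) =
          (((p * w * (1 + n * p) : ℚ) *
            ∑ i : IrrCharacter G, (v i : ℚ) ^ 3 / (charDegree (i : G → ℂ) : ℚ) : ℚ) : ℂ) := by
        push_cast
        push_cast at hcc1
        exact hcc1
      have h4 := Rat.cast_injective h3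
      rw [hcce] at h4
      have h5 : (Nat.card {d : G × G // (d.1 * τ * d.1⁻¹) * (d.2 * τ * d.2⁻¹) = τ} : ℚ) =
          (((w * t - w) * (w * t) ^ 2 : ℕ) : ℚ) := by
        rw [h4]
        have : w ≤ w * t := by nlinarith
        push_cast [Nat.cast_sub this]
        ring
      exact_mod_cast h5
    have hWcard' : Nat.card W = w := hWcard.trans hw
    have hinv := invol_of_count τ hτ2 hτ1 W hWc hτW hWle (w * t) w hc_eq hWcard' hcount
    by_cases hw2' : w = 2
    · -- `w = 2`: S1230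
      right
      have het : e * t = 0 := by omega
      have hn' : 2 * n + 3 = p := by
        rw [hp, hw2', htn]; ring
      have hc' : Nat.card (Subgroup.centralizer ({τ} : Set G)) = p - 1 := by
        rw [hc_eq, hp1]
      refine endE p P hcard hcent hp5 n hidx (hw.trans hw2') hn' τ hτ2 hτ1 hc' ?_
      intro x hx hx1
      by_cases hxW : x ∈ W
      · have hxx : (⟨x, hxW⟩ : W) ^ 2 = 1 := by
          have := pow_card_eq_one' (G := W) (x := ⟨x, hxW⟩)
          rwa [hWcard', hw2'] at this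
        have hxx' : (⟨x, hxW⟩ : W) * ⟨x, hxW⟩ = 1 := by rw [← pow_two]; exact hxx
        have hx1' : (⟨x, hxW⟩ : W) ≠ 1 := fun h => hx1 (congrArg Subtype.val h)
        have hτ0' : τ0 * τ0 = 1 := Subtype.ext hτ2
        have hτ01 : τ0 ≠ 1 := fun h => hτ1 (congrArg Subtype.val h)
        have := invol_unique_of_isCyclic hxx' hx1' hτ0' hτ01
        have hxτ : x = τ := congrArg Subtype.val this
        rw [hxτ]
        exact ⟨hτ2, IsConj.refl τ⟩
      · exact hinv x hx hxW
    · -- `w ≥ 3`, `t ≥ 3`: impossible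
      exfalso
      refine endD_false (Subgroup.centralizer ({τ} : Set G)) W hWle hWc (by rw [hWcard']; omega) ?_
        (fun x hx hxW => (hinv x hx hxW).1)
      rw [hWcard', hc_eq]
      calc 3 * w = w * 3 := by ring
        _ ≤ w * t := Nat.mul_le_mul_left w ht3

open Classical in
theorem main_t1 (hperf : commutator G = ⊤) (hcard : Nat.card P = p)
    (hcent : Subgroup.centralizer (P : Set G) ≤ P) (n : ℕ) (hidx : (𝒩).index = 1 + n * p)
    (hn : 2 * n ≤ p + 1) (hn1 : 1 ≤ n) (hw : P.relIndex 𝒩 = p - 1) (hp3 : 3 ≤ p)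
    (D0 : BrauerData p P (p - 1) 1) : False := by
  obtain ⟨D⟩ := merge_t1 p P hcard hcent hw D0
  have hY0 : D.Y = ∅ := Finset.card_eq_zero.mp D.cardY
  obtain ⟨a, ha, hwX, hwY, hwD⟩ := weights D hcard
  have hYone : principalChar G ∉ D.Y := by rw [hY0]; exact Finset.notMem_empty _
  obtain ⟨hone, hsg1⟩ := principal_mem D hcard hYone
  have hdeg1 := charDegree_principal (G := G)
  have hwD' : ∀ i : IrrCharacter G, i ∉ D.X → (p : ℤ) * a i = charDegree (i : G → ℂ) :=
    fun i hi => hwD i hi (by rw [hY0]; exact Finset.notMem_empty _)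
  have hdvd : ∀ i : IrrCharacter G, charDegree (i : G → ℂ) ∣ p * (p - 1) * (1 + n * p) := by
    intro i
    have := deg_dvd p P hcard n hidx i
    rwa [hw] at this
  have hnorm : ∑ i : IrrCharacter G, a i ^ 2 = (p - 1) * (n + 1) := by
    rw [norm_identity p P hcard hcent a ha n hidx, hw]
  have hdegeq : ∑ i ∈ D.X, D.sg i * (charDegree (i : G → ℂ) : ℤ) = 0 := by
    have h1 := degeq D hcard
    rw [hY0, Finset.sum_empty, mul_zero, add_zero] at h1
    have hp1 : (p : ℤ) - 1 ≠ 0 := by omega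
    exact (mul_eq_zero.mp h1).resolve_left hp1
  obtain ⟨e, he, hplus, hminus, hK⟩ :=
    num_t1 (fun χ : IrrCharacter G => charDegree (χ : G → ℂ)) a D.X D.sg (principalChar G) p n hp3
      hn1 hn D.cardX D.sg_pm hone hsg1 hdeg1 (fun χ h => eq_principal_of_degree_one hperf χ h)
      (fun χ => charDegree_pos χ.2) hwX hwD' hdvd hdegeq hnorm
  -- the permutation character
  obtain ⟨m, hm, hma, hm1, hmdeg, hmdsum, hmwt, hinner⟩ := perm_mult hcard hcent n hidx a ha
  have hmdef := perm_def D hcard m hmdsum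
  have ha1 : a (principalChar G) = 1 := by
    have h1 := hwX _ hone
    rw [hsg1, hdeg1] at h1
    have hp0 : (p : ℤ) ≠ 0 := by omega
    have h2 : (p : ℤ) * a (principalChar G) = (p : ℤ) * 1 := by
      rw [h1]; push_cast; ring
    exact_mod_cast mul_left_cancel₀ hp0 h2
  have hK' : ∑ i ∈ (Finset.univ \ D.X) \ D.Y, a i ^ 2 = n := by
    rw [hY0, Finset.sdiff_empty]; exact hK
  obtain ⟨hmD, hm0, hmsq⟩ :=
    num_perm (fun χ : IrrCharacter G => charDegree (χ : G → ℂ)) a m D.X D.Y D.sg D.d0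
      (principalChar G) p p n (by omega) (by omega) D.disj D.d0_pm hone hsg1 ha1 hdeg1 D.sg_pm
      (fun i hi h1 h2 => (hplus i hi h1 h2).1) hminus hK' hm1 hma hmdeg hmdef hmwt
  obtain ⟨W, hWN, hWcard, hWP, hWc, hNW⟩ :=
    rank_step p P hcard hcent (by omega) n hn1 hidx m hinner hmsq
  -- `p = 3` is impossible
  have hp4 : 4 ≤ p := by
    rcases Nat.lt_or_ge p 4 with h | h
    · exfalso
      have hp3' : p = 3 := by omega
      rw [hp3'] at he
      have h1 : e * (n + 1) = 1 := by omega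
      have h2 : n + 1 = 1 := Nat.eq_one_of_mul_eq_one_left h1
      omega
    · exact h
  have hnp : n + 1 < p := by omega
  have hdvd1 : n + 1 ∣ p - 1 := dvd_step p P hcard n hidx hnp (by omega) W hNW
  have h2 : n + 1 ∣ p - 2 := ⟨e, by rw [← he]; simp [mul_comm]⟩
  have h3 : n + 1 ∣ (p - 1) - (p - 2) := Nat.dvd_sub hdvd1 h2
  have h4 : (p - 1) - (p - 2) = 1 := by omega
  rw [h4] at h3
  have := Nat.le_of_dvd one_pos h3
  omega

end Main

section Final

theorem main (hperf : commutator G = ⊤) (hcard : Nat.card P = p)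
    (hcent : Subgroup.centralizer (P : Set G) ≤ P) (n : ℕ) (hidx : (𝒩).index = 1 + n * p)
    (hn : 2 * n ≤ p + 1) : Concl G p := by
  have hw2 := two_le_relIndex p P hcard hcent hperf
  have hwdvd := relIndex_dvd p P hcard hcent
  have hn1 : 1 ≤ n := by
    rcases Nat.eq_zero_or_pos n with h | h
    · exfalso
      apply index_ne_one p P hcard hcent hperf
      rw [hidx, h]
      simp
    · exact h
  have hp2' : 2 ≤ p := two_le_p
  have hp3 : 3 ≤ p := by
    have := Nat.le_of_dvd (by omega) hwdvd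
    omega
  obtain ⟨D⟩ := exists_brauerData p P (by omega) hcard hcent
  obtain ⟨w, hw⟩ : ∃ w, P.relIndex 𝒩 = w := ⟨_, rfl⟩
  rw [hw] at D hw2 hwdvd
  obtain ⟨t, ht⟩ := hwdvd
  have hdiv : (p - 1) / w = t := by
    rw [ht]
    exact Nat.mul_div_cancel_left t (by omega)
  rw [hdiv] at D
  have hp : p = w * t + 1 := by omega
  have ht1 : 1 ≤ t := by
    rcases Nat.eq_zero_or_pos t with h | h
    · rw [h] at hp; omega
    · exact h
  by_cases h : t = 1
  · exfalso
    subst h
    have hw' : w = p - 1 := by omega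
    rw [hw'] at D hw
    exact main_t1 p P hperf hcard hcent n hidx hn hn1 hw hp3 D
  · exact main_t2 p P hperf hcard hcent n hidx hn hn1 w t hw hp hw2 (by omega) D

end Final

end Cfsg.Agent.Helper10.BR996.Asm
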