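import Mathlib
import Cfsg.Agent.Lib.Helper10.Fusion

set_option autoImplicit false

namespace Cfsg.Agent.Helper10

variable {G : Type*} [Group G]

theorem card_mul_relIndex_eq {E L : Subgroup G} (h : E ≤ L) : Nat.card E * E.relIndex L = Nat.card L := by
  have := Subgroup.relIndex_mul_relIndex ⊥ E L bot_le h
  rwa [Subgroup.relIndex_bot_left, Subgroup.relIndex_bot_left] at this

/-- a `p`-subgroup of `K` lies in a `p`-subgroup of `K` of index prime to `p` in `K` -/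
theorem exists_relSylow_ge [Finite G] {p : ℕ} [Fact p.Prime] (K H : Subgroup G) (hHK : H ≤ K)
    (hH : IsPGroup p H) : ∃ R : Subgroup G, H ≤ R ∧ R ≤ K ∧ IsPGroup p R ∧ ¬ p ∣ R.relIndex K := by
  have hQ : IsPGroup p (H.subgroupOf K) := hH.comap_subtype
  obtain ⟨R1, hR1⟩ := hQ.exists_le_sylow
  refine ⟨(R1 : Subgroup K).map K.subtype, ?_, ?_, R1.isPGroup'.map _, ?_⟩
  · intro y hy
    exact ⟨⟨y, hHK hy⟩, hR1 (by rw [Subgroup.mem_subgroupOf]; exact hy), rfl⟩
  · rintro _ ⟨y, -, rfl⟩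
    exact y.2
  · have : ((R1 : Subgroup K).map K.subtype).relIndex K = (R1 : Subgroup K).index := by
      rw [Subgroup.relIndex, Subgroup.subgroupOf,
        Subgroup.comap_map_eq_self_of_injective K.subtype_injective]
    rw [this]
    exact R1.not_dvd_index

/-- the intersection of a Sylow subgroup with a normal subgroup is a Sylow subgroup of it -/
theorem inf_normal_relSylow [Finite G] {p : ℕ} [Fact p.Prime] (P K : Subgroup G) [hK : K.Normal]
    (hP : IsPGroup p P) (hPidx : ¬ p ∣ P.index) : ¬ p ∣ (P ⊓ K).relIndex K := by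
  obtain ⟨R, hHR, hRK, hRp, hRidx⟩ := exists_relSylow_ge K (P ⊓ K) inf_le_right (hP.to_le inf_le_left)
  obtain ⟨c, -, hc⟩ := conj_into_relSylow (⊤ : Subgroup G) P R le_top hP
    (by rwa [Subgroup.relIndex_top_right]) le_top hRp
  have hcK : rcg c R ≤ K := by
    intro y hy
    rw [mem_rcg] at hy
    have := hK.conj_mem _ (hRK hy) c⁻¹
    have e : c⁻¹ * (c * y * c⁻¹) * c⁻¹⁻¹ = y := by group
    rwa [e] at this
  have hle : rcg c R ≤ P ⊓ K := le_inf hc hcK
  have hcard : Nat.card R ≤ Nat.card ↥(P ⊓ K) := by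
    rw [← card_rcg c R]; exact Subgroup.card_le_of_le hle
  have : P ⊓ K = R := Subgroup.eq_of_le_of_card_ge hHR hcard
  rw [this]; exact hRidx

/-- the Frattini argument, elementwise -/
theorem frattini_elt [Finite G] {p : ℕ} [Fact p.Prime] (K H : Subgroup G) [hK : K.Normal]
    (hHK : H ≤ K) (hH : IsPGroup p H) (hidx : ¬ p ∣ H.relIndex K) (g : G) :
    ∃ c ∈ K, g * c ∈ Subgroup.normalizer (H : Set G) := by
  have hgK : rcg g H ≤ K := by
    intro y hy
    rw [mem_rcg] at hy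
    have := hK.conj_mem _ (hHK hy) g⁻¹
    have e : g⁻¹ * (g * y * g⁻¹) * g⁻¹⁻¹ = y := by group
    rwa [e] at this
  obtain ⟨c, hcK, hc⟩ := conj_into_relSylow K H (rcg g H) hHK hH hidx hgK (isPGroup_rcg g hH)
  refine ⟨c, hcK, ?_⟩
  rw [mem_normalizer_iff_rcg, rcg_mul]
  exact rcg_eq_of_le_of_finite_aux hc
where
  rcg_eq_of_le_of_finite_aux {c g : G} {H : Subgroup G} (h : rcg c (rcg g H) ≤ H) :
      rcg c (rcg g H) = H := by
    apply Subgroup.eq_of_le_of_card_ge h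
    rw [card_rcg, card_rcg]

/-- conjugacy of complements, for cyclic `p`-subgroups: if `y' ∈ yE` with `E` a normal `p'`-subgroup
and `y, y'` `p`-elements, then `y'` is conjugate to `y` by an element of `E` -/
theorem conj_complement [Finite G] {p : ℕ} [hp : Fact p.Prime] (E : Subgroup G) [hE : E.Normal]
    (hEc : (Nat.card E).Coprime p) (y y' : G) (hy : ∃ k : ℕ, orderOf y = p ^ k)
    (hy' : ∃ k : ℕ, orderOf y' = p ^ k) (hyy' : y⁻¹ * y' ∈ E) :
    ∃ e ∈ E, e⁻¹ * y' * e = y := by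
  set Y := Subgroup.zpowers y with hY
  set Y' := Subgroup.zpowers y' with hY'
  have hYp : IsPGroup p Y := by
    obtain ⟨k, hk⟩ := hy
    apply IsPGroup.of_card (n := k)
    rw [Nat.card_zpowers, hk]
  have hY'p : IsPGroup p Y' := by
    obtain ⟨k, hk⟩ := hy'
    apply IsPGroup.of_card (n := k)
    rw [Nat.card_zpowers, hk]
  set L := E ⊔ Y with hL
  have hYL : Y ≤ L := le_sup_right
  have hEL : E ≤ L := le_sup_left
  have hy'L : y' ∈ L := by
    have : y' = y * (y⁻¹ * y') := by group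
    rw [this]
    exact L.mul_mem (hYL (Subgroup.mem_zpowers y)) (hEL hyy')
  have hY'L : Y' ≤ L := by rw [hY', Subgroup.zpowers_le]; exact hy'L
  have hdisj : Disjoint E Y := by
    apply Subgroup.disjoint_of_coprime_natCard
    obtain ⟨k, hk⟩ := hYp.exists_card_eq
    rw [hk]; exact Nat.Coprime.pow_right k hEc
  -- index of `Y` in `L`
  have h1 : E.relIndex L = Nat.card Y := by
    rw [hL, sup_comm, Subgroup.relIndex_sup_right, Subgroup.relIndex,
      Subgroup.subgroupOf_eq_bot.mpr hdisj, Subgroup.index_bot]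
  have h2 : Nat.card E * Nat.card Y = Nat.card L := by rw [← h1]; exact card_mul_relIndex_eq hEL
  have h3 : Nat.card Y * Y.relIndex L = Nat.card L := card_mul_relIndex_eq hYL
  have h4 : Y.relIndex L = Nat.card E := by
    have hpos : 0 < Nat.card Y := Nat.card_pos
    apply Nat.eq_of_mul_eq_mul_left hpos
    rw [h3, ← h2, mul_comm]
  have hidx : ¬ p ∣ Y.relIndex L := by
    rw [h4]
    intro hd
    exact hp.out.ne_one (Nat.Coprime.eq_one_of_dvd hEc.symm hd)
  obtain ⟨c, hcL, hc⟩ := conj_into_relSylow L Y Y' hYL hYp hidx hY'L hY'p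
  -- decompose `c`
  have hc' : c ∈ ((E ⊔ Y : Subgroup G) : Set G) := hcL
  rw [Subgroup.normal_mul] at hc'
  obtain ⟨e, he, u, hu, heu⟩ := Set.mem_mul.mp hc'
  refine ⟨e, he, ?_⟩
  -- `w = e⁻¹ y' e ∈ Y`
  have hw : e⁻¹ * y' * e ∈ Y := by
    have h5 : u⁻¹ * (e⁻¹ * y' * e) * u ∈ Y := by
      apply hc
      rw [mem_rcg, ← heu]
      have e1 : e * u * (u⁻¹ * (e⁻¹ * y' * e) * u) * (e * u)⁻¹ = y' := by group
      rw [e1]; exact Subgroup.mem_zpowers y'
    have e2 : e⁻¹ * y' * e = u * (u⁻¹ * (e⁻¹ * y' * e) * u) * u⁻¹ := by group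
    rw [e2]
    exact Y.mul_mem (Y.mul_mem hu h5) (Y.inv_mem hu)
  have hwE : y⁻¹ * (e⁻¹ * y' * e) ∈ E := by
    have h6 : y'⁻¹ * e⁻¹ * y'⁻¹⁻¹ ∈ E := hE.conj_mem _ (E.inv_mem he) y'⁻¹
    have e3 : y⁻¹ * (e⁻¹ * y' * e) = (y⁻¹ * y') * (y'⁻¹ * e⁻¹ * y'⁻¹⁻¹) * e := by group
    rw [e3]
    exact E.mul_mem (E.mul_mem hyy' h6) he
  have hwY : y⁻¹ * (e⁻¹ * y' * e) ∈ Y := Y.mul_mem (Y.inv_mem (Subgroup.mem_zpowers y)) hw
  have h7 : y⁻¹ * (e⁻¹ * y' * e) = 1 := by
    have := hdisj.le_bot ⟨hwE, hwY⟩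
    exact Subgroup.mem_bot.mp this
  have e4 : e⁻¹ * y' * e = y * (y⁻¹ * (e⁻¹ * y' * e)) := by group
  rw [e4, h7, mul_one]

end Cfsg.Agent.Helper10
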