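import Mathlib
import Cfsg.Prelude.Def_PLocal
import Cfsg.Prelude.Def_LocalEven

set_option autoImplicit false

namespace Cfsg.Agent.Helper10

open Cfsg

section transport

variable {H Q : Type*} [Group H] [Group Q]

theorem isChiefFactor_map_equiv (e : H ≃* Q) {U V : Subgroup H} (h : IsChiefFactor U V) :
    IsChiefFactor (U.map e.toMonoidHom) (V.map e.toMonoidHom) := by
  obtain ⟨hlt, hUn, hVn, hmin⟩ := h
  refine ⟨(Subgroup.map_lt_map_iff_of_injective e.injective).mpr hlt,
    Subgroup.Normal.map hUn _ e.surjective, Subgroup.Normal.map hVn _ e.surjective, ?_⟩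
  intro N' hN' hVN hNU
  have h1 : V ≤ N'.comap e.toMonoidHom := by
    rw [← Subgroup.map_le_iff_le_comap]; exact hVN
  have h2 : N'.comap e.toMonoidHom ≤ U := by
    have := Subgroup.comap_mono (f := e.toMonoidHom) hNU
    rwa [Subgroup.comap_map_eq_self_of_injective e.injective] at this
  have h3 : (N'.comap e.toMonoidHom).map e.toMonoidHom = N' :=
    Subgroup.map_comap_eq_self_of_surjective e.surjective N'
  rcases hmin _ (Subgroup.Normal.comap hN' _) h1 h2 with h4 | h4
  · left; rw [← h3, h4]
  · right; rw [← h3, h4]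

theorem iterCommutator_map (f : H →* Q) (U L : Subgroup H) (k : ℕ) :
    iterCommutator (U.map f) (L.map f) k = (iterCommutator U L k).map f := by
  induction k with
  | zero => rfl
  | succ k ih =>
    show ⁅iterCommutator (U.map f) (L.map f) k, L.map f⁆ = (⁅iterCommutator U L k, L⁆).map f
    rw [ih, Subgroup.map_commutator]

theorem iterCommutator_le_of_map_equiv (e : H ≃* Q) (U V : Subgroup H) (g : H) (k : ℕ)
    (h : iterCommutator (U.map e.toMonoidHom) (Subgroup.zpowers (e g)) k ≤ V.map e.toMonoidHom) :
    iterCommutator U (Subgroup.zpowers g) k ≤ V := by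
  have h1 : Subgroup.zpowers (e g) = (Subgroup.zpowers g).map e.toMonoidHom := by
    rw [MonoidHom.map_zpowers]; rfl
  rw [h1, iterCommutator_map] at h
  exact (Subgroup.map_le_map_iff_of_injective e.injective).mp h

end transport

end Cfsg.Agent.Helper10
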