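import Mathlib
import Cfsg.Prelude.Def_LocalEven
import Cfsg.Prelude.Def_PLocal
import Cfsg.Agent.Lib.Helper10.SecChief

set_option autoImplicit false

/-! Localizing chief factors along normal subgroups, for bounds on iterated commutators. -/

namespace Cfsg.Agent.Helper10

open Cfsg
open scoped commutatorElement

variable {G : Type*} [Group G]

theorem iterCommutator_mono {X X' L : Subgroup G} (h : X ≤ X') (n : ℕ) :
    iterCommutator X L n ≤ iterCommutator X' L n := by
  induction n with
  | zero => exact h
  | succ n ih => exact Subgroup.commutator_mono ih le_rfl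

theorem iterCommutator_le_of_normal {X L : Subgroup G} [hX : X.Normal] (n : ℕ) :
    iterCommutator X L n ≤ X := by
  induction n with
  | zero => exact le_rfl
  | succ n ih =>
    exact (Subgroup.commutator_mono ih le_rfl).trans (Subgroup.commutator_le_left X L)

theorem iterCommutator_succ_le {X L V : Subgroup G} [hV : V.Normal] (n : ℕ)
    (h : iterCommutator X L n ≤ V) : iterCommutator X L (n + 1) ≤ V :=
  (Subgroup.commutator_mono h le_rfl).trans (Subgroup.commutator_le_left V L)

theorem iterCommutator_le_of_le {X L V : Subgroup G} [hV : V.Normal] {n m : ℕ} (hnm : n ≤ m)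
    (h : iterCommutator X L n ≤ V) : iterCommutator X L m ≤ V := by
  induction m, hnm using Nat.le_induction with
  | base => exact h
  | succ m _ ih => exact iterCommutator_succ_le m ih

/-- the first half of the chief factor dichotomy -/
theorem chief_inf_of_not_le {U V : Subgroup G} (hUV : IsChiefFactor U V) (N : Subgroup G)
    [hN : N.Normal] (hnot : ¬ U ⊓ N ≤ V) :
    IsChiefFactor (U ⊓ N) (V ⊓ N) ∧ U = (U ⊓ N) ⊔ V := by
  obtain ⟨hlt, hUn, hVn, hmin⟩ := hUV
  haveI := hUn
  haveI := hVn
  have hM : (U ⊓ N) ⊔ V = U := by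
    rcases hmin ((U ⊓ N) ⊔ V) inferInstance le_sup_right (sup_le inf_le_left hlt.le) with h | h
    · exfalso
      apply hnot
      rw [← h]
      exact le_sup_left
    · exact h
  refine ⟨⟨?_, inferInstance, inferInstance, ?_⟩, hM.symm⟩
  · refine lt_of_le_of_ne (inf_le_inf_right N hlt.le) ?_
    intro heq
    apply hnot
    rw [← heq]
    exact inf_le_left
  · intro N₁ hN₁ h1 h2
    haveI := hN₁
    rcases hmin (N₁ ⊔ V) inferInstance le_sup_right (sup_le (h2.trans inf_le_left) hlt.le) with h | h
    · left
      apply le_antisymm _ h1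
      have : N₁ ≤ V := by rw [← h]; exact le_sup_left
      exact le_inf this (h2.trans inf_le_right)
    · right
      apply le_antisymm h2
      intro x hx
      have hxU : x ∈ N₁ ⊔ V := by rw [h]; exact hx.1
      rw [← SetLike.mem_coe, Subgroup.normal_mul] at hxU
      obtain ⟨n₁, hn₁, v, hv, rfl⟩ := Set.mem_mul.mp hxU
      have hvN : v ∈ N := by
        have : v = n₁⁻¹ * (n₁ * v) := by group
        rw [this]
        exact N.mul_mem (N.inv_mem ((h2.trans inf_le_right) hn₁)) hx.2
      exact N₁.mul_mem hn₁ (h1 ⟨hv, hvN⟩)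

/-- transfer of the bound from `(U ⊓ N)/(V ⊓ N)` to `U/V` -/
theorem iterCommutator_le_of_inf {U V X L : Subgroup G} [hV : V.Normal] (hU : U = X ⊔ V) (n : ℕ)
    (h : iterCommutator X L n ≤ V) : iterCommutator U L n ≤ V := by
  set π := QuotientGroup.mk' V with hπ
  have h1 : (iterCommutator U L n).map π = ⊥ := by
    rw [← iterCommutator_map, hU, Subgroup.map_sup]
    have hVbot : V.map π = ⊥ := by
      rw [Subgroup.map_eq_bot_iff, hπ, QuotientGroup.ker_mk']
    rw [hVbot, sup_bot_eq, iterCommutator_map, eq_bot_iff]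
    refine (Subgroup.map_mono h).trans ?_
    rw [hVbot]
  rw [Subgroup.map_eq_bot_iff, hπ, QuotientGroup.ker_mk'] at h1
  exact h1

/-- one step of the localization of chief factors along a chain -/
theorem localize_step {C C' L : Subgroup G} [hC' : C'.Normal] (n : ℕ)
    (hstep : iterCommutator C L n ≤ C')
    (hrest : ∀ U V : Subgroup G, IsChiefFactor U V → U ≤ C' → iterCommutator U L n ≤ V) :
    ∀ U V : Subgroup G, IsChiefFactor U V → U ≤ C → iterCommutator U L n ≤ V := by
  intro U V hUV hUC
  haveI hUn : U.Normal := hUV.2.1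
  haveI hVn : V.Normal := hUV.2.2.1
  by_cases hle : U ⊓ C' ≤ V
  · refine le_trans ?_ hle
    exact le_inf (iterCommutator_le_of_normal n) ((iterCommutator_mono hUC n).trans hstep)
  · obtain ⟨hch, hU⟩ := chief_inf_of_not_le hUV C' hle
    have h1 := hrest _ _ hch inf_le_right
    exact iterCommutator_le_of_inf hU n (h1.trans inf_le_left)

end Cfsg.Agent.Helper10
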