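import Mathlib
import Cfsg.Prelude.Def_PLocal
import Cfsg.Agent.Lib.Helper10.Alperin

set_option autoImplicit false

/-! Nilpotency of the action of an element on a group of homomorphisms, and iterated
commutators. -/

namespace Cfsg.Agent.Helper10

open Cfsg
open scoped commutatorElement

section comm

variable {Γ : Type*} [Group Γ]

theorem commutatorElement_mul_right_eq (x g h : Γ) : ⁅x, g * h⁆ = ⁅x, g⁆ * (g * ⁅x, h⁆ * g⁻¹) := by
  simp only [commutatorElement_def]; group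

theorem commutatorElement_inv_right_eq (x g : Γ) : ⁅x, g⁻¹⁆ = g⁻¹ * ⁅x, g⁆⁻¹ * g := by
  simp only [commutatorElement_def]; group

/-- commutators with a cyclic group: it suffices to control the commutators with the generator -/
theorem commutator_zpowers_le (X Y : Subgroup Γ) (g : Γ)
    (hg : g ∈ Subgroup.normalizer (Y : Set Γ)) (h : ∀ x ∈ X, ⁅x, g⁆ ∈ Y) :
    ⁅X, Subgroup.zpowers g⁆ ≤ Y := by
  have hginv : g⁻¹ ∈ Subgroup.normalizer (Y : Set Γ) := Subgroup.inv_mem _ hg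
  have hconj : ∀ y ∈ Y, g * y * g⁻¹ ∈ Y := fun y hy => (Subgroup.mem_normalizer_iff.mp hg y).mp hy
  have hconj' : ∀ y ∈ Y, g⁻¹ * y * g ∈ Y := fun y hy => by
    have := (Subgroup.mem_normalizer_iff.mp hginv y).mp hy
    simpa using this
  have hpos : ∀ (m : ℕ), ∀ x ∈ X, ⁅x, g ^ m⁆ ∈ Y := by
    intro m
    induction m with
    | zero => intro x _; simp [Y.one_mem]
    | succ m ih =>
      intro x hx
      rw [pow_succ', commutatorElement_mul_right_eq]
      exact Y.mul_mem (h x hx) (hconj _ (ih x hx))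
  have hinv : ∀ x ∈ X, ⁅x, g⁻¹⁆ ∈ Y := by
    intro x hx
    rw [commutatorElement_inv_right_eq]
    exact hconj' _ (Y.inv_mem (h x hx))
  have hneg : ∀ (m : ℕ), ∀ x ∈ X, ⁅x, (g⁻¹) ^ m⁆ ∈ Y := by
    intro m
    induction m with
    | zero => intro x _; simp [Y.one_mem]
    | succ m ih =>
      intro x hx
      rw [pow_succ', commutatorElement_mul_right_eq]
      have := hconj' _ (ih x hx)
      exact Y.mul_mem (hinv x hx) (by simpa using this)
  rw [Subgroup.commutator_le]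
  intro x hx z hz
  obtain ⟨k, rfl⟩ := Subgroup.mem_zpowers_iff.mp hz
  rcases Int.eq_nat_or_neg k with ⟨m, rfl | rfl⟩
  · rw [zpow_natCast]; exact hpos m x hx
  · rw [zpow_neg, zpow_natCast, ← inv_pow]; exact hneg m x hx

end comm

section lemmaI

variable {Γ : Type*} [Group Γ] [Finite Γ] {𝓗 : Type*} [CommGroup 𝓗]

/-- **Lemma I**: if `Φ : N → 𝓗` intertwines `x ↦ [x, g]` with an endomorphism `D` of `𝓗` and
`Dⁿ ∘ Φ = 1`, then `[N, g; n] ≤ ker Φ`. -/
theorem iterCommutator_le_ker (N : Subgroup Γ) (g : Γ) (hgN : g ∈ Subgroup.normalizer (N : Set Γ))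
    (Φ : ↥N →* 𝓗) (D : 𝓗 →* 𝓗)
    (hcomm : ∀ (x : Γ) (hx : x ∈ N), ∃ h : ⁅x, g⁆ ∈ N, Φ ⟨⁅x, g⁆, h⟩ = D (Φ ⟨x, hx⟩))
    (n : ℕ) (hn : ∀ x : ↥N, D^[n] (Φ x) = 1) :
    iterCommutator N (Subgroup.zpowers g) n ≤ Φ.ker.map N.subtype := by
  -- the filtration
  let K : ℕ → Subgroup Γ := fun r =>
    { carrier := {x | ∃ hx : x ∈ N, D^[n - r] (Φ ⟨x, hx⟩) = 1}
      one_mem' := ⟨N.one_mem, by
        have : (⟨1, N.one_mem⟩ : ↥N) = 1 := rfl
        rw [this, map_one]
        exact iterate_map_one D _⟩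
      mul_mem' := by
        rintro x y ⟨hx, hx'⟩ ⟨hy, hy'⟩
        refine ⟨N.mul_mem hx hy, ?_⟩
        have : (⟨x * y, N.mul_mem hx hy⟩ : ↥N) = ⟨x, hx⟩ * ⟨y, hy⟩ := rfl
        rw [this, map_mul, iterate_map_mul, hx', hy', one_mul]
      inv_mem' := by
        rintro x ⟨hx, hx'⟩
        refine ⟨N.inv_mem hx, ?_⟩
        have : (⟨x⁻¹, N.inv_mem hx⟩ : ↥N) = ⟨x, hx⟩⁻¹ := rfl
        rw [this, map_inv, iterate_map_inv, hx', inv_one] }
  have hKmem : ∀ r x, x ∈ K r ↔ ∃ hx : x ∈ N, D^[n - r] (Φ ⟨x, hx⟩) = 1 := fun r x => Iff.rfl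
  have hKN : ∀ r, K r ≤ N := fun r x hx => hx.1
  -- `K r` is normalized by `g`
  have hKg : ∀ r, g ∈ Subgroup.normalizer (K r : Set Γ) := by
    intro r
    have hinv : g⁻¹ ∈ Subgroup.normalizer (K r : Set Γ) := by
      rw [mem_normalizer_iff_rcg]
      apply rcg_eq_of_le_of_finite
      rw [rcg_le_iff]
      intro x hx
      rw [inv_inv, mem_rcg]
      obtain ⟨hxN, hx'⟩ := hx
      obtain ⟨hc, hc'⟩ := hcomm x hxN
      have hmem : g * x * g⁻¹ ∈ N := (Subgroup.mem_normalizer_iff.mp hgN x).mp hxN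
      refine ⟨hmem, ?_⟩
      have e : (⟨g * x * g⁻¹, hmem⟩ : ↥N) = (⟨⁅x, g⁆, hc⟩ : ↥N)⁻¹ * ⟨x, hxN⟩ := by
        apply Subtype.ext
        simp only [Subgroup.coe_mul, Subgroup.coe_inv, commutatorElement_def]
        group
      rw [e, map_mul, map_inv, hc', iterate_map_mul, iterate_map_inv, hx', mul_one]
      have : D^[n - r] (D (Φ ⟨x, hxN⟩)) = D (D^[n - r] (Φ ⟨x, hxN⟩)) := by
        rw [← Function.iterate_succ_apply, Function.iterate_succ_apply']
      rw [this, hx', map_one, inv_one]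
    have := Subgroup.inv_mem _ hinv
    rwa [inv_inv] at this
  have key : ∀ r, r ≤ n → iterCommutator N (Subgroup.zpowers g) r ≤ K r := by
    intro r
    induction r with
    | zero =>
      intro _ x hx
      exact ⟨hx, hn ⟨x, hx⟩⟩
    | succ r ih =>
      intro hr
      have h1 := ih (by omega)
      show ⁅iterCommutator N (Subgroup.zpowers g) r, Subgroup.zpowers g⁆ ≤ K (r + 1)
      refine (Subgroup.commutator_mono h1 le_rfl).trans ?_
      apply commutator_zpowers_le _ _ g (hKg (r + 1))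
      intro x hx
      obtain ⟨hxN, hx'⟩ := hx
      obtain ⟨hc, hc'⟩ := hcomm x hxN
      refine ⟨hc, ?_⟩
      rw [hc', ← Function.iterate_succ_apply]
      have : (n - (r + 1)).succ = n - r := by omega
      rw [this]
      exact hx'
  intro x hx
  have h1 := key n le_rfl hx
  obtain ⟨hxN, hx'⟩ := h1
  rw [Nat.sub_self, Function.iterate_zero, id] at hx'
  exact ⟨⟨x, hxN⟩, hx', rfl⟩

end lemmaI

end Cfsg.Agent.Helper10

namespace Cfsg.Agent.Helper10

open Cfsg
open scoped commutatorElement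

section ring

variable {E : Type*} [Ring E]

/-- `(X + Y)^4 = (Y + 4X) Y^3` for commuting `X, Y` with `X^2 = 0`. -/
theorem add_pow_four_of_sq_zero (X Y : E) (hc : X * Y = Y * X) (hX : X * X = 0) :
    (X + Y) ^ 4 = (Y + 4 * X) * Y ^ 3 := by
  have h2 : (X + Y) ^ 2 = 2 * (X * Y) + Y ^ 2 := by
    rw [pow_two, pow_two, mul_add, add_mul, add_mul, hX, ← hc]
    noncomm_ring
  have hc2 : X * Y ^ 2 = Y ^ 2 * X := by
    rw [pow_two, ← mul_assoc, hc, mul_assoc, hc, ← mul_assoc]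
  have hXYX : X * Y * X = 0 := by rw [hc, mul_assoc, hX, mul_zero]
  have h4 : (X + Y) ^ 4 = (2 * (X * Y) + Y ^ 2) * (2 * (X * Y) + Y ^ 2) := by
    rw [← h2, ← pow_add]
  rw [h4]
  have e1 : (2 * (X * Y)) * (2 * (X * Y)) = 0 := by
    have : (2 * (X * Y)) * (2 * (X * Y)) = 4 * ((X * Y * X) * Y) := by noncomm_ring
    rw [this, hXYX, zero_mul, mul_zero]
  have e2 : Y ^ 2 * (2 * (X * Y)) = 2 * (X * Y ^ 3) := by
    have : Y ^ 2 * (2 * (X * Y)) = 2 * ((Y ^ 2 * X) * Y) := by noncomm_ring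
    rw [this, ← hc2]
    noncomm_ring
  have e3 : (2 * (X * Y)) * Y ^ 2 = 2 * (X * Y ^ 3) := by noncomm_ring
  rw [mul_add, add_mul, add_mul, e1, e2, e3]
  noncomm_ring

end ring

section toE

variable {𝓗 : Type*} [CommGroup 𝓗]

/-- the additive endomorphism attached to an endomorphism of a commutative group -/
def toE (f : 𝓗 →* 𝓗) : Module.End ℤ (Additive 𝓗) := (MonoidHom.toAdditive f).toIntLinearMap

theorem toE_apply (f : 𝓗 →* 𝓗) (h : 𝓗) : toE f (Additive.ofMul h) = Additive.ofMul (f h) := rfl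

theorem toE_comp (f f' : 𝓗 →* 𝓗) : toE (f.comp f') = toE f * toE f' := rfl

theorem toE_id : toE (MonoidHom.id 𝓗) = 1 := rfl

theorem toE_pow_apply (f : 𝓗 →* 𝓗) (n : ℕ) (h : 𝓗) :
    (toE f ^ n) (Additive.ofMul h) = Additive.ofMul (f^[n] h) := by
  induction n generalizing h with
  | zero => simp
  | succ n ih =>
    rw [pow_succ, Module.End.mul_apply, toE_apply, ih, Function.iterate_succ_apply]

theorem toE_div (f f' : 𝓗 →* 𝓗) : toE (f / f') = toE f - toE f' := by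
  apply LinearMap.ext
  intro v
  obtain ⟨h, rfl⟩ := Additive.ofMul.surjective v
  rw [LinearMap.sub_apply, toE_apply, toE_apply, toE_apply, ← ofMul_div]
  rfl

end toE

end Cfsg.Agent.Helper10
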