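import Mathlib

set_option autoImplicit false

namespace Cfsg.Agent.Helper10

open Polynomial Finset

theorem geom_sum_char_p (p : ℕ) [hp : Fact p.Prime] :
    (∑ i ∈ range p, (X : (ZMod p)[X]) ^ i) = (X - 1) ^ (p - 1) := by
  have h1 : (∑ i ∈ range p, (X : (ZMod p)[X]) ^ i) * (X - 1) = (X - 1) ^ (p - 1) * (X - 1) := by
    rw [geom_sum_mul, ← pow_succ, Nat.sub_add_cancel hp.out.one_le, sub_pow_char, one_pow]
  have h2 : (X - 1 : (ZMod p)[X]) ≠ 0 := by
    have := X_sub_C_ne_zero (1 : ZMod p)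
    simpa using this
  exact mul_right_cancel₀ h2 h1

theorem geom_sum_int (p : ℕ) [hp : Fact p.Prime] :
    ∃ g : ℤ[X], (∑ i ∈ range p, (X : ℤ[X]) ^ i) = (X - 1) ^ (p - 1) + C (p : ℤ) * g := by
  set q : ℤ[X] := (∑ i ∈ range p, (X : ℤ[X]) ^ i) - (X - 1) ^ (p - 1) with hq
  have hmap : q.map (Int.castRingHom (ZMod p)) = 0 := by
    rw [hq, Polynomial.map_sub, Polynomial.map_sum]
    simp only [Polynomial.map_pow, Polynomial.map_X, Polynomial.map_sub, Polynomial.map_one]
    rw [geom_sum_char_p, sub_self]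
  have hdvd : C (p : ℤ) ∣ q := by
    rw [C_dvd_iff_dvd_coeff]
    intro i
    have h1 : (q.map (Int.castRingHom (ZMod p))).coeff i = 0 := by rw [hmap, coeff_zero]
    rw [coeff_map] at h1
    exact (ZMod.intCast_zmod_eq_zero_iff_dvd _ p).mp h1
  obtain ⟨g, hg⟩ := hdvd
  refine ⟨g, ?_⟩
  rw [← hg, hq]
  ring

section ring

variable {R : Type*} [Ring R]

/-- in any ring, the `p`-term geometric sum is `(e - 1)^(p-1)` plus a multiple of `p` -/
theorem geom_sum_ring (p : ℕ) [hp : Fact p.Prime] (e : R) :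
    ∃ r : R, (∑ i ∈ range p, e ^ i) = (e - 1) ^ (p - 1) + (p : R) * r := by
  obtain ⟨g, hg⟩ := geom_sum_int p
  refine ⟨aeval e g, ?_⟩
  have := congrArg (aeval e) hg
  simpa using this

theorem conj_pow_unit (u u' x : R) (h : u' * u = 1) (n : ℕ) :
    (u * x * u') ^ n * u = u * x ^ n := by
  induction n with
  | zero => simp
  | succ n ih =>
    rw [pow_succ', mul_assoc, ih, pow_succ']
    calc u * x * u' * (u * x ^ n) = u * x * (u' * u) * x ^ n := by noncomm_ring
      _ = u * (x * x ^ n) := by rw [h]; noncomm_ring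

end ring

section abstract

variable {Γ B : Type*} [Group Γ] [CommGroup B] (ρ : Γ →* MulAut B)

/-- the endomorphism of `Additive B` induced by an element -/
def endOf : Γ →* Module.End ℤ (Additive B) where
  toFun g := (MonoidHom.toAdditive (ρ g).toMonoidHom).toIntLinearMap
  map_one' := by
    apply LinearMap.ext
    intro x
    show Additive.ofMul ((ρ 1) (Additive.toMul x)) = x
    rw [map_one]
    rfl
  map_mul' g h := by
    apply LinearMap.ext
    intro x
    show Additive.ofMul ((ρ (g * h)) (Additive.toMul x)) =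
      Additive.ofMul ((ρ g) (Additive.toMul (Additive.ofMul ((ρ h) (Additive.toMul x)))))
    rw [map_mul]
    rfl

theorem endOf_apply (g : Γ) (x : B) :
    endOf ρ g (Additive.ofMul x) = Additive.ofMul (ρ g x) := rfl

/-- `(1 - g)^(p-1)` vanishes -/
def BadEnd (p : ℕ) (g : Γ) : Prop := (1 - endOf ρ g) ^ (p - 1) = 0

theorem badEnd_conj {p : ℕ} (b g : Γ) (hb : BadEnd ρ p b) : BadEnd ρ p (g * b * g⁻¹) := by
  unfold BadEnd at hb ⊢
  set u := endOf ρ g with hu
  set u' := endOf ρ g⁻¹ with hu'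
  set e := endOf ρ b with he
  have h1 : u' * u = 1 := by rw [hu, hu', ← map_mul, inv_mul_cancel, map_one]
  have h2 : u * u' = 1 := by rw [hu, hu', ← map_mul, mul_inv_cancel, map_one]
  have h3 : 1 - endOf ρ (g * b * g⁻¹) = u * (1 - e) * u' := by
    rw [map_mul, map_mul]
    rw [mul_sub, mul_one, sub_mul, h2]
  rw [h3]
  have h4 := conj_pow_unit u u' (1 - e) h1 (p - 1)
  rw [hb, mul_zero] at h4
  calc (u * (1 - e) * u') ^ (p - 1) = (u * (1 - e) * u') ^ (p - 1) * (u * u') := by rw [h2, mul_one]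
    _ = ((u * (1 - e) * u') ^ (p - 1) * u) * u' := by rw [← mul_assoc]
    _ = 0 := by rw [h4, zero_mul]

theorem badEnd_pow {p : ℕ} (b : Γ) (k : ℕ) (hb : BadEnd ρ p b) : BadEnd ρ p (b ^ k) := by
  unfold BadEnd at hb ⊢
  set e := endOf ρ b with he
  rw [map_pow, ← mul_neg_geom_sum e k]
  have hc : Commute (1 - e) (∑ i ∈ range k, e ^ i) := by
    apply Commute.sum_right
    intro i _
    apply Commute.pow_right
    exact (Commute.one_left e).sub_left (Commute.refl e)
  rw [hc.mul_pow, hb, zero_mul]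

theorem badEnd_inv {p : ℕ} (b : Γ) (hb : BadEnd ρ p b) : BadEnd ρ p b⁻¹ := by
  unfold BadEnd at hb ⊢
  set e := endOf ρ b with he
  set e' := endOf ρ b⁻¹ with he'
  have h1 : e' * e = 1 := by rw [he, he', ← map_mul, inv_mul_cancel, map_one]
  have h2 : 1 - e' = (-e') * (1 - e) := by
    rw [neg_mul, mul_sub, mul_one, h1, neg_sub]
  have hc : Commute (-e') (1 - e) := by
    have h3 : Commute e' e := by
      show e' * e = e * e'
      rw [h1, he, he', ← map_mul, mul_inv_cancel, map_one]
    exact ((Commute.one_right e').sub_right h3).neg_left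
  rw [h2, hc.mul_pow, hb, mul_zero]

/-- the `p`-term sum of the powers of a bad element vanishes on a group of exponent `p` -/
theorem sum_pow_apply_eq_zero {p : ℕ} [hp : Fact p.Prime] (hexp : ∀ x : B, x ^ p = 1) (b : Γ)
    (hb : BadEnd ρ p b) (v : Additive B) : (∑ i ∈ range p, (endOf ρ b) ^ i) v = 0 := by
  obtain ⟨r, hr⟩ := geom_sum_ring (R := Module.End ℤ (Additive B)) p (endOf ρ b)
  rw [hr]
  unfold BadEnd at hb
  have h1 : (endOf ρ b - 1) ^ (p - 1) = 0 := by
    have : endOf ρ b - 1 = (-1) * (1 - endOf ρ b) := by rw [neg_one_mul, neg_sub]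
    rw [this, (Commute.neg_one_left (1 - endOf ρ b)).mul_pow, hb, mul_zero]
  rw [h1, zero_add]
  have h2 : ((p : Module.End ℤ (Additive B)) * r) v = p • (r v) := by
    rw [Module.End.mul_apply, Module.End.natCast_apply]
  rw [h2]
  have h3 : ∀ w : Additive B, p • w = 0 := by
    intro w
    have := hexp (Additive.toMul w)
    exact congrArg Additive.ofMul this
  exact h3 _

theorem badEnd_of_iterate {p : ℕ} (b : Γ)
    (h : ∀ x : B, (fun y => y * (ρ b y)⁻¹)^[p - 1] x = 1) : BadEnd ρ p b := by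
  unfold BadEnd
  apply LinearMap.ext
  intro v
  have key : ∀ (k : ℕ) (x : B), ((1 - endOf ρ b) ^ k) (Additive.ofMul x) =
      Additive.ofMul ((fun y => y * (ρ b y)⁻¹)^[k] x) := by
    intro k
    induction k with
    | zero => intro x; simp
    | succ k ih =>
      intro x
      rw [pow_succ', Module.End.mul_apply, ih, Function.iterate_succ_apply']
      set y := (fun y => y * (ρ b y)⁻¹)^[k] x with hy
      rw [LinearMap.sub_apply, Module.End.one_apply, endOf_apply, ← ofMul_div, div_eq_mul_inv]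
  have := key (p - 1) (Additive.toMul v)
  rw [h] at this
  simpa using this

end abstract

end Cfsg.Agent.Helper10
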