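import Mathlib
import Cfsg.Agent.Lib.Helper10.Alperin

set_option autoImplicit false

namespace Cfsg.Agent.Helper10

open scoped Pointwise

section orbitprod

variable {Γ : Type*} [Group Γ] {Ω : Type*} [MulAction Γ Ω] [DecidableEq Ω] {C : Type*} [CommGroup C]

/-- if `b ^ k` and `b ^ p` fix a point with `0 < k < p`, `p` prime, then `b` fixes it -/
theorem smul_eq_of_pow_smul_eq {p : ℕ} (hp : p.Prime) (b : Γ) (ω : Ω) {k : ℕ} (hk0 : 0 < k)
    (hkp : k < p) (h1 : b ^ k • ω = ω) (h2 : b ^ p • ω = ω) : b • ω = ω := by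
  have hcop : Nat.Coprime k p :=
    Nat.Coprime.symm ((Nat.Prime.coprime_iff_not_dvd hp).mpr (Nat.not_dvd_of_pos_of_lt hk0 hkp))
  have hstab : ∀ z : ℤ, (b ^ k) ^ z • ω = ω := by
    intro z
    have : b ^ k ∈ MulAction.stabilizer Γ ω := h1
    exact (MulAction.stabilizer Γ ω).zpow_mem this z
  have hstab2 : ∀ z : ℤ, (b ^ p) ^ z • ω = ω := by
    intro z
    have : b ^ p ∈ MulAction.stabilizer Γ ω := h2
    exact (MulAction.stabilizer Γ ω).zpow_mem this z
  have hb := Nat.gcd_eq_gcd_ab k p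
  rw [hcop] at hb
  have e : b = (b ^ k) ^ (Nat.gcdA k p) * (b ^ p) ^ (Nat.gcdB k p) := by
    rw [← zpow_natCast, ← zpow_natCast, ← zpow_mul, ← zpow_mul, ← zpow_add, ← hb]
    simp
  rw [e, mul_smul, hstab2, hstab]

/-- a product over a `b`-stable finite set on which `b ^ p` acts trivially and all `p`-term
products along `b` vanish reduces to the product over the fixed points of `b` -/
theorem prod_eq_prod_fixed {p : ℕ} (hp : p.Prime) (b : Γ) (f : Ω → C) :
    ∀ (n : ℕ) (s : Finset Ω), s.card ≤ n → (∀ ω ∈ s, b • ω ∈ s) → (∀ ω ∈ s, b ^ p • ω = ω) →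
      (∀ ω ∈ s, ∏ i ∈ Finset.range p, f (b ^ i • ω) = 1) →
      ∏ ω ∈ s, f ω = ∏ ω ∈ s.filter (fun ω => b • ω = ω), f ω := by
  intro n
  induction n with
  | zero =>
    intro s hs _ _ _
    have : s = ∅ := Finset.card_eq_zero.mp (Nat.le_zero.mp hs)
    subst this
    simp
  | succ n ih =>
    intro s hs hstab hper hnorm
    by_cases hall : ∀ ω ∈ s, b • ω = ω
    · rw [Finset.filter_true_of_mem hall]
    push Not at hall
    obtain ⟨ω₁, hω₁s, hω₁⟩ := hall
    have hpow_mem : ∀ i : ℕ, b ^ i • ω₁ ∈ s := by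
      intro i
      induction i with
      | zero => simpa using hω₁s
      | succ i ihi =>
        rw [pow_succ', mul_smul]
        exact hstab _ ihi
    set O : Finset Ω := (Finset.range p).image (fun i => b ^ i • ω₁) with hO
    have hOs : O ⊆ s := by
      intro ω hω
      rw [hO, Finset.mem_image] at hω
      obtain ⟨i, -, rfl⟩ := hω
      exact hpow_mem i
    have hinj : Set.InjOn (fun i => b ^ i • ω₁) (Finset.range p : Set ℕ) := by
      have key : ∀ i j : ℕ, i < j → j < p → b ^ i • ω₁ = b ^ j • ω₁ → False := by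
        intro i j hij hjp h
        have h1 : b ^ (j - i) • ω₁ = ω₁ := by
          have e : b ^ j = b ^ i * b ^ (j - i) := by rw [← pow_add]; congr 1; omega
          rw [e, mul_smul] at h
          exact (smul_left_cancel _ h).symm
        exact hω₁ (smul_eq_of_pow_smul_eq hp b ω₁ (by omega) (by omega) h1 (hper ω₁ hω₁s))
      intro i hi j hj h
      simp only [Finset.coe_range, Set.mem_Iio] at hi hj
      rcases lt_trichotomy i j with hlt | heq | hgt
      · exact (key i j hlt hj h).elim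
      · exact heq
      · exact (key j i hgt hi h.symm).elim
    have hOprod : ∏ ω ∈ O, f ω = 1 := by
      rw [hO, Finset.prod_image hinj]
      exact hnorm ω₁ hω₁s
    have hOnofix : ∀ ω ∈ O, b • ω ≠ ω := by
      intro ω hω hfix
      rw [hO, Finset.mem_image] at hω
      obtain ⟨i, -, rfl⟩ := hω
      apply hω₁
      have h1 : b ^ i • (b • ω₁) = b ^ i • ω₁ := by
        rw [← mul_smul, ← pow_succ, pow_succ', mul_smul]; exact hfix
      exact smul_left_cancel _ h1
    have hOstab : ∀ ω, b • ω ∈ O → ω ∈ s → ω ∈ O := by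
      intro ω hω hωs
      rw [hO, Finset.mem_image] at hω ⊢
      obtain ⟨i, hi, hie⟩ := hω
      rcases Nat.eq_zero_or_pos i with h0 | hpos
      · subst h0
        refine ⟨p - 1, Finset.mem_range.mpr (Nat.sub_lt hp.pos one_pos), ?_⟩
        simp only [pow_zero, one_smul] at hie
        have h2 : b • (b ^ (p - 1) • ω₁) = b • ω := by
          rw [← mul_smul, ← pow_succ', Nat.sub_add_cancel hp.one_le, hper ω₁ hω₁s, hie]
        exact smul_left_cancel _ h2
      · refine ⟨i - 1, Finset.mem_range.mpr (by have := Finset.mem_range.mp hi; omega), ?_⟩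
        have h2 : b • (b ^ (i - 1) • ω₁) = b • ω := by
          rw [← mul_smul, ← pow_succ', Nat.sub_add_cancel hpos, hie]
        exact smul_left_cancel _ h2
    set s' := s \ O with hs'
    have hs'stab : ∀ ω ∈ s', b • ω ∈ s' := by
      intro ω hω
      rw [hs', Finset.mem_sdiff] at hω ⊢
      exact ⟨hstab ω hω.1, fun h => hω.2 (hOstab ω h hω.1)⟩
    have hOne : O.Nonempty := ⟨ω₁, by
      rw [hO, Finset.mem_image]
      exact ⟨0, Finset.mem_range.mpr hp.pos, by simp⟩⟩
    have hcard : s'.card ≤ n := by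
      have h1 : s'.card = s.card - O.card := by
        rw [hs', Finset.card_sdiff_of_subset hOs]
      have h2 : 0 < O.card := Finset.card_pos.mpr hOne
      omega
    have h3 := ih s' hcard hs'stab (fun ω hω => hper ω (Finset.mem_sdiff.mp hω).1)
      (fun ω hω => hnorm ω (Finset.mem_sdiff.mp hω).1)
    have h4 : s.filter (fun ω => b • ω = ω) = s'.filter (fun ω => b • ω = ω) := by
      ext ω
      simp only [Finset.mem_filter, hs', Finset.mem_sdiff]
      constructor
      · rintro ⟨h5, h6⟩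
        exact ⟨⟨h5, fun hωO => hOnofix ω hωO h6⟩, h6⟩
      · rintro ⟨⟨h5, -⟩, h6⟩
        exact ⟨h5, h6⟩
    rw [← Finset.prod_sdiff hOs, hOprod, mul_one, h4]
    exact h3

end orbitprod

section conjval

variable {Γ : Type*} [Group Γ] {M : Subgroup Γ} {C : Type*} [CommGroup C] (ϕ : M →* C)
  (A : Subgroup Γ) [hA : A.Normal] (hAM : A ≤ M)

/-- the homomorphism `a ↦ ϕ (t⁻¹ a t)` on the normal subgroup `A ≤ M` -/
def conjHomT (t : Γ) : ↥A →* C where
  toFun a := ϕ ⟨t⁻¹ * (a : Γ) * t, hAM (hA.conj_mem' _ a.2 t)⟩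
  map_one' := by
    have : (⟨t⁻¹ * ((1 : ↥A) : Γ) * t, hAM (hA.conj_mem' _ (1 : ↥A).2 t)⟩ : ↥M) = 1 := by
      apply Subtype.ext
      simp
    rw [this, map_one]
  map_mul' a a' := by
    rw [← map_mul]
    congr 1
    apply Subtype.ext
    simp only [Subgroup.coe_mul]
    group

theorem conjHomT_apply (t : Γ) (a : ↥A) :
    conjHomT ϕ A hAM t a = ϕ ⟨t⁻¹ * (a : Γ) * t, hAM (hA.conj_mem' _ a.2 t)⟩ := rfl

theorem conjHomT_mul_right (t : Γ) (m : Γ) (hm : m ∈ M) (a : ↥A) :
    conjHomT ϕ A hAM (t * m) a = conjHomT ϕ A hAM t a := by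
  rw [conjHomT_apply, conjHomT_apply]
  have e : (⟨(t * m)⁻¹ * (a : Γ) * (t * m), hAM (hA.conj_mem' _ a.2 (t * m))⟩ : ↥M) =
      (⟨m, hm⟩ : ↥M)⁻¹ * ⟨t⁻¹ * (a : Γ) * t, hAM (hA.conj_mem' _ a.2 t)⟩ * ⟨m, hm⟩ := by
    apply Subtype.ext
    simp only [Subgroup.coe_mul, Subgroup.coe_inv]
    group
  rw [e, map_mul, map_mul, map_inv]
  rw [mul_comm (ϕ ⟨m, hm⟩)⁻¹, mul_assoc, inv_mul_cancel, mul_one]

theorem conjHomT_mul_left (b t : Γ) (a : ↥A) :
    conjHomT ϕ A hAM (b * t) a = conjHomT ϕ A hAM t ⟨b⁻¹ * (a : Γ) * b, hA.conj_mem' _ a.2 b⟩ := by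
  rw [conjHomT_apply, conjHomT_apply]
  congr 1
  apply Subtype.ext
  simp only
  group

/-- the function on cosets -/
noncomputable def fOm (a : ↥A) (ω : Γ ⧸ M) : C := conjHomT ϕ A hAM ω.out a

theorem fOm_mk (a : ↥A) (t : Γ) : fOm ϕ A hAM a (↑t : Γ ⧸ M) = conjHomT ϕ A hAM t a := by
  unfold fOm
  obtain ⟨h, hh⟩ := QuotientGroup.mk_out_eq_mul M t
  rw [hh]
  exact conjHomT_mul_right ϕ A hAM t h h.2 a

theorem fOm_smul (b : Γ) (a : ↥A) (ω : Γ ⧸ M) :
    fOm ϕ A hAM a (b • ω) = fOm ϕ A hAM ⟨b⁻¹ * (a : Γ) * b, hA.conj_mem' _ a.2 b⟩ ω := by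
  induction ω using QuotientGroup.induction_on with
  | H t =>
    rw [MulAction.Quotient.smul_coe, fOm_mk, fOm_mk, smul_eq_mul]
    exact conjHomT_mul_left ϕ A hAM b t a

theorem fOm_mul (a a' : ↥A) (ω : Γ ⧸ M) :
    fOm ϕ A hAM (a * a') ω = fOm ϕ A hAM a ω * fOm ϕ A hAM a' ω := by
  unfold fOm
  exact map_mul _ a a'

theorem fOm_one (ω : Γ ⧸ M) : fOm ϕ A hAM 1 ω = 1 := by
  unfold fOm
  exact map_one _

/-- the transfer of an element of a normal subgroup contained in `M` -/
theorem transfer_eq_prod_fOm [M.FiniteIndex] [inst : Fintype (Γ ⧸ M)] (a : ↥A) :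
    MonoidHom.transfer ϕ (a : Γ) = ∏ ω : Γ ⧸ M, fOm ϕ A hAM a ω := by
  classical
  have hinst : inst = M.fintypeQuotientOfFiniteIndex := Subsingleton.elim _ _
  subst hinst
  have hf : ∀ q : Γ ⧸ M, ((Quotient.out q : Γ) : Γ ⧸ M) = q := fun q => q.out_eq'
  set T : M.LeftTransversal := ⟨Set.range (Quotient.out : Γ ⧸ M → Γ),
    Subgroup.isComplement_range_left hf⟩ with hT
  rw [MonoidHom.transfer_def ϕ T]
  unfold Subgroup.leftTransversals.diff
  simp only
  apply Finset.prod_congr rfl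
  intro q _
  unfold fOm
  rw [conjHomT_apply]
  congr 1
  apply Subtype.ext
  simp only
  have h1 : ((T.2.leftQuotientEquiv q : Γ)) = q.out :=
    Subgroup.IsComplement.leftQuotientEquiv_apply hf q
  have hq : (a : Γ)⁻¹ • q = q := by
    induction q using QuotientGroup.induction_on with
    | H t =>
      rw [MulAction.Quotient.smul_coe, smul_eq_mul]
      apply QuotientGroup.eq.mpr
      have : ((a : Γ)⁻¹ * t)⁻¹ * t = t⁻¹ * (a : Γ) * t := by group
      rw [this]
      exact hAM (hA.conj_mem' _ a.2 t)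
  have h2 : (((a : Γ) • T).2.leftQuotientEquiv q : Γ) = (a : Γ) * q.out := by
    rw [Subgroup.smul_apply_eq_smul_apply_inv_smul, hq, h1, smul_eq_mul]
  rw [h1, h2]
  group

end conjval

section gen

variable {Γ : Type*} [Group Γ] [Finite Γ] {p : ℕ} [Fact p.Prime]

/-- induction along a chain of subgroups of a `p`-group generated by a normal, power-closed set -/
theorem gen_induction (S₀ : Subgroup Γ) (hS₀ : IsPGroup p S₀) (Bad : Γ → Prop)
    (hconj : ∀ b g : Γ, Bad b → Bad (g * b * g⁻¹)) (hpow : ∀ (b : Γ) (k : ℕ), Bad b → Bad (b ^ k))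
    (hgen : S₀ ≤ Subgroup.closure {b | b ∈ S₀ ∧ Bad b})
    (𝒮 : Subgroup Γ → Prop) (hbot : 𝒮 ⊥)
    (hstep : ∀ R : Subgroup Γ, R ≤ S₀ → 𝒮 R → ∀ b ∈ S₀, Bad b →
      b ∈ Subgroup.normalizer (R : Set Γ) → b ^ p ∈ R → 𝒮 (R ⊔ Subgroup.zpowers b)) : 𝒮 S₀ := by
  haveI hnil : Group.IsNilpotent S₀ := hS₀.isNilpotent
  have key : ∀ (n : ℕ) (R : Subgroup Γ), R ≤ S₀ → 𝒮 R →
      R ≤ Subgroup.closure {b | b ∈ R ∧ Bad b} → Nat.card S₀ - Nat.card R ≤ n → 𝒮 S₀ := by
    intro n
    induction n with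
    | zero =>
      intro R hRS hR _ hcard
      have : R = S₀ := by
        apply Subgroup.eq_of_le_of_card_ge hRS
        omega
      rwa [this] at hR
    | succ n ih =>
      intro R hRS hR hRgen hcard
      by_cases hReq : R = S₀
      · rwa [hReq] at hR
      have hRlt : R < S₀ := lt_of_le_of_ne hRS hReq
      -- a bad element normalizing `R` outside `R`
      have hex : ∃ b ∈ S₀, Bad b ∧ b ∈ Subgroup.normalizer (R : Set Γ) ∧ b ∉ R := by
        by_contra hno
        push Not at hno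
        set N := S₀ ⊓ Subgroup.normalizer (R : Set Γ) with hN
        have hRN : R < N := lt_inf_normalizer_of_lt S₀ R hRlt
        have hNN : S₀ ⊓ Subgroup.normalizer (N : Set Γ) ≤ N := by
          intro g hg
          have hgS : g ∈ S₀ := (Subgroup.mem_inf.mp hg).1
          have hgN : g ∈ Subgroup.normalizer (N : Set Γ) := (Subgroup.mem_inf.mp hg).2
          refine Subgroup.mem_inf.mpr ⟨hgS, ?_⟩
          have hg' : g⁻¹ ∈ Subgroup.normalizer (N : Set Γ) := Subgroup.inv_mem _ hgN
          rw [mem_normalizer_iff_rcg]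
          apply rcg_eq_of_le_of_finite
          rw [rcg_le_iff]
          refine hRgen.trans ?_
          rw [Subgroup.closure_le]
          rintro b ⟨hbR, hbB⟩
          rw [SetLike.mem_coe, mem_rcg]
          have h1 : g⁻¹ * b * g⁻¹⁻¹ ∈ N :=
            (Subgroup.mem_normalizer_iff.mp hg' b).mp (hRN.le hbR)
          exact hno _ h1.1 (hconj b g⁻¹ hbB) h1.2
        have hNeq : N = S₀ := by
          by_contra hne
          have hlt : N < S₀ := lt_of_le_of_ne inf_le_left hne
          have := lt_inf_normalizer_of_lt S₀ N hlt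
          exact absurd hNN (not_le_of_gt this)
        have hSN : S₀ ≤ Subgroup.normalizer (R : Set Γ) := by
          rw [← hNeq]; exact inf_le_right
        apply hReq
        apply le_antisymm hRS
        refine hgen.trans ?_
        rw [Subgroup.closure_le]
        rintro b ⟨hbS, hbB⟩
        exact hno b hbS hbB (hSN hbS)
      obtain ⟨b, hbS, hbB, hbN, hbR⟩ := hex
      -- adjust by a power
      have hexj : ∃ j : ℕ, b ^ p ^ j ∈ R := by
        obtain ⟨j, hj⟩ := hS₀ ⟨b, hbS⟩
        refine ⟨j, ?_⟩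
        have : b ^ p ^ j = 1 := by
          have := congrArg Subtype.val hj
          simpa using this
        rw [this]; exact R.one_mem
      classical
      set j := Nat.find hexj with hj
      have hjR : b ^ p ^ j ∈ R := Nat.find_spec hexj
      have hj0 : j ≠ 0 := by
        intro h0
        rw [h0, pow_zero, pow_one] at hjR
        exact hbR hjR
      obtain ⟨i, hi⟩ := Nat.exists_eq_succ_of_ne_zero hj0
      set b' := b ^ p ^ i with hb'
      have hb'R : b' ∉ R := by
        have := Nat.find_min hexj (m := i) (by omega)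
        exact this
      have hb'p : b' ^ p ∈ R := by
        rw [hb', ← pow_mul, ← pow_succ, ← Nat.succ_eq_add_one, ← hi]
        exact hjR
      have hb'S : b' ∈ S₀ := Subgroup.pow_mem _ hbS _
      have hb'B : Bad b' := hpow b _ hbB
      have hb'N : b' ∈ Subgroup.normalizer (R : Set Γ) := Subgroup.pow_mem _ hbN _
      set R' := R ⊔ Subgroup.zpowers b' with hR'
      have hR'S : R' ≤ S₀ := sup_le hRS (Subgroup.zpowers_le.mpr hb'S)
      have hR'𝒮 : 𝒮 R' := hstep R hRS hR b' hb'S hb'B hb'N hb'p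
      have hb'R' : b' ∈ R' := (le_sup_right : Subgroup.zpowers b' ≤ R') (Subgroup.mem_zpowers b')
      have hR'gen : R' ≤ Subgroup.closure {b | b ∈ R' ∧ Bad b} := by
        apply sup_le
        · refine hRgen.trans (Subgroup.closure_mono ?_)
          rintro x ⟨hxR, hxB⟩
          exact ⟨(le_sup_left : R ≤ R') hxR, hxB⟩
        · rw [Subgroup.zpowers_le]
          exact Subgroup.subset_closure ⟨hb'R', hb'B⟩
      have hlt : R < R' := lt_of_le_of_ne le_sup_left (fun h => hb'R (h ▸ hb'R'))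
      have hcard' : Nat.card S₀ - Nat.card R' ≤ n := by
        have := card_lt_card_of_lt hlt
        omega
      exact ih R' hR'S hR'𝒮 hR'gen hcard'
  refine key (Nat.card S₀) ⊥ bot_le hbot ?_ (Nat.sub_le _ _)
  exact bot_le

end gen

section tr

variable {Γ : Type*} [Group Γ] [Finite Γ] {p : ℕ} [Fact p.Prime] {M : Subgroup Γ}
  {C : Type*} [CommGroup C] (ϕ : M →* C) (A : Subgroup Γ) [hA : A.Normal] (hAM : A ≤ M)

/-- the transfer into `M` of an element of the normal subgroup `A ≤ M` is its own image, provided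
a `p`-subgroup fixing a single coset of `M` is generated by elements whose `p`-term products
vanish -/
theorem transfer_eq_of_generated (S₀ : Subgroup Γ) (hS₀ : IsPGroup p S₀) (hS₀M : S₀ ≤ M)
    (Bad : Γ → Prop)
    (hconj : ∀ b g : Γ, Bad b → Bad (g * b * g⁻¹)) (hpow : ∀ (b : Γ) (k : ℕ), Bad b → Bad (b ^ k))
    (hgen : S₀ ≤ Subgroup.closure {b | b ∈ S₀ ∧ Bad b})
    (hfix : ∀ t : Γ, (∀ s ∈ S₀, t⁻¹ * s * t ∈ M) → t ∈ M)
    (a : ↥A)
    (hnorm : ∀ b : Γ, Bad b → ∀ ω : Γ ⧸ M,
      ∏ i ∈ Finset.range p, fOm ϕ A hAM a (b ^ i • ω) = 1) :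
    MonoidHom.transfer ϕ (a : Γ) = ϕ ⟨a, hAM a.2⟩ := by
  classical
  letI : Fintype (Γ ⧸ M) := Fintype.ofFinite _
  have hp : p.Prime := Fact.out
  rw [transfer_eq_prod_fOm ϕ A hAM a]
  set fix : Subgroup Γ → Finset (Γ ⧸ M) :=
    fun R => Finset.univ.filter (fun ω => ∀ r ∈ R, r • ω = ω) with hfixdef
  have hmemfix : ∀ (R : Subgroup Γ) (ω : Γ ⧸ M), ω ∈ fix R ↔ ∀ r ∈ R, r • ω = ω := by
    intro R ω
    simp [hfixdef]
  have main : ∏ ω : Γ ⧸ M, fOm ϕ A hAM a ω = ∏ ω ∈ fix S₀, fOm ϕ A hAM a ω := by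
    apply gen_induction S₀ hS₀ Bad hconj hpow hgen
      (fun R => ∏ ω : Γ ⧸ M, fOm ϕ A hAM a ω = ∏ ω ∈ fix R, fOm ϕ A hAM a ω)
    · have : fix ⊥ = Finset.univ := by
        ext ω
        rw [hmemfix]
        simp
      rw [this]
    · intro R _ hR b _ hbB hbN hbp
      rw [hR]
      have h1 := prod_eq_prod_fixed hp b (fOm ϕ A hAM a) (fix R).card (fix R) le_rfl
        (by
          intro ω hω
          rw [hmemfix] at hω ⊢
          intro r hr
          have h2 : b⁻¹ * r * b ∈ R := by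
            apply (Subgroup.mem_normalizer_iff.mp hbN _).mpr
            have e : b * (b⁻¹ * r * b) * b⁻¹ = r := by group
            rw [e]; exact hr
          have h3 := hω _ h2
          calc r • b • ω = (b * (b⁻¹ * r * b)) • ω := by rw [← mul_smul]; congr 1; group
            _ = b • ω := by rw [mul_smul, h3])
        (by
          intro ω hω
          rw [hmemfix] at hω
          exact hω _ hbp)
        (fun ω _ => hnorm b hbB ω)
      rw [h1]
      apply Finset.prod_congr _ (fun _ _ => rfl)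
      ext ω
      rw [Finset.mem_filter, hmemfix, hmemfix]
      constructor
      · rintro ⟨h2, h3⟩ x hx
        have hle : R ⊔ Subgroup.zpowers b ≤ MulAction.stabilizer Γ ω := by
          apply sup_le
          · intro r hr
            exact h2 r hr
          · rw [Subgroup.zpowers_le]
            exact h3
        exact hle hx
      · intro h2
        exact ⟨fun r hr => h2 r (Subgroup.mem_sup_left hr),
          h2 b (Subgroup.mem_sup_right (Subgroup.mem_zpowers b))⟩
  rw [main]
  have hfixS : fix S₀ = {((1 : Γ) : Γ ⧸ M)} := by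
    ext ω
    rw [hmemfix, Finset.mem_singleton]
    constructor
    · intro h
      induction ω using QuotientGroup.induction_on with
      | H t =>
        have ht : t ∈ M := by
          apply hfix
          intro s hs
          have h1 := h s hs
          rw [MulAction.Quotient.smul_coe, smul_eq_mul] at h1
          have h2 := QuotientGroup.eq.mp h1
          have e : (s * t)⁻¹ * t = (t⁻¹ * s * t)⁻¹ := by group
          rw [e] at h2
          exact (Subgroup.inv_mem_iff M).mp h2
        apply QuotientGroup.eq.mpr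
        simpa using ht
    · rintro rfl s hs
      rw [MulAction.Quotient.smul_coe, smul_eq_mul]
      apply QuotientGroup.eq.mpr
      simpa using hS₀M hs
  rw [hfixS, Finset.prod_singleton, fOm_mk, conjHomT_apply]
  congr 1
  apply Subtype.ext
  simp

/-- consequently the elements of `A` in the derived subgroup lie in the derived subgroup of `M` -/
theorem mem_commutator_of_generated (S₀ : Subgroup Γ) (hS₀ : IsPGroup p S₀) (hS₀M : S₀ ≤ M)
    (Bad : Γ → Prop)
    (hconj : ∀ b g : Γ, Bad b → Bad (g * b * g⁻¹)) (hpow : ∀ (b : Γ) (k : ℕ), Bad b → Bad (b ^ k))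
    (hgen : S₀ ≤ Subgroup.closure {b | b ∈ S₀ ∧ Bad b})
    (hfix : ∀ t : Γ, (∀ s ∈ S₀, t⁻¹ * s * t ∈ M) → t ∈ M)
    (a : ↥A)
    (hnorm : ∀ b : Γ, Bad b → ∀ ω : Γ ⧸ M,
      ∏ i ∈ Finset.range p, fOm (Abelianization.of : ↥M →* Abelianization ↥M) A hAM a (b ^ i • ω) = 1)
    (haG : (a : Γ) ∈ ⁅(⊤ : Subgroup Γ), (⊤ : Subgroup Γ)⁆) : (a : Γ) ∈ ⁅M, M⁆ := by
  have h1 := transfer_eq_of_generated (Abelianization.of : ↥M →* Abelianization ↥M) A hAM S₀ hS₀
    hS₀M Bad hconj hpow hgen hfix a hnorm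
  have h2 : MonoidHom.transfer (Abelianization.of : ↥M →* Abelianization ↥M) (a : Γ) = 1 := by
    apply Abelianization.commutator_subset_ker
    rw [commutator_def]; exact haG
  rw [h2] at h1
  have h3 : (⟨(a : Γ), hAM a.2⟩ : ↥M) ∈ commutator ↥M := by
    rw [← Abelianization.ker_of, MonoidHom.mem_ker]
    exact h1.symm
  rw [← Subgroup.map_subtype_commutator]
  exact ⟨_, h3, rfl⟩

end tr

end Cfsg.Agent.Helper10
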