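import Mathlib
import Cfsg.Agent.Lib.Helper10.TransferCalc
import Cfsg.Agent.Lib.Helper10.NormPoly

set_option autoImplicit false

namespace Cfsg.Agent.Helper10

open Finset
open scoped commutatorElement

section subgroup

variable {Γ : Type*} [Group Γ] (A : Subgroup Γ) [hA : A.Normal]

/-- the commutative group structure on a commutative subgroup -/
@[reducible] def commGroupOfComm (hcomm : ∀ a ∈ A, ∀ a' ∈ A, a * a' = a' * a) : CommGroup ↥A :=
  { (inferInstance : Group ↥A) with mul_comm := fun a b => Subtype.ext (hcomm a a.2 b b.2) }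

/-- `(1 - b)^(p-1)` vanishes on the abelian normal subgroup `A` -/
def BadOn (hcomm : ∀ a ∈ A, ∀ a' ∈ A, a * a' = a' * a) (p : ℕ) (b : Γ) : Prop :=
  letI := commGroupOfComm A hcomm
  BadEnd (MulAut.conjNormal (H := A)) p b

variable (hcomm : ∀ a ∈ A, ∀ a' ∈ A, a * a' = a' * a)

theorem badOn_conj {p : ℕ} (b g : Γ) (hb : BadOn A hcomm p b) : BadOn A hcomm p (g * b * g⁻¹) := by
  letI := commGroupOfComm A hcomm
  exact badEnd_conj (MulAut.conjNormal (H := A)) b g hb

theorem badOn_pow {p : ℕ} (b : Γ) (k : ℕ) (hb : BadOn A hcomm p b) : BadOn A hcomm p (b ^ k) := by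
  letI := commGroupOfComm A hcomm
  exact badEnd_pow (MulAut.conjNormal (H := A)) b k hb

theorem badOn_inv {p : ℕ} (b : Γ) (hb : BadOn A hcomm p b) : BadOn A hcomm p b⁻¹ := by
  letI := commGroupOfComm A hcomm
  exact badEnd_inv (MulAut.conjNormal (H := A)) b hb

theorem badOn_of_iterate {p : ℕ} (b : Γ)
    (h : ∀ a ∈ A, (fun y : Γ => ⁅y, b⁆)^[p - 1] a = 1) : BadOn A hcomm p b := by
  letI := commGroupOfComm A hcomm
  apply badEnd_of_iterate (MulAut.conjNormal (H := A)) b
  intro x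
  have key : ∀ (k : ℕ) (x : ↥A),
      (((fun y : ↥A => y * ((MulAut.conjNormal (H := A)) b y)⁻¹)^[k] x : ↥A) : Γ) =
        (fun y : Γ => ⁅y, b⁆)^[k] (x : Γ) := by
    intro k
    induction k with
    | zero => intro x; rfl
    | succ k ih =>
      intro x
      rw [Function.iterate_succ_apply', Function.iterate_succ_apply', ← ih]
      simp only [Subgroup.coe_mul, Subgroup.coe_inv, MulAut.conjNormal_apply]
      rw [commutatorElement_def]
      group
  apply Subtype.ext
  rw [key, h _ x.2]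
  rfl

/-- the `p`-term product of the conjugates of `a` by the powers of a bad element is trivial under
every homomorphism to a commutative group -/
theorem prod_hom_conj_eq_one {p : ℕ} [Fact p.Prime] (hexp : ∀ a ∈ A, a ^ p = 1) (b : Γ)
    (hb : BadOn A hcomm p b) {C : Type*} [CommGroup C] (g : ↥A →* C) (a : ↥A) :
    ∏ i ∈ range p, g ⟨b ^ i * (a : Γ) * (b ^ i)⁻¹, hA.conj_mem _ a.2 _⟩ = 1 := by
  letI := commGroupOfComm A hcomm
  have hexp' : ∀ x : ↥A, x ^ p = 1 := by
    intro x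
    apply Subtype.ext
    simpa using hexp x x.2
  have h1 := sum_pow_apply_eq_zero (MulAut.conjNormal (H := A)) hexp' b hb (Additive.ofMul a)
  rw [LinearMap.sum_apply] at h1
  have h2 : ∀ i : ℕ, ((endOf (MulAut.conjNormal (H := A)) b) ^ i) (Additive.ofMul a) =
      Additive.ofMul (⟨b ^ i * (a : Γ) * (b ^ i)⁻¹, hA.conj_mem _ a.2 _⟩ : ↥A) := by
    intro i
    rw [← map_pow, endOf_apply]
    congr 1
  simp only [h2] at h1
  rw [← ofMul_prod] at h1
  have h3 : ∏ i ∈ range p, (⟨b ^ i * (a : Γ) * (b ^ i)⁻¹, hA.conj_mem _ a.2 _⟩ : ↥A) = 1 := h1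
  rw [← map_prod, h3, map_one]

end subgroup

section final

variable {Γ : Type*} [Group Γ] [Finite Γ] {p : ℕ} [Fact p.Prime] {M : Subgroup Γ}
  (A : Subgroup Γ) [hA : A.Normal] (hAM : A ≤ M)
  (hcomm : ∀ a ∈ A, ∀ a' ∈ A, a * a' = a' * a) (hexp : ∀ a ∈ A, a ^ p = 1)

include hAM hexp in
/-- the transfer computation: an element of the elementary abelian normal subgroup `A` that lies
in the derived subgroup lies in the derived subgroup of `M` -/
theorem mem_commutator_of_badOn (S₀ : Subgroup Γ) (hS₀ : IsPGroup p S₀) (hS₀M : S₀ ≤ M)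
    (hgen : S₀ ≤ Subgroup.closure {b | b ∈ S₀ ∧ BadOn A hcomm p b})
    (hfix : ∀ t : Γ, (∀ s ∈ S₀, t⁻¹ * s * t ∈ M) → t ∈ M)
    (a : Γ) (ha : a ∈ A) (haG : a ∈ ⁅(⊤ : Subgroup Γ), (⊤ : Subgroup Γ)⁆) : a ∈ ⁅M, M⁆ := by
  apply mem_commutator_of_generated A hAM S₀ hS₀ hS₀M (BadOn A hcomm p)
    (fun b g hb => badOn_conj A hcomm b g hb) (fun b k hb => badOn_pow A hcomm b k hb) hgen hfix
    ⟨a, ha⟩ ?_ haG
  intro b hb ω
  have h1 := prod_hom_conj_eq_one A hcomm hexp b⁻¹ (badOn_inv A hcomm b hb)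
    (conjHomT (Abelianization.of : ↥M →* Abelianization ↥M) A hAM ω.out) ⟨a, ha⟩
  rw [← h1]
  apply Finset.prod_congr rfl
  intro i _
  rw [fOm_smul]
  unfold fOm
  congr 1
  apply Subtype.ext
  simp only [inv_pow, inv_inv]

end final

end Cfsg.Agent.Helper10
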