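import Mathlib
import Cfsg.Agent.Lib.Helper10.HomNil
import Cfsg.Agent.Lib.Helper10.TransferBad

set_option autoImplicit false

/-! **Lemma H**: an element acting quadratically on an abelian normal subgroup `Y` and cubically
(modulo `Z₀`) on a normal subgroup `B` acts with nilpotency index at most four on a normal subgroup
`N` that embeds (modulo the centralizer of `B`) in `Hom(B/Z₀, Y)` by commutation. -/

namespace Cfsg.Agent.Helper10

open Cfsg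
open scoped commutatorElement

variable {Γ : Type*} [Group Γ] [Finite Γ]

theorem hom_nil_four (N B Y Z₀ : Subgroup Γ) [hNn : N.Normal] [hBn : B.Normal] [hYn : Y.Normal]
    (hYc : ∀ y ∈ Y, ∀ y' ∈ Y, y * y' = y' * y)
    (h1 : ∀ x ∈ N, ∀ a ∈ B, ⁅x, a⁆ ∈ Y)
    (h2N : ∀ x ∈ N, ∀ y ∈ Y, x * y = y * x)
    (h2B : ∀ a ∈ B, ∀ y ∈ Y, a * y = y * a)
    (h3 : ∀ x ∈ N, ∀ z ∈ Z₀, ⁅x, z⁆ = 1)
    (g : Γ)
    (h4 : ∀ y ∈ Y, ⁅g, ⁅g, y⁆⁆ = 1)
    (h5 : ∀ a ∈ B, ⁅g⁻¹, ⁅g⁻¹, ⁅g⁻¹, a⁆⁆⁆ ∈ Z₀) :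
    iterCommutator N (Subgroup.zpowers g) 4 ≤ N ⊓ Subgroup.centralizer (B : Set Γ) := by
  classical
  letI : CommGroup ↥Y := commGroupOfComm Y hYc
  -- the homomorphisms `a ↦ [x, a]`
  let φ : ↥N → (↥B →* ↥Y) := fun x =>
    { toFun := fun a => ⟨⁅(x : Γ), (a : Γ)⁆, h1 x x.2 a a.2⟩
      map_one' := Subtype.ext (by simp)
      map_mul' := fun a b => Subtype.ext (by
        show ⁅(x : Γ), (a : Γ) * (b : Γ)⁆ = ⁅(x : Γ), (a : Γ)⁆ * ⁅(x : Γ), (b : Γ)⁆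
        rw [commutatorElement_mul_right_eq]
        have := h2B a a.2 _ (h1 x x.2 b b.2)
        rw [this]
        group) }
  have hφ : ∀ (x : ↥N) (a : ↥B), ((φ x a : ↥Y) : Γ) = ⁅(x : Γ), (a : Γ)⁆ := fun x a => rfl
  let Φ : ↥N →* (↥B →* ↥Y) :=
    { toFun := φ
      map_one' := by
        ext a
        rw [hφ]
        simp
      map_mul' := fun x y => by
        ext a
        rw [MonoidHom.mul_apply, Subgroup.coe_mul, hφ, hφ, hφ, Subgroup.coe_mul,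
          commutatorElement_mul_left_eq_conj_mul]
        have h6 := h2N x x.2 _ (h1 y y.2 a a.2)
        rw [h6]
        have h7 := hYc _ (h1 y y.2 a a.2) _ (h1 x x.2 a a.2)
        calc ⁅(y : Γ), (a : Γ)⁆ * (x : Γ) * (x : Γ)⁻¹ * ⁅(x : Γ), (a : Γ)⁆
            = ⁅(y : Γ), (a : Γ)⁆ * ⁅(x : Γ), (a : Γ)⁆ := by group
          _ = ⁅(x : Γ), (a : Γ)⁆ * ⁅(y : Γ), (a : Γ)⁆ := h7 }
  have hΦ : ∀ (x : ↥N) (a : ↥B), ((Φ x a : ↥Y) : Γ) = ⁅(x : Γ), (a : Γ)⁆ := fun x a => rfl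
  let σ : ↥B →* ↥B := (MulAut.conjNormal g⁻¹ : MulAut ↥B).toMonoidHom
  let τ : ↥Y →* ↥Y := (MulAut.conjNormal g : MulAut ↥Y).toMonoidHom
  have hσ : ∀ a : ↥B, ((σ a : ↥B) : Γ) = g⁻¹ * a * g := by
    intro a
    have := MulAut.conjNormal_apply (H := B) g⁻¹ a
    rw [inv_inv] at this
    exact this
  have hτ : ∀ y : ↥Y, ((τ y : ↥Y) : Γ) = g * y * g⁻¹ := fun y => MulAut.conjNormal_apply g y
  let Lop : (↥B →* ↥Y) →* (↥B →* ↥Y) :=
    { toFun := fun ψ => τ.comp ψ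
      map_one' := by ext a; simp
      map_mul' := fun ψ ψ' => by ext a; simp }
  let Rop : (↥B →* ↥Y) →* (↥B →* ↥Y) :=
    { toFun := fun ψ => ψ.comp σ
      map_one' := by ext a; simp
      map_mul' := fun ψ ψ' => by ext a; simp }
  have hLop : ∀ (ψ : ↥B →* ↥Y) (a : ↥B), Lop ψ a = τ (ψ a) := fun ψ a => rfl
  have hRop : ∀ (ψ : ↥B →* ↥Y) (a : ↥B), Rop ψ a = ψ (σ a) := fun ψ a => rfl
  let D : (↥B →* ↥Y) →* (↥B →* ↥Y) := MonoidHom.id _ / (Lop.comp Rop)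
  have hD : ∀ ψ : ↥B →* ↥Y, D ψ = ψ / Lop (Rop ψ) := fun ψ => rfl
  have hgN : g ∈ Subgroup.normalizer (N : Set Γ) := by
    rw [Subgroup.normalizer_eq_top_iff.mpr hNn]; exact Subgroup.mem_top g
  -- the intertwining relation
  have hcomm : ∀ (x : Γ) (hx : x ∈ N), ∃ h : ⁅x, g⁆ ∈ N, Φ ⟨⁅x, g⁆, h⟩ = D (Φ ⟨x, hx⟩) := by
    intro x hx
    have hconj : g * x * g⁻¹ ∈ N := hNn.conj_mem x hx g
    have hc : ⁅x, g⁆ ∈ N := by
      have e : ⁅x, g⁆ = x * (g * x * g⁻¹)⁻¹ := by rw [commutatorElement_def]; group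
      rw [e]
      exact N.mul_mem hx (N.inv_mem hconj)
    refine ⟨hc, ?_⟩
    have e1 : (⟨⁅x, g⁆, hc⟩ : ↥N) = ⟨x, hx⟩ * (⟨g * x * g⁻¹, hconj⟩ : ↥N)⁻¹ := by
      apply Subtype.ext
      simp only [Subgroup.coe_mul, Subgroup.coe_inv, commutatorElement_def]
      group
    have e2 : Φ ⟨g * x * g⁻¹, hconj⟩ = Lop (Rop (Φ ⟨x, hx⟩)) := by
      ext a
      rw [hLop, hRop, hτ, hΦ, hΦ, hσ]
      simp only [commutatorElement_def]
      group
    rw [e1, map_mul, map_inv, e2, hD, div_eq_mul_inv]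
  -- nilpotency
  set l := toE Lop with hl
  set r := toE Rop with hr
  have hlr : Commute l r := by
    show l * r = r * l
    rw [hl, hr, ← toE_comp, ← toE_comp]
    rfl
  have hl1 : (l - 1) * (l - 1) = 0 := by
    apply LinearMap.ext
    intro v
    obtain ⟨ψ, rfl⟩ := Additive.ofMul.surjective v
    have step : ∀ ψ' : ↥B →* ↥Y, (l - 1) (Additive.ofMul ψ') = Additive.ofMul (Lop ψ' / ψ') := by
      intro ψ'
      rw [LinearMap.sub_apply, hl, toE_apply, Module.End.one_apply, ← ofMul_div]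
    rw [Module.End.mul_apply, step, step, LinearMap.zero_apply]
    apply congrArg Additive.ofMul
    ext a
    rw [MonoidHom.div_apply, hLop, MonoidHom.div_apply, hLop, MonoidHom.one_apply]
    set y := ψ a with hy
    have h6 := h4 y y.2
    have e : ((τ (τ y / y) / (τ y / y) : ↥Y) : Γ) = ⁅g, ⁅g, (y : Γ)⁆⁆ := by
      simp only [div_eq_mul_inv, Subgroup.coe_mul, Subgroup.coe_inv, hτ, commutatorElement_def]
    rw [e, h6]
    rfl
  set X := (l - 1) * r with hX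
  set Yr := r - 1 with hYr
  have hcl1 : Commute (l - 1) r := (hlr.sub_left (Commute.one_left r))
  have hcl2 : Commute (l - 1) (r - 1) := hcl1.sub_right (Commute.one_right _)
  have hcr : Commute r (r - 1) := (Commute.refl r).sub_right (Commute.one_right r)
  have hXY : X * Yr = Yr * X := (hcl2.mul_left hcr)
  have hXX : X * X = 0 := by
    rw [hX]
    calc (l - 1) * r * ((l - 1) * r) = (l - 1) * (r * (l - 1)) * r := by noncomm_ring
      _ = (l - 1) * ((l - 1) * r) * r := by rw [hcl1.eq]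
      _ = ((l - 1) * (l - 1)) * (r * r) := by noncomm_ring
      _ = 0 := by rw [hl1, zero_mul]
  have hsum : X + Yr = l * r - 1 := by rw [hX, hYr]; noncomm_ring
  have hDE : toE D = 1 - l * r := by
    show toE (MonoidHom.id _ / (Lop.comp Rop)) = 1 - l * r
    rw [toE_div, toE_id, toE_comp]
  -- `δ a = [g⁻¹, a]`
  let δ : ↥B → ↥B := fun a => σ a * a⁻¹
  have hδ : ∀ a : ↥B, ((δ a : ↥B) : Γ) = ⁅g⁻¹, (a : Γ)⁆ := by
    intro a
    show ((σ a * a⁻¹ : ↥B) : Γ) = _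
    rw [Subgroup.coe_mul, Subgroup.coe_inv, hσ, commutatorElement_def]
    group
  have hYstep : ∀ ψ : ↥B →* ↥Y, ∃ ψ' : ↥B →* ↥Y, Yr (Additive.ofMul ψ) = Additive.ofMul ψ' ∧
      ∀ a, ψ' a = ψ (δ a) := by
    intro ψ
    refine ⟨Rop ψ / ψ, ?_, ?_⟩
    · rw [hYr, LinearMap.sub_apply, hr, toE_apply, Module.End.one_apply, ← ofMul_div]
    · intro a
      rw [MonoidHom.div_apply, hRop, ← map_div, div_eq_mul_inv]
  have hn : ∀ x : ↥N, D^[4] (Φ x) = 1 := by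
    intro x
    have h6 : (toE D ^ 4) (Additive.ofMul (Φ x)) = 0 := by
      rw [hDE]
      have h7 : (1 - l * r) ^ 4 = (X + Yr) ^ 4 := by
        rw [hsum]
        have : (1 - l * r) = -(l * r - 1) := by noncomm_ring
        rw [this, Even.neg_pow (by decide)]
      rw [h7, add_pow_four_of_sq_zero X Yr hXY hXX, Module.End.mul_apply]
      obtain ⟨ψ₁, e₁, hψ₁⟩ := hYstep (Φ x)
      obtain ⟨ψ₂, e₂, hψ₂⟩ := hYstep ψ₁
      obtain ⟨ψ₃, e₃, hψ₃⟩ := hYstep ψ₂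
      have h8 : (Yr ^ 3) (Additive.ofMul (Φ x)) = Additive.ofMul ψ₃ := by
        rw [pow_succ, pow_succ, pow_one, Module.End.mul_apply, Module.End.mul_apply, e₁, e₂, e₃]
      have h9 : ψ₃ = 1 := by
        ext a
        rw [hψ₃, hψ₂, hψ₁, hΦ, MonoidHom.one_apply]
        have h10 := h5 a a.2
        rw [← hδ a] at h10
        rw [← hδ (δ a)] at h10
        rw [← hδ (δ (δ a))] at h10
        rw [h3 x x.2 _ h10]
        rfl
      rw [h8, h9]
      exact map_zero _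
    rw [toE_pow_apply] at h6
    exact h6
  have hI := iterCommutator_le_ker N g hgN Φ D hcomm 4 hn
  refine hI.trans ?_
  rintro _ ⟨x, hx, rfl⟩
  refine ⟨x.2, ?_⟩
  show (x : Γ) ∈ Subgroup.centralizer (B : Set Γ)
  rw [Subgroup.mem_centralizer_iff]
  intro a ha
  have hx' : Φ x = 1 := MonoidHom.mem_ker.mp hx
  have h6 : ((Φ x ⟨a, ha⟩ : ↥Y) : Γ) = 1 := by rw [hx']; rfl
  rw [hΦ, commutatorElement_def] at h6
  show a * (x : Γ) = (x : Γ) * a
  calc a * (x : Γ) = ((x : Γ) * a * (x : Γ)⁻¹ * a⁻¹)⁻¹ * ((x : Γ) * a) := by group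
    _ = (x : Γ) * a := by rw [h6]; simp

end Cfsg.Agent.Helper10
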