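import Mathlib
import Cfsg.Prelude.Def_ConjugacyFunctors

set_option autoImplicit false

namespace Cfsg.Agent.Helper10

open Cfsg

variable {P : Type*} [Group P]

theorem kUpperStarFamily_antitone {Q Q' : Subgroup P} (h : Q ≤ Q') :
    kUpperStarFamily Q' ⊆ kUpperStarFamily Q := by
  intro B hB
  exact ⟨hB.1, le_trans (Subgroup.commutator_mono le_rfl h) hB.2⟩

theorem kLowerStarFamily_antitone {Q Q' : Subgroup P} (h : Q ≤ Q') :
    kLowerStarFamily Q' ⊆ kLowerStarFamily Q := by
  intro B hB
  refine ⟨hB.1, le_trans h hB.2.1, ?_⟩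
  intro A hA hAQ
  exact hB.2.2 A hA (le_trans hAQ h)

theorem sSup_kUpper_antitone {Q Q' : Subgroup P} (h : Q ≤ Q') :
    sSup (kUpperStarFamily Q') ≤ sSup (kUpperStarFamily Q) :=
  sSup_le_sSup (kUpperStarFamily_antitone h)

theorem sSup_kLower_antitone {Q Q' : Subgroup P} (h : Q ≤ Q') :
    sSup (kLowerStarFamily Q') ≤ sSup (kLowerStarFamily Q) :=
  sSup_le_sSup (kLowerStarFamily_antitone h)

theorem kSeqOdd_succ (n : ℕ) :
    kSeqOdd P (n + 1) = sSup (kUpperStarFamily (sSup (kLowerStarFamily (kSeqOdd P n)))) := rfl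

theorem kSeqOdd_zero : kSeqOdd P 0 = ⊤ := rfl

theorem kSeqOdd_succ_le (n : ℕ) : kSeqOdd P (n + 1) ≤ kSeqOdd P n := by
  induction n with
  | zero => rw [kSeqOdd_zero]; exact le_top
  | succ n ih =>
    rw [kSeqOdd_succ (n + 1), kSeqOdd_succ n]
    exact sSup_kUpper_antitone (sSup_kLower_antitone ih)

theorem kSeqOdd_antitone : Antitone (kSeqOdd P) :=
  antitone_nat_of_succ_le kSeqOdd_succ_le

theorem kSeqEven_le_succ (n : ℕ) : kSeqEven P n ≤ kSeqEven P (n + 1) :=
  sSup_kLower_antitone (kSeqOdd_succ_le n)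

theorem kSeqEven_monotone : Monotone (kSeqEven P) :=
  monotone_nat_of_le_succ kSeqEven_le_succ

theorem kSeqOdd_succ_eq_kSeqEven (n : ℕ) :
    kSeqOdd P (n + 1) = sSup (kUpperStarFamily (kSeqEven P n)) := rfl

/-- If the odd sequence is stationary at `n`, it stays so. -/
theorem kSeqOdd_const_of_eq {n : ℕ} (h : kSeqOdd P (n + 1) = kSeqOdd P n) :
    ∀ m, n ≤ m → kSeqOdd P m = kSeqOdd P n := by
  intro m hm
  induction m, hm using Nat.le_induction with
  | base => rfl
  | succ m hm ih =>
    rw [kSeqOdd_succ m, ih, ← kSeqOdd_succ n, h]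

theorem exists_kSeq_stable [Finite P] :
    ∃ n : ℕ, ∀ m : ℕ, n ≤ m → kSeqEven P m = kInfLower P ∧ kSeqOdd P m = kInfUpper P := by
  obtain ⟨n, hn⟩ := WellFoundedLT.antitone_chain_condition (kSeqOdd_antitone (P := P))
  refine ⟨n, fun m hm => ?_⟩
  have hodd : ∀ k, n ≤ k → kSeqOdd P k = kSeqOdd P n := fun k hk => (hn k hk).symm
  have heven : ∀ k, n ≤ k → kSeqEven P k = kSeqEven P n := by
    intro k hk
    unfold kSeqEven
    rw [hodd k hk]
  constructor
  · -- even
    rw [heven m hm]
    apply le_antisymm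
    · exact le_iSup (kSeqEven P) n
    · apply iSup_le
      intro k
      rcases le_total k n with hk | hk
      · exact kSeqEven_monotone hk
      · rw [heven k hk]
  · rw [hodd m hm]
    apply le_antisymm
    · apply le_iInf
      intro k
      rcases le_total k n with hk | hk
      · exact kSeqOdd_antitone hk
      · rw [hodd k hk]
    · exact iInf_le (kSeqOdd P) n

/-- A normal abelian subgroup lies in the class-two family. -/
theorem abelian_mem_classTwo (A : Subgroup P) (hA : IsMulCommutative ↥A) :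
    A ∈ classTwoSubgroups P := by
  show ⁅A, A⁆ ≤ Subgroup.centralizer (A : Set P)
  have : ⁅A, A⁆ = ⊥ := by
    rw [Subgroup.commutator_eq_bot_iff_le_centralizer]
    intro x hx y hy
    have := @mul_comm' _ _ hA (⟨y, hy⟩ : A) ⟨x, hx⟩
    exact congrArg Subtype.val this
  rw [this]; exact bot_le

theorem abelian_le_centralizer (A : Subgroup P) (hA : IsMulCommutative ↥A) :
    A ≤ Subgroup.centralizer (A : Set P) := by
  intro x hx y hy
  have := @mul_comm' _ _ hA (⟨y, hy⟩ : A) ⟨x, hx⟩
  exact congrArg Subtype.val this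

theorem normal_abelian_mem_lower (A : Subgroup P) [A.Normal] (hA : IsMulCommutative ↥A)
    (Q : Subgroup P) : A ∈ kLowerStarFamily Q := by
  refine ⟨abelian_mem_classTwo A hA, ?_, ?_⟩
  · rw [Subgroup.normalizer_eq_top]; exact le_top
  · intro A' _ _ _ _ _
    exact le_inf (Subgroup.commutator_le_left A A') (le_trans (Subgroup.commutator_le_left A A')
      (abelian_le_centralizer A hA))

theorem normal_abelian_mem_upper (A : Subgroup P) [A.Normal] (hA : IsMulCommutative ↥A)
    (Q : Subgroup P) : A ∈ kUpperStarFamily Q := by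
  refine ⟨abelian_mem_classTwo A hA, ?_⟩
  exact le_inf (Subgroup.commutator_le_left A Q) (le_trans (Subgroup.commutator_le_left A Q)
      (abelian_le_centralizer A hA))

end Cfsg.Agent.Helper10
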