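import Mathlib
import Cfsg.Prelude.Def_ConjugacyFunctors
import Cfsg.Agent.Lib.Helper10.KSeq

set_option autoImplicit false

namespace Cfsg.Agent.Helper10

open Cfsg
open scoped commutatorElement

variable {P : Type*} [Group P]

/-- The subgroup of elements normalizing `N` whose commutators with `Q` lie in `N`. -/
def commNormSubgroup (N Q : Subgroup P) : Subgroup P where
  carrier := {u : P | u ∈ Subgroup.normalizer (N : Set P) ∧ ∀ q : P, q ∈ Q → ⁅u, q⁆ ∈ N}
  one_mem' := ⟨Subgroup.one_mem _, fun q _ => by rw [commutatorElement_one_left]; exact N.one_mem⟩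
  mul_mem' := by
    rintro u v ⟨hu, hu'⟩ ⟨hv, hv'⟩
    refine ⟨Subgroup.mul_mem _ hu hv, fun q hq => ?_⟩
    rw [commutatorElement_mul_left_eq_conj_mul]
    exact N.mul_mem ((Subgroup.mem_normalizer_iff.mp hu _).mp (hv' q hq)) (hu' q hq)
  inv_mem' := by
    rintro u ⟨hu, hu'⟩
    refine ⟨Subgroup.inv_mem _ hu, fun q hq => ?_⟩
    rw [commutatorElement_inv_left]
    have h1 : ⁅q, u⁆ ∈ N := by rw [← commutatorElement_inv]; exact N.inv_mem (hu' q hq)
    have h2 := (Subgroup.mem_normalizer_iff.mp (Subgroup.inv_mem _ hu) _).mp h1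
    simpa using h2

theorem le_commNormSubgroup_iff {N Q H : Subgroup P} :
    H ≤ commNormSubgroup N Q ↔ H ≤ Subgroup.normalizer (N : Set P) ∧ ⁅H, Q⁆ ≤ N := by
  constructor
  · intro h
    refine ⟨fun u hu => (h hu).1, ?_⟩
    rw [Subgroup.commutator_le]
    intro u hu q hq
    exact (h hu).2 q hq
  · rintro ⟨h1, h2⟩ u hu
    exact ⟨h1 hu, fun q hq => h2 (Subgroup.commutator_mem_commutator hu hq)⟩

/-- Commutators of a join, modulo a subgroup normalized by both pieces. -/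
theorem sup_commutator_le {B Z Q N : Subgroup P} (hB : ⁅B, Q⁆ ≤ N) (hZ : ⁅Z, Q⁆ ≤ N)
    (hBN : B ≤ Subgroup.normalizer (N : Set P)) (hZN : Z ≤ Subgroup.normalizer (N : Set P)) :
    ⁅B ⊔ Z, Q⁆ ≤ N := by
  have h : B ⊔ Z ≤ commNormSubgroup N Q :=
    sup_le (le_commNormSubgroup_iff.mpr ⟨hBN, hB⟩) (le_commNormSubgroup_iff.mpr ⟨hZN, hZ⟩)
  exact (le_commNormSubgroup_iff.mp h).2

theorem commutator_sup_le {B Z Q N : Subgroup P} (hB : ⁅Q, B⁆ ≤ N) (hZ : ⁅Q, Z⁆ ≤ N)
    (hBN : B ≤ Subgroup.normalizer (N : Set P)) (hZN : Z ≤ Subgroup.normalizer (N : Set P)) :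
    ⁅Q, B ⊔ Z⁆ ≤ N := by
  rw [Subgroup.commutator_comm] at hB hZ ⊢
  exact sup_commutator_le hB hZ hBN hZN

/-- iterated commutator sequence `[M, R, R, ..., R]` -/
def iterComm (M R : Subgroup P) : ℕ → Subgroup P
  | 0 => M
  | k + 1 => ⁅iterComm M R k, R⁆

/-- In a nilpotent group, if `R` normalizes `M` and `M` is not inside `N`, some element of `M`
outside `N` has all its commutators with `R` inside `N`. -/
theorem exists_mem_not_mem_commutator_mem [hP : Group.IsNilpotent P] (R M N : Subgroup P)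
    (hR : R ≤ Subgroup.normalizer (M : Set P)) (hMN : ¬ M ≤ N) :
    ∃ x : P, x ∈ M ∧ x ∉ N ∧ ∀ r : P, r ∈ R → ⁅x, r⁆ ∈ N := by
  classical
  let F : ℕ → Subgroup P := iterComm M R
  have hFs : ∀ k, F (k + 1) = ⁅F k, R⁆ := fun k => rfl
  have hFM : ∀ k, F k ≤ M := by
    intro k
    induction k with
    | zero => exact le_rfl
    | succ k ih =>
      rw [hFs]
      refine le_trans (Subgroup.commutator_mono ih le_rfl) ?_
      exact Subgroup.le_normalizer_iff_commutator_le_left.mp hR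
  have hFl : ∀ k, F k ≤ Subgroup.lowerCentralSeries (⊤ : Subgroup P) k := by
    intro k
    induction k with
    | zero => exact le_top
    | succ k ih =>
      rw [hFs, Subgroup.lowerCentralSeries_succ]
      exact Subgroup.commutator_mono ih le_top
  obtain ⟨n, hn⟩ := Subgroup.nilpotent_iff_lowerCentralSeries.mp hP
  have hex : ∃ k, F k ≤ N := ⟨n, by
    have := hFl n
    rw [hn] at this
    exact le_trans this bot_le⟩
  obtain ⟨k0, hk0⟩ := hex
  have key : ∀ k, F k ≤ N → ∃ x : P, x ∈ M ∧ x ∉ N ∧ ∀ r : P, r ∈ R → ⁅x, r⁆ ∈ N := by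
    intro k
    induction k with
    | zero => intro h; exact absurd h hMN
    | succ k ih =>
      intro hk2
      by_cases hk1 : F k ≤ N
      · exact ih hk1
      · obtain ⟨x, hx, hxN⟩ := SetLike.not_le_iff_exists.mp hk1
        refine ⟨x, hFM k hx, hxN, fun r hr => ?_⟩
        apply hk2
        rw [hFs]
        exact Subgroup.commutator_mem_commutator hx hr
  exact key k0 hk0

/-- the "centre" `B ⊓ C(B)` of a subgroup, as a subgroup of the ambient group -/
abbrev zOf (B : Subgroup P) : Subgroup P := B ⊓ Subgroup.centralizer (B : Set P)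

theorem normalizer_le_normalizer_centralizer_kseq (B : Subgroup P) :
    Subgroup.normalizer (B : Set P) ≤ Subgroup.normalizer (Subgroup.centralizer (B : Set P) : Set P) := by
  intro g hg
  rw [Subgroup.mem_normalizer_iff]
  intro c
  constructor
  · intro hc b hb
    -- b * (g c g⁻¹) = (g c g⁻¹) * b
    have hb' : g⁻¹ * b * g ∈ B := by
      have := (Subgroup.mem_normalizer_iff.mp (Subgroup.inv_mem _ hg) b).mp hb
      simpa using this
    have := hc (g⁻¹ * b * g) hb'
    calc b * (g * c * g⁻¹) = g * ((g⁻¹ * b * g) * c) * g⁻¹ := by group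
      _ = g * (c * (g⁻¹ * b * g)) * g⁻¹ := by rw [this]
      _ = g * c * g⁻¹ * b := by group
  · intro hc b hb
    have hb' : g * b * g⁻¹ ∈ B := (Subgroup.mem_normalizer_iff.mp hg b).mp hb
    have := hc (g * b * g⁻¹) hb'
    calc b * c = g⁻¹ * ((g * b * g⁻¹) * (g * c * g⁻¹)) * g := by group
      _ = g⁻¹ * ((g * c * g⁻¹) * (g * b * g⁻¹)) * g := by rw [this]
      _ = c * b := by group

theorem normalizer_le_normalizer_zOf (B : Subgroup P) :
    Subgroup.normalizer (B : Set P) ≤ Subgroup.normalizer (zOf B : Set P) := by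
  intro g hg
  have hg2 := normalizer_le_normalizer_centralizer_kseq B hg
  rw [Subgroup.mem_normalizer_iff] at hg hg2 ⊢
  intro c
  rw [Subgroup.mem_inf, Subgroup.mem_inf, hg c, hg2 c]

end Cfsg.Agent.Helper10

namespace Cfsg.Agent.Helper10

open Cfsg
open scoped commutatorElement

variable {P : Type*} [Group P]

section ext

variable {B Z Q : Subgroup P}

theorem le_centralizer_sup {H B Z : Subgroup P} (h1 : H ≤ Subgroup.centralizer (B : Set P))
    (h2 : H ≤ Subgroup.centralizer (Z : Set P)) :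
    H ≤ Subgroup.centralizer ((B ⊔ Z : Subgroup P) : Set P) := by
  rw [Subgroup.le_centralizer_iff] at h1 h2 ⊢
  exact sup_le h1 h2

theorem zOf_le_zOf_sup (hZB : Z ≤ Subgroup.centralizer (B : Set P)) : zOf B ≤ zOf (B ⊔ Z) := by
  refine le_inf (le_trans inf_le_left le_sup_left) ?_
  refine le_centralizer_sup inf_le_right ?_
  exact le_trans inf_le_left (Subgroup.le_centralizer_iff.mp hZB)

theorem commutator_bot_of_le_centralizer (hZB : Z ≤ Subgroup.centralizer (B : Set P)) :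
    ⁅Z, B⁆ = ⊥ := Subgroup.commutator_eq_bot_iff_le_centralizer.mpr hZB

theorem commutator_ZQ_le_zOf (hZB : Z ≤ Subgroup.centralizer (B : Set P))
    (hQB : Q ≤ Subgroup.normalizer (B : Set P)) (hZQ : ⁅Z, Q⁆ ≤ B) : ⁅Z, Q⁆ ≤ zOf B := by
  refine le_inf hZQ ?_
  rw [← Subgroup.commutator_eq_bot_iff_le_centralizer]
  apply Subgroup.commutator_commutator_eq_bot_of_rotate
  · -- ⁅⁅Q, B⁆, Z⁆ = ⊥
    rw [eq_bot_iff]
    have h1 : ⁅Q, B⁆ ≤ B := Subgroup.le_normalizer_iff_commutator_le_right.mp hQB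
    have h2 : ⁅B, Z⁆ = ⊥ := by
      rw [Subgroup.commutator_comm]; exact commutator_bot_of_le_centralizer hZB
    calc ⁅⁅Q, B⁆, Z⁆ ≤ ⁅B, Z⁆ := Subgroup.commutator_mono h1 le_rfl
      _ = ⊥ := h2
  · -- ⁅⁅B, Z⁆, Q⁆ = ⊥
    have h2 : ⁅B, Z⁆ = ⊥ := by
      rw [Subgroup.commutator_comm]; exact commutator_bot_of_le_centralizer hZB
    rw [h2, Subgroup.commutator_bot_left]

theorem le_normalizer_zOf_of_le_centralizer (hZB : Z ≤ Subgroup.centralizer (B : Set P)) :
    Z ≤ Subgroup.normalizer (zOf B : Set P) :=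
  le_trans hZB (le_trans (Subgroup.centralizer_le_normalizer _) (normalizer_le_normalizer_zOf B))

theorem self_le_normalizer_zOf : B ≤ Subgroup.normalizer (zOf B : Set P) :=
  le_trans Subgroup.le_normalizer (normalizer_le_normalizer_zOf B)

theorem classTwo_ext (hB : B ∈ classTwoSubgroups P) (hZB : Z ≤ Subgroup.centralizer (B : Set P))
    (hZZ : Z ≤ Subgroup.centralizer (Z : Set P)) : B ⊔ Z ∈ classTwoSubgroups P := by
  show ⁅B ⊔ Z, B ⊔ Z⁆ ≤ Subgroup.centralizer ((B ⊔ Z : Subgroup P) : Set P)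
  have hBN : B ≤ Subgroup.normalizer (zOf B : Set P) := self_le_normalizer_zOf
  have hZN : Z ≤ Subgroup.normalizer (zOf B : Set P) := le_normalizer_zOf_of_le_centralizer hZB
  have hBB : ⁅B, B⁆ ≤ zOf B := le_inf (Subgroup.commutator_le_self B) hB
  have hBZ : ⁅B, Z⁆ = ⊥ := by
    rw [Subgroup.commutator_comm]; exact commutator_bot_of_le_centralizer hZB
  have hZB' : ⁅Z, B⁆ = ⊥ := commutator_bot_of_le_centralizer hZB
  have hZZ' : ⁅Z, Z⁆ = ⊥ := commutator_bot_of_le_centralizer hZZ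
  have h1 : ⁅B, B ⊔ Z⁆ ≤ zOf B := commutator_sup_le hBB (by rw [hBZ]; exact bot_le) hBN hZN
  have h2 : ⁅Z, B ⊔ Z⁆ ≤ zOf B :=
    commutator_sup_le (by rw [hZB']; exact bot_le) (by rw [hZZ']; exact bot_le) hBN hZN
  have h3 : ⁅B ⊔ Z, B ⊔ Z⁆ ≤ zOf B := sup_commutator_le h1 h2 hBN hZN
  exact le_trans h3 (le_trans (zOf_le_zOf_sup hZB) inf_le_right)

theorem upper_ext (hB : B ∈ kUpperStarFamily Q) (hZB : Z ≤ Subgroup.centralizer (B : Set P))
    (hZZ : Z ≤ Subgroup.centralizer (Z : Set P)) (hZQ : ⁅Z, Q⁆ ≤ B) :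
    B ⊔ Z ∈ kUpperStarFamily Q := by
  refine ⟨classTwo_ext hB.1 hZB hZZ, ?_⟩
  have hQB : Q ≤ Subgroup.normalizer (B : Set P) :=
    Subgroup.le_normalizer_iff_commutator_le_left.mpr (le_trans hB.2 inf_le_left)
  have h : ⁅B ⊔ Z, Q⁆ ≤ zOf B :=
    sup_commutator_le hB.2 (commutator_ZQ_le_zOf hZB hQB hZQ) self_le_normalizer_zOf
      (le_normalizer_zOf_of_le_centralizer hZB)
  exact le_trans h (zOf_le_zOf_sup hZB)

theorem lower_ext (hB : B ∈ kLowerStarFamily Q) (hZB : Z ≤ Subgroup.centralizer (B : Set P))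
    (hZZ : Z ≤ Subgroup.centralizer (Z : Set P)) (hZQ : ⁅Z, Q⁆ ≤ B) :
    B ⊔ Z ∈ kLowerStarFamily Q := by
  have hQB : Q ≤ Subgroup.normalizer (B : Set P) := hB.2.1
  refine ⟨classTwo_ext hB.1 hZB hZZ, ?_, ?_⟩
  · rw [Subgroup.le_normalizer_iff_commutator_le_right]
    have h1 : ⁅Q, B⁆ ≤ B := Subgroup.le_normalizer_iff_commutator_le_right.mp hQB
    have h2 : ⁅Q, Z⁆ ≤ B := by rw [Subgroup.commutator_comm]; exact hZQ
    have : ⁅Q, B ⊔ Z⁆ ≤ B := commutator_sup_le h1 h2 Subgroup.le_normalizer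
      (le_trans hZB (Subgroup.centralizer_le_normalizer _))
    exact le_trans this le_sup_left
  · intro A hA hAQ hBA h1 h2
    have h1' : ⁅B, ⁅A, A⁆⁆ = ⊥ := by
      rw [eq_bot_iff, ← h1]; exact Subgroup.commutator_mono le_sup_left le_rfl
    have h2' : ⁅⁅zOf B, A⁆, A⁆ = ⊥ := by
      rw [eq_bot_iff, ← h2]
      exact Subgroup.commutator_mono (Subgroup.commutator_mono (zOf_le_zOf_sup hZB) le_rfl) le_rfl
    have h3 : ⁅B, A⁆ ≤ zOf B := hB.2.2 A hA hAQ (le_trans le_sup_left hBA) h1' h2'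
    have h4 : ⁅Z, A⁆ ≤ zOf B :=
      le_trans (Subgroup.commutator_mono le_rfl hAQ) (commutator_ZQ_le_zOf hZB hQB hZQ)
    have h : ⁅B ⊔ Z, A⁆ ≤ zOf B :=
      sup_commutator_le h3 h4 self_le_normalizer_zOf (le_normalizer_zOf_of_le_centralizer hZB)
    exact le_trans h (zOf_le_zOf_sup hZB)

end ext

theorem zpowers_le_centralizer_zpowers (x : P) :
    Subgroup.zpowers x ≤ Subgroup.centralizer (Subgroup.zpowers x : Set P) :=
  Subgroup.le_centralizer_iff_isMulCommutative.mpr inferInstance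

/-- maximal member of the class-two family is self-centralizing -/
theorem classTwo_maximal_self_centralizing (B : Subgroup P) (hB : B ∈ classTwoSubgroups P)
    (hmax : ∀ C ∈ classTwoSubgroups P, B ≤ C → C = B) :
    Subgroup.centralizer (B : Set P) ≤ B := by
  intro x hx
  have hZB : Subgroup.zpowers x ≤ Subgroup.centralizer (B : Set P) := Subgroup.zpowers_le.mpr hx
  have := hmax _ (classTwo_ext hB hZB (zpowers_le_centralizer_zpowers x)) le_sup_left
  rw [← this]
  exact (le_sup_right : Subgroup.zpowers x ≤ B ⊔ Subgroup.zpowers x) (Subgroup.mem_zpowers x)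

/-- the key element: in a nilpotent group, if `Q` normalizes `B` and `C(B)` is not inside `B`
there is `x ∈ C(B)`, `x ∉ B` with `⁅zpowers x, Q⁆ ≤ B`. -/
theorem exists_ext_elt [Group.IsNilpotent P] (B Q : Subgroup P)
    (hQB : Q ≤ Subgroup.normalizer (B : Set P)) (hC : ¬ Subgroup.centralizer (B : Set P) ≤ B) :
    ∃ x : P, x ∈ Subgroup.centralizer (B : Set P) ∧ x ∉ B ∧ ⁅Subgroup.zpowers x, Q⁆ ≤ B := by
  obtain ⟨x, hx, hxB, hxQ⟩ := exists_mem_not_mem_commutator_mem Q (Subgroup.centralizer (B : Set P)) B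
    (le_trans hQB (normalizer_le_normalizer_centralizer_kseq B)) hC
  refine ⟨x, hx, hxB, ?_⟩
  have hxm : x ∈ commNormSubgroup B Q := ⟨Subgroup.centralizer_le_normalizer _ hx, hxQ⟩
  have : Subgroup.zpowers x ≤ commNormSubgroup B Q := Subgroup.zpowers_le.mpr hxm
  exact (le_commNormSubgroup_iff.mp this).2

theorem lower_maximal_self_centralizing [Group.IsNilpotent P] (B Q : Subgroup P)
    (hB : B ∈ kLowerStarFamily Q) (hmax : ∀ C ∈ kLowerStarFamily Q, B ≤ C → C = B) :
    Subgroup.centralizer (B : Set P) ≤ B := by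
  by_contra hC
  obtain ⟨x, hx, hxB, hxQ⟩ := exists_ext_elt B Q hB.2.1 hC
  have hZB : Subgroup.zpowers x ≤ Subgroup.centralizer (B : Set P) := Subgroup.zpowers_le.mpr hx
  have := hmax _ (lower_ext hB hZB (zpowers_le_centralizer_zpowers x) hxQ) le_sup_left
  apply hxB
  rw [← this]
  exact (le_sup_right : Subgroup.zpowers x ≤ B ⊔ Subgroup.zpowers x) (Subgroup.mem_zpowers x)

theorem upper_maximal_self_centralizing [Group.IsNilpotent P] (B Q : Subgroup P)
    (hB : B ∈ kUpperStarFamily Q) (hmax : ∀ C ∈ kUpperStarFamily Q, B ≤ C → C = B) :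
    Subgroup.centralizer (B : Set P) ≤ B := by
  by_contra hC
  have hQB : Q ≤ Subgroup.normalizer (B : Set P) :=
    Subgroup.le_normalizer_iff_commutator_le_left.mpr (le_trans hB.2 inf_le_left)
  obtain ⟨x, hx, hxB, hxQ⟩ := exists_ext_elt B Q hQB hC
  have hZB : Subgroup.zpowers x ≤ Subgroup.centralizer (B : Set P) := Subgroup.zpowers_le.mpr hx
  have := hmax _ (upper_ext hB hZB (zpowers_le_centralizer_zpowers x) hxQ) le_sup_left
  apply hxB
  rw [← this]
  exact (le_sup_right : Subgroup.zpowers x ≤ B ⊔ Subgroup.zpowers x) (Subgroup.mem_zpowers x)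

/-- If the maximal members of a nonempty family in a finite group are self-centralizing,
so is the join of the family. -/
theorem centralizer_sSup_le [Finite P] (𝒦 : Set (Subgroup P)) (hne : 𝒦.Nonempty)
    (h : ∀ B ∈ 𝒦, (∀ C ∈ 𝒦, B ≤ C → C = B) → Subgroup.centralizer (B : Set P) ≤ B) :
    Subgroup.centralizer ((sSup 𝒦 : Subgroup P) : Set P) ≤ sSup 𝒦 := by
  obtain ⟨A, hA⟩ := hne
  obtain ⟨B, -, hBmax⟩ := Finite.exists_le_maximal (p := fun X => X ∈ 𝒦) hA
  have hB : B ∈ 𝒦 := hBmax.prop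
  have hBle : B ≤ sSup 𝒦 := le_sSup hB
  have h1 := h B hB (fun C hC hBC => le_antisymm (hBmax.le_of_ge hC hBC) hBC)
  exact le_trans (Subgroup.centralizer_le hBle) (le_trans h1 hBle)

theorem center_mem_lower (Q : Subgroup P) : Subgroup.center P ∈ kLowerStarFamily Q :=
  normal_abelian_mem_lower (Subgroup.center P) inferInstance Q

theorem center_mem_upper (Q : Subgroup P) : Subgroup.center P ∈ kUpperStarFamily Q :=
  normal_abelian_mem_upper (Subgroup.center P) inferInstance Q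

end Cfsg.Agent.Helper10
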