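import Mathlib
import Cfsg.Prelude.Def_ConjugacyFunctors
import Cfsg.Agent.Lib.Helper10.KSeq2

set_option autoImplicit false

namespace Cfsg.Agent.Helper10

open Cfsg
open scoped commutatorElement

section transfer

variable {G G' : Type*} [Group G] [Group G'] (f : G →* G') (hf : Function.Injective f)

include hf

theorem T_le {X Y : Subgroup G} : X.map f ≤ Y.map f ↔ X ≤ Y :=
  Subgroup.map_le_map_iff_of_injective hf

theorem T_bot {X : Subgroup G} : X.map f = ⊥ ↔ X = ⊥ :=
  Subgroup.map_eq_bot_iff_of_injective X hf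

theorem T_cent {X Y : Subgroup G} :
    X ≤ Subgroup.centralizer (Y : Set G) ↔ X.map f ≤ Subgroup.centralizer ((Y.map f : Subgroup G') : Set G') := by
  rw [← Subgroup.commutator_eq_bot_iff_le_centralizer, ← Subgroup.commutator_eq_bot_iff_le_centralizer,
    ← Subgroup.map_commutator, T_bot f hf]

theorem T_norm {X Y : Subgroup G} :
    X ≤ Subgroup.normalizer (Y : Set G) ↔ X.map f ≤ Subgroup.normalizer ((Y.map f : Subgroup G') : Set G') := by
  rw [Subgroup.le_normalizer_iff_commutator_le_right, Subgroup.le_normalizer_iff_commutator_le_right,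
    ← Subgroup.map_commutator, T_le f hf]

theorem T_zOf (B : Subgroup G) : (zOf B).map f = zOf (B.map f) := by
  apply le_antisymm
  · refine le_inf (Subgroup.map_mono inf_le_left) ?_
    exact (T_cent f hf).mp inf_le_right
  · rintro y ⟨hy1, hy2⟩
    obtain ⟨b, hb, rfl⟩ := hy1
    refine ⟨b, ⟨hb, ?_⟩, rfl⟩
    intro c hc
    apply hf
    rw [map_mul, map_mul]
    exact hy2 (f c) ⟨c, hc, rfl⟩

theorem T_zOf' (B : Subgroup G) :
    (B ⊓ Subgroup.centralizer (B : Set G)).map f =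
      B.map f ⊓ Subgroup.centralizer ((B.map f : Subgroup G') : Set G') := T_zOf f hf B

theorem T_classTwo {B : Subgroup G} :
    B ∈ classTwoSubgroups G ↔ B.map f ∈ classTwoSubgroups G' := by
  show ⁅B, B⁆ ≤ Subgroup.centralizer (B : Set G) ↔
    ⁅B.map f, B.map f⁆ ≤ Subgroup.centralizer ((B.map f : Subgroup G') : Set G')
  rw [T_cent f hf, Subgroup.map_commutator]

theorem T_upper {B R : Subgroup G} :
    B ∈ kUpperStarFamily R ↔ B.map f ∈ kUpperStarFamily (R.map f) := by
  show (B ∈ classTwoSubgroups G ∧ ⁅B, R⁆ ≤ zOf B) ↔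
    (B.map f ∈ classTwoSubgroups G' ∧ ⁅B.map f, R.map f⁆ ≤ zOf (B.map f))
  rw [T_classTwo f hf, ← T_zOf f hf, ← Subgroup.map_commutator, T_le f hf]

theorem T_lower {B R : Subgroup G} :
    B ∈ kLowerStarFamily R ↔ B.map f ∈ kLowerStarFamily (R.map f) := by
  constructor
  · rintro ⟨h1, h2, h3⟩
    refine ⟨(T_classTwo f hf).mp h1, (T_norm f hf).mp h2, ?_⟩
    intro A' hA' hA'R hBA' hc1 hc2
    have hA'range : A' ≤ f.range := le_trans hA'R (by rw [MonoidHom.range_eq_map]; exact Subgroup.map_mono le_top)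
    have hAA : (A'.comap f).map f = A' := Subgroup.map_comap_eq_self hA'range
    rw [← hAA] at hA' hA'R hBA' hc1 hc2 ⊢
    rw [← T_classTwo f hf] at hA'
    rw [T_le f hf] at hA'R
    rw [← T_norm f hf] at hBA'
    rw [← Subgroup.map_commutator, ← Subgroup.map_commutator, T_bot f hf] at hc1
    rw [← T_zOf' f hf, ← Subgroup.map_commutator, ← Subgroup.map_commutator, T_bot f hf] at hc2
    rw [← Subgroup.map_commutator, ← T_zOf' f hf, T_le f hf]
    exact h3 _ hA' hA'R hBA' hc1 hc2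
  · rintro ⟨h1, h2, h3⟩
    refine ⟨(T_classTwo f hf).mpr h1, (T_norm f hf).mpr h2, ?_⟩
    intro A hA hAR hBA hc1 hc2
    have := h3 (A.map f) ((T_classTwo f hf).mp hA) ((T_le f hf).mpr hAR) ((T_norm f hf).mp hBA)
      (by rw [← Subgroup.map_commutator, ← Subgroup.map_commutator, T_bot f hf]; exact hc1)
      (by rw [← T_zOf' f hf, ← Subgroup.map_commutator, ← Subgroup.map_commutator, T_bot f hf]; exact hc2)
    rwa [← Subgroup.map_commutator, ← T_zOf' f hf, T_le f hf] at this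

/-- the image of the join of the lower family is the join of the members of the image family inside the range -/
theorem T_sSup_lower (R : Subgroup G) :
    (sSup (kLowerStarFamily R)).map f = sSup {B' | B' ∈ kLowerStarFamily (R.map f) ∧ B' ≤ f.range} := by
  rw [sSup_eq_iSup, Subgroup.map_iSup]
  simp_rw [Subgroup.map_iSup]
  apply le_antisymm
  · apply iSup₂_le
    intro B hB
    apply le_sSup
    exact ⟨(T_lower f hf).mp hB, by rw [MonoidHom.range_eq_map]; exact Subgroup.map_mono le_top⟩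
  · apply sSup_le
    rintro B' ⟨hB', hB'r⟩
    have hAA : (B'.comap f).map f = B' := Subgroup.map_comap_eq_self hB'r
    rw [← hAA] at hB' ⊢
    exact le_iSup₂ (f := fun B (_ : B ∈ kLowerStarFamily R) => B.map f) _ ((T_lower f hf).mpr hB')

theorem T_sSup_upper (R : Subgroup G) :
    (sSup (kUpperStarFamily R)).map f = sSup {B' | B' ∈ kUpperStarFamily (R.map f) ∧ B' ≤ f.range} := by
  rw [sSup_eq_iSup, Subgroup.map_iSup]
  simp_rw [Subgroup.map_iSup]
  apply le_antisymm
  · apply iSup₂_le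
    intro B hB
    apply le_sSup
    exact ⟨(T_upper f hf).mp hB, by rw [MonoidHom.range_eq_map]; exact Subgroup.map_mono le_top⟩
  · apply sSup_le
    rintro B' ⟨hB', hB'r⟩
    have hAA : (B'.comap f).map f = B' := Subgroup.map_comap_eq_self hB'r
    rw [← hAA] at hB' ⊢
    exact le_iSup₂ (f := fun B (_ : B ∈ kUpperStarFamily R) => B.map f) _ ((T_upper f hf).mpr hB')

end transfer

section relative

variable {P : Type*} [Group P]

/-- relative join of the lower family: members inside `Q` -/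
def LQ (Q R : Subgroup P) : Subgroup P := sSup {B | B ∈ kLowerStarFamily R ∧ B ≤ Q}
/-- relative join of the upper family: members inside `Q` -/
def UQ (Q R : Subgroup P) : Subgroup P := sSup {B | B ∈ kUpperStarFamily R ∧ B ≤ Q}

theorem LQ_le (Q R : Subgroup P) : LQ Q R ≤ sSup (kLowerStarFamily R) :=
  sSup_le_sSup (fun _ h => h.1)
theorem UQ_le (Q R : Subgroup P) : UQ Q R ≤ sSup (kUpperStarFamily R) :=
  sSup_le_sSup (fun _ h => h.1)

theorem LQ_eq {Q R : Subgroup P} (h : sSup (kLowerStarFamily R) ≤ Q) :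
    LQ Q R = sSup (kLowerStarFamily R) :=
  le_antisymm (LQ_le Q R) (sSup_le_sSup (fun B hB => ⟨hB, le_trans (le_sSup hB) h⟩))
theorem UQ_eq {Q R : Subgroup P} (h : sSup (kUpperStarFamily R) ≤ Q) :
    UQ Q R = sSup (kUpperStarFamily R) :=
  le_antisymm (UQ_le Q R) (sSup_le_sSup (fun B hB => ⟨hB, le_trans (le_sSup hB) h⟩))

theorem LQ_antitone (Q : Subgroup P) {R R' : Subgroup P} (h : R ≤ R') : LQ Q R' ≤ LQ Q R :=
  sSup_le_sSup (fun _ hB => ⟨kLowerStarFamily_antitone h hB.1, hB.2⟩)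
theorem UQ_antitone (Q : Subgroup P) {R R' : Subgroup P} (h : R ≤ R') : UQ Q R' ≤ UQ Q R :=
  sSup_le_sSup (fun _ hB => ⟨kUpperStarFamily_antitone h hB.1, hB.2⟩)

/-- relative odd sequence -/
def oddQ (Q : Subgroup P) : ℕ → Subgroup P
  | 0 => Q
  | n + 1 => UQ Q (LQ Q (oddQ Q n))

/-- relative even sequence -/
def evenQ (Q : Subgroup P) (n : ℕ) : Subgroup P := LQ Q (oddQ Q n)

theorem oddQ_succ (Q : Subgroup P) (n : ℕ) : oddQ Q (n + 1) = UQ Q (evenQ Q n) := rfl

theorem map_kSeqOdd (Q : Subgroup P) (n : ℕ) : (kSeqOdd ↥Q n).map Q.subtype = oddQ Q n := by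
  induction n with
  | zero =>
    show (⊤ : Subgroup ↥Q).map Q.subtype = Q
    rw [← MonoidHom.range_eq_map, Subgroup.range_subtype]
  | succ n ih =>
    rw [kSeqOdd_succ, T_sSup_upper Q.subtype Q.subtype_injective, T_sSup_lower Q.subtype Q.subtype_injective, ih,
      Subgroup.range_subtype]
    rfl

theorem map_kSeqEven (Q : Subgroup P) (n : ℕ) : (kSeqEven ↥Q n).map Q.subtype = evenQ Q n := by
  unfold kSeqEven
  rw [T_sSup_lower Q.subtype Q.subtype_injective, map_kSeqOdd, Subgroup.range_subtype]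
  rfl

variable (Q : Subgroup P) (hQ : ∀ n : ℕ, kSeqEven P n ≤ Q ∧ kSeqOdd P (n + 1) ≤ Q)

include hQ

theorem sandwichA : ∀ n, oddQ Q n ≤ kSeqOdd P n ∧ kSeqEven P n ≤ evenQ Q n := by
  have step : ∀ n, oddQ Q n ≤ kSeqOdd P n → kSeqEven P n ≤ evenQ Q n := by
    intro n h
    calc kSeqEven P n = LQ Q (kSeqOdd P n) := (LQ_eq (hQ n).1).symm
      _ ≤ LQ Q (oddQ Q n) := LQ_antitone Q h
  intro n
  induction n with
  | zero =>
    have h0 : oddQ Q 0 ≤ kSeqOdd P 0 := le_top
    exact ⟨h0, step 0 h0⟩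
  | succ n ih =>
    have h1 : oddQ Q (n + 1) ≤ kSeqOdd P (n + 1) := by
      calc oddQ Q (n + 1) = UQ Q (evenQ Q n) := rfl
        _ ≤ UQ Q (kSeqEven P n) := UQ_antitone Q ih.2
        _ ≤ kSeqOdd P (n + 1) := UQ_le Q _
    exact ⟨h1, step (n + 1) h1⟩

theorem sandwichB : ∀ n, kSeqOdd P (n + 1) ≤ oddQ Q n ∧ evenQ Q n ≤ kSeqEven P (n + 1) := by
  have step : ∀ n, kSeqOdd P (n + 1) ≤ oddQ Q n → evenQ Q n ≤ kSeqEven P (n + 1) := by
    intro n h
    calc evenQ Q n = LQ Q (oddQ Q n) := rfl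
      _ ≤ LQ Q (kSeqOdd P (n + 1)) := LQ_antitone Q h
      _ ≤ kSeqEven P (n + 1) := LQ_le Q _
  intro n
  induction n with
  | zero =>
    have h0 : kSeqOdd P 1 ≤ oddQ Q 0 := (hQ 0).2
    exact ⟨h0, step 0 h0⟩
  | succ n ih =>
    have h1 : kSeqOdd P (n + 2) ≤ oddQ Q (n + 1) := by
      calc kSeqOdd P (n + 2) = UQ Q (kSeqEven P (n + 1)) := (UQ_eq (hQ (n + 1)).2).symm
        _ ≤ UQ Q (evenQ Q n) := UQ_antitone Q ih.2
    exact ⟨h1, step (n + 1) h1⟩

theorem kInf_restrict :
    (kInfLower ↥Q).map Q.subtype = kInfLower P ∧ (kInfUpper ↥Q).map Q.subtype = kInfUpper P := by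
  constructor
  · unfold kInfLower
    rw [Subgroup.map_iSup]
    simp_rw [map_kSeqEven]
    apply le_antisymm
    · exact iSup_le fun n => le_trans (sandwichB Q hQ n).2 (le_iSup (kSeqEven P) (n + 1))
    · exact iSup_le fun n => le_trans (sandwichA Q hQ n).2 (le_iSup (evenQ Q) n)
  · unfold kInfUpper
    rw [Subgroup.map_iInf _ Q.subtype_injective]
    simp_rw [map_kSeqOdd]
    apply le_antisymm
    · apply le_iInf
      intro n
      exact le_trans (iInf_le (oddQ Q) n) (sandwichA Q hQ n).1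
    · apply le_iInf
      intro n
      exact le_trans (iInf_le (kSeqOdd P) (n + 1)) (sandwichB Q hQ n).1

end relative

end Cfsg.Agent.Helper10
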