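import Mathlib
import Cfsg.Prelude.Def_ConjugacyFunctors
import Cfsg.Prelude.Def_PLocal
import Cfsg.Agent.Lib.Helper10.KSeq3

set_option autoImplicit false

/-! The K-sequence of a `p`-group `P` relative to a subgroup `T` and a normal class-two subgroup
`A ≤ T` with `[T, A] ≤ Z(A)`: if every element acting cubically on `A` modulo `Z(A)` and
quadratically on `Z(A)` lies in `T`, all terms of the K-sequence (of nonnegative index) lie in `T`. -/

namespace Cfsg.Agent.Helper10

open Cfsg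
open scoped commutatorElement

section core

variable {P : Type*} [Group P] (A T : Subgroup P) [hAn : A.Normal]

theorem zOf_normal_of_normal : (zOf A).Normal := by
  rw [← Subgroup.normalizer_eq_top_iff, eq_top_iff]
  refine le_trans ?_ (normalizer_le_normalizer_zOf A)
  rw [Subgroup.normalizer_eq_top_iff.mpr hAn]

theorem zOf_comm_bot (B : Subgroup P) : ⁅zOf B, B⁆ = ⊥ :=
  Subgroup.commutator_eq_bot_iff_le_centralizer.mpr inf_le_right

theorem zOf_self_comm_bot (B : Subgroup P) : ⁅zOf B, zOf B⁆ = ⊥ :=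
  le_bot_iff.mp ((Subgroup.commutator_mono le_rfl inf_le_left).trans (zOf_comm_bot B).le)

variable (hA2 : ⁅A, A⁆ ≤ Subgroup.centralizer (A : Set P)) (hA3 : ⁅T, A⁆ ≤ zOf A)
  (hN : ∀ g : P, iterCommutator A (Subgroup.zpowers g) 3 ≤ zOf A →
    ⁅⁅zOf A, Subgroup.zpowers g⁆, Subgroup.zpowers g⁆ = ⊥ → g ∈ T)

include hA2 hA3 hN

theorem kw_A_mem_lower (Q : Subgroup P) : A ∈ kLowerStarFamily Q := by
  haveI hZn : (zOf A).Normal := zOf_normal_of_normal A
  refine ⟨hA2, ?_, ?_⟩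
  · rw [Subgroup.normalizer_eq_top_iff.mpr hAn]; exact le_top
  · intro A₁ hA₁ _ hAN hc1 hc2
    have hA₁T : A₁ ≤ T := by
      intro g hg
      have hz : Subgroup.zpowers g ≤ A₁ := Subgroup.zpowers_le.mpr hg
      apply hN g
      · have h1 : ⁅A, Subgroup.zpowers g⁆ ≤ A ⊓ A₁ :=
          le_inf (Subgroup.commutator_le_left A _)
            ((Subgroup.commutator_mono le_rfl hz).trans
              (Subgroup.le_normalizer_iff_commutator_le_right.mp hAN))
        have h2 : ⁅⁅A, Subgroup.zpowers g⁆, Subgroup.zpowers g⁆ ≤ zOf A := by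
          refine le_inf ?_ ?_
          · exact (Subgroup.commutator_mono (h1.trans inf_le_left) le_rfl).trans
              (Subgroup.commutator_le_left A _)
          · have h3 : ⁅⁅A, Subgroup.zpowers g⁆, Subgroup.zpowers g⁆ ≤ ⁅A₁, A₁⁆ :=
              Subgroup.commutator_mono (h1.trans inf_le_right) hz
            have h4 : ⁅A₁, A₁⁆ ≤ Subgroup.centralizer (A : Set P) := by
              rw [← Subgroup.commutator_eq_bot_iff_le_centralizer, Subgroup.commutator_comm]
              exact hc1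
            exact h3.trans h4
        show ⁅⁅⁅A, Subgroup.zpowers g⁆, Subgroup.zpowers g⁆, Subgroup.zpowers g⁆ ≤ zOf A
        exact (Subgroup.commutator_mono h2 le_rfl).trans (Subgroup.commutator_le_left (zOf A) _)
      · rw [eq_bot_iff, ← hc2]
        exact Subgroup.commutator_mono (Subgroup.commutator_mono le_rfl hz) hz
    rw [Subgroup.commutator_comm]
    exact (Subgroup.commutator_mono hA₁T le_rfl).trans hA3

theorem kw_upper_le (Q : Subgroup P) (hAQ : A ≤ Q) (B : Subgroup P)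
    (hB : B ∈ kUpperStarFamily Q) : B ≤ T := by
  intro g hg
  have hz : Subgroup.zpowers g ≤ B := Subgroup.zpowers_le.mpr hg
  have h1 : ⁅A, Subgroup.zpowers g⁆ ≤ zOf B := by
    rw [Subgroup.commutator_comm]
    exact (Subgroup.commutator_mono hz hAQ).trans hB.2
  have h2 : ⁅⁅A, Subgroup.zpowers g⁆, Subgroup.zpowers g⁆ = ⊥ := by
    rw [eq_bot_iff, ← zOf_comm_bot B]
    exact Subgroup.commutator_mono h1 hz
  apply hN g
  · show ⁅⁅⁅A, Subgroup.zpowers g⁆, Subgroup.zpowers g⁆, Subgroup.zpowers g⁆ ≤ zOf A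
    rw [h2, Subgroup.commutator_bot_left]
    exact bot_le
  · rw [eq_bot_iff, ← h2]
    exact Subgroup.commutator_mono (Subgroup.commutator_mono inf_le_left le_rfl) le_rfl

theorem kw_lower_le (Q : Subgroup P) (hAQ : A ≤ Q) (B : Subgroup P)
    (hB : B ∈ kLowerStarFamily Q) : B ≤ T := by
  haveI hZn : (zOf A).Normal := zOf_normal_of_normal A
  obtain ⟨hB2, hQB, htest⟩ := hB
  have hAB : ⁅A, B⁆ ≤ B := Subgroup.le_normalizer_iff_commutator_le_right.mp (hAQ.trans hQB)
  -- the test with `Z(A)`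
  have hZ : ⁅B, zOf A⁆ ≤ zOf B := by
    apply htest (zOf A)
    · show ⁅zOf A, zOf A⁆ ≤ Subgroup.centralizer ((zOf A : Subgroup P) : Set P)
      rw [zOf_self_comm_bot]; exact bot_le
    · exact inf_le_left.trans hAQ
    · rw [Subgroup.normalizer_eq_top_iff.mpr hZn]; exact le_top
    · rw [zOf_self_comm_bot, Subgroup.commutator_bot_right]
    · rw [eq_bot_iff, ← zOf_self_comm_bot A]
      exact Subgroup.commutator_mono (Subgroup.commutator_le_right _ (zOf A)) le_rfl
  intro g hg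
  have hz : Subgroup.zpowers g ≤ B := Subgroup.zpowers_le.mpr hg
  apply hN g
  · show ⁅⁅⁅A, Subgroup.zpowers g⁆, Subgroup.zpowers g⁆, Subgroup.zpowers g⁆ ≤ zOf A
    have h1 : ⁅A, Subgroup.zpowers g⁆ ≤ B := (Subgroup.commutator_mono le_rfl hz).trans hAB
    have h2 : ⁅⁅A, Subgroup.zpowers g⁆, Subgroup.zpowers g⁆ ≤ ⁅B, B⁆ :=
      Subgroup.commutator_mono h1 hz
    have h3 : ⁅⁅B, B⁆, B⁆ = ⊥ := Subgroup.commutator_eq_bot_iff_le_centralizer.mpr hB2
    have h4 : ⁅⁅⁅A, Subgroup.zpowers g⁆, Subgroup.zpowers g⁆, Subgroup.zpowers g⁆ ≤ ⊥ := by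
      rw [← h3]
      exact Subgroup.commutator_mono h2 hz
    exact h4.trans bot_le
  · rw [eq_bot_iff, ← zOf_comm_bot B]
    refine Subgroup.commutator_mono ?_ hz
    rw [Subgroup.commutator_comm]
    exact (Subgroup.commutator_mono hz le_rfl).trans hZ

theorem kw_A_mem_upper (Q : Subgroup P) (hQT : Q ≤ T) : A ∈ kUpperStarFamily Q := by
  refine ⟨hA2, ?_⟩
  rw [Subgroup.commutator_comm]
  exact (Subgroup.commutator_mono hQT le_rfl).trans hA3

theorem kw_bounds : ∀ n : ℕ, (A ≤ kSeqEven P n ∧ kSeqEven P n ≤ T) ∧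
    (A ≤ kSeqOdd P (n + 1) ∧ kSeqOdd P (n + 1) ≤ T) := by
  have stepE : ∀ n, A ≤ kSeqOdd P n → (A ≤ kSeqEven P n ∧ kSeqEven P n ≤ T) := by
    intro n h
    refine ⟨le_sSup (kw_A_mem_lower A T hA2 hA3 hN _), sSup_le ?_⟩
    intro B hB
    exact kw_lower_le A T hA2 hA3 hN _ h B hB
  have stepO : ∀ n, (A ≤ kSeqEven P n ∧ kSeqEven P n ≤ T) →
      (A ≤ kSeqOdd P (n + 1) ∧ kSeqOdd P (n + 1) ≤ T) := by
    intro n h
    rw [kSeqOdd_succ_eq_kSeqEven]
    refine ⟨le_sSup (kw_A_mem_upper A T hA2 hA3 hN _ h.2), sSup_le ?_⟩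
    intro B hB
    exact kw_upper_le A T hA2 hA3 hN _ h.1 B hB
  intro n
  induction n with
  | zero =>
    have h0 := stepE 0 (by rw [kSeqOdd_zero]; exact le_top)
    exact ⟨h0, stepO 0 h0⟩
  | succ n ih =>
    have h1 := stepE (n + 1) ih.2.1
    exact ⟨h1, stepO (n + 1) h1⟩

theorem kw_restrict :
    (kInfLower ↥T).map T.subtype = kInfLower P ∧ (kInfUpper ↥T).map T.subtype = kInfUpper P :=
  kInf_restrict T (fun n => ⟨(kw_bounds A T hA2 hA3 hN n).1.2, (kw_bounds A T hA2 hA3 hN n).2.2⟩)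

end core

end Cfsg.Agent.Helper10
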