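import Mathlib
import Cfsg.Prelude.Def_PLocal
import Cfsg.Prelude.Def_LocalEven
import Cfsg.Agent.Lib.Helper10.HomNil2
import Cfsg.Agent.Lib.Helper10.ChiefLocalize
import Cfsg.Agent.Lib.Helper10.KWeak

set_option autoImplicit false

/-! The "four step" lemma: an element acting cubically (modulo the centre) on a normal class-two
subgroup `A` of `T = O_p(G)` with `C_T(A) = Z(A)`, `[T, A] ≤ Z(A)`, and quadratically on `Z(A)`,
acts with nilpotency index at most four on every chief factor of `G` below `T`. -/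

namespace Cfsg.Agent.Helper10

open Cfsg
open scoped commutatorElement

section modW

variable {G : Type*} [Group G]

theorem commNormSubgroup_normal (W B : Subgroup G) [hW : W.Normal] [hB : B.Normal] :
    (commNormSubgroup W B).Normal := by
  constructor
  intro x hx k
  refine ⟨?_, ?_⟩
  · rw [Subgroup.normalizer_eq_top_iff.mpr hW]; exact Subgroup.mem_top _
  · intro q hq
    have h1 : ⁅x, k⁻¹ * q * k⁆ ∈ W := hx.2 _ (by
      have := hB.conj_mem q hq k⁻¹
      rwa [inv_inv] at this)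
    have h2 : ⁅k * x * k⁻¹, q⁆ = k * ⁅x, k⁻¹ * q * k⁆ * k⁻¹ := by
      simp only [commutatorElement_def]; group
    rw [h2]
    exact hW.conj_mem _ h1 k

theorem commutatorElement_mem_swap {X L : Subgroup G} {l x : G} (hl : l ∈ L) (hx : x ∈ X) :
    ⁅l, x⁆ ∈ ⁅X, L⁆ := by
  rw [Subgroup.commutator_comm]
  exact Subgroup.commutator_mem_commutator hl hx

theorem iterCommutator_normal (X L : Subgroup G) [hX : X.Normal] [hL : L.Normal] (n : ℕ) :
    (iterCommutator X L n).Normal := by
  induction n with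
  | zero => exact hX
  | succ n ih =>
    haveI := ih
    show (⁅iterCommutator X L n, L⁆).Normal
    infer_instance

variable [Finite G]

theorem hom_nil_four_mod (W N B Y Z₀ : Subgroup G)
    [hWn : W.Normal] [hNn : N.Normal] [hBn : B.Normal] [hYn : Y.Normal]
    (hYc : ⁅Y, Y⁆ ≤ W) (h1 : ⁅N, B⁆ ≤ Y) (h2N : ⁅N, Y⁆ ≤ W) (h2B : ⁅B, Y⁆ ≤ W)
    (h3 : ⁅N, Z₀⁆ ≤ W) (g : G)
    (h4 : ⁅⁅Y, Subgroup.zpowers g⁆, Subgroup.zpowers g⁆ ≤ W)
    (h5 : iterCommutator B (Subgroup.zpowers g) 3 ≤ Z₀) :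
    iterCommutator N (Subgroup.zpowers g) 4 ≤ N ⊓ commNormSubgroup W B := by
  set π := QuotientGroup.mk' W with hπ
  have hsurj : Function.Surjective π := QuotientGroup.mk'_surjective W
  haveI : (N.map π).Normal := Subgroup.Normal.map hNn π hsurj
  haveI : (B.map π).Normal := Subgroup.Normal.map hBn π hsurj
  haveI : (Y.map π).Normal := Subgroup.Normal.map hYn π hsurj
  have hone : ∀ a b : G, ⁅a, b⁆ ∈ W → ⁅π a, π b⁆ = 1 := by
    intro a b h
    rw [← map_commutatorElement]
    exact (QuotientGroup.eq_one_iff _).mpr h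
  have hcm : ∀ a b : G, ⁅a, b⁆ ∈ W → π a * π b = π b * π a := fun a b h =>
    commutatorElement_eq_one_iff_mul_comm.mp (hone a b h)
  have hg : g ∈ Subgroup.zpowers g := Subgroup.mem_zpowers g
  have hgi : g⁻¹ ∈ Subgroup.zpowers g := Subgroup.inv_mem _ hg
  have key := hom_nil_four (N.map π) (B.map π) (Y.map π) (Z₀.map π) ?_ ?_ ?_ ?_ ?_ (π g) ?_ ?_
  · intro x hx
    refine ⟨iterCommutator_le_of_normal 4 hx, ?_, ?_⟩
    · rw [Subgroup.normalizer_eq_top_iff.mpr hWn]; exact Subgroup.mem_top _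
    · intro q hq
      have hzp : Subgroup.zpowers (π g) = (Subgroup.zpowers g).map π := by
        rw [MonoidHom.map_zpowers]
      rw [hzp, iterCommutator_map] at key
      have h6 := (key (Subgroup.mem_map_of_mem π hx)).2
      have h7 := (Subgroup.mem_centralizer_iff.mp h6) (π q) (Subgroup.mem_map_of_mem π hq)
      have h8 : ⁅π x, π q⁆ = 1 := commutatorElement_eq_one_iff_mul_comm.mpr h7.symm
      rw [← map_commutatorElement] at h8
      exact (QuotientGroup.eq_one_iff _).mp h8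
  · rintro _ ⟨a, ha, rfl⟩ _ ⟨b, hb, rfl⟩
    exact hcm a b (hYc (Subgroup.commutator_mem_commutator ha hb))
  · rintro _ ⟨x, hx, rfl⟩ _ ⟨a, ha, rfl⟩
    rw [← map_commutatorElement]
    exact Subgroup.mem_map_of_mem π (h1 (Subgroup.commutator_mem_commutator hx ha))
  · rintro _ ⟨x, hx, rfl⟩ _ ⟨y, hy, rfl⟩
    exact hcm x y (h2N (Subgroup.commutator_mem_commutator hx hy))
  · rintro _ ⟨a, ha, rfl⟩ _ ⟨y, hy, rfl⟩
    exact hcm a y (h2B (Subgroup.commutator_mem_commutator ha hy))
  · rintro _ ⟨x, hx, rfl⟩ _ ⟨z, hz, rfl⟩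
    exact hone x z (h3 (Subgroup.commutator_mem_commutator hx hz))
  · rintro _ ⟨y, hy, rfl⟩
    rw [← map_commutatorElement, ← map_commutatorElement]
    apply (QuotientGroup.eq_one_iff _).mpr
    apply h4
    exact commutatorElement_mem_swap hg (commutatorElement_mem_swap hg hy)
  · rintro _ ⟨a, ha, rfl⟩
    rw [← map_inv, ← map_commutatorElement, ← map_commutatorElement, ← map_commutatorElement]
    apply Subgroup.mem_map_of_mem
    apply h5
    exact commutatorElement_mem_swap hgi (commutatorElement_mem_swap hgi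
      (commutatorElement_mem_swap hgi ha))

end modW

section fourstep

variable {G : Type*} [Group G] [Finite G]

theorem four_step (T A : Subgroup G) [hTn : T.Normal] [hAn : A.Normal] (hAT : A ≤ T)
    (hA3 : ⁅T, A⁆ ≤ zOf A)
    (hA4 : T ⊓ Subgroup.centralizer (A : Set G) ≤ zOf A)
    (hnil : ∃ n, iterCommutator (zOf A) T n = ⊥)
    (g : G) (hg3 : iterCommutator A (Subgroup.zpowers g) 3 ≤ zOf A)
    (hg2 : ⁅⁅zOf A, Subgroup.zpowers g⁆, Subgroup.zpowers g⁆ = ⊥) :
    ∀ U V : Subgroup G, IsChiefFactor U V → U ≤ T →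
      iterCommutator U (Subgroup.zpowers g) 4 ≤ V := by
  classical
  set Z := zOf A with hZ
  haveI hZn : Z.Normal := zOf_normal_of_normal A
  set L := Subgroup.zpowers g with hL
  set Zs : ℕ → Subgroup G := fun k => iterCommutator Z T k with hZs
  have hZsn : ∀ k, (Zs k).Normal := fun k => iterCommutator_normal Z T k
  have hZsZ : ∀ k, Zs k ≤ Z := fun k => iterCommutator_le_of_normal k
  have hZsucc : ∀ k, Zs (k + 1) = ⁅Zs k, T⁆ := fun k => rfl
  have hZA : Z ≤ A := inf_le_left
  have hZZ : ⁅Z, Z⁆ = ⊥ := zOf_self_comm_bot A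
  have hZAc : ⁅Z, A⁆ = ⊥ := zOf_comm_bot A
  set R : ℕ → Subgroup G := fun k => T ⊓ commNormSubgroup (Zs k) A with hR
  set R' : ℕ → Subgroup G := fun k => R k ⊓ commNormSubgroup (Zs (k + 1)) Z with hR'
  have hRn : ∀ k, (R k).Normal := by
    intro k
    haveI := hZsn k
    haveI := commNormSubgroup_normal (Zs k) A
    show (T ⊓ commNormSubgroup (Zs k) A).Normal
    infer_instance
  have hR'n : ∀ k, (R' k).Normal := by
    intro k
    haveI := hRn k
    haveI := hZsn (k + 1)
    haveI := commNormSubgroup_normal (Zs (k + 1)) Z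
    show (R k ⊓ commNormSubgroup (Zs (k + 1)) Z).Normal
    infer_instance
  have hRT : ∀ k, R k ≤ T := fun k => inf_le_left
  have hRA : ∀ k, ⁅R k, A⁆ ≤ Zs k := fun k =>
    (le_commNormSubgroup_iff.mp (inf_le_right : R k ≤ commNormSubgroup (Zs k) A)).2
  have hYc : ∀ k, ⁅Zs k, Zs k⁆ ≤ Zs (k + 1) := by
    intro k
    refine (Subgroup.commutator_mono (hZsZ k) (hZsZ k)).trans ?_
    rw [hZZ]; exact bot_le
  have hq2 : ∀ k, ⁅⁅Zs k, L⁆, L⁆ ≤ Zs (k + 1) := by
    intro k
    refine (Subgroup.commutator_mono (Subgroup.commutator_mono (hZsZ k) le_rfl) le_rfl).trans ?_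
    rw [hg2]; exact bot_le
  have hXT : ∀ (k : ℕ) (X : Subgroup G), X ≤ T → ⁅X, Zs k⁆ ≤ Zs (k + 1) := by
    intro k X hX
    rw [hZsucc, Subgroup.commutator_comm]
    exact Subgroup.commutator_mono le_rfl hX
  -- step one
  have s1 : ∀ k, iterCommutator (R k) L 4 ≤ R' k := by
    intro k
    haveI := hRn k
    haveI := hZsn k
    haveI := hZsn (k + 1)
    refine hom_nil_four_mod (Zs (k + 1)) (R k) Z (Zs k) ⊥ (hYc k) ?_ (hXT k _ (hRT k)) ?_ ?_ g
      (hq2 k) ?_
    · exact (Subgroup.commutator_mono le_rfl hZA).trans (hRA k)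
    · refine (Subgroup.commutator_mono le_rfl (hZsZ k)).trans ?_
      rw [hZZ]; exact bot_le
    · rw [Subgroup.commutator_bot_right]; exact bot_le
    · show ⁅⁅⁅Z, L⁆, L⁆, L⁆ ≤ ⊥
      rw [hg2, Subgroup.commutator_bot_left]
  -- step two
  have s2 : ∀ k, iterCommutator (R' k) L 4 ≤ R (k + 1) := by
    intro k
    haveI := hR'n k
    haveI := hZsn k
    haveI := hZsn (k + 1)
    have hR'R : R' k ≤ R k := inf_le_left
    have h := hom_nil_four_mod (Zs (k + 1)) (R' k) A (Zs k) Z (hYc k) ?_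
      (hXT k _ (hR'R.trans (hRT k))) ?_ ?_ g (hq2 k) hg3
    · refine h.trans ?_
      exact le_inf (inf_le_left.trans (hR'R.trans (hRT k))) inf_le_right
    · exact (Subgroup.commutator_mono hR'R le_rfl).trans (hRA k)
    · refine (Subgroup.commutator_mono le_rfl (hZsZ k)).trans ?_
      rw [Subgroup.commutator_comm, hZAc]; exact bot_le
    · exact (le_commNormSubgroup_iff.mp
        (inf_le_right : R' k ≤ commNormSubgroup (Zs (k + 1)) Z)).2
  -- the property
  let Pr : Subgroup G → Prop := fun C => ∀ U V : Subgroup G, IsChiefFactor U V → U ≤ C →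
    iterCommutator U L 4 ≤ V
  have hPZ : Pr Z := by
    intro U V hUV hUZ
    haveI := hUV.2.2.1
    refine iterCommutator_le_of_le (n := 2) (by norm_num) ?_
    refine (iterCommutator_mono hUZ 2).trans ?_
    show ⁅⁅Z, L⁆, L⁆ ≤ V
    rw [hg2]; exact bot_le
  obtain ⟨n, hn⟩ := hnil
  have hRnZ : R n ≤ Z := by
    refine le_trans ?_ hA4
    intro x hx
    refine ⟨hx.1, ?_⟩
    show x ∈ Subgroup.centralizer (A : Set G)
    rw [Subgroup.mem_centralizer_iff]
    intro a ha
    have h1 : ⁅x, a⁆ ∈ Zs n := hx.2.2 a ha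
    have h2 : ⁅x, a⁆ = 1 := by
      have : Zs n = ⊥ := hn
      rw [this] at h1
      exact Subgroup.mem_bot.mp h1
    exact (commutatorElement_eq_one_iff_mul_comm.mp h2).symm
  have hPRn : Pr (R n) := fun U V hUV hU => hPZ U V hUV (hU.trans hRnZ)
  have hdown : ∀ k, Pr (R (k + 1)) → Pr (R k) := by
    intro k hk
    haveI := hRn (k + 1)
    haveI := hR'n k
    have h1 : Pr (R' k) := localize_step 4 (s2 k) hk
    exact localize_step 4 (s1 k) h1
  have hall : ∀ k, k ≤ n → Pr (R (n - k)) := by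
    intro k
    induction k with
    | zero => intro _; exact hPRn
    | succ k ih =>
      intro hk
      have h1 := ih (by omega)
      have e : n - k = (n - (k + 1)) + 1 := by omega
      rw [e] at h1
      exact hdown _ h1
  have hP0 : Pr (R 0) := by
    have := hall n le_rfl
    rwa [Nat.sub_self] at this
  intro U V hUV hUT
  apply hP0 U V hUV
  refine le_inf hUT (hUT.trans ?_)
  apply le_commNormSubgroup_iff.mpr
  refine ⟨?_, hA3⟩
  show T ≤ Subgroup.normalizer ((Zs 0 : Subgroup G) : Set G)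
  rw [Subgroup.normalizer_eq_top_iff.mpr (hZsn 0)]
  exact le_top

end fourstep

end Cfsg.Agent.Helper10
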