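import Mathlib
import Cfsg.Prelude.Def_ConjugacyFunctors
import Cfsg.Agent.Lib.Helper10.Fusion

set_option autoImplicit false

namespace Cfsg.Agent.Helper10

open Cfsg

variable {G : Type*} [Group G]

/-- chains of right conjugations by elements of members of `𝓝`, all intermediate sets in `R` -/
inductive NChain (𝓝 : Set (Subgroup G)) (R : Subgroup G) : Set G → G → Prop
  | nil (A : Set G) : A ⊆ (R : Set G) → NChain 𝓝 R A 1
  | cons (A : Set G) (N : Subgroup G) (x g : G) : N ∈ 𝓝 → x ∈ N → A ⊆ (R : Set G) →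
      NChain 𝓝 R (rcs x A) g → NChain 𝓝 R A (x * g)

variable {𝓝 𝓝' : Set (Subgroup G)} {R R' : Subgroup G}

theorem NChain.subset {A : Set G} {g : G} (h : NChain 𝓝 R A g) : A ⊆ (R : Set G) := by
  cases h <;> assumption

theorem NChain.image_subset {A : Set G} {g : G} (h : NChain 𝓝 R A g) : rcs g A ⊆ (R : Set G) := by
  induction h with
  | nil A hA => rwa [rcs_one]
  | cons A N x g hN hx hA _ ih => rwa [rcs_mul]

theorem NChain.mono {A B : Set G} {g : G} (h : NChain 𝓝 R B g) (hAB : A ⊆ B) : NChain 𝓝 R A g := by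
  induction h generalizing A with
  | nil B hB => exact NChain.nil A (hAB.trans hB)
  | cons B N x g hN hx hB _ ih =>
    exact NChain.cons A N x g hN hx (hAB.trans hB) (ih (rcs_mono x hAB))

theorem NChain.single {A : Set G} {N : Subgroup G} {x : G} (hN : N ∈ 𝓝) (hx : x ∈ N)
    (hA : A ⊆ (R : Set G)) (hxA : rcs x A ⊆ (R : Set G)) : NChain 𝓝 R A x := by
  have := NChain.cons A N x 1 hN hx hA (NChain.nil _ hxA)
  rwa [mul_one] at this

theorem NChain.trans {A : Set G} {g h : G} (h1 : NChain 𝓝 R A g) (h2 : NChain 𝓝 R (rcs g A) h) :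
    NChain 𝓝 R A (g * h) := by
  induction h1 with
  | nil A hA => rw [one_mul]; rwa [rcs_one] at h2
  | cons A N x g hN hx hA _ ih =>
    rw [mul_assoc]
    apply NChain.cons A N x (g * h) hN hx hA
    apply ih
    rwa [← rcs_mul]

theorem NChain.inv {A : Set G} {g : G} (h1 : NChain 𝓝 R A g) : NChain 𝓝 R (rcs g A) g⁻¹ := by
  induction h1 with
  | nil A hA => rw [inv_one, rcs_one]; exact NChain.nil _ hA
  | cons A N x g hN hx hA htail ih =>
    rw [mul_inv_rev, rcs_mul]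
    apply NChain.trans ih
    rw [rcs_inv_rcs]
    apply NChain.single hN (Subgroup.inv_mem _ hx) htail.subset
    rw [rcs_inv_rcs]
    exact hA

/-- conjugating a chain -/
theorem NChain.conj {A : Set G} {g : G} (c : G) (h : NChain 𝓝 R A g)
    (h𝓝 : ∀ N ∈ 𝓝, rcg c N ∈ 𝓝') : NChain 𝓝' (rcg c R) (rcs c A) (c⁻¹ * g * c) := by
  induction h with
  | nil A hA =>
    have e : c⁻¹ * 1 * c = 1 := by group
    rw [e]
    apply NChain.nil
    rw [coe_rcg]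
    exact rcs_mono c hA
  | cons A N x g hN hx hA _ ih =>
    have e : c⁻¹ * (x * g) * c = (c⁻¹ * x * c) * (c⁻¹ * g * c) := by group
    rw [e]
    apply NChain.cons (rcs c A) (rcg c N) _ _ (h𝓝 N hN)
    · rw [mem_rcg]
      have e2 : c * (c⁻¹ * x * c) * c⁻¹ = x := by group
      rw [e2]; exact hx
    · rw [coe_rcg]
      exact rcs_mono c hA
    · have e3 : rcs (c⁻¹ * x * c) (rcs c A) = rcs c (rcs x A) := by
        rw [← rcs_mul, ← rcs_mul]
        congr 1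
        group
      rw [e3]
      exact ih

/-- a composite of chain steps agreeing with `g` on `A` -/
def NComp (𝓝 : Set (Subgroup G)) (R : Subgroup G) (A : Set G) (g : G) : Prop :=
  ∃ g' : G, NChain 𝓝 R A g' ∧ ∀ a ∈ A, g'⁻¹ * a * g' = g⁻¹ * a * g

theorem rcs_congr {A : Set G} {g g' : G} (h : ∀ a ∈ A, g'⁻¹ * a * g' = g⁻¹ * a * g) :
    rcs g' A = rcs g A := Set.image_congr h

theorem NComp.of_chain {A : Set G} {g : G} (h : NChain 𝓝 R A g) : NComp 𝓝 R A g :=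
  ⟨g, h, fun _ _ => rfl⟩

theorem NComp.subset {A : Set G} {g : G} (h : NComp 𝓝 R A g) : A ⊆ (R : Set G) := by
  obtain ⟨g', h1, -⟩ := h
  exact h1.subset

theorem NComp.image_subset {A : Set G} {g : G} (h : NComp 𝓝 R A g) : rcs g A ⊆ (R : Set G) := by
  obtain ⟨g', h1, h2⟩ := h
  rw [← rcs_congr h2]
  exact h1.image_subset

theorem NComp.mono {A B : Set G} {g : G} (h : NComp 𝓝 R B g) (hAB : A ⊆ B) : NComp 𝓝 R A g := by
  obtain ⟨g', h1, h2⟩ := h
  exact ⟨g', h1.mono hAB, fun a ha => h2 a (hAB ha)⟩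

theorem NComp.congr {A : Set G} {g g₂ : G} (h : NComp 𝓝 R A g)
    (hag : ∀ a ∈ A, g₂⁻¹ * a * g₂ = g⁻¹ * a * g) : NComp 𝓝 R A g₂ := by
  obtain ⟨g', h1, h2⟩ := h
  exact ⟨g', h1, fun a ha => (h2 a ha).trans (hag a ha).symm⟩

theorem NComp.trans {A : Set G} {g h : G} (h1 : NComp 𝓝 R A g) (h2 : NComp 𝓝 R (rcs g A) h) :
    NComp 𝓝 R A (g * h) := by
  obtain ⟨g', hg1, hg2⟩ := h1
  obtain ⟨h', hh1, hh2⟩ := h2
  refine ⟨g' * h', hg1.trans (by rw [rcs_congr hg2]; exact hh1), fun a ha => ?_⟩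
  have e1 : (g' * h')⁻¹ * a * (g' * h') = h'⁻¹ * (g'⁻¹ * a * g') * h' := by group
  rw [e1, hg2 a ha, hh2 _ ⟨a, ha, rfl⟩]
  group

theorem NComp.inv {A : Set G} {g : G} (h1 : NComp 𝓝 R A g) : NComp 𝓝 R (rcs g A) g⁻¹ := by
  obtain ⟨g', hg1, hg2⟩ := h1
  refine ⟨g'⁻¹, by rw [← rcs_congr hg2]; exact hg1.inv, ?_⟩
  rintro _ ⟨a, ha, rfl⟩
  have e1 : g⁻¹ * a * g = g'⁻¹ * a * g' := (hg2 a ha).symm
  show g'⁻¹⁻¹ * (g⁻¹ * a * g) * g'⁻¹ = g⁻¹⁻¹ * (g⁻¹ * a * g) * g⁻¹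
  have e2 : g⁻¹⁻¹ * (g⁻¹ * a * g) * g⁻¹ = a := by group
  rw [e2, e1]
  group

theorem NComp.single {A : Set G} {N : Subgroup G} {x : G} (hN : N ∈ 𝓝) (hx : x ∈ N)
    (hA : A ⊆ (R : Set G)) (hxA : rcs x A ⊆ (R : Set G)) : NComp 𝓝 R A x :=
  NComp.of_chain (NChain.single hN hx hA hxA)

theorem NComp.of_subset_one {A : Set G} (g : G) (hA : A ⊆ {1}) : NComp 𝓝 R A g := by
  refine ⟨1, NChain.nil A (fun a ha => ?_), fun a ha => ?_⟩
  · rw [Set.mem_singleton_iff.mp (hA ha)]; exact R.one_mem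
  · rw [Set.mem_singleton_iff.mp (hA ha)]; simp

/-- replacing every step of a chain by a composite for another family -/
theorem NChain.bind {A : Set G} {g : G} (h : NChain 𝓝 R A g) (hRR' : R ≤ R')
    (hstep : ∀ N ∈ 𝓝, ∀ z ∈ N, ∀ A' : Set G, A' ⊆ (R : Set G) → rcs z A' ⊆ (R : Set G) →
      NComp 𝓝' R' A' z) : NComp 𝓝' R' A g := by
  induction h with
  | nil A hA => exact NComp.of_chain (NChain.nil A (hA.trans hRR'))
  | cons A N x g hN hx hA htail ih =>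
    exact (hstep N hN x hx A hA htail.subset).trans ih

theorem NComp.bind {A : Set G} {g : G} (h : NComp 𝓝 R A g) (hRR' : R ≤ R')
    (hstep : ∀ N ∈ 𝓝, ∀ z ∈ N, ∀ A' : Set G, A' ⊆ (R : Set G) → rcs z A' ⊆ (R : Set G) →
      NComp 𝓝' R' A' z) : NComp 𝓝' R' A g := by
  obtain ⟨g', h1, h2⟩ := h
  exact (h1.bind hRR' hstep).congr (fun a ha => (h2 a ha).symm)

theorem NComp.conj {A : Set G} {g : G} (c : G) (h : NComp 𝓝 R A g)
    (h𝓝 : ∀ N ∈ 𝓝, rcg c N ∈ 𝓝') : NComp 𝓝' (rcg c R) (rcs c A) (c⁻¹ * g * c) := by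
  obtain ⟨g', h1, h2⟩ := h
  refine ⟨c⁻¹ * g' * c, h1.conj c h𝓝, ?_⟩
  rintro _ ⟨a, ha, rfl⟩
  have e1 : (c⁻¹ * g' * c)⁻¹ * (c⁻¹ * a * c) * (c⁻¹ * g' * c) = c⁻¹ * (g'⁻¹ * a * g') * c := by group
  rw [e1, h2 a ha]
  group

end Cfsg.Agent.Helper10
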