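import Mathlib
import Cfsg.Prelude.Def_ConjugacyFunctors
import Cfsg.Agent.Lib.Helper10.NChain

set_option autoImplicit false

namespace Cfsg.Agent.Helper10

open Cfsg

variable {G : Type*} [Group G]

/-- the family of step subgroups `N_H(W R)`, `W ∈ 𝓦` -/
def stepFamily (𝓦 : Set (Subgroup G → Subgroup G)) (H R : Subgroup G) : Set (Subgroup G) :=
  {N | ∃ W ∈ 𝓦, N = H ⊓ Subgroup.normalizer ((W R : Subgroup G) : Set G)}

theorem nchain_of_fin (𝓦 : Set (Subgroup G → Subgroup G)) (H T' : Subgroup G) :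
    ∀ (n : ℕ) (A : Set G) (c : Fin (n + 1) → G), c 0 = 1 →
      (∀ i : Fin n, ∃ W ∈ 𝓦,
        c i.succ * (c i.castSucc)⁻¹ ∈ H ⊓ Subgroup.normalizer ((W T' : Subgroup G) : Set G)) →
      (∀ i : Fin (n + 1), (fun a => c i * a * (c i)⁻¹) '' A ⊆ T') →
      NChain (stepFamily 𝓦 H T') T' A (c (Fin.last n))⁻¹ := by
  intro n
  induction n with
  | zero =>
    intro A c hc0 _ himg
    have e : Fin.last 0 = 0 := rfl
    rw [e, hc0, inv_one]
    apply NChain.nil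
    intro a ha
    have := himg 0 ⟨a, ha, rfl⟩
    rw [hc0] at this
    simpa using this
  | succ n ih =>
    intro A c hc0 hstep himg
    have hA : A ⊆ (T' : Set G) := by
      intro a ha
      have := himg 0 ⟨a, ha, rfl⟩
      rw [hc0] at this
      simpa using this
    obtain ⟨W₀, hW₀, h0⟩ := hstep 0
    have h01 : c (Fin.succ 0) * (c (Fin.castSucc 0))⁻¹ = c 1 := by
      have e1 : (Fin.castSucc (0 : Fin (n + 1))) = 0 := rfl
      have e2 : (Fin.succ (0 : Fin (n + 1))) = 1 := rfl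
      rw [e1, e2, hc0, inv_one, mul_one]
    rw [h01] at h0
    set c' : Fin (n + 1) → G := fun i => c i.succ * (c 1)⁻¹ with hc'
    have hc'0 : c' 0 = 1 := by
      show c (Fin.succ 0) * (c 1)⁻¹ = 1
      have e2 : (Fin.succ (0 : Fin (n + 1))) = 1 := rfl
      rw [e2, mul_inv_cancel]
    have hstep' : ∀ i : Fin n, ∃ W ∈ 𝓦,
        c' i.succ * (c' i.castSucc)⁻¹ ∈ H ⊓ Subgroup.normalizer ((W T' : Subgroup G) : Set G) := by
      intro i
      obtain ⟨W, hW, hi⟩ := hstep i.succ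
      refine ⟨W, hW, ?_⟩
      have e : c' i.succ * (c' i.castSucc)⁻¹ = c i.succ.succ * (c i.succ.castSucc)⁻¹ := by
        show c i.succ.succ * (c 1)⁻¹ * (c i.castSucc.succ * (c 1)⁻¹)⁻¹ = _
        rw [Fin.succ_castSucc]
        group
      rw [e]; exact hi
    have himg' : ∀ i : Fin (n + 1),
        (fun a => c' i * a * (c' i)⁻¹) '' (rcs (c 1)⁻¹ A) ⊆ T' := by
      rintro i _ ⟨_, ⟨a, ha, rfl⟩, rfl⟩
      have := himg i.succ ⟨a, ha, rfl⟩
      have e : c' i * ((c 1)⁻¹⁻¹ * a * (c 1)⁻¹) * (c' i)⁻¹ = c i.succ * a * (c i.succ)⁻¹ := by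
        show c i.succ * (c 1)⁻¹ * ((c 1)⁻¹⁻¹ * a * (c 1)⁻¹) * (c i.succ * (c 1)⁻¹)⁻¹ = _
        group
      show c' i * ((c 1)⁻¹⁻¹ * a * (c 1)⁻¹) * (c' i)⁻¹ ∈ (T' : Set G)
      rw [e]; exact this
    have hih := ih (rcs (c 1)⁻¹ A) c' hc'0 hstep' himg'
    have hlast : (c' (Fin.last n))⁻¹ = c 1 * (c (Fin.last (n + 1)))⁻¹ := by
      show (c (Fin.last n).succ * (c 1)⁻¹)⁻¹ = _
      rw [Fin.succ_last]
      group
    rw [hlast] at hih
    have hfin := NChain.cons A _ (c 1)⁻¹ _ (⟨W₀, hW₀, rfl⟩ : _ ∈ stepFamily 𝓦 H T')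
      (Subgroup.inv_mem _ h0) hA hih
    have e3 : (c 1)⁻¹ * (c 1 * (c (Fin.last (n + 1)))⁻¹) = (c (Fin.last (n + 1)))⁻¹ := by group
    rwa [e3] at hfin

theorem fin_of_nchain (𝓦 : Set (Subgroup G → Subgroup G)) (H T' : Subgroup G) {A : Set G} {g : G}
    (h : NChain (stepFamily 𝓦 H T') T' A g) :
    ∃ (n : ℕ) (c : Fin (n + 1) → G), c 0 = 1 ∧
      (∀ i : Fin n, ∃ W ∈ 𝓦,
        c i.succ * (c i.castSucc)⁻¹ ∈ H ⊓ Subgroup.normalizer ((W T' : Subgroup G) : Set G)) ∧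
      (∀ i : Fin (n + 1), (fun a => c i * a * (c i)⁻¹) '' A ⊆ T') ∧ c (Fin.last n) = g⁻¹ := by
  induction h with
  | nil A hA =>
    refine ⟨0, fun _ => 1, rfl, fun i => i.elim0, ?_, by simp⟩
    rintro i _ ⟨a, ha, rfl⟩
    simpa using hA ha
  | cons A N x g hN hx hA _ ih =>
    obtain ⟨n, c', hc0, hstep, himg, hlast⟩ := ih
    obtain ⟨W₀, hW₀, rfl⟩ := hN
    refine ⟨n + 1, Fin.cons 1 (fun i => c' i * x⁻¹), by simp, ?_, ?_, ?_⟩
    · intro i
      refine Fin.cases ?_ (fun j => ?_) i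
      · refine ⟨W₀, hW₀, ?_⟩
        have e1 : (Fin.castSucc (0 : Fin (n + 1))) = 0 := rfl
        rw [e1, Fin.cons_zero, Fin.cons_succ, hc0]
        simpa using Subgroup.inv_mem _ hx
      · obtain ⟨W, hW, hj⟩ := hstep j
        refine ⟨W, hW, ?_⟩
        rw [← Fin.succ_castSucc, Fin.cons_succ, Fin.cons_succ]
        have e : c' j.succ * x⁻¹ * (c' j.castSucc * x⁻¹)⁻¹ = c' j.succ * (c' j.castSucc)⁻¹ := by group
        rw [e]; exact hj
    · intro i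
      refine Fin.cases ?_ (fun j => ?_) i
      · rintro _ ⟨a, ha, rfl⟩
        simpa using hA ha
      · rintro _ ⟨a, ha, rfl⟩
        have := himg j ⟨x⁻¹ * a * x, ⟨a, ha, rfl⟩, rfl⟩
        simp only [Fin.cons_succ]
        have e : c' j * x⁻¹ * a * (c' j * x⁻¹)⁻¹ = c' j * (x⁻¹ * a * x) * (c' j)⁻¹ := by group
        rw [e]; exact this
    · rw [← Fin.succ_last, Fin.cons_succ, hlast]
      group

/-- the defining property of control of strong fusion by a family, in chain form -/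
theorem fcs_to_ncomp {p : ℕ} {𝓦 : Set (Subgroup G → Subgroup G)} {H : Subgroup G}
    (hc : FamilyControlsStrongFusionIn p 𝓦 H) :
    ∃ T' : Subgroup G, T' ≤ H ∧ IsPGroup p T' ∧ ¬ p ∣ T'.relIndex H ∧
      ∀ (A : Set G) (g : G), g ∈ H → A ⊆ (T' : Set G) → rcs g A ⊆ (T' : Set G) →
        NComp (stepFamily 𝓦 H T') T' A g := by
  obtain ⟨T', h1, h2, h3, h4⟩ := hc
  refine ⟨T', h1, h2, h3, fun A g hg hA hgA => ?_⟩
  obtain ⟨n, c, hc0, hstep, himg, hag⟩ := h4 A g⁻¹ (H.inv_mem hg) hA (by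
    rintro _ ⟨a, ha, rfl⟩
    have := hgA ⟨a, ha, rfl⟩
    simpa using this)
  refine ⟨(c (Fin.last n))⁻¹, nchain_of_fin 𝓦 H T' n A c hc0 hstep himg, fun a ha => ?_⟩
  have := hag a ha
  simpa using this

theorem ncomp_to_fcs {p : ℕ} {𝓦 : Set (Subgroup G → Subgroup G)} {H : Subgroup G}
    (T' : Subgroup G) (h1 : T' ≤ H) (h2 : IsPGroup p T') (h3 : ¬ p ∣ T'.relIndex H)
    (h4 : ∀ (A : Set G) (g : G), g ∈ H → A ⊆ (T' : Set G) → rcs g A ⊆ (T' : Set G) →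
        NComp (stepFamily 𝓦 H T') T' A g) : FamilyControlsStrongFusionIn p 𝓦 H := by
  refine ⟨T', h1, h2, h3, fun A h hh hA hhA => ?_⟩
  obtain ⟨g', hg1, hg2⟩ := h4 A h⁻¹ (H.inv_mem hh) hA (by
    rintro _ ⟨a, ha, rfl⟩
    have := hhA ⟨a, ha, rfl⟩
    simpa using this)
  obtain ⟨n, c, hc0, hstep, himg, hlast⟩ := fin_of_nchain 𝓦 H T' hg1
  refine ⟨n, c, hc0, hstep, himg, fun a ha => ?_⟩
  rw [hlast]
  have := hg2 a ha
  simpa using this

/-- control of strong fusion by a family may be tested on any Sylow `p`-subgroup of `H` -/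
theorem fcs_transfer [Finite G] {p : ℕ} [Fact p.Prime] {𝓦 : Set (Subgroup G → Subgroup G)}
    (h𝓦 : ∀ W ∈ 𝓦, IsConjugacyFunctor p W) {H : Subgroup G}
    (hc : FamilyControlsStrongFusionIn p 𝓦 H)
    (R : Subgroup G) (hRH : R ≤ H) (hRp : IsPGroup p R) (hRidx : ¬ p ∣ R.relIndex H)
    (A : Set G) (g : G) (hg : g ∈ H) (hAR : A ⊆ (R : Set G)) (hgA : rcs g A ⊆ (R : Set G)) :
    NComp (stepFamily 𝓦 H R) R A g := by
  obtain ⟨T', hT'H, hT'p, hT'idx, hT'⟩ := fcs_to_ncomp hc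
  obtain ⟨c, hcH, hcR⟩ := exists_rcg_eq_of_relSylow H R T' hRH hRp hRidx hT'H hT'p hT'idx
  have hT'c : ((T' : Subgroup G) : Set G) = rcs c⁻¹ (R : Set G) := by
    rw [← hcR, coe_rcg, rcs_inv_rcs]
  have h1 := hT' (rcs c⁻¹ A) (c * g * c⁻¹) (H.mul_mem (H.mul_mem hcH hg) (H.inv_mem hcH))
    (by rw [hT'c]; exact rcs_mono _ hAR)
    (by
      rw [← rcs_mul, hT'c]
      have e : c⁻¹ * (c * g * c⁻¹) = g * c⁻¹ := by group
      rw [e, rcs_mul]
      exact rcs_mono _ hgA)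
  have h2 := h1.conj (𝓝' := stepFamily 𝓦 H R) c (by
    rintro N ⟨W, hW, rfl⟩
    refine ⟨W, hW, ?_⟩
    rw [rcg_inf, rcg_self_of_mem hcH, rcg_normalizer, ← cf_rcg (h𝓦 W hW) hT'p, hcR])
  rw [hcR] at h2
  have e1 : rcs c (rcs c⁻¹ A) = A := by
    have := rcs_inv_rcs c⁻¹ A
    rwa [inv_inv] at this
  have e2 : c⁻¹ * (c * g * c⁻¹) * c = g := by group
  rwa [e1, e2] at h2

end Cfsg.Agent.Helper10
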