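import Mathlib
import Cfsg.Prelude.Def_ConjugacyFunctors
import Cfsg.Agent.Lib.Helper10.FamilyFusion

set_option autoImplicit false

namespace Cfsg.Agent.Helper10

open Cfsg

variable {G : Type*} [Group G]

theorem rcg_ne_bot {k : G} {V : Subgroup G} (hV : V ≠ ⊥) : rcg k V ≠ ⊥ := by
  intro h
  apply hV
  have := rcg_inv_rcg k V
  rw [h] at this
  rw [← this]
  unfold rcg
  exact Subgroup.map_bot _

section main

variable [Finite G] {p : ℕ} [Fact p.Prime] (S : Subgroup G) (hS : IsPGroup p S) (hidx : ¬ p ∣ S.index)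
  (𝓦 : Set (Subgroup G → Subgroup G)) (h𝓦 : ∀ W ∈ 𝓦, IsConjugacyFunctor p W)
  (hloc : ∀ T : Subgroup G, T ≤ S → T ≠ ⊥ →
    ¬ p ∣ (S ⊓ Subgroup.normalizer (T : Set G)).relIndex (Subgroup.normalizer (T : Set G)) →
    FamilyControlsStrongFusionIn p 𝓦 (Subgroup.normalizer (T : Set G)))

include hS h𝓦 hloc in
theorem ff_local (U : Subgroup G) (hUS : U ≤ S) (hUne : U ≠ ⊥)
    (hUgood : ¬ p ∣ (S ⊓ Subgroup.normalizer (U : Set G)).relIndex (Subgroup.normalizer (U : Set G)))
    (hE : ∀ W ∈ 𝓦, ∀ z ∈ Subgroup.normalizer ((W (S ⊓ Subgroup.normalizer (U : Set G)) : Subgroup G) : Set G),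
      ∀ A' : Set G, A' ⊆ ((S ⊓ Subgroup.normalizer (U : Set G) : Subgroup G) : Set G) →
        rcs z A' ⊆ ((S ⊓ Subgroup.normalizer (U : Set G) : Subgroup G) : Set G) →
        NComp (stepFamily 𝓦 ⊤ S) S A' z)
    (x : G) (hx : x ∈ Subgroup.normalizer (U : Set G)) (A : Set G)
    (hA : A ⊆ ((S ⊓ Subgroup.normalizer (U : Set G) : Subgroup G) : Set G))
    (hxA : rcs x A ⊆ ((S ⊓ Subgroup.normalizer (U : Set G) : Subgroup G) : Set G)) :
    NComp (stepFamily 𝓦 ⊤ S) S A x := by
  have h1 := fcs_transfer h𝓦 (hloc U hUS hUne hUgood) (S ⊓ Subgroup.normalizer (U : Set G))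
    inf_le_right (hS.to_le inf_le_left) hUgood A x hx hA hxA
  refine h1.bind inf_le_left ?_
  rintro N ⟨W, hW, rfl⟩ z hz A' hA' hzA'
  exact hE W hW z hz.2 A' hA' hzA'

theorem ff_top (W : Subgroup G → Subgroup G) (hW : W ∈ 𝓦) (z : G)
    (hz : z ∈ Subgroup.normalizer ((W S : Subgroup G) : Set G)) (A' : Set G)
    (hA' : A' ⊆ (S : Set G)) (hzA' : rcs z A' ⊆ (S : Set G)) :
    NComp (stepFamily 𝓦 ⊤ S) S A' z :=
  NComp.single (N := ⊤ ⊓ Subgroup.normalizer ((W S : Subgroup G) : Set G)) ⟨W, hW, rfl⟩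
    ⟨Subgroup.mem_top _, hz⟩ hA' hzA'

include hS hidx h𝓦 hloc in
theorem ff_base (g : G) (hg : rcg g S ≤ S) : NComp (stepFamily 𝓦 ⊤ S) S (S : Set G) g := by
  have hgN : g ∈ Subgroup.normalizer (S : Set G) :=
    mem_normalizer_iff_rcg.mpr (rcg_eq_of_le_of_finite hg)
  by_cases hSbot : S = ⊥
  · apply NComp.of_subset_one
    rw [hSbot]; simp
  have hSN : S ⊓ Subgroup.normalizer (S : Set G) = S := inf_eq_left.mpr Subgroup.le_normalizer
  have hgood : ¬ p ∣ (S ⊓ Subgroup.normalizer (S : Set G)).relIndex (Subgroup.normalizer (S : Set G)) := by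
    rw [hSN]
    intro hd
    exact hidx (hd.trans (Subgroup.relIndex_dvd_index_of_le Subgroup.le_normalizer))
  apply ff_local S hS 𝓦 h𝓦 hloc S le_rfl hSbot hgood ?_ g hgN
  · rw [hSN]
  · rw [hSN, ← coe_rcg]; exact hg
  · intro W hW z hz A' hA' hzA'
    rw [hSN] at hz hA' hzA'
    exact ff_top S 𝓦 W hW z hz A' hA' hzA'

include hS hidx h𝓦 hloc in
theorem ff_main (n : ℕ) :
    (∀ B : Subgroup G, B ≤ S → Nat.card S - Nat.card B ≤ n → ∀ g : G, rcg g B ≤ S →
      NComp (stepFamily 𝓦 ⊤ S) S (B : Set G) g) ∧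
    (∀ R : Subgroup G, R ≤ S → Nat.card S - Nat.card R ≤ n → ∀ W ∈ 𝓦,
      ∀ z ∈ Subgroup.normalizer ((W R : Subgroup G) : Set G), ∀ A' : Set G, A' ⊆ (R : Set G) →
        rcs z A' ⊆ (R : Set G) → NComp (stepFamily 𝓦 ⊤ S) S A' z) := by
  have hnil : Group.IsNilpotent S := hS.isNilpotent
  induction n with
  | zero =>
    constructor
    · intro B hBS hcard g hg
      have hB : B = S := by
        apply Subgroup.eq_of_le_of_card_ge hBS
        omega
      subst hB
      exact ff_base B hS hidx 𝓦 h𝓦 hloc g hg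
    · intro R hRS hcard W hW z hz A' hA' hzA'
      have hR : R = S := by
        apply Subgroup.eq_of_le_of_card_ge hRS
        omega
      subst hR
      exact ff_top R 𝓦 W hW z hz A' hA' hzA'
  | succ n ih =>
    obtain ⟨hF, hE⟩ := ih
    -- the `E` part first
    have hE' : ∀ R : Subgroup G, R ≤ S → Nat.card S - Nat.card R ≤ n + 1 → ∀ W ∈ 𝓦,
      ∀ z ∈ Subgroup.normalizer ((W R : Subgroup G) : Set G), ∀ A' : Set G, A' ⊆ (R : Set G) →
        rcs z A' ⊆ (R : Set G) → NComp (stepFamily 𝓦 ⊤ S) S A' z := by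
      intro R hRS hcard W hW z hz A' hA' hzA'
      by_cases hReq : R = S
      · subst hReq
        exact ff_top R 𝓦 W hW z hz A' hA' hzA'
      by_cases hRbot : R = ⊥
      · apply NComp.of_subset_one
        intro a ha
        have := hA' ha
        rw [hRbot] at this
        exact Subgroup.mem_bot.mp this
      have hRlt : R < S := lt_of_le_of_ne hRS hReq
      have hRp : IsPGroup p R := hS.to_le hRS
      have hWc := h𝓦 W hW
      set V := W R with hV
      have hVne : V ≠ ⊥ := (hWc R hRp).2.1 hRbot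
      have hVR : V ≤ R := cf_le hWc hRp
      set M := S ⊓ Subgroup.normalizer (V : Set G) with hM
      have hRM : R < M := lt_of_lt_of_le (lt_inf_normalizer_of_lt S R hRlt)
        (inf_le_inf_left S (cf_normalizer_le hWc hRp))
      obtain ⟨k, hk1, hk2⟩ := exists_good_conj S hS hidx V
      set V' := rcg k V with hV'
      set R' := S ⊓ Subgroup.normalizer (V' : Set G) with hR'
      have hMR' : rcg k M ≤ R' :=
        le_inf hk1 (by rw [hV', ← rcg_normalizer]; exact rcg_mono k inf_le_right)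
      have hcardRM : Nat.card R < Nat.card M := card_lt_card_of_lt hRM
      have hcardMR' : Nat.card M ≤ Nat.card R' := by
        rw [← card_rcg k M]; exact Subgroup.card_le_of_le hMR'
      have hcardM : Nat.card S - Nat.card M ≤ n := by omega
      have hcardR' : Nat.card S - Nat.card R' ≤ n := by omega
      have hCk : NComp (stepFamily 𝓦 ⊤ S) S (M : Set G) k := hF M inf_le_left hcardM k hk1
      set z' := k⁻¹ * z * k with hz'
      have hz'N : z' ∈ Subgroup.normalizer (V' : Set G) := by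
        rw [hV', ← rcg_normalizer, mem_rcg]
        have e : k * z' * k⁻¹ = z := by rw [hz']; group
        rw [e]; exact hz
      have hV'ne : V' ≠ ⊥ := rcg_ne_bot hVne
      have hV'S : V' ≤ S := (rcg_mono k (hVR.trans hRM.le)).trans hk1
      have hkM : rcs k (M : Set G) ⊆ (R' : Set G) := by
        rw [← coe_rcg]; exact hMR'
      have hA'' : rcs k A' ⊆ (R' : Set G) :=
        (rcs_mono k (hA'.trans (SetLike.coe_subset_coe.mpr hRM.le))).trans hkM
      have hzA'' : rcs z' (rcs k A') ⊆ (R' : Set G) := by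
        rw [← rcs_mul]
        have e : k * z' = z * k := by rw [hz']; group
        rw [e, rcs_mul]
        exact (rcs_mono k (hzA'.trans (SetLike.coe_subset_coe.mpr hRM.le))).trans hkM
      have h2 : NComp (stepFamily 𝓦 ⊤ S) S (rcs k A') z' :=
        ff_local S hS 𝓦 h𝓦 hloc V' hV'S hV'ne hk2
          (fun W₁ hW₁ z₁ hz₁ A₁ hA₁ hzA₁ => hE R' inf_le_left hcardR' W₁ hW₁ z₁ hz₁ A₁ hA₁ hzA₁)
          z' hz'N (rcs k A') hA'' hzA''
      have h1 : NComp (stepFamily 𝓦 ⊤ S) S A' k :=
        hCk.mono (hA'.trans (SetLike.coe_subset_coe.mpr hRM.le))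
      have h3 : NComp (stepFamily 𝓦 ⊤ S) S (rcs (k * z') A') k⁻¹ := by
        have e : k * z' = z * k := by rw [hz']; group
        rw [e, rcs_mul]
        exact (hCk.mono (hzA'.trans (SetLike.coe_subset_coe.mpr hRM.le))).inv
      have h4 := (h1.trans h2).trans h3
      have e : k * z' * k⁻¹ = z := by rw [hz']; group
      rwa [e] at h4
    refine ⟨?_, hE'⟩
    intro B hBS hcard g hg
    by_cases hBeq : B = S
    · subst hBeq
      exact ff_base B hS hidx 𝓦 h𝓦 hloc g hg
    have hBlt : B < S := lt_of_le_of_ne hBS hBeq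
    set B' := rcg g B with hB'
    have hcardB' : Nat.card B' = Nat.card B := card_rcg g B
    have hB'lt : B' < S := by
      refine lt_of_le_of_ne hg ?_
      intro heq
      have := card_lt_card_of_lt hBlt
      rw [← heq, hcardB'] at this
      exact lt_irrefl _ this
    obtain ⟨h, hh1, hh2⟩ := exists_good_conj S hS hidx B
    set U := rcg h B with hU
    have hBNB : B ≤ S ⊓ Subgroup.normalizer (B : Set G) := le_inf hBS Subgroup.le_normalizer
    have hUS : U ≤ S := (rcg_mono h hBNB).trans hh1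
    have hconj : rcg (g⁻¹ * h) B' = U := by
      rw [hB', ← rcg_mul]
      have e : g * (g⁻¹ * h) = h := by group
      rw [e]
    obtain ⟨k, hk1, hk2⟩ := adjust_conj S hS U hh2 B' (g⁻¹ * h) hconj
    set x := h⁻¹ * g * k with hx
    have hxU : rcg x U = U := by
      rw [hU, ← rcg_mul]
      have e : h * x = g * k := by rw [hx]; group
      rw [e, rcg_mul]
      exact hk1
    have hxN : x ∈ Subgroup.normalizer (U : Set G) := mem_normalizer_iff_rcg.mpr hxU
    have hNB : B < S ⊓ Subgroup.normalizer (B : Set G) := lt_inf_normalizer_of_lt S B hBlt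
    have hNB' : B' < S ⊓ Subgroup.normalizer (B' : Set G) := lt_inf_normalizer_of_lt S B' hB'lt
    have hcardNB : Nat.card S - Nat.card ↥(S ⊓ Subgroup.normalizer (B : Set G)) ≤ n := by
      have := card_lt_card_of_lt hNB
      omega
    have hcardNB' : Nat.card S - Nat.card ↥(S ⊓ Subgroup.normalizer (B' : Set G)) ≤ n := by
      have := card_lt_card_of_lt hNB'
      omega
    have hCh := hF _ inf_le_left hcardNB h hh1
    have hCk := hF _ inf_le_left hcardNB' k (hk2.trans inf_le_left)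
    have hUNU : U ≤ S ⊓ Subgroup.normalizer (U : Set G) := le_inf hUS Subgroup.le_normalizer
    have hcardU : Nat.card U = Nat.card B := card_rcg h B
    have hCx : NComp (stepFamily 𝓦 ⊤ S) S (U : Set G) x := by
      by_cases hUbot : U = ⊥
      · apply NComp.of_subset_one
        rw [hUbot]; simp
      have hUlt : U < S := by
        refine lt_of_le_of_ne hUS ?_
        intro heq
        have := card_lt_card_of_lt hBlt
        rw [← heq, hcardU] at this
        exact lt_irrefl _ this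
      have hNU : U < S ⊓ Subgroup.normalizer (U : Set G) := lt_inf_normalizer_of_lt S U hUlt
      have hcardNU : Nat.card S - Nat.card ↥(S ⊓ Subgroup.normalizer (U : Set G)) ≤ n := by
        have := card_lt_card_of_lt hNU
        omega
      apply ff_local S hS 𝓦 h𝓦 hloc U hUS hUbot hh2
        (fun W₁ hW₁ z₁ hz₁ A₁ hA₁ hzA₁ => hE _ inf_le_left hcardNU W₁ hW₁ z₁ hz₁ A₁ hA₁ hzA₁)
        x hxN (U : Set G) (SetLike.coe_subset_coe.mpr hUNU)
      rw [← coe_rcg, hxU]
      exact SetLike.coe_subset_coe.mpr hUNU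
    have h1 : NComp (stepFamily 𝓦 ⊤ S) S (B : Set G) h :=
      hCh.mono (SetLike.coe_subset_coe.mpr hBNB)
    have h2 : NComp (stepFamily 𝓦 ⊤ S) S (rcs h (B : Set G)) x := by
      rw [← coe_rcg]; exact hCx
    have h3 : NComp (stepFamily 𝓦 ⊤ S) S (rcs (h * x) (B : Set G)) k⁻¹ := by
      have h5 := (hCk.mono (SetLike.coe_subset_coe.mpr hNB'.le)).inv
      have e1 : rcs (h * x) (B : Set G) = rcs k (B' : Set G) := by
        rw [rcs_mul, ← coe_rcg, ← coe_rcg, ← coe_rcg, hk1, ← hU, hxU]
      rw [e1]; exact h5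
    have h4 := (h1.trans h2).trans h3
    have e : h * x * k⁻¹ = g := by rw [hx]; group
    rwa [e] at h4

include hS hidx h𝓦 hloc in
theorem ff_final : FamilyControlsStrongFusionIn p 𝓦 ⊤ := by
  apply ncomp_to_fcs S le_top hS (by rwa [Subgroup.relIndex_top_right])
  intro A g _ hA hgA
  have hB : Subgroup.closure A ≤ S := (Subgroup.closure_le S).mpr hA
  have hBg : rcg g (Subgroup.closure A) ≤ S := by
    rw [rcg_le_iff, Subgroup.closure_le]
    intro a ha
    rw [SetLike.mem_coe, mem_rcg]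
    apply hgA
    rw [mem_rcs]
    simpa [mul_assoc] using ha
  exact ((ff_main S hS hidx 𝓦 h𝓦 hloc (Nat.card S)).1 (Subgroup.closure A) hB (Nat.sub_le _ _) g hBg).mono
    Subgroup.subset_closure

end main

end Cfsg.Agent.Helper10
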