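import Mathlib
import Cfsg.Prelude.Def_ConjugacyFunctors
import Cfsg.Prelude.Def_Solvable

set_option autoImplicit false

namespace Cfsg.Agent.Helper10

open Cfsg

universe u

/-- `H` is isomorphic to a section of `G`: a quotient of a subgroup -/
def IsSec (G : Type u) [Group G] (H : Type u) [Group H] : Prop :=
  ∃ (K : Subgroup G) (f : ↥K →* H), Function.Surjective f

section basic

variable {G : Type u} [Group G] {H H' : Type u} [Group H] [Group H']

theorem IsSec.refl (G : Type u) [Group G] : IsSec G G :=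
  ⟨⊤, (Subgroup.topEquiv : (⊤ : Subgroup G) ≃* G).toMonoidHom,
    (Subgroup.topEquiv : (⊤ : Subgroup G) ≃* G).surjective⟩

theorem IsSec.of_section (K R : Subgroup G) [hR : (R.subgroupOf K).Normal] :
    IsSec G (↥K ⧸ R.subgroupOf K) :=
  ⟨K, QuotientGroup.mk' _, QuotientGroup.mk'_surjective _⟩

theorem IsSec.iso (h : IsSec G H) (e : H ≃* H') : IsSec G H' := by
  obtain ⟨K, f, hf⟩ := h
  exact ⟨K, e.toMonoidHom.comp f, e.surjective.comp hf⟩

theorem IsSec.quotient (h : IsSec G H) (N : Subgroup H) [N.Normal] : IsSec G (H ⧸ N) := by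
  obtain ⟨K, f, hf⟩ := h
  exact ⟨K, (QuotientGroup.mk' N).comp f, (QuotientGroup.mk'_surjective N).comp hf⟩

theorem IsSec.subgroup (h : IsSec G H) (L : Subgroup H) : IsSec G ↥L := by
  obtain ⟨K, f, hf⟩ := h
  refine ⟨(L.comap f).map K.subtype,
    (f.subgroupComap L).comp
      (Subgroup.equivMapOfInjective (L.comap f) K.subtype K.subtype_injective).symm.toMonoidHom, ?_⟩
  exact (f.subgroupComap_surjective_of_surjective L hf).comp (MulEquiv.surjective _)

theorem IsSec.exists_equiv (h : IsSec G H) :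
    ∃ (K R : Subgroup G) (hR : (R.subgroupOf K).Normal), Nonempty (H ≃* ↥K ⧸ R.subgroupOf K) := by
  obtain ⟨K, f, hf⟩ := h
  have e1 : (f.ker.map K.subtype).subgroupOf K = f.ker :=
    Subgroup.comap_map_eq_self_of_injective K.subtype_injective f.ker
  have hR : ((f.ker.map K.subtype).subgroupOf K).Normal := by rw [e1]; infer_instance
  refine ⟨K, f.ker.map K.subtype, hR, ⟨?_⟩⟩
  exact (QuotientGroup.quotientKerEquivOfSurjective f hf).symm.trans
    (QuotientGroup.quotientMulEquivOfEq e1.symm)

end basic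

end Cfsg.Agent.Helper10
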