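import Mathlib
import Cfsg.Prelude.Def_ConjugacyFunctors
import Cfsg.Agent.Lib.Helper10.FamilyFusion2

set_option autoImplicit false

namespace Cfsg.Agent.Helper10

open Cfsg
open scoped commutatorElement

variable {G : Type*} [Group G]

theorem rcg_commutator (c : G) (A B : Subgroup G) : rcg c ⁅A, B⁆ = ⁅rcg c A, rcg c B⁆ :=
  Subgroup.map_commutator A B _

/-- the focal condition: all `b⁻¹ b^g`, `b ∈ B`, lie in `D` -/
def Foc (D : Subgroup G) (B : Set G) (g : G) : Prop := ∀ b ∈ B, b⁻¹ * (g⁻¹ * b * g) ∈ D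

theorem Foc.one (D : Subgroup G) (B : Set G) : Foc D B 1 := by
  intro b _
  simp

theorem Foc.mono {D : Subgroup G} {A B : Set G} {g : G} (h : Foc D B g) (hAB : A ⊆ B) : Foc D A g :=
  fun b hb => h b (hAB hb)

theorem Foc.trans {D : Subgroup G} {A : Set G} {g h : G} (h1 : Foc D A g) (h2 : Foc D (rcs g A) h) :
    Foc D A (g * h) := by
  intro a ha
  have e : a⁻¹ * ((g * h)⁻¹ * a * (g * h)) =
      (a⁻¹ * (g⁻¹ * a * g)) * ((g⁻¹ * a * g)⁻¹ * (h⁻¹ * (g⁻¹ * a * g) * h)) := by group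
  rw [e]
  exact D.mul_mem (h1 a ha) (h2 _ ⟨a, ha, rfl⟩)

theorem Foc.inv {D : Subgroup G} {A : Set G} {g : G} (h1 : Foc D A g) : Foc D (rcs g A) g⁻¹ := by
  rintro _ ⟨a, ha, rfl⟩
  have e : (g⁻¹ * a * g)⁻¹ * (g⁻¹⁻¹ * (g⁻¹ * a * g) * g⁻¹) = (a⁻¹ * (g⁻¹ * a * g))⁻¹ := by group
  rw [e]
  exact D.inv_mem (h1 a ha)

theorem Foc.of_subset_one {D : Subgroup G} {A : Set G} (g : G) (hA : A ⊆ {1}) : Foc D A g := by
  intro a ha
  rw [Set.mem_singleton_iff.mp (hA ha)]
  simp

/-- an element `a⁻¹ a^x` with `a, x` in the normalizer of `T` lies in its derived subgroup -/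
theorem focal_mem_commutator {N : Subgroup G} {a x : G} (ha : a ∈ N) (hx : x ∈ N) :
    a⁻¹ * (x⁻¹ * a * x) ∈ ⁅N, N⁆ := by
  have : a⁻¹ * (x⁻¹ * a * x) = ⁅a⁻¹, x⁻¹⁆ := by
    rw [commutatorElement_def]; group
  rw [this]
  exact Subgroup.commutator_mem_commutator (N.inv_mem ha) (N.inv_mem hx)

/-- control of transfer in `H` may be tested on any Sylow `p`-subgroup of `H` -/
theorem ct_transfer [Finite G] {p : ℕ} [Fact p.Prime] {W : Subgroup G → Subgroup G}
    (hW : IsConjugacyFunctor p W) {H : Subgroup G} (hc : ControlsTransferIn p W H)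
    (R : Subgroup G) (hRH : R ≤ H) (hRp : IsPGroup p R) (hRidx : ¬ p ∣ R.relIndex H) :
    R ⊓ ⁅H, H⁆ = R ⊓ ⁅H ⊓ Subgroup.normalizer ((W R : Subgroup G) : Set G),
      H ⊓ Subgroup.normalizer ((W R : Subgroup G) : Set G)⁆ := by
  obtain ⟨T', hT'H, hT'p, hT'idx, hT'⟩ := hc
  obtain ⟨c, hcH, hcR⟩ := exists_rcg_eq_of_relSylow H R T' hRH hRp hRidx hT'H hT'p hT'idx
  have h1 := congrArg (rcg c) hT'
  rw [rcg_inf, rcg_inf, rcg_commutator, rcg_commutator, rcg_inf, rcg_self_of_mem hcH, hcR,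
    rcg_normalizer, ← cf_rcg hW hT'p, hcR] at h1
  exact h1

theorem rcg_iSup {ι : Sort*} (c : G) (s : ι → Subgroup G) : rcg c (⨆ i, s i) = ⨆ i, rcg c (s i) :=
  Subgroup.map_iSup _ s

theorem fct_transfer [Finite G] {p : ℕ} [Fact p.Prime] {𝓦 : Set (Subgroup G → Subgroup G)}
    (h𝓦 : ∀ W ∈ 𝓦, IsConjugacyFunctor p W) {H : Subgroup G} (hc : FamilyControlsTransferIn p 𝓦 H)
    (R : Subgroup G) (hRH : R ≤ H) (hRp : IsPGroup p R) (hRidx : ¬ p ∣ R.relIndex H) :
    R ⊓ ⁅H, H⁆ = ⨆ W ∈ 𝓦, R ⊓ ⁅H ⊓ Subgroup.normalizer ((W R : Subgroup G) : Set G),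
      H ⊓ Subgroup.normalizer ((W R : Subgroup G) : Set G)⁆ := by
  obtain ⟨T', hT'H, hT'p, hT'idx, hT'⟩ := hc
  obtain ⟨c, hcH, hcR⟩ := exists_rcg_eq_of_relSylow H R T' hRH hRp hRidx hT'H hT'p hT'idx
  have h1 := congrArg (rcg c) hT'
  rw [rcg_inf, rcg_commutator, rcg_self_of_mem hcH, hcR, rcg_iSup] at h1
  rw [h1]
  apply iSup_congr
  intro W
  rw [rcg_iSup]
  apply iSup_congr
  intro hW
  rw [rcg_inf, rcg_commutator, rcg_inf, rcg_self_of_mem hcH, hcR,
    rcg_normalizer, ← cf_rcg (h𝓦 W hW) hT'p, hcR]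

end Cfsg.Agent.Helper10

namespace Cfsg.Agent.Helper10

open Cfsg
open scoped commutatorElement

variable {G : Type*} [Group G]

/-- the focal subgroup theorem, in a form adapted to `Foc` -/
theorem focal_le_of_foc [Finite G] {p : ℕ} [Fact p.Prime] (S : Sylow p G) (D : Subgroup G)
    (h : ∀ y ∈ (S : Subgroup G), ∀ v : G, v⁻¹ * y * v ∈ (S : Subgroup G) → y⁻¹ * (v⁻¹ * y * v) ∈ D) :
    (S : Subgroup G) ⊓ ⁅(⊤ : Subgroup G), ⊤⁆ ≤ D := by
  have h1 := Subgroup.commutator_inf_eq_focalSubgroup S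
  rw [commutator_def, inf_comm] at h1
  rw [h1, Subgroup.focalSubgroup_def, Subgroup.closure_le]
  rintro g ⟨hgS, x, hxS, u, rfl⟩
  have hy : x⁻¹ ∈ (S : Subgroup G) := Subgroup.inv_mem _ hxS
  have e : ⁅x, u⁆ = x⁻¹⁻¹ * (u⁻¹⁻¹ * x⁻¹ * u⁻¹) := by
    rw [commutatorElement_def]; group
  have h2 : u⁻¹⁻¹ * x⁻¹ * u⁻¹ ∈ (S : Subgroup G) := by
    have e2 : u⁻¹⁻¹ * x⁻¹ * u⁻¹ = x⁻¹ * ⁅x, u⁆ := by
      rw [commutatorElement_def]; group
    rw [e2]
    exact Subgroup.mul_mem _ hy hgS
  rw [SetLike.mem_coe, e]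
  exact h x⁻¹ hy u⁻¹ h2

section single

variable [Finite G] {p : ℕ} [Fact p.Prime] (S : Subgroup G) (hS : IsPGroup p S)
  {W : Subgroup G → Subgroup G} (hW : IsConjugacyFunctor p W)
  (hloc : ∀ T : Subgroup G, T ≠ ⊥ → IsWellPlaced p W S T →
    ControlsTransferIn p W (Subgroup.normalizer (T : Set G)))

include hS hW hloc in
theorem wellPlaced_transfer_aux (n : ℕ) : ∀ T : Subgroup G, T ≠ ⊥ → IsWellPlaced p W S T →
    Nat.card S - Nat.card ↥(S ⊓ Subgroup.normalizer (T : Set G)) ≤ n →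
    (S ⊓ Subgroup.normalizer (T : Set G)) ⊓
        ⁅Subgroup.normalizer (T : Set G), Subgroup.normalizer (T : Set G)⁆ ≤
      S ⊓ ⁅Subgroup.normalizer ((W S : Subgroup G) : Set G),
        Subgroup.normalizer ((W S : Subgroup G) : Set G)⁆ := by
  induction n with
  | zero =>
    intro T hTne hT hcard
    set R := S ⊓ Subgroup.normalizer (T : Set G) with hR
    have hRS : R = S := by
      apply Subgroup.eq_of_le_of_card_ge inf_le_left
      have h0 : Nat.card S - Nat.card R ≤ 0 := hcard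
      show Nat.card S ≤ Nat.card R
      omega
    rw [ct_transfer hW (hloc T hTne hT) R inf_le_right (hS.to_le inf_le_left) (hT.2 0)]
    rw [hRS]
    exact inf_le_inf_left _ (Subgroup.commutator_mono inf_le_right inf_le_right)
  | succ n ih =>
    intro T hTne hT hcard
    set R := S ⊓ Subgroup.normalizer (T : Set G) with hR
    have hRp : IsPGroup p R := hS.to_le inf_le_left
    rw [ct_transfer hW (hloc T hTne hT) R inf_le_right hRp (hT.2 0)]
    by_cases hRS : R = S
    · rw [hRS]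
      exact inf_le_inf_left _ (Subgroup.commutator_mono inf_le_right inf_le_right)
    have hlt : R < S := lt_of_le_of_ne inf_le_left hRS
    have hnil : Group.IsNilpotent S := hS.isNilpotent
    have h1 := lt_inf_normalizer_of_lt S R hlt
    set T₁ := W R with hT₁
    have hT₁wp : IsWellPlaced p W S T₁ := isWellPlaced_next hW hS hT
    have hTR : T ≤ R := le_inf hT.1 Subgroup.le_normalizer
    have hRne : R ≠ ⊥ := fun hbot => hTne (le_bot_iff.mp (hbot ▸ hTR))
    have hT₁ne : T₁ ≠ ⊥ := (hW R hRp).2.1 hRne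
    set R₁ := S ⊓ Subgroup.normalizer (T₁ : Set G) with hR₁
    have h2 : S ⊓ Subgroup.normalizer (R : Set G) ≤ R₁ := inf_le_inf_left S (cf_normalizer_le hW hRp)
    have hRR₁ : R < R₁ := lt_of_lt_of_le h1 h2
    have hcard1 : Nat.card S - Nat.card R₁ ≤ n := by
      have := card_lt_card_of_lt hRR₁
      have h3 : Nat.card R₁ ≤ Nat.card S := Subgroup.card_le_of_le inf_le_left
      have h0 : Nat.card S - Nat.card R ≤ n + 1 := hcard
      omega
    refine le_trans ?_ (ih T₁ hT₁ne hT₁wp hcard1)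
    exact inf_le_inf hRR₁.le (Subgroup.commutator_mono inf_le_right inf_le_right)

include hS hW hloc in
theorem wellPlaced_chain_focal {A : Set G} {g : G}
    (hc : Chain {T : Subgroup G | IsWellPlaced p W S T} A g) :
    Foc (S ⊓ ⁅Subgroup.normalizer ((W S : Subgroup G) : Set G),
        Subgroup.normalizer ((W S : Subgroup G) : Set G)⁆) A g := by
  induction hc with
  | nil A => exact Foc.one _ _
  | cons A T x g hT hx hAT _ ih =>
    refine Foc.trans ?_ ih
    by_cases hTne : T = ⊥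
    · apply Foc.of_subset_one
      intro a ha
      have := hAT ha
      rw [hTne] at this
      exact Subgroup.mem_bot.mp this
    intro a ha
    apply wellPlaced_transfer_aux S hS hW hloc (Nat.card S) T hTne hT (Nat.sub_le _ _)
    have haT : a ∈ T := hAT ha
    have hxa : x⁻¹ * a * x ∈ T := by
      have := (Subgroup.mem_normalizer_iff.mp (Subgroup.inv_mem _ hx) a).mp haT
      simpa using this
    refine ⟨?_, focal_mem_commutator (Subgroup.le_normalizer haT) hx⟩
    exact le_inf hT.1 Subgroup.le_normalizer (T.mul_mem (T.inv_mem haT) hxa)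

end single

section family

variable [Finite G] {p : ℕ} [Fact p.Prime] (S : Subgroup G) (hS : IsPGroup p S) (hidx : ¬ p ∣ S.index)
  (𝓦 : Set (Subgroup G → Subgroup G)) (h𝓦 : ∀ W ∈ 𝓦, IsConjugacyFunctor p W)
  (hloc : ∀ T : Subgroup G, T ≤ S → T ≠ ⊥ →
    ¬ p ∣ (S ⊓ Subgroup.normalizer (T : Set G)).relIndex (Subgroup.normalizer (T : Set G)) →
    FamilyControlsTransferIn p 𝓦 (Subgroup.normalizer (T : Set G)))

/-- the target subgroup in the family version -/
def famD (𝓦 : Set (Subgroup G → Subgroup G)) (S : Subgroup G) : Subgroup G :=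
  ⨆ W ∈ 𝓦, S ⊓ ⁅⊤ ⊓ Subgroup.normalizer ((W S : Subgroup G) : Set G),
    ⊤ ⊓ Subgroup.normalizer ((W S : Subgroup G) : Set G)⁆

theorem ft_top (W : Subgroup G → Subgroup G) (hW : W ∈ 𝓦) :
    S ⊓ ⁅Subgroup.normalizer ((W S : Subgroup G) : Set G),
      Subgroup.normalizer ((W S : Subgroup G) : Set G)⁆ ≤ famD 𝓦 S := by
  have := le_iSup₂ (f := fun (W : Subgroup G → Subgroup G) (_ : W ∈ 𝓦) =>
    S ⊓ ⁅⊤ ⊓ Subgroup.normalizer ((W S : Subgroup G) : Set G),
      ⊤ ⊓ Subgroup.normalizer ((W S : Subgroup G) : Set G)⁆) W hW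
  simp only [top_inf_eq] at this
  unfold famD
  simp only [top_inf_eq]
  exact this

include hS h𝓦 hloc in
theorem ft_local (U : Subgroup G) (hUS : U ≤ S) (hUne : U ≠ ⊥)
    (hUgood : ¬ p ∣ (S ⊓ Subgroup.normalizer (U : Set G)).relIndex (Subgroup.normalizer (U : Set G)))
    (hE : ∀ W ∈ 𝓦, (S ⊓ Subgroup.normalizer (U : Set G)) ⊓
      ⁅Subgroup.normalizer ((W (S ⊓ Subgroup.normalizer (U : Set G)) : Subgroup G) : Set G),
       Subgroup.normalizer ((W (S ⊓ Subgroup.normalizer (U : Set G)) : Subgroup G) : Set G)⁆ ≤ famD 𝓦 S) :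
    (S ⊓ Subgroup.normalizer (U : Set G)) ⊓
      ⁅Subgroup.normalizer (U : Set G), Subgroup.normalizer (U : Set G)⁆ ≤ famD 𝓦 S := by
  rw [fct_transfer h𝓦 (hloc U hUS hUne hUgood) (S ⊓ Subgroup.normalizer (U : Set G))
    inf_le_right (hS.to_le inf_le_left) hUgood]
  apply iSup₂_le
  intro W hW
  exact (inf_le_inf_left _ (Subgroup.commutator_mono inf_le_right inf_le_right)).trans (hE W hW)

/-- elements `a⁻¹ a^x` for `a ∈ U`, `x ∈ N(U)` -/
theorem foc_of_normalizer {D : Subgroup G} (S U : Subgroup G) (hUS : U ≤ S) (x : G)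
    (hx : x ∈ Subgroup.normalizer (U : Set G))
    (hD : (S ⊓ Subgroup.normalizer (U : Set G)) ⊓
      ⁅Subgroup.normalizer (U : Set G), Subgroup.normalizer (U : Set G)⁆ ≤ D) :
    Foc D (U : Set G) x := by
  intro a ha
  apply hD
  have haT : a ∈ U := ha
  have hxa : x⁻¹ * a * x ∈ U := by
    have := (Subgroup.mem_normalizer_iff.mp (Subgroup.inv_mem _ hx) a).mp haT
    simpa using this
  refine ⟨?_, focal_mem_commutator (Subgroup.le_normalizer haT) hx⟩
  exact le_inf hUS Subgroup.le_normalizer (U.mul_mem (U.inv_mem haT) hxa)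

include hS hidx h𝓦 hloc in
theorem ft_base (g : G) (hg : rcg g S ≤ S) : Foc (famD 𝓦 S) (S : Set G) g := by
  have hgN : g ∈ Subgroup.normalizer (S : Set G) :=
    mem_normalizer_iff_rcg.mpr (rcg_eq_of_le_of_finite hg)
  by_cases hSbot : S = ⊥
  · apply Foc.of_subset_one
    rw [hSbot]; simp
  have hSN : S ⊓ Subgroup.normalizer (S : Set G) = S := inf_eq_left.mpr Subgroup.le_normalizer
  have hgood : ¬ p ∣ (S ⊓ Subgroup.normalizer (S : Set G)).relIndex (Subgroup.normalizer (S : Set G)) := by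
    rw [hSN]
    intro hd
    exact hidx (hd.trans (Subgroup.relIndex_dvd_index_of_le Subgroup.le_normalizer))
  apply foc_of_normalizer S S le_rfl g hgN
  apply ft_local S hS 𝓦 h𝓦 hloc S le_rfl hSbot hgood
  intro W hW
  rw [hSN]
  exact ft_top S 𝓦 W hW

include hS hidx h𝓦 hloc in
theorem ft_main (n : ℕ) :
    (∀ B : Subgroup G, B ≤ S → Nat.card S - Nat.card B ≤ n → ∀ g : G, rcg g B ≤ S →
      Foc (famD 𝓦 S) (B : Set G) g) ∧
    (∀ R : Subgroup G, R ≤ S → Nat.card S - Nat.card R ≤ n → ∀ W ∈ 𝓦,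
      R ⊓ ⁅Subgroup.normalizer ((W R : Subgroup G) : Set G),
        Subgroup.normalizer ((W R : Subgroup G) : Set G)⁆ ≤ famD 𝓦 S) := by
  have hnil : Group.IsNilpotent S := hS.isNilpotent
  induction n with
  | zero =>
    constructor
    · intro B hBS hcard g hg
      have hB : B = S := by
        apply Subgroup.eq_of_le_of_card_ge hBS
        omega
      subst hB
      exact ft_base B hS hidx 𝓦 h𝓦 hloc g hg
    · intro R hRS hcard W hW
      have hR : R = S := by
        apply Subgroup.eq_of_le_of_card_ge hRS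
        omega
      subst hR
      exact ft_top R 𝓦 W hW
  | succ n ih =>
    obtain ⟨hF, hE⟩ := ih
    have hE' : ∀ R : Subgroup G, R ≤ S → Nat.card S - Nat.card R ≤ n + 1 → ∀ W ∈ 𝓦,
      R ⊓ ⁅Subgroup.normalizer ((W R : Subgroup G) : Set G),
        Subgroup.normalizer ((W R : Subgroup G) : Set G)⁆ ≤ famD 𝓦 S := by
      intro R hRS hcard W hW
      by_cases hReq : R = S
      · subst hReq
        exact ft_top R 𝓦 W hW
      by_cases hRbot : R = ⊥
      · rw [hRbot]
        exact inf_le_left.trans bot_le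
      have hRlt : R < S := lt_of_le_of_ne hRS hReq
      have hRp : IsPGroup p R := hS.to_le hRS
      have hWc := h𝓦 W hW
      set V := W R with hV
      have hVne : V ≠ ⊥ := (hWc R hRp).2.1 hRbot
      have hVR : V ≤ R := cf_le hWc hRp
      set M := S ⊓ Subgroup.normalizer (V : Set G) with hM
      have hRM : R < M := lt_of_lt_of_le (lt_inf_normalizer_of_lt S R hRlt)
        (inf_le_inf_left S (cf_normalizer_le hWc hRp))
      obtain ⟨k, hk1, hk2⟩ := exists_good_conj S hS hidx V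
      set V' := rcg k V with hV'
      set R' := S ⊓ Subgroup.normalizer (V' : Set G) with hR'
      have hMR' : rcg k M ≤ R' :=
        le_inf hk1 (by rw [hV', ← rcg_normalizer]; exact rcg_mono k inf_le_right)
      have hcardRM : Nat.card R < Nat.card M := card_lt_card_of_lt hRM
      have hcardMR' : Nat.card M ≤ Nat.card R' := by
        rw [← card_rcg k M]; exact Subgroup.card_le_of_le hMR'
      have hcardM : Nat.card S - Nat.card M ≤ n := by omega
      have hcardR' : Nat.card S - Nat.card R' ≤ n := by omega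
      have hCk : Foc (famD 𝓦 S) (M : Set G) k := hF M inf_le_left hcardM k hk1
      have hV'ne : V' ≠ ⊥ := rcg_ne_bot hVne
      have hV'S : V' ≤ S := (rcg_mono k (hVR.trans hRM.le)).trans hk1
      have hloc' := ft_local S hS 𝓦 h𝓦 hloc V' hV'S hV'ne hk2
        (fun W₁ hW₁ => hE R' inf_le_left hcardR' W₁ hW₁)
      intro y hy
      have hyR : y ∈ R := hy.1
      have hyc : y ∈ ⁅Subgroup.normalizer (V : Set G), Subgroup.normalizer (V : Set G)⁆ := hy.2
      have h1 : k⁻¹ * y * k ∈ famD 𝓦 S := by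
        apply hloc'
        constructor
        · apply hMR'
          rw [mem_rcg]
          have e : k * (k⁻¹ * y * k) * k⁻¹ = y := by group
          rw [e]; exact hRM.le hyR
        · rw [hV', ← rcg_normalizer, ← rcg_commutator]
          show k⁻¹ * y * k ∈ rcg k ⁅Subgroup.normalizer (V : Set G), Subgroup.normalizer (V : Set G)⁆
          rw [mem_rcg]
          have e : k * (k⁻¹ * y * k) * k⁻¹ = y := by group
          rw [e]; exact hyc
      have h2 : y⁻¹ * (k⁻¹ * y * k) ∈ famD 𝓦 S := hCk y (hRM.le hyR)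
      have e : y = (k⁻¹ * y * k) * (y⁻¹ * (k⁻¹ * y * k))⁻¹ := by group
      rw [e]
      exact Subgroup.mul_mem _ h1 (Subgroup.inv_mem _ h2)
    refine ⟨?_, hE'⟩
    intro B hBS hcard g hg
    by_cases hBeq : B = S
    · subst hBeq
      exact ft_base B hS hidx 𝓦 h𝓦 hloc g hg
    have hBlt : B < S := lt_of_le_of_ne hBS hBeq
    set B' := rcg g B with hB'
    have hcardB' : Nat.card B' = Nat.card B := card_rcg g B
    have hB'lt : B' < S := by
      refine lt_of_le_of_ne hg ?_
      intro heq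
      have := card_lt_card_of_lt hBlt
      rw [← heq, hcardB'] at this
      exact lt_irrefl _ this
    obtain ⟨h, hh1, hh2⟩ := exists_good_conj S hS hidx B
    set U := rcg h B with hU
    have hBNB : B ≤ S ⊓ Subgroup.normalizer (B : Set G) := le_inf hBS Subgroup.le_normalizer
    have hUS : U ≤ S := (rcg_mono h hBNB).trans hh1
    have hconj : rcg (g⁻¹ * h) B' = U := by
      rw [hB', ← rcg_mul]
      have e : g * (g⁻¹ * h) = h := by group
      rw [e]
    obtain ⟨k, hk1, hk2⟩ := adjust_conj S hS U hh2 B' (g⁻¹ * h) hconj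
    set x := h⁻¹ * g * k with hx
    have hxU : rcg x U = U := by
      rw [hU, ← rcg_mul]
      have e : h * x = g * k := by rw [hx]; group
      rw [e, rcg_mul]
      exact hk1
    have hxN : x ∈ Subgroup.normalizer (U : Set G) := mem_normalizer_iff_rcg.mpr hxU
    have hNB : B < S ⊓ Subgroup.normalizer (B : Set G) := lt_inf_normalizer_of_lt S B hBlt
    have hNB' : B' < S ⊓ Subgroup.normalizer (B' : Set G) := lt_inf_normalizer_of_lt S B' hB'lt
    have hcardNB : Nat.card S - Nat.card ↥(S ⊓ Subgroup.normalizer (B : Set G)) ≤ n := by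
      have := card_lt_card_of_lt hNB
      omega
    have hcardNB' : Nat.card S - Nat.card ↥(S ⊓ Subgroup.normalizer (B' : Set G)) ≤ n := by
      have := card_lt_card_of_lt hNB'
      omega
    have hCh := hF _ inf_le_left hcardNB h hh1
    have hCk := hF _ inf_le_left hcardNB' k (hk2.trans inf_le_left)
    have hcardU : Nat.card U = Nat.card B := card_rcg h B
    have hCx : Foc (famD 𝓦 S) (U : Set G) x := by
      by_cases hUbot : U = ⊥
      · apply Foc.of_subset_one
        rw [hUbot]; simp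
      have hUlt : U < S := by
        refine lt_of_le_of_ne hUS ?_
        intro heq
        have := card_lt_card_of_lt hBlt
        rw [← heq, hcardU] at this
        exact lt_irrefl _ this
      have hNU : U < S ⊓ Subgroup.normalizer (U : Set G) := lt_inf_normalizer_of_lt S U hUlt
      have hcardNU : Nat.card S - Nat.card ↥(S ⊓ Subgroup.normalizer (U : Set G)) ≤ n := by
        have := card_lt_card_of_lt hNU
        omega
      apply foc_of_normalizer S U hUS x hxN
      exact ft_local S hS 𝓦 h𝓦 hloc U hUS hUbot hh2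
        (fun W₁ hW₁ => hE _ inf_le_left hcardNU W₁ hW₁)
    have h1 : Foc (famD 𝓦 S) (B : Set G) h :=
      hCh.mono (SetLike.coe_subset_coe.mpr hBNB)
    have h2 : Foc (famD 𝓦 S) (rcs h (B : Set G)) x := by
      rw [← coe_rcg]; exact hCx
    have h3 : Foc (famD 𝓦 S) (rcs (h * x) (B : Set G)) k⁻¹ := by
      have h5 := (hCk.mono (SetLike.coe_subset_coe.mpr hNB'.le)).inv
      have e1 : rcs (h * x) (B : Set G) = rcs k (B' : Set G) := by
        rw [rcs_mul, ← coe_rcg, ← coe_rcg, ← coe_rcg, hk1, ← hU, hxU]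
      rw [e1]; exact h5
    have h4 := (h1.trans h2).trans h3
    have e : h * x * k⁻¹ = g := by rw [hx]; group
    rwa [e] at h4

end family

end Cfsg.Agent.Helper10
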