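import Mathlib
import Cfsg.Prelude.Def_ConjugacyFunctors
import Cfsg.Prelude.Def_Solvable
import Cfsg.Agent.Lib.Helper10.SecClass
import Cfsg.Agent.Lib.Helper10.FamilyFusion2
import Cfsg.Agent.Lib.Helper10.TransferFusion

set_option autoImplicit false

namespace Cfsg.Agent.Helper10

open Cfsg

universe u

section induced

variable {p : ℕ} {W : ∀ (Q : Type u) [Group Q], Subgroup Q}

/-- the induced functor commutes with homomorphisms that are injective on the subgroup -/
theorem indW_map {H H' : Type u} [Group H] [Group H'] (hW : IsCharPFunctor.{u} p W) (f : H →* H')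
    (T : Subgroup H) [Finite T] (hT : IsPGroup p T) (hinj : Set.InjOn f (T : Set H)) :
    inducedFunctor W (T.map f) = (inducedFunctor W T).map f := by
  have hbij : Function.Bijective (f.subgroupMap T) := by
    refine ⟨?_, f.subgroupMap_surjective T⟩
    intro x y hxy
    have h1 : f x = f y := congrArg Subtype.val hxy
    exact Subtype.ext (hinj x.2 y.2 h1)
  have h2 := hW.2 ↥T ↥(T.map f) hT (MulEquiv.ofBijective (f.subgroupMap T) hbij)
  unfold inducedFunctor
  rw [← h2, Subgroup.map_map, Subgroup.map_map]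
  congr 1

theorem indW_le {H : Type u} [Group H] (T : Subgroup H) : inducedFunctor W T ≤ T := by
  unfold inducedFunctor
  exact Subgroup.map_subtype_le _

theorem isConjugacyFunctor_indW {H : Type u} [Group H] [Finite H] (hW : IsCharPFunctor.{u} p W) :
    IsConjugacyFunctor p (inducedFunctor (G := H) W) := by
  intro P hP
  refine ⟨indW_le P, ?_, ?_⟩
  · intro hne h
    have hnt : Nontrivial ↥P := (Subgroup.nontrivial_iff_ne_bot P).mpr hne
    apply hW.1 ↥P hP hnt
    unfold inducedFunctor at h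
    exact (Subgroup.map_eq_bot_iff_of_injective _ P.subtype_injective).mp h
  · intro g
    exact indW_map hW _ P hP (fun x _ y _ h => (MulAut.conj g).injective h)

end induced

end Cfsg.Agent.Helper10

namespace Cfsg.Agent.Helper10

open Cfsg

universe u

/-- the family of conjugacy functors induced on `H` by a set of functors on groups -/
def indFam (𝓦 : Set (∀ (Q : Type u) [Group Q], Subgroup Q)) (H : Type u) [Group H] :
    Set (Subgroup H → Subgroup H) :=
  (fun W => inducedFunctor (G := H) W) '' 𝓦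

section transport

variable {p : ℕ} {𝓦 : Set (∀ (Q : Type u) [Group Q], Subgroup Q)}

theorem indFam_conj {H : Type u} [Group H] [Finite H] (h𝓦 : ∀ W ∈ 𝓦, IsCharPFunctor.{u} p W) :
    ∀ W' ∈ indFam 𝓦 H, IsConjugacyFunctor p W' := by
  rintro _ ⟨W, hW, rfl⟩
  exact isConjugacyFunctor_indW (h𝓦 W hW)

theorem normalizer_map_of_injective {L H : Type*} [Group L] [Group H] (f : L →* H)
    (hf : Function.Injective f) (V : Subgroup L) :
    (Subgroup.normalizer (V : Set L)).map f = f.range ⊓ Subgroup.normalizer ((V.map f : Subgroup H) : Set H) := by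
  apply le_antisymm
  · exact le_inf (Subgroup.map_le_range f _) (Subgroup.le_normalizer_map f)
  · rintro x ⟨⟨x₀, rfl⟩, hx⟩
    refine ⟨x₀, ?_, rfl⟩
    rw [SetLike.mem_coe, Subgroup.mem_normalizer_iff]
    intro v
    have h1 := (Subgroup.mem_normalizer_iff.mp hx) (f v)
    constructor
    · intro hv
      have h2 := h1.mp (Subgroup.mem_map_of_mem f hv)
      obtain ⟨w, hw, hwe⟩ := h2
      have : w = x₀ * v * x₀⁻¹ := hf (by rw [hwe]; simp)
      rwa [← this]
    · intro hv
      have h2 := h1.mpr (by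
        have := Subgroup.mem_map_of_mem f hv
        simpa using this)
      obtain ⟨w, hw, hwe⟩ := h2
      have : w = v := hf hwe
      rwa [← this]

/-- control of strong fusion by the induced family passes along injective homomorphisms -/
theorem fcs_map_injective {L H : Type u} [Group L] [Group H] [Finite L]
    (h𝓦 : ∀ W ∈ 𝓦, IsCharPFunctor.{u} p W) (f : L →* H) (hf : Function.Injective f)
    (h : FamilyControlsStrongFusionIn p (indFam 𝓦 L) ⊤) :
    FamilyControlsStrongFusionIn p (indFam 𝓦 H) f.range := by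
  obtain ⟨T, -, hTp, hTidx, hT⟩ := h
  refine ⟨T.map f, Subgroup.map_le_range f T, hTp.map f, ?_, ?_⟩
  · rw [MonoidHom.range_eq_map, Subgroup.relIndex_map_map_of_injective T ⊤ hf]
    exact hTidx
  intro A h hh hA hhA
  obtain ⟨h₀, rfl⟩ := hh
  have hpre : ∀ a₀ : L, f a₀ ∈ T.map f → a₀ ∈ T := by
    intro a₀ ha
    obtain ⟨t, ht, hte⟩ := ha
    rwa [← hf hte]
  have hA₀ : f ⁻¹' A ⊆ (T : Set L) := fun a₀ ha₀ => hpre a₀ (hA ha₀)
  have hA₀' : (fun a => h₀ * a * h₀⁻¹) '' (f ⁻¹' A) ⊆ (T : Set L) := by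
    rintro _ ⟨a₀, ha₀, rfl⟩
    apply hpre
    have := hhA ⟨f a₀, ha₀, rfl⟩
    simpa using this
  obtain ⟨n, c, hc0, hstep, himg, hlast⟩ := hT (f ⁻¹' A) h₀ (Subgroup.mem_top _) hA₀ hA₀'
  have hAr : ∀ a ∈ A, ∃ a₀ ∈ f ⁻¹' A, f a₀ = a := by
    intro a ha
    obtain ⟨t, _, hte⟩ := hA ha
    exact ⟨t, by rw [Set.mem_preimage, hte]; exact ha, hte⟩
  refine ⟨n, fun i => f (c i), by simp [hc0], ?_, ?_, ?_⟩
  · intro i
    obtain ⟨_, ⟨W, hW, rfl⟩, hmem⟩ := hstep i
    refine ⟨inducedFunctor (G := H) W, ⟨W, hW, rfl⟩, ?_⟩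
    haveI : Finite ↥T := inferInstance
    rw [indW_map (h𝓦 W hW) f T hTp (fun x _ y _ hxy => hf hxy), ← normalizer_map_of_injective f hf]
    refine ⟨c i.succ * (c i.castSucc)⁻¹, hmem.2, by simp⟩
  · rintro i _ ⟨a, ha, rfl⟩
    obtain ⟨a₀, ha₀, rfl⟩ := hAr a ha
    refine ⟨c i * a₀ * (c i)⁻¹, himg i ⟨a₀, ha₀, rfl⟩, by simp⟩
  · intro a ha
    obtain ⟨a₀, ha₀, rfl⟩ := hAr a ha
    have := hlast a₀ ha₀
    have h2 := congrArg f this
    simpa using h2

end transport

end Cfsg.Agent.Helper10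

namespace Cfsg.Agent.Helper10

open Cfsg

universe u

section transport2

variable {p : ℕ} {𝓦 : Set (∀ (Q : Type u) [Group Q], Subgroup Q)}

/-- control of transfer by the induced family passes along injective homomorphisms -/
theorem fct_map_injective {L H : Type u} [Group L] [Group H] [Finite L]
    (h𝓦 : ∀ W ∈ 𝓦, IsCharPFunctor.{u} p W) (f : L →* H) (hf : Function.Injective f)
    (h : FamilyControlsTransferIn p (indFam 𝓦 L) ⊤) :
    FamilyControlsTransferIn p (indFam 𝓦 H) f.range := by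
  obtain ⟨T, -, hTp, hTidx, hT⟩ := h
  refine ⟨T.map f, Subgroup.map_le_range f T, hTp.map f, ?_, ?_⟩
  · rw [MonoidHom.range_eq_map, Subgroup.relIndex_map_map_of_injective T ⊤ hf]
    exact hTidx
  have h1 : T.map f ⊓ ⁅f.range, f.range⁆ = (T ⊓ ⁅(⊤ : Subgroup L), ⊤⁆).map f := by
    rw [Subgroup.map_inf _ _ f hf, Subgroup.map_commutator, ← MonoidHom.range_eq_map]
  unfold indFam at hT ⊢
  rw [iSup_image] at hT
  rw [h1, hT, iSup_image, Subgroup.map_iSup]
  apply iSup_congr
  intro W
  rw [Subgroup.map_iSup]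
  apply iSup_congr
  intro hW
  haveI : Finite ↥T := inferInstance
  show Subgroup.map f (T ⊓ ⁅⊤ ⊓ Subgroup.normalizer ((inducedFunctor W T : Subgroup L) : Set L),
      ⊤ ⊓ Subgroup.normalizer ((inducedFunctor W T : Subgroup L) : Set L)⁆) =
    T.map f ⊓ ⁅f.range ⊓ Subgroup.normalizer ((inducedFunctor W (T.map f) : Subgroup H) : Set H),
      f.range ⊓ Subgroup.normalizer ((inducedFunctor W (T.map f) : Subgroup H) : Set H)⁆
  rw [indW_map (h𝓦 W hW) f T hTp (fun x _ y _ hxy => hf hxy), ← normalizer_map_of_injective f hf,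
    Subgroup.map_inf _ _ f hf, Subgroup.map_commutator, top_inf_eq]

end transport2

end Cfsg.Agent.Helper10
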