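import Mathlib
import Cfsg.Agent.Lib.Helper10.SecInduced
import Cfsg.Agent.Lib.Helper10.SylowMore
import Cfsg.Agent.Lib.Helper10.Cores
import Cfsg.Agent.Lib.Helper10.Frobenius5

set_option autoImplicit false

namespace Cfsg.Agent.Helper10

open Cfsg

universe u

section helpers

variable {G : Type*} [Group G]

theorem relSylow_sup_pprime [Finite G] {p : ℕ} [Fact p.Prime] (S Y : Subgroup G) [Y.Normal]
    (hY : (Nat.card Y).Coprime p) : ¬ p ∣ S.relIndex (S ⊔ Y) := by
  have h1 : Nat.card S * S.relIndex (S ⊔ Y) = Nat.card (S ⊔ Y : Subgroup G) :=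
    card_mul_relIndex_eq le_sup_left
  have h2 := card_sup_dvd_mul_of_normal S Y
  rw [← h1] at h2
  have h3 : S.relIndex (S ⊔ Y) ∣ Nat.card Y := Nat.dvd_of_mul_dvd_mul_left Nat.card_pos h2
  intro hp
  have := Nat.Coprime.eq_one_of_dvd hY.symm (hp.trans h3)
  exact (Fact.out : p.Prime).ne_one this

theorem exists_mul_mem_normalizer [Finite G] {p : ℕ} [Fact p.Prime] (V Y : Subgroup G) [Y.Normal]
    (hV : IsPGroup p V) (hY : (Nat.card Y).Coprime p) (x₀ : G) (hx₀ : rcg x₀ V ≤ V ⊔ Y) :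
    ∃ y ∈ Y, x₀ * y ∈ Subgroup.normalizer (V : Set G) := by
  obtain ⟨c, hc, hcV⟩ := conj_into_relSylow (V ⊔ Y) V (rcg x₀ V) le_sup_left hV
    (relSylow_sup_pprime V Y hY) hx₀ (isPGroup_rcg x₀ hV)
  have hc' : c ∈ ((Y ⊔ V : Subgroup G) : Set G) := by rw [sup_comm]; exact hc
  rw [Subgroup.normal_mul] at hc'
  obtain ⟨y, hy, v, hv, rfl⟩ := Set.mem_mul.mp hc'
  refine ⟨y, hy, ?_⟩
  have h1 : x₀ * (y * v) ∈ Subgroup.normalizer (V : Set G) := by
    apply mem_normalizer_iff_rcg.mpr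
    apply rcg_eq_of_le_of_finite
    rw [rcg_mul]; exact hcV
  have h2 : x₀ * y = x₀ * (y * v) * v⁻¹ := by group
  rw [h2]
  exact Subgroup.mul_mem _ h1 (Subgroup.inv_mem _ (Subgroup.le_normalizer hv))

theorem exists_adjust_into [Finite G] {p : ℕ} [Fact p.Prime] (S Y M B : Subgroup G) [Y.Normal]
    (hS : IsPGroup p S) (hY : (Nat.card Y).Coprime p) (hSM : S ≤ M) (hB : IsPGroup p B)
    (hBM : B ≤ M) (hBSY : B ≤ S ⊔ Y) : ∃ y ∈ Y, y ∈ M ∧ rcg y B ≤ S := by
  have hSD : S ≤ M ⊓ (S ⊔ Y) := le_inf hSM le_sup_left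
  have hidx : ¬ p ∣ S.relIndex (M ⊓ (S ⊔ Y)) := by
    intro hd
    apply relSylow_sup_pprime S Y hY
    have := Subgroup.relIndex_mul_relIndex S (M ⊓ (S ⊔ Y)) (S ⊔ Y) hSD inf_le_right
    rw [← this]
    exact Dvd.dvd.mul_right hd _
  obtain ⟨d, hd, hdB⟩ := conj_into_relSylow (M ⊓ (S ⊔ Y)) S B hSD hS hidx (le_inf hBM hBSY) hB
  have hd' : d ∈ ((Y ⊔ S : Subgroup G) : Set G) := by rw [sup_comm]; exact hd.2
  rw [Subgroup.normal_mul] at hd'
  obtain ⟨y, hy, s, hs, rfl⟩ := Set.mem_mul.mp hd'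
  refine ⟨y, hy, ?_, ?_⟩
  · have h2 : y = y * s * s⁻¹ := by group
    rw [h2]
    exact M.mul_mem hd.1 (M.inv_mem (hSM hs))
  · rw [rcg_mul, rcg_le_iff] at hdB
    refine hdB.trans ?_
    intro z hz
    rw [mem_rcg] at hz
    have h3 : z = s * (s⁻¹ * z * s⁻¹⁻¹) * s⁻¹ := by group
    rw [h3]
    exact S.mul_mem (S.mul_mem hs hz) (S.inv_mem hs)

theorem image_rcs {G' : Type*} [Group G'] (π : G →* G') (x : G) (A : Set G) :
    π '' (rcs x A) = rcs (π x) (π '' A) := by
  unfold rcs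
  rw [Set.image_image, Set.image_image]
  apply Set.image_congr
  intro a _
  simp

theorem nchain_lift {G' : Type*} [Group G'] (π : G →* G') {𝓝' : Set (Subgroup G')}
    {R' : Subgroup G'} {𝓝 : Set (Subgroup G)} {R : Subgroup G}
    (hstep : ∀ N' ∈ 𝓝', ∀ x' ∈ N', ∀ A : Set G, A ⊆ (R : Set G) → rcs x' (π '' A) ⊆ (R' : Set G') →
      ∃ N ∈ 𝓝, ∃ x ∈ N, π x = x' ∧ rcs x A ⊆ (R : Set G))
    {A' : Set G'} {g' : G'} (h : NChain 𝓝' R' A' g') :
    ∀ A : Set G, A ⊆ (R : Set G) → π '' A = A' → ∃ g : G, π g = g' ∧ NChain 𝓝 R A g := by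
  induction h with
  | nil A' hA' =>
    intro A hA _
    exact ⟨1, map_one π, NChain.nil A hA⟩
  | cons A' N' x' g' hN' hx' hA' htail ih =>
    intro A hA hAA'
    subst hAA'
    obtain ⟨N, hN, x, hx, hπx, hxA⟩ := hstep N' hN' x' hx' A hA htail.subset
    have h1 : π '' (rcs x A) = rcs x' (π '' A) := by rw [image_rcs, hπx]
    obtain ⟨g, hg, hch⟩ := ih (rcs x A) hxA h1
    exact ⟨x * g, by rw [map_mul, hπx, hg], NChain.cons A N x g hN hx hA hch⟩

end helpers

section fn

variable {G : Type*} [Group G] [Finite G] {p : ℕ} [Fact p.Prime] (S : Subgroup G)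
  (hS : IsPGroup p S) (hidx : ¬ p ∣ S.index) (Good : Set G → G → Prop)
  (hmono : ∀ (A B : Set G) (g : G), Good B g → A ⊆ B → Good A g)
  (htrans : ∀ (A : Set G) (g h : G), Good A g → Good (rcs g A) h → Good A (g * h))
  (hinv : ∀ (A : Set G) (g : G), Good A g → Good (rcs g A) g⁻¹)
  (hstep : ∀ U : Subgroup G, U ≤ S →
    ¬ p ∣ (S ⊓ Subgroup.normalizer (U : Set G)).relIndex (Subgroup.normalizer (U : Set G)) →
    ∀ x ∈ Subgroup.normalizer (U : Set G),
      (∀ A' : Subgroup G, A' ≤ S → Nat.card U < Nat.card A' → ∀ g : G, rcg g A' ≤ S →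
        Good (A' : Set G) g) → Good (U : Set G) x)

include hS hidx hmono htrans hinv hstep in
/-- reduction of a property of conjugation maps to normalizers of fully normalized subgroups -/
theorem fn_main (n : ℕ) : ∀ B : Subgroup G, B ≤ S → Nat.card S - Nat.card B ≤ n → ∀ g : G,
    rcg g B ≤ S → Good (B : Set G) g := by
  have hnil : Group.IsNilpotent S := hS.isNilpotent
  induction n with
  | zero =>
    intro B hBS hcard g hg
    have hB : B = S := by
      apply Subgroup.eq_of_le_of_card_ge hBS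
      omega
    subst hB
    have hgN : g ∈ Subgroup.normalizer (B : Set G) :=
      mem_normalizer_iff_rcg.mpr (rcg_eq_of_le_of_finite hg)
    have hSN : B ⊓ Subgroup.normalizer (B : Set G) = B := inf_eq_left.mpr Subgroup.le_normalizer
    apply hstep B le_rfl ?_ g hgN
    · intro A' hA' hlt
      have := Subgroup.card_le_of_le hA'
      omega
    · rw [hSN]
      intro hd
      exact hidx (hd.trans (Subgroup.relIndex_dvd_index_of_le Subgroup.le_normalizer))
  | succ n ih =>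
    intro B hBS hcard g hg
    by_cases hBeq : B = S
    · subst hBeq
      have hgN : g ∈ Subgroup.normalizer (B : Set G) :=
        mem_normalizer_iff_rcg.mpr (rcg_eq_of_le_of_finite hg)
      have hSN : B ⊓ Subgroup.normalizer (B : Set G) = B := inf_eq_left.mpr Subgroup.le_normalizer
      apply hstep B le_rfl ?_ g hgN
      · intro A' hA' hlt
        have := Subgroup.card_le_of_le hA'
        omega
      · rw [hSN]
        intro hd
        exact hidx (hd.trans (Subgroup.relIndex_dvd_index_of_le Subgroup.le_normalizer))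
    have hBlt : B < S := lt_of_le_of_ne hBS hBeq
    set B' := rcg g B with hB'
    have hcardB' : Nat.card B' = Nat.card B := card_rcg g B
    have hB'lt : B' < S := by
      refine lt_of_le_of_ne hg ?_
      intro heq
      have := card_lt_card_of_lt hBlt
      rw [← heq, hcardB'] at this
      exact lt_irrefl _ this
    obtain ⟨h, hh1, hh2⟩ := exists_good_conj S hS hidx B
    set U := rcg h B with hU
    have hBNB : B ≤ S ⊓ Subgroup.normalizer (B : Set G) := le_inf hBS Subgroup.le_normalizer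
    have hUS : U ≤ S := (rcg_mono h hBNB).trans hh1
    have hconj : rcg (g⁻¹ * h) B' = U := by
      rw [hB', ← rcg_mul]
      have e : g * (g⁻¹ * h) = h := by group
      rw [e]
    obtain ⟨k, hk1, hk2⟩ := adjust_conj S hS U hh2 B' (g⁻¹ * h) hconj
    set x := h⁻¹ * g * k with hx
    have hxU : rcg x U = U := by
      rw [hU, ← rcg_mul]
      have e : h * x = g * k := by rw [hx]; group
      rw [e, rcg_mul]
      exact hk1
    have hxN : x ∈ Subgroup.normalizer (U : Set G) := mem_normalizer_iff_rcg.mpr hxU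
    have hNB : B < S ⊓ Subgroup.normalizer (B : Set G) := lt_inf_normalizer_of_lt S B hBlt
    have hNB' : B' < S ⊓ Subgroup.normalizer (B' : Set G) := lt_inf_normalizer_of_lt S B' hB'lt
    have hcardNB : Nat.card S - Nat.card ↥(S ⊓ Subgroup.normalizer (B : Set G)) ≤ n := by
      have := card_lt_card_of_lt hNB
      omega
    have hcardNB' : Nat.card S - Nat.card ↥(S ⊓ Subgroup.normalizer (B' : Set G)) ≤ n := by
      have := card_lt_card_of_lt hNB'
      omega
    have hCh := ih _ inf_le_left hcardNB h hh1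
    have hCk := ih _ inf_le_left hcardNB' k (hk2.trans inf_le_left)
    have hcardU : Nat.card U = Nat.card B := card_rcg h B
    have hCx : Good (U : Set G) x := by
      apply hstep U hUS hh2 x hxN
      intro A' hA' hlt g' hg'
      apply ih A' hA' ?_ g' hg'
      have := Subgroup.card_le_of_le hBS
      omega
    have h1 : Good (B : Set G) h := hmono _ _ _ hCh (SetLike.coe_subset_coe.mpr hBNB)
    have h2 : Good (rcs h (B : Set G)) x := by
      rw [← coe_rcg]; exact hCx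
    have h3 : Good (rcs (h * x) (B : Set G)) k⁻¹ := by
      have h5 := hinv _ _ (hmono _ _ _ hCk (SetLike.coe_subset_coe.mpr hNB'.le))
      have e1 : rcs (h * x) (B : Set G) = rcs k (B' : Set G) := by
        rw [rcs_mul, ← coe_rcg, ← coe_rcg, ← coe_rcg, hk1, ← hU, hxU]
      rw [e1]; exact h5
    have h4 := htrans _ _ _ (htrans _ _ _ h1 h2) h3
    have e : h * x * k⁻¹ = g := by rw [hx]; group
    rwa [e] at h4

include hS hidx hmono htrans hinv hstep in
theorem fn_final (A : Set G) (g : G) (hA : A ⊆ (S : Set G)) (hgA : rcs g A ⊆ (S : Set G)) :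
    Good A g := by
  have hB : Subgroup.closure A ≤ S := (Subgroup.closure_le S).mpr hA
  have hBg : rcg g (Subgroup.closure A) ≤ S := by
    rw [rcg_le_iff, Subgroup.closure_le]
    intro a ha
    rw [SetLike.mem_coe, mem_rcg]
    apply hgA
    rw [mem_rcs]
    simpa [mul_assoc] using ha
  exact hmono _ _ _ (fn_main S hS hidx Good hmono htrans hinv hstep (Nat.card S)
    (Subgroup.closure A) hB (Nat.sub_le _ _) g hBg) Subgroup.subset_closure

end fn

end Cfsg.Agent.Helper10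

namespace Cfsg.Agent.Helper10

open Cfsg

universe u

section core

variable {G : Type u} [Group G] [Finite G] {p : ℕ} [Fact p.Prime]
  {𝓦 : Set (∀ (Q : Type u) [Group Q], Subgroup Q)}

/-- control in a subgroup containing the Sylow subgroup gives composites in the whole group -/
theorem sub_ncomp {𝓦G : Set (Subgroup G → Subgroup G)} (h𝓦G : ∀ W ∈ 𝓦G, IsConjugacyFunctor p W)
    (S : Subgroup G) (hS : IsPGroup p S) (hidx : ¬ p ∣ S.index) (L : Subgroup G) (hSL : S ≤ L)
    (hL : FamilyControlsStrongFusionIn p 𝓦G L) (A : Set G) (g : G) (hg : g ∈ L)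
    (hA : A ⊆ (S : Set G)) (hgA : rcs g A ⊆ (S : Set G)) :
    NComp (stepFamily 𝓦G ⊤ S) S A g := by
  have hrel : ¬ p ∣ S.relIndex L := fun hd => hidx (hd.trans (Subgroup.relIndex_dvd_index_of_le hSL))
  have h1 := fcs_transfer h𝓦G hL S hSL hS hrel A g hg hA hgA
  refine h1.bind le_rfl ?_
  rintro N ⟨W, hW, rfl⟩ z hz A' hA' hzA'
  exact NComp.single (N := ⊤ ⊓ Subgroup.normalizer ((W S : Subgroup G) : Set G)) ⟨W, hW, rfl⟩
    ⟨Subgroup.mem_top _, hz.2⟩ hA' hzA'

theorem injOn_mk_of_coprime (S Y : Subgroup G) [Y.Normal] (hS : IsPGroup p S)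
    (hY : (Nat.card Y).Coprime p) : Set.InjOn (QuotientGroup.mk' Y) (S : Set G) := by
  have hSY : S ⊓ Y = ⊥ := by
    apply Subgroup.inf_eq_bot_of_coprime
    obtain ⟨k, hk⟩ := hS.exists_card_eq
    rw [hk]
    exact (Nat.Coprime.pow_right k hY).symm
  intro a ha b hb hab
  have h1 : a⁻¹ * b ∈ Y := by
    have := (QuotientGroup.eq (s := Y)).mp hab
    exact this
  have h2 : a⁻¹ * b ∈ S ⊓ Y := ⟨S.mul_mem (S.inv_mem ha) hb, h1⟩
  rw [hSY, Subgroup.mem_bot] at h2
  exact inv_mul_eq_one.mp h2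

/-- lifting control of strong fusion through a normal `p'`-subgroup -/
theorem lift_pprime (h𝓦 : ∀ W ∈ 𝓦, IsCharPFunctor.{u} p W)
    (S : Subgroup G) (hS : IsPGroup p S) (hidx : ¬ p ∣ S.index) (Y : Subgroup G) [Y.Normal]
    (hY : (Nat.card Y).Coprime p)
    (hq : FamilyControlsStrongFusionIn p (indFam 𝓦 (G ⧸ Y)) ⊤)
    (A : Set G) (g : G) (hA : A ⊆ (S : Set G)) (hgA : rcs g A ⊆ (S : Set G)) :
    NComp (stepFamily (indFam 𝓦 G) ⊤ S) S A g := by
  set π := QuotientGroup.mk' Y with hπ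
  have hπs : Function.Surjective π := QuotientGroup.mk'_surjective Y
  have hinj := injOn_mk_of_coprime S Y hS hY
  haveI : Finite ↥S := inferInstance
  have hSbp : IsPGroup p (S.map π) := hS.map π
  have hSbidx : ¬ p ∣ (S.map π).relIndex ⊤ := by
    rw [Subgroup.relIndex_top_right]
    exact fun hd => hidx (hd.trans (Subgroup.index_map_dvd S hπs))
  have hA' : π '' A ⊆ ((S.map π : Subgroup (G ⧸ Y)) : Set (G ⧸ Y)) := by
    rintro _ ⟨a, ha, rfl⟩
    exact ⟨a, hA ha, rfl⟩
  have hgA' : rcs (π g) (π '' A) ⊆ ((S.map π : Subgroup (G ⧸ Y)) : Set (G ⧸ Y)) := by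
    rw [← image_rcs]
    rintro _ ⟨a, ha, rfl⟩
    exact ⟨a, hgA ha, rfl⟩
  obtain ⟨g', hch, hag⟩ := fcs_transfer (indFam_conj h𝓦) hq (S.map π) le_top hSbp hSbidx (π '' A) (π g)
    (Subgroup.mem_top _) hA' hgA'
  have hcomap : (S.map π).comap π = S ⊔ Y := by
    rw [Subgroup.comap_map_eq, hπ, QuotientGroup.ker_mk']
  have hstep : ∀ N' ∈ stepFamily (indFam 𝓦 (G ⧸ Y)) ⊤ (S.map π), ∀ x' ∈ N', ∀ A₁ : Set G,
      A₁ ⊆ (S : Set G) → rcs x' (π '' A₁) ⊆ ((S.map π : Subgroup (G ⧸ Y)) : Set (G ⧸ Y)) →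
      ∃ N ∈ stepFamily (indFam 𝓦 G) ⊤ S, ∃ x ∈ N, π x = x' ∧ rcs x A₁ ⊆ (S : Set G) := by
    rintro _ ⟨_, ⟨W, hW, rfl⟩, rfl⟩ x' hx' A₁ hA₁ hxA₁
    have hWc := isConjugacyFunctor_indW (H := G) (h𝓦 W hW)
    set V := inducedFunctor (G := G) W S with hV
    have hVS : V ≤ S := indW_le S
    have hVp : IsPGroup p V := hS.to_le hVS
    have hVmap : inducedFunctor (G := G ⧸ Y) W (S.map π) = V.map π := indW_map (h𝓦 W hW) π S hS hinj
    have hx'N : x' ∈ Subgroup.normalizer ((V.map π : Subgroup (G ⧸ Y)) : Set (G ⧸ Y)) := by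
      have h0 : x' ∈ Subgroup.normalizer
          ((inducedFunctor (G := G ⧸ Y) W (S.map π) : Subgroup (G ⧸ Y)) : Set (G ⧸ Y)) := hx'.2
      rwa [hVmap] at h0
    obtain ⟨x₀, rfl⟩ := hπs x'
    have hx₀ : rcg x₀ V ≤ V ⊔ Y := by
      intro z hz
      rw [mem_rcg] at hz
      have h1 : π z ∈ V.map π := by
        have h2 : π (x₀ * z * x₀⁻¹) ∈ V.map π := Subgroup.mem_map_of_mem π hz
        have h3 := (Subgroup.mem_normalizer_iff.mp (Subgroup.inv_mem _ hx'N) (π (x₀ * z * x₀⁻¹))).mp h2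
        have e : (π x₀)⁻¹ * π (x₀ * z * x₀⁻¹) * (π x₀)⁻¹⁻¹ = π z := by
          simp only [map_mul, map_inv]; group
        rwa [e] at h3
      have h4 : z ∈ (V.map π).comap π := h1
      rwa [Subgroup.comap_map_eq, hπ, QuotientGroup.ker_mk'] at h4
    obtain ⟨y, hy, hn⟩ := exists_mul_mem_normalizer V Y hVp hY x₀ hx₀
    have hπy : π y = 1 := (QuotientGroup.eq_one_iff y).mpr hy
    set n := x₀ * y with hn'
    have hπn : π n = π x₀ := by rw [hn', map_mul, hπy, mul_one]
    have hSNV : S ≤ Subgroup.normalizer (V : Set G) := cf_le_normalizer hWc hS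
    have hclS : Subgroup.closure A₁ ≤ S := (Subgroup.closure_le S).mpr hA₁
    set B := rcg n (Subgroup.closure A₁) with hB
    have hBp : IsPGroup p B := isPGroup_rcg n (hS.to_le hclS)
    have hBN : B ≤ Subgroup.normalizer (V : Set G) := by
      have h1 : B ≤ rcg n (Subgroup.normalizer (V : Set G)) := rcg_mono n (hclS.trans hSNV)
      rwa [rcg_normalizer, mem_normalizer_iff_rcg.mp hn] at h1
    have hBSY : B ≤ S ⊔ Y := by
      rw [← hcomap, hB, rcg_le_iff, Subgroup.closure_le]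
      intro a ha
      rw [SetLike.mem_coe, mem_rcg, Subgroup.mem_comap]
      have h1 := hxA₁ ⟨π a, ⟨a, ha, rfl⟩, rfl⟩
      have e : π (n⁻¹ * a * n⁻¹⁻¹) = (π x₀)⁻¹ * π a * π x₀ := by
        simp only [map_mul, map_inv, hπn, inv_inv]
      rw [e]; exact h1
    obtain ⟨y₁, hy₁, hy₁N, hy₁B⟩ := exists_adjust_into S Y (Subgroup.normalizer (V : Set G)) B hS hY
      hSNV hBp hBN hBSY
    have hπy₁ : π y₁ = 1 := (QuotientGroup.eq_one_iff y₁).mpr hy₁
    refine ⟨⊤ ⊓ Subgroup.normalizer ((V : Subgroup G) : Set G), ⟨_, ⟨W, hW, rfl⟩, rfl⟩, n * y₁,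
      ⟨Subgroup.mem_top _, Subgroup.mul_mem _ hn hy₁N⟩, ?_, ?_⟩
    · rw [map_mul, hπy₁, mul_one, hπn]
    · rintro _ ⟨a, ha, rfl⟩
      apply hy₁B
      rw [mem_rcg, hB, mem_rcg]
      have e : n * (y₁ * ((n * y₁)⁻¹ * a * (n * y₁)) * y₁⁻¹) * n⁻¹ = a := by group
      rw [e]
      exact Subgroup.subset_closure ha
  obtain ⟨g'', hg'', hch'⟩ := nchain_lift π hstep hch A hA rfl
  refine ⟨g'', hch', fun a ha => ?_⟩
  have h1 : g''⁻¹ * a * g'' ∈ S := hch'.image_subset ⟨a, ha, rfl⟩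
  have h2 : g⁻¹ * a * g ∈ S := hgA ⟨a, ha, rfl⟩
  apply hinj h1 h2
  have h3 := hag (π a) ⟨a, ha, rfl⟩
  rw [← hg''] at h3
  show π (g''⁻¹ * a * g'') = π (g⁻¹ * a * g)
  simp only [map_mul, map_inv]
  exact h3

end core

end Cfsg.Agent.Helper10

namespace Cfsg.Agent.Helper10

open Cfsg

universe u

section klemma

variable {G : Type*} [Group G] [Finite G] {p : ℕ} [Fact p.Prime]

theorem le_normalizer_inf_normal (S K : Subgroup G) [hK : K.Normal] :
    S ≤ Subgroup.normalizer ((S ⊓ K : Subgroup G) : Set G) := by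
  intro s hs
  rw [Subgroup.mem_normalizer_iff]
  intro h
  constructor
  · rintro ⟨h1, h2⟩
    exact ⟨S.mul_mem (S.mul_mem hs h1) (S.inv_mem hs), hK.conj_mem h h2 s⟩
  · rintro ⟨h1, h2⟩
    constructor
    · have : h = s⁻¹ * (s * h * s⁻¹) * s := by group
      rw [this]
      exact S.mul_mem (S.mul_mem (S.inv_mem hs) h1) hs
    · have : h = s⁻¹ * (s * h * s⁻¹) * s⁻¹⁻¹ := by group
      rw [this]
      exact hK.conj_mem _ h2 s⁻¹

/-- Frattini-type reduction: a property of conjugation maps that holds in `KS` and in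
`N_G(S ∩ K)` holds in `G` -/
theorem k_lemma (S : Subgroup G) (hS : IsPGroup p S) (hidx : ¬ p ∣ S.index)
    (Good : Set G → G → Prop)
    (htrans : ∀ (A : Set G) (g h : G), Good A g → Good (rcs g A) h → Good A (g * h))
    (K : Subgroup G) [hK : K.Normal]
    (h1 : ∀ g ∈ K ⊔ S, ∀ B : Subgroup G, B ≤ S → rcg g B ≤ S → Good (B : Set G) g)
    (h2 : ∀ g ∈ Subgroup.normalizer ((S ⊓ K : Subgroup G) : Set G), ∀ B : Subgroup G, B ≤ S →
      rcg g B ≤ S → Good (B : Set G) g)
    (B : Subgroup G) (hB : B ≤ S) (g : G) (hg : rcg g B ≤ S) : Good (B : Set G) g := by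
  set M := Subgroup.normalizer ((S ⊓ K : Subgroup G) : Set G) with hM
  have hrel : ¬ p ∣ (S ⊓ K).relIndex K := inf_normal_relSylow S K hS hidx
  obtain ⟨c, hcK, hcM⟩ := frattini_elt K (S ⊓ K) inf_le_right (hS.to_le inf_le_left) hrel g⁻¹
  set m := c⁻¹ * g with hm
  have hmM : m ∈ M := by
    have : m = (g⁻¹ * c)⁻¹ := by rw [hm]; group
    rw [this]; exact M.inv_mem hcM
  have hSM : S ≤ M := le_normalizer_inf_normal S K
  have hcKS : c ∈ K ⊔ S := (le_sup_left : K ≤ K ⊔ S) hcK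
  set B₁ := rcg c B with hB₁
  have hB₁H : B₁ ≤ K ⊔ S := by
    have := rcg_mono c (hB.trans (le_sup_right : S ≤ K ⊔ S))
    rwa [rcg_self_of_mem hcKS] at this
  have hB₁M : B₁ ≤ M := by
    have h3 : rcg m B₁ ≤ M := by
      rw [hB₁, ← rcg_mul]
      have e : c * m = g := by rw [hm]; group
      rw [e]; exact hg.trans hSM
    rw [rcg_le_iff, rcg_self_of_mem (M.inv_mem hmM)] at h3
    exact h3
  have hSD : S ≤ (K ⊔ S) ⊓ M := le_inf le_sup_right hSM
  have hrelD : ¬ p ∣ S.relIndex ((K ⊔ S) ⊓ M) :=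
    fun hd => hidx (hd.trans (Subgroup.relIndex_dvd_index_of_le hSD))
  obtain ⟨d, hd, hdB⟩ := conj_into_relSylow ((K ⊔ S) ⊓ M) S B₁ hSD hS hrelD (le_inf hB₁H hB₁M)
    (isPGroup_rcg c (hS.to_le hB))
  have hcd : rcg (c * d) B ≤ S := by rw [rcg_mul]; exact hdB
  have g1 : Good (B : Set G) (c * d) := h1 (c * d) ((K ⊔ S).mul_mem hcKS hd.1) B hB hcd
  have hfin : rcg (d⁻¹ * m) (rcg (c * d) B) ≤ S := by
    rw [← rcg_mul]
    have e : c * d * (d⁻¹ * m) = g := by rw [hm]; group
    rw [e]; exact hg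
  have g2 : Good ((rcg (c * d) B : Subgroup G) : Set G) (d⁻¹ * m) :=
    h2 (d⁻¹ * m) (M.mul_mem (M.inv_mem hd.2) hmM) _ hcd hfin
  rw [coe_rcg] at g2
  have g3 := htrans _ _ _ g1 g2
  have e : c * d * (d⁻¹ * m) = g := by rw [hm]; group
  rwa [e] at g3

theorem le_pCore' {N : Subgroup G} (hN : N.Normal) (hp : IsPGroup p N) : N ≤ pCore p G :=
  le_sSup ⟨hN, hp⟩

theorem le_pPrimeCore' {N : Subgroup G} (hN : N.Normal) (hc : (Nat.card N).Coprime p) :
    N ≤ pPrimeCore p G :=
  le_sSup ⟨hN, hc⟩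

/-- if `S ∩ C_G(O_p(G))` is normal and `O_{p'}(G) = 1`, then `C_G(O_p(G)) ≤ O_p(G)` -/
theorem constrained_of_inf_normal (S : Subgroup G) (hS : IsPGroup p S) (hidx : ¬ p ∣ S.index)
    (hY : pPrimeCore p G = ⊥)
    (hn : (S ⊓ Subgroup.centralizer ((pCore p G : Subgroup G) : Set G)).Normal) :
    Subgroup.centralizer ((pCore p G : Subgroup G) : Set G) ≤ pCore p G := by
  haveI : (pCore p G).Normal := pCore_normal p
  set C := Subgroup.centralizer ((pCore p G : Subgroup G) : Set G) with hC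
  haveI hCn : C.Normal := Subgroup.normal_centralizer
  have hQP : S ⊓ C ≤ pCore p G := le_pCore' hn (hS.to_le inf_le_left)
  have hrel : ¬ p ∣ (S ⊓ C).relIndex C := inf_normal_relSylow S C hS hidx
  have hQ' : IsPGroup p ((S ⊓ C).subgroupOf C) := (hS.to_le inf_le_left).comap_subtype
  let Q'' : Sylow p C := hQ'.toSylow hrel
  have hQ''coe : (Q'' : Subgroup C) = (S ⊓ C).subgroupOf C := IsPGroup.toSylow_coe hQ' hrel
  have hcent : ∀ x ∈ (Q'' : Subgroup C), ∀ c : C, x * c = c * x := by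
    intro x hx c
    rw [hQ''coe, Subgroup.mem_subgroupOf] at hx
    have h1 : (x : G) ∈ pCore p G := hQP hx
    have h2 := Subgroup.mem_centralizer_iff.mp c.2 (x : G) h1
    exact Subtype.ext h2
  obtain ⟨N', hN'n, hN'c, k, hk⟩ := npc_of_central_sylow Q'' hcent
  set D := N'.map C.subtype with hD
  have hDcard : Nat.card D = Nat.card N' :=
    (Nat.card_congr (N'.equivMapOfInjective _ C.subtype_injective).toEquiv).symm
  have hDn : D.Normal := by
    constructor
    rintro _ ⟨x', hx', rfl⟩ g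
    have hy : g * (x' : G) * g⁻¹ ∈ C := hCn.conj_mem _ x'.2 g
    refine ⟨⟨g * (x' : G) * g⁻¹, hy⟩, ?_, rfl⟩
    haveI := hN'n
    apply mem_of_coprime_order_of_index_pow (p := p) ⟨k, hk⟩
    have h1 : orderOf (⟨g * (x' : G) * g⁻¹, hy⟩ : C) = orderOf x' := by
      rw [← Subgroup.orderOf_coe, ← Subgroup.orderOf_coe]
      exact orderOf_injective (MulAut.conj g).toMonoidHom (MulAut.conj g).injective (x' : G)
    rw [h1]
    have h2 : orderOf x' ∣ Nat.card N' := by
      have := orderOf_dvd_natCard (⟨x', hx'⟩ : N')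
      rwa [Subgroup.orderOf_mk] at this
    exact Nat.Coprime.coprime_dvd_left h2 hN'c
  have hDbot : D = ⊥ := by
    have := le_pPrimeCore' (p := p) hDn (by rw [hDcard]; exact hN'c)
    rw [hY] at this
    exact le_bot_iff.mp this
  have hN'bot : N' = ⊥ := by
    have := (Subgroup.map_eq_bot_iff_of_injective N' C.subtype_injective).mp hDbot
    exact this
  have hCp : IsPGroup p C := by
    apply IsPGroup.of_card (n := k)
    rw [← hk, hN'bot, Subgroup.index_bot]
  exact le_pCore' hCn hCp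

end klemma

end Cfsg.Agent.Helper10

namespace Cfsg.Agent.Helper10

open Cfsg

universe u

section qsupport

variable {G : Type*} [Group G] [Finite G] {p : ℕ} [Fact p.Prime]

theorem pCore_quotient_pCore (p : ℕ) [Fact p.Prime] (G : Type*) [Group G] [Finite G]
    [hP : (pCore p G).Normal] : pCore p (G ⧸ pCore p G) = ⊥ := by
  set π := QuotientGroup.mk' (pCore p G) with hπ
  have hπs : Function.Surjective π := QuotientGroup.mk'_surjective _
  haveI hn2 : (pCore p (G ⧸ pCore p G)).Normal := pCore_normal p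
  have hker : IsPGroup p π.ker := by
    rw [hπ, QuotientGroup.ker_mk']; exact pCore_isPGroup p
  have hL : IsPGroup p ((pCore p (G ⧸ pCore p G)).comap π) :=
    (pCore_isPGroup p).comap_of_ker_isPGroup π hker
  have hLn : ((pCore p (G ⧸ pCore p G)).comap π).Normal := Subgroup.Normal.comap hn2 π
  have h1 : (pCore p (G ⧸ pCore p G)).comap π ≤ pCore p G := le_pCore' hLn hL
  rw [← Subgroup.map_comap_eq_self_of_surjective hπs (pCore p (G ⧸ pCore p G)), eq_bot_iff]
  refine (Subgroup.map_mono h1).trans ?_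
  have h2 : pCore p G ≤ π.ker := by rw [hπ, QuotientGroup.ker_mk']
  exact le_of_eq ((Subgroup.map_eq_bot_iff (pCore p G)).mpr h2)

theorem pCore_le_sylow (S : Subgroup G) (hS : IsPGroup p S) (hidx : ¬ p ∣ S.index) :
    pCore p G ≤ S := by
  obtain ⟨c, -, hc⟩ := conj_into_relSylow (⊤ : Subgroup G) S (pCore p G) le_top hS
    (by rwa [Subgroup.relIndex_top_right]) le_top (pCore_isPGroup p)
  have hn : (pCore p G).Normal := pCore_normal p
  intro z hz
  apply hc
  rw [mem_rcg]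
  exact hn.conj_mem z hz c

/-- a relative form of: a Sylow subgroup meets a normal subgroup in a Sylow subgroup -/
theorem inf_relSylow_of_normal_in (R N X : Subgroup G) (hRp : IsPGroup p R)
    (hR : ¬ p ∣ R.relIndex N) (hXN : X ≤ N) (hNX : N ≤ Subgroup.normalizer (X : Set G)) :
    ¬ p ∣ R.relIndex X := by
  haveI hXn : (X.subgroupOf N).Normal := (Subgroup.normal_subgroupOf_iff_le_normalizer hXN).mpr hNX
  have h1 := inf_normal_relSylow (p := p) (R.subgroupOf N) (X.subgroupOf N) hRp.comap_subtype hR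
  have h2 : R.subgroupOf N ⊓ X.subgroupOf N = (R ⊓ X).subgroupOf N := by
    ext z; simp [Subgroup.mem_subgroupOf]
  rw [h2, Subgroup.relIndex_subgroupOf hXN, Subgroup.inf_relIndex_right] at h1
  exact h1

/-- a `p'`-element centralizing `P` and acting trivially on `U` modulo `P` centralizes `U` -/
theorem centralizes_of_coprime_stab (P U : Subgroup G) (hP : IsPGroup p P) (z : G)
    (hz : (orderOf z).Coprime p) (hzP : z ∈ Subgroup.centralizer (P : Set G))
    (hzU : ∀ a ∈ U, a⁻¹ * (z⁻¹ * a * z) ∈ P) : z ∈ Subgroup.centralizer (U : Set G) := by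
  rw [Subgroup.mem_centralizer_iff]
  intro a ha
  set u := a⁻¹ * (z⁻¹ * a * z) with hu
  have huP : u ∈ P := hzU a ha
  have hcomm : u * z = z * u := Subgroup.mem_centralizer_iff.mp hzP u huP
  have hpow : ∀ n : ℕ, (z ^ n)⁻¹ * a * z ^ n = a * u ^ n := by
    intro n
    induction n with
    | zero => simp
    | succ n ih =>
      have h1 : (z ^ (n + 1))⁻¹ * a * z ^ (n + 1) = z⁻¹ * ((z ^ n)⁻¹ * a * z ^ n) * z := by
        rw [pow_succ]; group
      have hcomm' : u ^ n * z = z * u ^ n := by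
        have : Commute u z := hcomm
        exact (this.pow_left n).eq
      rw [h1, ih]
      have h2 : z⁻¹ * (a * u ^ n) * z = (z⁻¹ * a * z) * (z⁻¹ * (u ^ n * z)) := by group
      rw [h2, hcomm']
      have h3 : z⁻¹ * a * z = a * u := by rw [hu]; group
      rw [h3, pow_succ]
      group
  have h1 := hpow (orderOf z)
  rw [pow_orderOf_eq_one] at h1
  have h2 : u ^ orderOf z = 1 := by
    have : a = a * u ^ orderOf z := by simpa using h1
    exact (mul_eq_left (a := a)).mp this.symm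
  have h3 : u = 1 := by
    obtain ⟨k, hk⟩ := hP ⟨u, huP⟩
    have hk' : u ^ p ^ k = 1 := by
      have := congrArg Subtype.val hk
      simpa using this
    have h4 : orderOf u ∣ orderOf z := orderOf_dvd_of_pow_eq_one h2
    have h5 : orderOf u ∣ p ^ k := orderOf_dvd_of_pow_eq_one hk'
    have h6 : orderOf u = 1 := Nat.eq_one_of_dvd_coprimes (Nat.Coprime.pow_right k hz) h4 h5
    exact orderOf_eq_one_iff.mp h6
  have h4 : z⁻¹ * a * z = a := by
    have : z⁻¹ * a * z = a * u := by rw [hu]; group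
    rw [this, h3, mul_one]
  calc a * z = z * (z⁻¹ * a * z) := by group
    _ = z * a := by rw [h4]

theorem index_pow_of_sup_sylow (C S : Subgroup G) [C.Normal] (hS : IsPGroup p S)
    (hCS : C ⊔ S = ⊤) : ∃ k : ℕ, C.index = p ^ k := by
  have h1 : C.relIndex (C ⊔ S) = C.relIndex S := Subgroup.relIndex_sup_left S C
  rw [hCS, Subgroup.relIndex_top_right] at h1
  rw [h1]
  have h2 := hS.index (C.subgroupOf S)
  exact h2

end qsupport

end Cfsg.Agent.Helper10

namespace Cfsg.Agent.Helper10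

open Cfsg

universe u

section stabmod

variable {G : Type*} [Group G]

/-- elements normalizing `U` and acting trivially on `U` modulo the normal subgroup `P` -/
def stabMod (U P : Subgroup G) [P.Normal] : Subgroup G :=
  Subgroup.normalizer (U : Set G) ⊓
    (Subgroup.centralizer ((QuotientGroup.mk' P) '' (U : Set G))).comap (QuotientGroup.mk' P)

theorem mem_stabMod_iff {U P : Subgroup G} [P.Normal] {z : G} :
    z ∈ stabMod U P ↔ z ∈ Subgroup.normalizer (U : Set G) ∧ ∀ a ∈ U, a⁻¹ * (z⁻¹ * a * z) ∈ P := by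
  unfold stabMod
  rw [Subgroup.mem_inf, Subgroup.mem_comap, Subgroup.mem_centralizer_iff]
  apply and_congr Iff.rfl
  constructor
  · intro h a ha
    rw [← QuotientGroup.eq_one_iff]
    have h1 := h _ ⟨a, ha, rfl⟩
    have h2 : ((a⁻¹ * (z⁻¹ * a * z) : G) : G ⧸ P) =
        ((QuotientGroup.mk' P) a)⁻¹ * (((QuotientGroup.mk' P) z)⁻¹ * ((QuotientGroup.mk' P) a *
          (QuotientGroup.mk' P) z)) := by
      simp [mul_assoc]
    rw [h2, h1]
    group
  · rintro h _ ⟨a, ha, rfl⟩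
    have h1 := (QuotientGroup.eq_one_iff _).mpr (h a ha)
    have h2 : ((a⁻¹ * (z⁻¹ * a * z) : G) : G ⧸ P) =
        ((QuotientGroup.mk' P) a)⁻¹ * (((QuotientGroup.mk' P) z)⁻¹ * ((QuotientGroup.mk' P) a *
          (QuotientGroup.mk' P) z)) := by
      simp [mul_assoc]
    rw [h2] at h1
    have h3 : (QuotientGroup.mk' P) a * (QuotientGroup.mk' P) z = (QuotientGroup.mk' P) z *
        ((QuotientGroup.mk' P) a * (((QuotientGroup.mk' P) a)⁻¹ * (((QuotientGroup.mk' P) z)⁻¹ *
          ((QuotientGroup.mk' P) a * (QuotientGroup.mk' P) z)))) := by group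
    rw [h3, h1, mul_one]

theorem centralizer_le_stabMod (U P : Subgroup G) [P.Normal] :
    Subgroup.centralizer (U : Set G) ≤ stabMod U P := by
  intro c hc
  rw [mem_stabMod_iff]
  refine ⟨Subgroup.centralizer_le_normalizer _ hc, fun a ha => ?_⟩
  have h1 := Subgroup.mem_centralizer_iff.mp hc a ha
  have h2 : c⁻¹ * a * c = a := by
    calc c⁻¹ * a * c = c⁻¹ * (a * c) := by group
      _ = c⁻¹ * (c * a) := by rw [h1]
      _ = a := by group
  rw [h2, inv_mul_cancel]
  exact P.one_mem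

theorem normalizer_le_normalizer_stabMod (U P : Subgroup G) [hP : P.Normal] :
    Subgroup.normalizer (U : Set G) ≤ Subgroup.normalizer ((stabMod U P : Subgroup G) : Set G) := by
  have key : ∀ n ∈ Subgroup.normalizer (U : Set G), ∀ z ∈ stabMod U P, n * z * n⁻¹ ∈ stabMod U P := by
    intro n hn z hz
    rw [mem_stabMod_iff] at hz ⊢
    refine ⟨Subgroup.mul_mem _ (Subgroup.mul_mem _ hn hz.1) (Subgroup.inv_mem _ hn), fun a ha => ?_⟩
    have hb : n⁻¹ * a * n ∈ U := by
      have := (Subgroup.mem_normalizer_iff.mp (Subgroup.inv_mem _ hn) a).mp ha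
      simpa using this
    have h1 := hz.2 _ hb
    have h2 := hP.conj_mem _ h1 n
    have e : n * ((n⁻¹ * a * n)⁻¹ * (z⁻¹ * (n⁻¹ * a * n) * z)) * n⁻¹ =
        a⁻¹ * ((n * z * n⁻¹)⁻¹ * a * (n * z * n⁻¹)) := by group
    rwa [e] at h2
  intro n hn
  rw [Subgroup.mem_normalizer_iff]
  intro z
  constructor
  · exact key n hn z
  · intro h
    have := key n⁻¹ (Subgroup.inv_mem _ hn) _ h
    have e : n⁻¹ * (n * z * n⁻¹) * n⁻¹⁻¹ = z := by group
    rwa [e] at this

end stabmod

end Cfsg.Agent.Helper10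

namespace Cfsg.Agent.Helper10

open Cfsg

universe u

section stabfactor

variable {G : Type*} [Group G] [Finite G] {p : ℕ} [Fact p.Prime]

/-- in a group `G = C_G(P) S`, an element normalizing a fully normalized `U` and acting trivially on
`U` modulo `P` is the product of an element of `N_S(U)` and an element of `C_G(U)` -/
theorem stabMod_factor (S : Subgroup G) (hS : IsPGroup p S) (P : Subgroup G) [hPn : P.Normal]
    (hPp : IsPGroup p P) (hCS : Subgroup.centralizer (P : Set G) ⊔ S = ⊤) (U : Subgroup G)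
    (hfn : ¬ p ∣ (S ⊓ Subgroup.normalizer (U : Set G)).relIndex (Subgroup.normalizer (U : Set G)))
    (y : G) (hy : y ∈ stabMod U P) :
    ∃ r ∈ S ⊓ Subgroup.normalizer (U : Set G), ∃ c ∈ Subgroup.centralizer (U : Set G), y = r * c := by
  set X := stabMod U P with hX
  set CT := Subgroup.centralizer (U : Set G) with hCT
  haveI hCn : (Subgroup.centralizer (P : Set G)).Normal := Subgroup.normal_centralizer
  have hCTX : CT ≤ X := centralizer_le_stabMod U P
  have hXN : X ≤ Subgroup.normalizer (U : Set G) := inf_le_left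
  have hNN : Subgroup.normalizer (U : Set G) ≤ Subgroup.normalizer ((CT : Subgroup G) : Set G) := by
    have h1 := Subgroup.normal_subgroupOf_centralizer_normalizer (U : Set G)
    exact (Subgroup.normal_subgroupOf_iff_le_normalizer (Subgroup.centralizer_le_normalizer _)).mp h1
  haveI hCTn : (CT.subgroupOf X).Normal :=
    (Subgroup.normal_subgroupOf_iff_le_normalizer hCTX).mpr (hXN.trans hNN)
  have hidxC := index_pow_of_sup_sylow (p := p) (Subgroup.centralizer (P : Set G)) S hS hCS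
  have hqX : IsPGroup p (↥X ⧸ CT.subgroupOf X) := by
    intro yb
    obtain ⟨⟨z, hz⟩, rfl⟩ := QuotientGroup.mk_surjective yb
    obtain ⟨e, he⟩ := exists_pow_coprime_order (p := p) z
    refine ⟨e, ?_⟩
    rw [← QuotientGroup.mk_pow, QuotientGroup.eq_one_iff, Subgroup.mem_subgroupOf]
    have hzX : z ^ p ^ e ∈ X := X.pow_mem hz _
    have h1 := (mem_stabMod_iff.mp hzX).2
    have h2 : z ^ p ^ e ∈ Subgroup.centralizer (P : Set G) :=
      mem_of_coprime_order_of_index_pow hidxC he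
    exact centralizes_of_coprime_stab P U hPp (z ^ p ^ e) he h2 h1
  have hR : ¬ p ∣ (S ⊓ Subgroup.normalizer (U : Set G)).relIndex X :=
    inf_relSylow_of_normal_in _ (Subgroup.normalizer (U : Set G)) X (hS.to_le inf_le_left) hfn hXN
      (normalizer_le_normalizer_stabMod U P)
  obtain ⟨r, hr, -, c, hc, hyrc⟩ := exists_mul_of_isPGroup_quotient_subgroup X CT
    (S ⊓ Subgroup.normalizer (U : Set G)) hqX hR y hy
  exact ⟨r, hr, c, hc, hyrc⟩

end stabfactor

end Cfsg.Agent.Helper10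

namespace Cfsg.Agent.Helper10

open Cfsg

universe u

section qlemma

variable {G : Type u} [Group G] [Finite G] {p : ℕ} [Fact p.Prime]
  {𝓦 : Set (∀ (Q : Type u) [Group Q], Subgroup Q)}

theorem rcg_eq_self_of_normal {N : Subgroup G} [hN : N.Normal] (x : G) : rcg x N = N :=
  mem_normalizer_iff_rcg.mp (by rw [Subgroup.normalizer_eq_top]; exact Subgroup.mem_top x)

/-- the quotient step: `G = C_G(O_p(G)) S`, control in `G / O_p(G)` and in the proper subgroups
containing `S` give the property for normalizers of fully normalized subgroups -/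
theorem q_lemma (h𝓦 : ∀ W ∈ 𝓦, IsCharPFunctor.{u} p W) (hne : 𝓦.Nonempty)
    (S : Subgroup G) (hS : IsPGroup p S) (hidx : ¬ p ∣ S.index)
    [hPn : (pCore p G).Normal]
    (hCS : Subgroup.centralizer ((pCore p G : Subgroup G) : Set G) ⊔ S = ⊤)
    (hSP : ¬ S ≤ pCore p G)
    (hq : FamilyControlsStrongFusionIn p (indFam 𝓦 (G ⧸ pCore p G)) ⊤)
    (hsub : ∀ L : Subgroup G, L ≠ ⊤ → S ≤ L → FamilyControlsStrongFusionIn p (indFam 𝓦 G) L)
    (U : Subgroup G) (hUS : U ≤ S)
    (hfn : ¬ p ∣ (S ⊓ Subgroup.normalizer (U : Set G)).relIndex (Subgroup.normalizer (U : Set G)))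
    (x : G) (hx : x ∈ Subgroup.normalizer (U : Set G))
    (hbig : ∀ A' : Subgroup G, A' ≤ S → Nat.card U < Nat.card A' → ∀ g : G, rcg g A' ≤ S →
      NComp (stepFamily (indFam 𝓦 G) ⊤ S) S (A' : Set G) g) :
    NComp (stepFamily (indFam 𝓦 G) ⊤ S) S (U : Set G) x := by
  set P := pCore p G with hP
  have hPp : IsPGroup p P := pCore_isPGroup p
  have hPS : P ≤ S := pCore_le_sylow S hS hidx
  have h𝓦G := indFam_conj (H := G) h𝓦
  by_cases hPU : P ≤ U
  swap
  · have hlt : U < U ⊔ P := lt_of_le_of_ne le_sup_left (fun h => hPU (h ▸ le_sup_right))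
    have hU'S : U ⊔ P ≤ S := sup_le hUS hPS
    have hxU' : rcg x (U ⊔ P) = U ⊔ P := by
      have e : rcg x (U ⊔ P) = rcg x U ⊔ rcg x P := Subgroup.map_sup _ _ _
      rw [e, mem_normalizer_iff_rcg.mp hx, rcg_eq_self_of_normal]
    have := hbig (U ⊔ P) hU'S (card_lt_card_of_lt hlt) x (by rw [hxU']; exact hU'S)
    exact this.mono (SetLike.coe_subset_coe.mpr le_sup_left)
  set π := QuotientGroup.mk' P with hπ
  have hπs : Function.Surjective π := QuotientGroup.mk'_surjective P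
  have hSbp : IsPGroup p (S.map π) := hS.map π
  have hSbidx : ¬ p ∣ (S.map π).relIndex ⊤ := by
    rw [Subgroup.relIndex_top_right]
    exact fun hd => hidx (hd.trans (Subgroup.index_map_dvd S hπs))
  have hcomap : (S.map π).comap π = S := by
    rw [Subgroup.comap_map_eq, hπ, QuotientGroup.ker_mk', sup_eq_left.mpr hPS]
  have hxU : rcs x (U : Set G) = (U : Set G) := by rw [← coe_rcg, mem_normalizer_iff_rcg.mp hx]
  have hUS' : (U : Set G) ⊆ (S : Set G) := SetLike.coe_subset_coe.mpr hUS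
  have hA' : π '' (U : Set G) ⊆ ((S.map π : Subgroup (G ⧸ P)) : Set (G ⧸ P)) := by
    rintro _ ⟨a, ha, rfl⟩
    exact ⟨a, hUS ha, rfl⟩
  have hgA' : rcs (π x) (π '' (U : Set G)) ⊆ ((S.map π : Subgroup (G ⧸ P)) : Set (G ⧸ P)) := by
    rw [← image_rcs, hxU]; exact hA'
  obtain ⟨g', hch, hag⟩ := fcs_transfer (indFam_conj h𝓦) hq (S.map π) le_top hSbp hSbidx
    (π '' (U : Set G)) (π x) (Subgroup.mem_top _) hA' hgA'
  set 𝓝₁ : Set (Subgroup G) :=
    (fun N' => N'.comap π) '' (stepFamily (indFam 𝓦 (G ⧸ P)) ⊤ (S.map π)) with h𝓝₁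
  have hstep : ∀ N' ∈ stepFamily (indFam 𝓦 (G ⧸ P)) ⊤ (S.map π), ∀ x' ∈ N', ∀ A₁ : Set G,
      A₁ ⊆ (S : Set G) → rcs x' (π '' A₁) ⊆ ((S.map π : Subgroup (G ⧸ P)) : Set (G ⧸ P)) →
      ∃ N ∈ 𝓝₁, ∃ x₁ ∈ N, π x₁ = x' ∧ rcs x₁ A₁ ⊆ (S : Set G) := by
    intro N' hN' x' hx' A₁ hA₁ hxA₁
    obtain ⟨x₁, rfl⟩ := hπs x'
    refine ⟨N'.comap π, ⟨N', hN', rfl⟩, x₁, hx', rfl, ?_⟩
    rintro _ ⟨a, ha, rfl⟩
    have h1 : π (x₁⁻¹ * a * x₁) ∈ S.map π := by
      have := hxA₁ ⟨π a, ⟨a, ha, rfl⟩, rfl⟩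
      simpa using this
    have h2 : x₁⁻¹ * a * x₁ ∈ (S.map π).comap π := h1
    rwa [hcomap] at h2
  obtain ⟨g'', hg'', hch'⟩ := nchain_lift π hstep hch (U : Set G) hUS' rfl
  have hstep2 : ∀ N ∈ 𝓝₁, ∀ z ∈ N, ∀ A' : Set G, A' ⊆ (S : Set G) → rcs z A' ⊆ (S : Set G) →
      NComp (stepFamily (indFam 𝓦 G) ⊤ S) S A' z := by
    rintro _ ⟨_, ⟨_, ⟨W, hW, rfl⟩, rfl⟩, rfl⟩ z hz A' hA' hzA'
    have hWc := isConjugacyFunctor_indW (H := G ⧸ P) (h𝓦 W hW)
    set V' := inducedFunctor (G := G ⧸ P) W (S.map π) with hV'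
    set N := (⊤ ⊓ Subgroup.normalizer ((V' : Subgroup (G ⧸ P)) : Set (G ⧸ P))).comap π with hN
    have hSN : S ≤ N := by
      intro s hs
      rw [hN, Subgroup.mem_comap]
      exact ⟨Subgroup.mem_top _, cf_le_normalizer hWc hSbp (Subgroup.mem_map_of_mem π hs)⟩
    have hNne : N ≠ ⊤ := by
      intro hNt
      have h1 : Subgroup.normalizer ((V' : Subgroup (G ⧸ P)) : Set (G ⧸ P)) = ⊤ := by
        rw [eq_top_iff]
        intro y _
        obtain ⟨y₀, rfl⟩ := hπs y
        have h0 : y₀ ∈ N := by rw [hNt]; exact Subgroup.mem_top _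
        exact h0.2
      have hV'n : V'.Normal := Subgroup.normalizer_eq_top_iff.mp h1
      have hV'p : IsPGroup p V' := hSbp.to_le (cf_le hWc hSbp)
      have h2 : V' ≤ pCore p (G ⧸ P) := le_pCore' hV'n hV'p
      rw [pCore_quotient_pCore] at h2
      have h3 : V' = ⊥ := le_bot_iff.mp h2
      have h4 : S.map π = ⊥ := by
        by_contra hne'
        exact (hWc (S.map π) hSbp).2.1 hne' h3
      apply hSP
      intro s hs
      have h5 : π s ∈ S.map π := Subgroup.mem_map_of_mem π hs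
      rw [h4, Subgroup.mem_bot] at h5
      exact (QuotientGroup.eq_one_iff s).mp h5
    exact sub_ncomp h𝓦G S hS hidx N hSN (hsub N hNne hSN) A' z hz hA' hzA'
  have hgood'' : NComp (stepFamily (indFam 𝓦 G) ⊤ S) S (U : Set G) g'' := hch'.bind le_rfl hstep2
  set y := x * g''⁻¹ with hy
  have hyP : ∀ a ∈ U, a⁻¹ * (y⁻¹ * a * y) ∈ P := by
    intro a ha
    rw [← QuotientGroup.eq_one_iff]
    have h3 := hag (π a) ⟨a, ha, rfl⟩
    have e : π (y⁻¹ * a * y) = g' * ((π x)⁻¹ * π a * π x) * g'⁻¹ := by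
      rw [hy]
      simp only [map_mul, map_inv, hg'', mul_inv_rev, inv_inv]
      group
    show π (a⁻¹ * (y⁻¹ * a * y)) = 1
    rw [map_mul, e, ← h3, map_inv]
    group
  have hyN : y ∈ Subgroup.normalizer (U : Set G) := by
    apply mem_normalizer_iff_rcg.mpr
    apply rcg_eq_of_le_of_finite
    intro z hz
    rw [mem_rcg] at hz
    have h1 := hyP _ hz
    have e : (y * z * y⁻¹)⁻¹ * (y⁻¹ * (y * z * y⁻¹) * y) = (y * z * y⁻¹)⁻¹ * z := by group
    rw [e] at h1
    have h2 : z = (y * z * y⁻¹) * ((y * z * y⁻¹)⁻¹ * z) := by group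
    rw [h2]
    exact U.mul_mem hz (hPU h1)
  have hyX : y ∈ stabMod U P := mem_stabMod_iff.mpr ⟨hyN, hyP⟩
  obtain ⟨r, hr, c, hc, hyrc⟩ := stabMod_factor S hS P hPp hCS U hfn y hyX
  have hxe : x = r * c * g'' := by rw [← hyrc, hy]; group
  have hrU : rcs r (U : Set G) = (U : Set G) := by
    rw [← coe_rcg, mem_normalizer_iff_rcg.mp hr.2]
  obtain ⟨W₀, hW₀⟩ := hne
  have hW₀c := isConjugacyFunctor_indW (H := G) (h𝓦 W₀ hW₀)
  have g1 : NComp (stepFamily (indFam 𝓦 G) ⊤ S) S (U : Set G) r :=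
    NComp.single (N := ⊤ ⊓ Subgroup.normalizer ((inducedFunctor (G := G) W₀ S : Subgroup G) : Set G))
      ⟨_, ⟨W₀, hW₀, rfl⟩, rfl⟩ ⟨Subgroup.mem_top _, cf_le_normalizer hW₀c hS hr.1⟩ hUS'
      (by rw [hrU]; exact hUS')
  have g2 : NComp (stepFamily (indFam 𝓦 G) ⊤ S) S (rcs r (U : Set G)) g'' := by
    rw [hrU]; exact hgood''
  refine (g1.trans g2).congr ?_
  intro a ha
  rw [hxe]
  have hra : r⁻¹ * a * r ∈ U := by
    have : r⁻¹ * a * r ∈ rcs r (U : Set G) := ⟨a, ha, rfl⟩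
    rw [hrU] at this
    exact this
  have hcc : c⁻¹ * (r⁻¹ * a * r) * c = r⁻¹ * a * r := by
    have h1 := Subgroup.mem_centralizer_iff.mp hc _ hra
    calc c⁻¹ * (r⁻¹ * a * r) * c = c⁻¹ * ((r⁻¹ * a * r) * c) := by group
      _ = c⁻¹ * (c * (r⁻¹ * a * r)) := by rw [h1]
      _ = r⁻¹ * a * r := by group
  calc (r * c * g'')⁻¹ * a * (r * c * g'') = g''⁻¹ * (c⁻¹ * (r⁻¹ * a * r) * c) * g'' := by group
    _ = g''⁻¹ * (r⁻¹ * a * r) * g'' := by rw [hcc]
    _ = (r * g'')⁻¹ * a * (r * g'') := by group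

end qlemma

end Cfsg.Agent.Helper10

namespace Cfsg.Agent.Helper10

open Cfsg

universe u

/-- `C_H(O_p(H)) ≤ O_p(H)` -/
def Constrained (p : ℕ) (H : Type*) [Group H] : Prop :=
  Subgroup.centralizer ((pCore p H : Subgroup H) : Set H) ≤ pCore p H

/-- classes of groups closed under isomorphism, subgroups and quotients -/
structure SecClosed (𝒞 : ∀ (H : Type u) [Group H], Prop) : Prop where
  iso : ∀ {H H' : Type u} [Group H] [Group H'], H ≃* H' → 𝒞 H → 𝒞 H'
  sub : ∀ {H : Type u} [Group H], 𝒞 H → ∀ L : Subgroup H, 𝒞 ↥L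
  quot : ∀ {H : Type u} [Group H], 𝒞 H → ∀ (N : Subgroup H) [N.Normal], 𝒞 (H ⧸ N)

theorem isSec_closed (G : Type u) [Group G] : SecClosed (IsSec G) where
  iso := fun e h => h.iso e
  sub := fun h L => h.subgroup L
  quot := fun h N _ => h.quotient N

section step

variable {G : Type u} [Group G] [Finite G] {p : ℕ} [Fact p.Prime]
  {𝓦 : Set (∀ (Q : Type u) [Group Q], Subgroup Q)}

theorem closure_rcg_le {S : Subgroup G} {A : Set G} {g : G} (hgA : rcs g A ⊆ (S : Set G)) :
    rcg g (Subgroup.closure A) ≤ S := by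
  rw [rcg_le_iff, Subgroup.closure_le]
  intro a ha
  rw [SetLike.mem_coe, mem_rcg]
  apply hgA
  rw [mem_rcs]
  simpa [mul_assoc] using ha

theorem sec_fusion_step (h𝓦 : ∀ W ∈ 𝓦, IsCharPFunctor.{u} p W) (hne : 𝓦.Nonempty)
    (hsub : ∀ L : Subgroup G, L ≠ ⊤ → FamilyControlsStrongFusionIn p (indFam 𝓦 G) L)
    (hquot : ∀ (N : Subgroup G) [N.Normal], N ≠ ⊥ →
      FamilyControlsStrongFusionIn p (indFam 𝓦 (G ⧸ N)) ⊤)
    (hcon : Constrained p G → FamilyControlsStrongFusionIn p (indFam 𝓦 G) ⊤) :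
    FamilyControlsStrongFusionIn p (indFam 𝓦 G) ⊤ := by
  have S₀ : Sylow p G := default
  set S : Subgroup G := (S₀ : Subgroup G) with hSdef
  have hS : IsPGroup p S := S₀.isPGroup'
  have hidx : ¬ p ∣ S.index := S₀.not_dvd_index
  have hrelS : ¬ p ∣ S.relIndex ⊤ := by rwa [Subgroup.relIndex_top_right]
  have h𝓦G := indFam_conj (H := G) h𝓦
  apply ncomp_to_fcs S le_top hS hrelS
  intro A g _ hA hgA
  by_cases hY : pPrimeCore p G = ⊥
  swap
  · haveI : (pPrimeCore p G).Normal := pPrimeCore_normal p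
    exact lift_pprime h𝓦 S hS hidx (pPrimeCore p G) (card_pPrimeCore_coprime p)
      (hquot (pPrimeCore p G) hY) A g hA hgA
  by_cases hc : Constrained p G
  · exact fcs_transfer h𝓦G (hcon hc) S le_top hS hrelS A g (Subgroup.mem_top _) hA hgA
  haveI hPn : (pCore p G).Normal := pCore_normal p
  obtain ⟨W₀, hW₀⟩ := hne
  have hW₀c := isConjugacyFunctor_indW (H := G) (h𝓦 W₀ hW₀)
  by_cases hSP : S ≤ pCore p G
  · have hSeq : S = pCore p G := le_antisymm hSP (pCore_le_sylow S hS hidx)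
    have hSn : S.Normal := by rw [hSeq]; exact hPn
    have hg : g ∈ Subgroup.normalizer (S : Set G) := by
      rw [Subgroup.normalizer_eq_top_iff.mpr hSn]; exact Subgroup.mem_top _
    exact NComp.single
      (N := ⊤ ⊓ Subgroup.normalizer ((inducedFunctor (G := G) W₀ S : Subgroup G) : Set G))
      ⟨_, ⟨W₀, hW₀, rfl⟩, rfl⟩ ⟨Subgroup.mem_top _, cf_normalizer_le hW₀c hS hg⟩ hA hgA
  by_cases hP : pCore p G = ⊥
  · have hloc : ∀ T : Subgroup G, T ≤ S → T ≠ ⊥ →
        ¬ p ∣ (S ⊓ Subgroup.normalizer (T : Set G)).relIndex (Subgroup.normalizer (T : Set G)) →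
        FamilyControlsStrongFusionIn p (indFam 𝓦 G) (Subgroup.normalizer (T : Set G)) := by
      intro T hTS hTne _
      apply hsub
      intro hN
      apply hTne
      have hTn : T.Normal := Subgroup.normalizer_eq_top_iff.mp hN
      have := le_pCore' hTn (hS.to_le hTS)
      rw [hP] at this
      exact le_bot_iff.mp this
    have h1 := ff_final S hS hidx (indFam 𝓦 G) h𝓦G hloc
    exact fcs_transfer h𝓦G h1 S le_top hS hrelS A g (Subgroup.mem_top _) hA hgA
  set C := Subgroup.centralizer ((pCore p G : Subgroup G) : Set G) with hC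
  haveI hCn : C.Normal := Subgroup.normal_centralizer
  by_cases h1 : C ⊔ S = ⊤
  · apply fn_final S hS hidx (fun A g => NComp (stepFamily (indFam 𝓦 G) ⊤ S) S A g)
      (fun A B g h hAB => h.mono hAB) (fun A g h h1 h2 => h1.trans h2) (fun A g h => h.inv) ?_
      A g hA hgA
    intro U hUS hfn x hx hbig
    exact q_lemma h𝓦 ⟨W₀, hW₀⟩ S hS hidx h1 hSP (hquot (pCore p G) hP)
      (fun L hL _ => hsub L hL) U hUS hfn x hx hbig
  by_cases h2 : Subgroup.normalizer ((S ⊓ C : Subgroup G) : Set G) = ⊤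
  · exfalso
    exact hc (constrained_of_inf_normal S hS hidx hY (Subgroup.normalizer_eq_top_iff.mp h2))
  have hk := k_lemma S hS hidx (fun A g => NComp (stepFamily (indFam 𝓦 G) ⊤ S) S A g)
    (fun A g h h1 h2 => h1.trans h2) C
    (fun g hg B hB hgB => sub_ncomp h𝓦G S hS hidx (C ⊔ S) le_sup_right (hsub _ h1) (B : Set G) g hg
      (SetLike.coe_subset_coe.mpr hB) (by rw [← coe_rcg]; exact SetLike.coe_subset_coe.mpr hgB))
    (fun g hg B hB hgB => sub_ncomp h𝓦G S hS hidx _ (le_normalizer_inf_normal S C) (hsub _ h2)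
      (B : Set G) g hg (SetLike.coe_subset_coe.mpr hB)
      (by rw [← coe_rcg]; exact SetLike.coe_subset_coe.mpr hgB))
    (Subgroup.closure A) ((Subgroup.closure_le S).mpr hA) g (closure_rcg_le hgA)
  exact hk.mono Subgroup.subset_closure

end step

section mainthm

variable {p : ℕ} [Fact p.Prime] {𝓦 : Set (∀ (Q : Type u) [Group Q], Subgroup Q)}

/-- Glauberman: control of strong fusion in the constrained members of a section-closed class
gives control in all members -/
theorem sec_fusion (𝒞 : ∀ (H : Type u) [Group H], Prop) (h𝒞 : SecClosed 𝒞)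
    (h𝓦 : ∀ W ∈ 𝓦, IsCharPFunctor.{u} p W) (hne : 𝓦.Nonempty)
    (hloc : ∀ (H : Type u) [Group H] [Finite H], 𝒞 H → Constrained p H →
      FamilyControlsStrongFusionIn p (indFam 𝓦 H) ⊤) :
    ∀ (n : ℕ) (H : Type u) [Group H] [Finite H], Nat.card H ≤ n → 𝒞 H →
      FamilyControlsStrongFusionIn p (indFam 𝓦 H) ⊤ := by
  intro n
  induction n with
  | zero =>
    intro H _ _ hcard _
    have : 0 < Nat.card H := Nat.card_pos
    omega
  | succ n ih =>
    intro H _ _ hcard hH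
    apply sec_fusion_step h𝓦 hne
    · intro L hL
      have hlt : Nat.card L < Nat.card H := by
        have h1 : L < ⊤ := lt_top_iff_ne_top.mpr hL
        have h2 := card_lt_card_of_lt h1
        rwa [Subgroup.card_top] at h2
      have h3 := ih ↥L (by omega) (h𝒞.sub hH L)
      have h4 := fcs_map_injective h𝓦 L.subtype L.subtype_injective h3
      rwa [Subgroup.range_subtype] at h4
    · intro N _ hN
      have hlt : Nat.card (H ⧸ N) < Nat.card H := by
        rw [← Subgroup.index_eq_card, ← N.card_mul_index]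
        have h1 : 1 < Nat.card N := by
          rw [Subgroup.one_lt_card_iff_ne_bot]; exact hN
        have h2 : 0 < N.index := Nat.pos_of_ne_zero Subgroup.index_ne_zero_of_finite
        nlinarith
      exact ih (H ⧸ N) (by omega) (h𝒞.quot hH N)
    · exact hloc H hH

end mainthm

end Cfsg.Agent.Helper10
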