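import Mathlib
import Cfsg.Agent.Lib.Helper10.KWeak
import Cfsg.Agent.Lib.Helper10.SecInduced
import Cfsg.Agent.Lib.Helper10.SecChief
import Cfsg.Agent.Lib.Helper10.Cores
import Cfsg.Agent.Lib.Helper10.SecFusion

set_option autoImplicit false

/-! The K-infinity functors are isomorphism-invariant `p`-group functors; the weak form of
Glauberman's theorem on non-normal K-infinity subgroups. -/

namespace Cfsg.Agent.Helper10

open Cfsg
open scoped commutatorElement

universe u

section char

variable {P P' : Type*} [Group P] [Group P'] (φ : P ≃* P')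

theorem map_sSup_lower_equiv (R : Subgroup P) :
    (sSup (kLowerStarFamily R)).map φ.toMonoidHom = sSup (kLowerStarFamily (R.map φ.toMonoidHom)) := by
  rw [T_sSup_lower φ.toMonoidHom φ.injective]
  congr 1
  ext B'
  simp only [Set.mem_setOf_eq, and_iff_left_iff_imp]
  intro _
  rw [MonoidHom.range_eq_top.mpr φ.surjective]
  exact le_top

theorem map_sSup_upper_equiv (R : Subgroup P) :
    (sSup (kUpperStarFamily R)).map φ.toMonoidHom = sSup (kUpperStarFamily (R.map φ.toMonoidHom)) := by
  rw [T_sSup_upper φ.toMonoidHom φ.injective]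
  congr 1
  ext B'
  simp only [Set.mem_setOf_eq, and_iff_left_iff_imp]
  intro _
  rw [MonoidHom.range_eq_top.mpr φ.surjective]
  exact le_top

theorem map_kSeqOdd_equiv (n : ℕ) : (kSeqOdd P n).map φ.toMonoidHom = kSeqOdd P' n := by
  induction n with
  | zero =>
    show (⊤ : Subgroup P).map φ.toMonoidHom = ⊤
    rw [← MonoidHom.range_eq_map, MonoidHom.range_eq_top.mpr φ.surjective]
  | succ n ih =>
    rw [kSeqOdd_succ, map_sSup_upper_equiv, map_sSup_lower_equiv, ih]
    rfl

theorem map_kSeqEven_equiv (n : ℕ) : (kSeqEven P n).map φ.toMonoidHom = kSeqEven P' n := by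
  unfold kSeqEven
  rw [map_sSup_lower_equiv, map_kSeqOdd_equiv]

theorem map_kInfLower_equiv : (kInfLower P).map φ.toMonoidHom = kInfLower P' := by
  unfold kInfLower
  rw [Subgroup.map_iSup]
  simp_rw [map_kSeqEven_equiv]

theorem map_kInfUpper_equiv : (kInfUpper P).map φ.toMonoidHom = kInfUpper P' := by
  unfold kInfUpper
  rw [Subgroup.map_iInf _ φ.injective]
  simp_rw [map_kSeqOdd_equiv]

end char

theorem center_le_kSeqEven {P : Type*} [Group P] (n : ℕ) : Subgroup.center P ≤ kSeqEven P n :=
  le_sSup (center_mem_lower _)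

theorem center_le_kSeqOdd {P : Type*} [Group P] (n : ℕ) : Subgroup.center P ≤ kSeqOdd P n := by
  cases n with
  | zero => rw [kSeqOdd_zero]; exact le_top
  | succ n => rw [kSeqOdd_succ_eq_kSeqEven]; exact le_sSup (center_mem_upper _)

theorem center_le_kInfLower {P : Type*} [Group P] : Subgroup.center P ≤ kInfLower P :=
  (center_le_kSeqEven 0).trans (le_iSup (kSeqEven P) 0)

theorem center_le_kInfUpper {P : Type*} [Group P] : Subgroup.center P ≤ kInfUpper P :=
  le_iInf (fun n => center_le_kSeqOdd n)

theorem isCharPFunctor_kInfLower (p : ℕ) [Fact p.Prime] :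
    IsCharPFunctor.{u} p (fun (Q : Type u) [Group Q] => kInfLower Q) := by
  refine ⟨?_, ?_⟩
  · intro Q _ _ hQ hnt h
    have h1 : Subgroup.center Q ≤ ⊥ := h ▸ center_le_kInfLower
    have h2 := hQ.center_nontrivial
    exact (Subgroup.nontrivial_iff_ne_bot _).mp h2 (le_bot_iff.mp h1)
  · intro Q R _ _ _ _ φ
    exact map_kInfLower_equiv φ

theorem isCharPFunctor_kInfUpper (p : ℕ) [Fact p.Prime] :
    IsCharPFunctor.{u} p (fun (Q : Type u) [Group Q] => kInfUpper Q) := by
  refine ⟨?_, ?_⟩
  · intro Q _ _ hQ hnt h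
    have h1 : Subgroup.center Q ≤ ⊥ := h ▸ center_le_kInfUpper
    have h2 := hQ.center_nontrivial
    exact (Subgroup.nontrivial_iff_ne_bot _).mp h2 (le_bot_iff.mp h1)
  · intro Q R _ _ _ _ φ
    exact map_kInfUpper_equiv φ

section weak

variable {G : Type u} [Group G] [Finite G] {p : ℕ} [hp : Fact p.Prime]

/-- the induced functor of a normal `p`-subgroup is normal -/
theorem indW_normal_of_normal {W : ∀ (Q : Type u) [Group Q], Subgroup Q}
    (hW : IsCharPFunctor.{u} p W) (T : Subgroup G) [hT : T.Normal] (hTp : IsPGroup p T) :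
    (inducedFunctor (G := G) W T).Normal := by
  rw [← Subgroup.normalizer_eq_top_iff, eq_top_iff]
  intro g _
  rw [Subgroup.mem_normalizer_iff_map_conj_eq]
  have h1 := indW_map hW (MulAut.conj g).toMonoidHom T hTp (MulAut.conj g).injective.injOn
  have h2 : T.map (MulAut.conj g).toMonoidHom = T := by
    have : g ∈ Subgroup.normalizer (T : Set G) := by
      rw [Subgroup.normalizer_eq_top_iff.mpr hT]; exact Subgroup.mem_top g
    exact Subgroup.mem_normalizer_iff_map_conj_eq.mp this
  rw [h2] at h1
  exact h1.symm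

/-- **Weak form of Glauberman's K-infinity theorem**: if the lower or the upper K-infinity subgroup
of a Sylow `p`-subgroup `S` is not normal in `G`, some element of `S` outside `T = O_p(G)` acts
cubically modulo `Z(A)` on `A` and quadratically on `Z(A)`, for any normal class-two subgroup
`A ≤ T` with `[T, A] ≤ Z(A)`. -/
theorem kweak (S : Sylow p G) (A : Subgroup G) [hAn : A.Normal] (hAT : A ≤ pCore p G)
    (hA2 : ⁅A, A⁆ ≤ Subgroup.centralizer (A : Set G)) (hA3 : ⁅pCore p G, A⁆ ≤ zOf A)
    (hK : ¬ (inducedFunctor kInfLower (S : Subgroup G)).Normal ∨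
      ¬ (inducedFunctor kInfUpper (S : Subgroup G)).Normal) :
    ∃ g : G, g ∈ (S : Subgroup G) ∧ g ∉ pCore p G ∧
      iterCommutator A (Subgroup.zpowers g) 3 ≤ zOf A ∧
      ⁅⁅zOf A, Subgroup.zpowers g⁆, Subgroup.zpowers g⁆ = ⊥ := by
  by_contra hcon
  push Not at hcon
  set T := pCore p G with hT
  have hTp : IsPGroup p T := pCore_isPGroup p
  have hTn : T.Normal := pCore_normal p
  have hTS : T ≤ (S : Subgroup G) := by
    exact pCore_le_sylow (S : Subgroup G) S.2 S.not_dvd_index
  set f := (S : Subgroup G).subtype with hf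
  have hfi : Function.Injective f := Subgroup.subtype_injective _
  set AP : Subgroup ↥(S : Subgroup G) := A.subgroupOf (S : Subgroup G) with hAP
  set TP : Subgroup ↥(S : Subgroup G) := T.subgroupOf (S : Subgroup G) with hTP
  have hAPmap : AP.map f = A := Subgroup.map_subgroupOf_eq_of_le (hAT.trans hTS)
  have hTPmap : TP.map f = T := Subgroup.map_subgroupOf_eq_of_le hTS
  have hAPn : AP.Normal := Subgroup.Normal.subgroupOf hAn _
  have hA2P : ⁅AP, AP⁆ ≤ Subgroup.centralizer (AP : Set ↥(S : Subgroup G)) := by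
    rw [T_cent f hfi, Subgroup.map_commutator, hAPmap]
    exact hA2
  have hzmap : (zOf AP).map f = zOf A := by
    rw [T_zOf f hfi, hAPmap]
  have hA3P : ⁅TP, AP⁆ ≤ zOf AP := by
    rw [← T_le f hfi, Subgroup.map_commutator, hzmap, hTPmap, hAPmap]
    exact hA3
  have hNP : ∀ g : ↥(S : Subgroup G), iterCommutator AP (Subgroup.zpowers g) 3 ≤ zOf AP →
      ⁅⁅zOf AP, Subgroup.zpowers g⁆, Subgroup.zpowers g⁆ = ⊥ → g ∈ TP := by
    intro g h1 h2
    have hzg : (Subgroup.zpowers g).map f = Subgroup.zpowers (g : G) := by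
      rw [MonoidHom.map_zpowers]; rfl
    have h1' : iterCommutator A (Subgroup.zpowers (g : G)) 3 ≤ zOf A := by
      have h3 := Subgroup.map_mono (f := f) h1
      rw [← iterCommutator_map, hAPmap, hzg, hzmap] at h3
      exact h3
    have h2' : ⁅⁅zOf A, Subgroup.zpowers (g : G)⁆, Subgroup.zpowers (g : G)⁆ = ⊥ := by
      have h3 := congrArg (Subgroup.map f) h2
      rw [Subgroup.map_commutator, Subgroup.map_commutator, hzmap, hzg, Subgroup.map_bot] at h3
      exact h3
    have := hcon (g : G) g.2
    by_contra hgT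
    exact this (fun h => hgT (Subgroup.mem_subgroupOf.mpr h)) h1' h2'
  obtain ⟨hL, hU⟩ := kw_restrict AP TP hA2P hA3P hNP
  have hTPp : IsPGroup p TP := hTp.comap_subtype
  have hinj : Set.InjOn f (TP : Set ↥(S : Subgroup G)) := hfi.injOn
  have hWL := isCharPFunctor_kInfLower.{u} p
  have hWU := isCharPFunctor_kInfUpper.{u} p
  have eL : inducedFunctor kInfLower (S : Subgroup G) = inducedFunctor kInfLower T := by
    have h1 := indW_map hWL f TP hTPp hinj
    rw [hTPmap] at h1
    rw [h1]
    unfold inducedFunctor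
    rw [hL]
  have eU : inducedFunctor kInfUpper (S : Subgroup G) = inducedFunctor kInfUpper T := by
    have h1 := indW_map hWU f TP hTPp hinj
    rw [hTPmap] at h1
    rw [h1]
    unfold inducedFunctor
    rw [hU]
  rcases hK with h | h
  · apply h
    rw [eL]
    exact indW_normal_of_normal hWL T hTp
  · apply h
    rw [eU]
    exact indW_normal_of_normal hWU T hTp

end weak

end Cfsg.Agent.Helper10
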