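import Mathlib
import Cfsg.Prelude.Def_PLocal
import Cfsg.Prelude.Def_LocalEven
import Cfsg.Prelude.Def_ConjugacyFunctors
import Cfsg.Agent.Lib.Helper1.Critical
import Cfsg.Agent.Lib.Helper10.FourStep
import Cfsg.Agent.Lib.Helper10.KWeakG

set_option autoImplicit false

/-! A critical subgroup of a normal `p`-subgroup, as a normal subgroup of the ambient group, and the
resulting local statement for the K-infinity functors. -/

namespace Cfsg.Agent.Helper10

open Cfsg
open scoped commutatorElement

universe u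

section nil

variable {G : Type*} [Group G] [Finite G] {p : ℕ} [hp : Fact p.Prime]

theorem iterCommutator_le_lcs (T X : Subgroup G) (hX : X ≤ T) (n : ℕ) :
    iterCommutator X T n ≤ T.lowerCentralSeries n := by
  induction n with
  | zero => exact hX
  | succ n ih =>
    show ⁅iterCommutator X T n, T⁆ ≤ ⁅T.lowerCentralSeries n, T⁆
    exact Subgroup.commutator_mono ih le_rfl

theorem exists_iterCommutator_eq_bot (T X : Subgroup G) (hT : IsPGroup p T) (hX : X ≤ T) :
    ∃ n, iterCommutator X T n = ⊥ := by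
  have hnil : Group.IsNilpotent ↥T := hT.isNilpotent
  obtain ⟨n, hn⟩ := (Subgroup.isNilpotent_iff_lowerCentralSeries T).mp hnil
  refine ⟨n, le_bot_iff.mp ?_⟩
  refine (iterCommutator_le_lcs T X hX n).trans ?_
  rw [hn]

theorem exists_critical_normal (T : Subgroup G) [hTn : T.Normal] (hT : IsPGroup p T) :
    ∃ A : Subgroup G, A.Normal ∧ A ≤ T ∧
      ⁅A, A⁆ ≤ Subgroup.centralizer (A : Set G) ∧ ⁅T, A⁆ ≤ zOf A ∧
      T ⊓ Subgroup.centralizer (A : Set G) ≤ zOf A := by
  obtain ⟨Hc, hchar, _, hcomm, hcent⟩ := Cfsg.Agent.Helper1.exists_critical (P := ↥T) (p := p) hT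
  haveI := hchar
  set f := T.subtype with hf
  have hfi : Function.Injective f := Subgroup.subtype_injective _
  have hTtop : (⊤ : Subgroup ↥T).map f = T := by
    rw [← MonoidHom.range_eq_map, Subgroup.range_subtype]
  have hzmap : (zOf Hc).map f = zOf (Hc.map f) := T_zOf f hfi Hc
  refine ⟨Hc.map f, inferInstance, Subgroup.map_subtype_le Hc, ?_, ?_, ?_⟩
  · rw [← Subgroup.map_commutator, ← T_cent f hfi]
    exact (Subgroup.commutator_mono le_rfl le_top).trans (hcomm.trans inf_le_right)
  · rw [← hzmap]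
    nth_rewrite 1 [← hTtop]
    rw [← Subgroup.map_commutator, Subgroup.commutator_comm]
    exact Subgroup.map_mono hcomm
  · rw [← hzmap]
    rintro x ⟨hxT, hxc⟩
    have h1 : (⟨x, hxT⟩ : ↥T) ∈ Subgroup.centralizer (Hc : Set ↥T) := by
      rw [Subgroup.mem_centralizer_iff]
      intro h hh
      apply Subtype.ext
      have := Subgroup.mem_centralizer_iff.mp hxc (h : G) (Subgroup.mem_map_of_mem f hh)
      exact this
    exact ⟨⟨x, hxT⟩, ⟨hcent h1, h1⟩, rfl⟩

end nil

section klocal

variable {G : Type u} [Group G] [Finite G] {p : ℕ} [hp : Fact p.Prime]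

/-- The local statement: if one of the K-infinity subgroups of a Sylow `p`-subgroup `S` of `G` is
not normal, an element of `S` outside `O_p(G)` acts with nilpotency index at most four on every
chief factor below `O_p(G)`. -/
theorem klocal (S : Sylow p G)
    (hK : ¬ (inducedFunctor kInfLower (S : Subgroup G)).Normal ∨
      ¬ (inducedFunctor kInfUpper (S : Subgroup G)).Normal) :
    ∃ g : G, g ∈ (S : Subgroup G) ∧ g ∉ pCore p G ∧
      ∀ U V : Subgroup G, IsChiefFactor U V → U ≤ pCore p G →
        iterCommutator U (Subgroup.zpowers g) 4 ≤ V := by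
  haveI hTn : (pCore p G).Normal := pCore_normal p
  have hTp : IsPGroup p (pCore p G) := pCore_isPGroup p
  obtain ⟨A, hAn, hAT, hA2, hA3, hA4⟩ := exists_critical_normal (pCore p G) hTp
  haveI := hAn
  obtain ⟨g, hgS, hgT, hg3, hg2⟩ := kweak S A hAT hA2 hA3 hK
  refine ⟨g, hgS, hgT, ?_⟩
  exact four_step (pCore p G) A hAT hA3 hA4
    (exists_iterCommutator_eq_bot (pCore p G) (zOf A) hTp (inf_le_left.trans hAT)) g hg3 hg2

end klocal

end Cfsg.Agent.Helper10
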