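import Mathlib
import Cfsg.Agent.Lib.Helper1.CoprimeSylow
import Cfsg.Agent.Lib.Helper1.CommutatorBasic

/-!
# Liftings modulo a normal `p`-subgroup (helper10 library, for BG Theorem 3.6)
-/

set_option autoImplicit false
set_option linter.unusedSectionVars false

namespace Cfsg.Agent.Helper10.BG36K

open scoped commutatorElement

section Basic

variable {G : Type*} [Group G]

/-- a `p`-subgroup of a subgroup all of whose Sylow subgroups are cyclic is cyclic -/
theorem isCyclic_of_isPGroup_of_le {p : ℕ} [Fact p.Prime] (T B : Subgroup G) [IsZGroup ↥T]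
    (hBT : B ≤ T) (hB : IsPGroup p ↥B) : IsCyclic ↥B := by
  have hB' : IsPGroup p ↥(B.subgroupOf T) := hB.comap_subtype
  obtain ⟨P, hP⟩ := hB'.exists_le_sylow
  haveI : IsCyclic ↥(P : Subgroup ↥T) := IsZGroup.isZGroup p Fact.out P
  haveI : IsCyclic ↥(B.subgroupOf T) := Subgroup.isCyclic_of_le hP
  exact isCyclic_of_surjective (Subgroup.subgroupOfEquivOfLe hBT).toMonoidHom
    (Subgroup.subgroupOfEquivOfLe hBT).surjective

/-- elements of a normal subgroup normalising a disjoint subgroup centralise it -/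
theorem inf_normalizer_le_centralizer (V Q : Subgroup G) [V.Normal] (hVQ : V ⊓ Q = ⊥) :
    V ⊓ Subgroup.normalizer (Q : Set G) ≤ Subgroup.centralizer (Q : Set G) := by
  intro v hv
  obtain ⟨hvV, hvN⟩ := Subgroup.mem_inf.mp hv
  rw [Subgroup.mem_centralizer_iff]
  intro a ha
  have h1 : v * a * v⁻¹ ∈ Q := (Subgroup.mem_normalizer_iff.mp hvN a).mp ha
  have h2 : v * (a * v⁻¹ * a⁻¹) ∈ V :=
    V.mul_mem hvV (‹V.Normal›.conj_mem v⁻¹ (V.inv_mem hvV) a)
  have h3 : v * (a * v⁻¹ * a⁻¹) ∈ Q := by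
    have e : v * (a * v⁻¹ * a⁻¹) = (v * a * v⁻¹) * a⁻¹ := by group
    rw [e]
    exact Q.mul_mem h1 (Q.inv_mem ha)
  have h4 : v * (a * v⁻¹ * a⁻¹) ∈ V ⊓ Q := Subgroup.mem_inf.mpr ⟨h2, h3⟩
  rw [hVQ, Subgroup.mem_bot] at h4
  calc a * v = (v * (a * v⁻¹ * a⁻¹))⁻¹ * v * a := by group
    _ = v * a := by rw [h4]; group

/-- commutators modulo a normal subgroup -/
theorem commutator_sup_le (V A B : Subgroup G) [V.Normal] (h : ⁅A, B⁆ ≤ V) :
    ⁅V ⊔ A, V ⊔ B⁆ ≤ V := by
  have hker : (QuotientGroup.mk' V).ker = V := QuotientGroup.ker_mk' V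
  have key : ∀ K : Subgroup G, K.map (QuotientGroup.mk' V) = ⊥ ↔ K ≤ V := by
    intro K
    rw [Subgroup.map_eq_bot_iff, hker]
  rw [← key, Subgroup.map_commutator, Subgroup.map_sup, Subgroup.map_sup,
    (key V).mpr le_rfl, bot_sup_eq, bot_sup_eq, ← Subgroup.map_commutator, key]
  exact h

theorem disjoint_of_isPGroup {p q : ℕ} [Fact p.Prime] [Fact q.Prime] (hpq : p ≠ q)
    (V Q : Subgroup G) (hV : IsPGroup p ↥V) (hQ : IsPGroup q ↥Q) : V ⊓ Q = ⊥ := by
  rw [eq_bot_iff]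
  intro g hg
  obtain ⟨hgV, hgQ⟩ := Subgroup.mem_inf.mp hg
  obtain ⟨k, hk⟩ := hV ⟨g, hgV⟩
  obtain ⟨l, hl⟩ := hQ ⟨g, hgQ⟩
  have hk' : g ^ p ^ k = 1 := by
    have := congrArg Subtype.val hk
    simpa using this
  have hl' : g ^ q ^ l = 1 := by
    have := congrArg Subtype.val hl
    simpa using this
  have hcop : (p ^ k).Coprime (q ^ l) :=
    Nat.Coprime.pow k l ((Nat.coprime_primes Fact.out Fact.out).mpr hpq)
  have h1 : orderOf g ∣ p ^ k := orderOf_dvd_of_pow_eq_one hk'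
  have h2 : orderOf g ∣ q ^ l := orderOf_dvd_of_pow_eq_one hl'
  have h3 : orderOf g = 1 := Nat.eq_one_of_dvd_coprimes hcop h1 h2
  rw [Subgroup.mem_bot]
  exact orderOf_eq_one_iff.mp h3

end Basic

section Lift

variable {G : Type*} [Group G] [Finite G]

/-- an `X`-invariant Sylow `q`-subgroup `Q` of `N`, where `N / V` is a `q`-group: then
`N = V Q` and `G = V N_G(Q)` -/
theorem exists_sylow_lift {q : ℕ} [Fact q.Prime]
    (V N X : Subgroup G) [V.Normal] [N.Normal] (hVN : V ≤ N)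
    (hNq : ∀ n ∈ N, ∃ k : ℕ, n ^ q ^ k ∈ V)
    (hcop : (Nat.card ↥X).Coprime (Nat.card ↥N))
    (hsolv : Group.IsSolvable ↥X ∨ Group.IsSolvable ↥N) :
    ∃ Q : Subgroup G, IsPGroup q ↥Q ∧ Q ≤ N ∧ V ⊔ Q = N ∧
      X ≤ Subgroup.normalizer (Q : Set G) ∧ V ⊔ Subgroup.normalizer (Q : Set G) = ⊤ := by
  classical
  have hXN : X ≤ Subgroup.normalizer (N : Set G) := by
    rw [Subgroup.normalizer_eq_top]; exact le_top
  obtain ⟨Q', hQ'⟩ := Helper1.exists_invariant_sylow (p := q) (K := N) X hXN hcop hsolv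
  set Q : Subgroup G := (Q' : Subgroup ↥N).map N.subtype with hQ
  have hQN : Q ≤ N := Subgroup.map_subtype_le _
  have hQq : IsPGroup q ↥Q := Q'.2.map N.subtype
  -- `N = V Q`
  have hsup' : V.subgroupOf N ⊔ (Q' : Subgroup ↥N) = ⊤ := by
    haveI : (V.subgroupOf N).Normal := Subgroup.Normal.subgroupOf ‹V.Normal› N
    rw [← Subgroup.index_eq_one]
    have hqgrp : IsPGroup q (↥N ⧸ V.subgroupOf N) := by
      intro g
      induction g using QuotientGroup.induction_on with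
      | H n =>
        obtain ⟨k, hk⟩ := hNq (n : G) n.2
        refine ⟨k, ?_⟩
        rw [← QuotientGroup.mk_pow, QuotientGroup.eq_one_iff, Subgroup.mem_subgroupOf]
        simpa using hk
    obtain ⟨k, hk⟩ := IsPGroup.iff_card.mp hqgrp
    have h1 : (V.subgroupOf N ⊔ (Q' : Subgroup ↥N)).index ∣ q ^ k := by
      rw [← hk]
      have := Subgroup.index_dvd_of_le (le_sup_left : V.subgroupOf N ≤ V.subgroupOf N ⊔ Q')
      rwa [Subgroup.index_eq_card] at this
    have h2 : ¬ q ∣ (V.subgroupOf N ⊔ (Q' : Subgroup ↥N)).index := by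
      intro hd
      exact Q'.not_dvd_index (hd.trans
        (Subgroup.index_dvd_of_le (le_sup_right : (Q' : Subgroup ↥N) ≤ V.subgroupOf N ⊔ Q')))
    obtain ⟨j, -, hj⟩ := (Nat.dvd_prime_pow Fact.out).mp h1
    rcases Nat.eq_zero_or_pos j with h0 | hpos
    · rw [hj, h0, pow_zero]
    · exfalso
      apply h2
      rw [hj]
      exact dvd_pow_self q hpos.ne'
  have hsup : V ⊔ Q = N := by
    have := congrArg (Subgroup.map N.subtype) hsup'
    rw [Subgroup.map_sup, Subgroup.subgroupOf_map_subtype, inf_eq_left.mpr hVN,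
      ← MonoidHom.range_eq_map, Subgroup.range_subtype] at this
    exact this
  have hfrat := Sylow.normalizer_sup_eq_top Q'
  refine ⟨Q, hQq, hQN, hsup, hQ', ?_⟩
  rw [eq_top_iff, ← hfrat]
  apply sup_le le_sup_right
  have h1 : N ≤ V ⊔ Q := hsup.ge
  exact h1.trans (sup_le le_sup_left (le_sup_of_le_right Subgroup.le_normalizer))

end Lift

end Cfsg.Agent.Helper10.BG36K
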