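import Mathlib
import Cfsg.Prelude
import Cfsg.Agent.Lib.Helper8.FitPrime3
import Cfsg.Agent.Lib.Helper3.BG36R2
import Cfsg.Agent.Lib.Helper3.BG36R4
import Cfsg.Agent.Lib.Helper10.BG36K1

/-!
# Passing to `G / V` for the core of BG Theorem 3.6 (helper10 library)
-/

set_option autoImplicit false
set_option linter.unusedSectionVars false

namespace Cfsg.Agent.Helper10.BG36K

open scoped commutatorElement
open Cfsg.Agent.Helper8.FitPrime (pCoreOf_le pCoreOf_normal pCoreOf_isPGroup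
  fittingOf_eq_iSup fittingOf_le comm_of_comm_pCore)

local notation "pcOf" => Cfsg.Agent.Helper8.FitPrime.pCoreOf

section Fit

variable {K : Type*} [Group K] [Finite K]

/-- if `O_p(K) = 1` then `p` does not divide `|F(K)|` -/
theorem not_dvd_card_fittingSubgroup (p : ℕ) [Fact p.Prime] (hO : Cfsg.pCore p K = ⊥) :
    ¬ p ∣ Nat.card ↥(Cfsg.fittingSubgroup K) := by
  intro hdvd
  have hFn : (Cfsg.fittingSubgroup K).Normal := Cfsg.Agent.Helper7.fittingSubgroup_normal'
  have hFnil : Group.IsNilpotent ↥(Cfsg.fittingSubgroup K) :=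
    Cfsg.Agent.Helper7.fittingSubgroup_isNilpotent
  obtain ⟨Q⟩ : Nonempty (Sylow p ↥(Cfsg.fittingSubgroup K)) := inferInstance
  have hQn : (Q : Subgroup ↥(Cfsg.fittingSubgroup K)).Normal :=
    Sylow.normal_of_normalizerCondition Group.normalizerCondition_of_isNilpotent Q
  have hQc : (Q : Subgroup ↥(Cfsg.fittingSubgroup K)).Characteristic :=
    Sylow.characteristic_of_normal Q hQn
  have hQG : ((Q : Subgroup ↥(Cfsg.fittingSubgroup K)).map (Cfsg.fittingSubgroup K).subtype).Normal :=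
    ConjAct.normal_of_characteristic_of_normal
  have hle := Cfsg.Agent.Helper7.le_pCore hQG (Q.2.map (Cfsg.fittingSubgroup K).subtype)
  rw [hO, le_bot_iff] at hle
  have hQbot : (Q : Subgroup ↥(Cfsg.fittingSubgroup K)) = ⊥ := by
    rw [eq_bot_iff]
    intro x hx
    have : (x : K) ∈ (Q : Subgroup ↥(Cfsg.fittingSubgroup K)).map
        (Cfsg.fittingSubgroup K).subtype := ⟨x, hx, rfl⟩
    rw [hle, Subgroup.mem_bot] at this
    rw [Subgroup.mem_bot]
    exact Subtype.ext this
  exact Q.ne_bot_of_dvd_card hdvd hQbot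

end Fit

section Quot

universe u

variable {G : Type u} [Group G] [Finite G]

/-- the preimage in `G` of `O_q(H V / V)` -/
def preCore (q : ℕ) (H V : Subgroup G) [V.Normal] : Subgroup G :=
  (pcOf q (H.map (QuotientGroup.mk' V))).comap (QuotientGroup.mk' V)

theorem preCore_normal (q : ℕ) (H V : Subgroup G) [H.Normal] [V.Normal] :
    (preCore q H V).Normal := by
  haveI : (H.map (QuotientGroup.mk' V)).Normal :=
    Subgroup.Normal.map inferInstance _ (QuotientGroup.mk'_surjective V)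
  haveI := pCoreOf_normal q (H.map (QuotientGroup.mk' V))
  unfold preCore
  exact Subgroup.Normal.comap inferInstance _

theorem le_preCore (q : ℕ) (H V : Subgroup G) [V.Normal] : V ≤ preCore q H V := by
  intro v hv
  unfold preCore
  rw [Subgroup.mem_comap]
  have : (QuotientGroup.mk' V) v = 1 := (QuotientGroup.eq_one_iff v).mpr hv
  rw [this]
  exact Subgroup.one_mem _

theorem preCore_le (q : ℕ) (H V : Subgroup G) [V.Normal] (hVH : V ≤ H) : preCore q H V ≤ H := by
  intro n hn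
  unfold preCore at hn
  rw [Subgroup.mem_comap] at hn
  obtain ⟨h, hh, hhn⟩ := pCoreOf_le q _ hn
  have h1 : h⁻¹ * n ∈ V := by
    rw [← QuotientGroup.eq_one_iff (N := V)]
    have : ((h⁻¹ * n : G) : G ⧸ V) = ((QuotientGroup.mk' V) h)⁻¹ * (QuotientGroup.mk' V) n := rfl
    rw [this, hhn, inv_mul_cancel]
  have : n = h * (h⁻¹ * n) := by group
  rw [this]
  exact H.mul_mem hh (hVH h1)

theorem preCore_pow (q : ℕ) [Fact q.Prime] (H V : Subgroup G) [V.Normal] :
    ∀ n ∈ preCore q H V, ∃ k : ℕ, n ^ q ^ k ∈ V := by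
  intro n hn
  unfold preCore at hn
  rw [Subgroup.mem_comap] at hn
  obtain ⟨k, hk⟩ := pCoreOf_isPGroup q (H.map (QuotientGroup.mk' V)) ⟨_, hn⟩
  refine ⟨k, ?_⟩
  rw [← QuotientGroup.eq_one_iff (N := V)]
  have h1 := congrArg Subtype.val hk
  rw [Subgroup.coe_pow, Subgroup.coe_one] at h1
  have : ((n ^ q ^ k : G) : G ⧸ V) = ((QuotientGroup.mk' V) n) ^ q ^ k := rfl
  rw [this]
  exact h1

theorem map_preCore (q : ℕ) (H V : Subgroup G) [V.Normal] :
    (preCore q H V).map (QuotientGroup.mk' V) = pcOf q (H.map (QuotientGroup.mk' V)) := by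
  unfold preCore
  exact Subgroup.map_comap_eq_self_of_surjective (QuotientGroup.mk'_surjective V) _

theorem preCore_le_of_coprime (q : ℕ) [Fact q.Prime] (H V : Subgroup G) [V.Normal] (hVH : V ≤ H)
    (hq : q.Coprime (Nat.card ↥H)) : preCore q H V ≤ V := by
  intro n hn
  have hnH := preCore_le q H V hVH hn
  obtain ⟨k, hk⟩ := preCore_pow q H V n hn
  have hm : n ^ Nat.card ↥H = 1 := by
    have h1 : (⟨n, hnH⟩ : ↥H) ^ Nat.card ↥H = 1 := pow_card_eq_one'
    have h2 := congrArg Subtype.val h1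
    rwa [Subgroup.coe_pow] at h2
  have hcop : (q ^ k).Coprime (Nat.card ↥H) := Nat.Coprime.pow_left k hq
  have hgcd : Nat.gcd (q ^ k) (Nat.card ↥H) = 1 := hcop
  have hbez := Nat.gcd_eq_gcd_ab (q ^ k) (Nat.card ↥H)
  rw [hgcd] at hbez
  have h3 : n = (n ^ q ^ k) ^ (Nat.gcdA (q ^ k) (Nat.card ↥H)) *
      (n ^ Nat.card ↥H) ^ (Nat.gcdB (q ^ k) (Nat.card ↥H)) := by
    rw [← zpow_natCast, ← zpow_natCast, ← zpow_mul, ← zpow_mul, ← zpow_add]
    have : ((q ^ k : ℕ) : ℤ) * Nat.gcdA (q ^ k) (Nat.card ↥H) +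
        ((Nat.card ↥H : ℕ) : ℤ) * Nat.gcdB (q ^ k) (Nat.card ↥H) = 1 := by
      rw [← hbez]; rfl
    rw [this, zpow_one]
  rw [h3, hm, one_zpow, mul_one]
  exact V.zpow_mem hk _

/-- `O_p(H / V) = 1` when `V` contains all normal `p`-subgroups of `G` inside `H` -/
theorem pCoreOf_eq_bot (p : ℕ) [Fact p.Prime] (H V : Subgroup G) [H.Normal] [V.Normal]
    (hVH : V ≤ H) (hVp : IsPGroup p ↥V)
    (hmax : ∀ N : Subgroup G, N.Normal → N ≤ H → IsPGroup p ↥N → N ≤ V) :
    pcOf p (H.map (QuotientGroup.mk' V)) = ⊥ := by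
  have h1 : preCore p H V ≤ V := by
    apply hmax _ (preCore_normal p H V) (preCore_le p H V hVH)
    intro n
    obtain ⟨k, hk⟩ := preCore_pow p H V (n : G) n.2
    obtain ⟨j, hj⟩ := hVp ⟨_, hk⟩
    refine ⟨k + j, ?_⟩
    apply Subtype.ext
    have h2 := congrArg Subtype.val hj
    rw [Subgroup.coe_pow] at h2
    rw [Subgroup.coe_pow, pow_add, pow_mul]
    exact h2
  rw [← map_preCore, eq_bot_iff]
  rintro _ ⟨n, hn, rfl⟩
  rw [Subgroup.mem_bot]
  exact (QuotientGroup.eq_one_iff n).mpr (h1 hn)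

theorem card_map_mk (H V : Subgroup G) [V.Normal] :
    Nat.card ↥(H.map (QuotientGroup.mk' V)) = V.relIndex H := by
  have h1 := Subgroup.index_ker ((QuotientGroup.mk' V).subgroupMap H)
  rw [Helper3.BG36R.ker_subgroupMap, MonoidHom.range_eq_top.mpr
    ((QuotientGroup.mk' V).subgroupMap_surjective H), Subgroup.card_top] at h1
  rw [← h1]
  rfl

/-- case (ii): a `p`-subgroup of `H` centralising every `O_q(H / V)`, `q ≠ p`, lies in `V` -/
theorem le_of_commutator_preCore_le (p : ℕ) [Fact p.Prime] (H V P : Subgroup G) [H.Normal]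
    [V.Normal] (hsolv : Group.IsSolvable ↥H) (hVH : V ≤ H) (hPH : P ≤ H) (hP : IsPGroup p ↥P)
    (hO : pcOf p (H.map (QuotientGroup.mk' V)) = ⊥)
    (hcent : ∀ q : ℕ, q.Prime → q ≠ p → ⁅preCore q H V, P⁆ ≤ V) : P ≤ V := by
  classical
  set π := QuotientGroup.mk' V with hπ
  set Hb : Subgroup (G ⧸ V) := H.map π with hHb
  have hker : ∀ K : Subgroup G, K.map π = ⊥ ↔ K ≤ V := by
    intro K
    rw [Subgroup.map_eq_bot_iff, hπ, QuotientGroup.ker_mk']
  haveI hsolvb : Group.IsSolvable ↥Hb := by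
    have hsurj : Function.Surjective (π.subgroupMap H) := π.subgroupMap_surjective H
    haveI := hsolv
    exact Group.isSolvable_of_surjective hsurj
  have hPb : P.map π ≤ Hb := Subgroup.map_mono hPH
  -- `P̄` centralises `F(H̄)`
  have hcF : Cfsg.fittingOf Hb ≤ Subgroup.centralizer ((P.map π : Subgroup (G ⧸ V)) : Set (G ⧸ V)) := by
    rw [fittingOf_eq_iSup]
    apply iSup_le
    intro ℓ
    by_cases hℓ : (ℓ : ℕ) = p
    · rw [hℓ, hO]; exact bot_le
    · rw [← Subgroup.commutator_eq_bot_iff_le_centralizer, ← map_preCore,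
        ← Subgroup.map_commutator, hker]
      exact hcent ℓ ℓ.2 hℓ
  have hPF : P.map π ≤ Cfsg.fittingOf Hb := by
    intro g hg
    have hgH : g ∈ Hb := hPb hg
    have h1 : (⟨g, hgH⟩ : ↥Hb) ∈ Subgroup.centralizer (Cfsg.fittingSubgroup ↥Hb : Set ↥Hb) := by
      rw [Subgroup.mem_centralizer_iff]
      intro f hf
      apply Subtype.ext
      have hfF : (f : G ⧸ V) ∈ Cfsg.fittingOf Hb := ⟨f, hf, rfl⟩
      have := Subgroup.mem_centralizer_iff.mp (hcF hfF) g hg
      exact this.symm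
    have h2 := Helper1.centralizer_fittingSubgroup_le_of_isSolvable (G := ↥Hb) h1
    exact ⟨⟨g, hgH⟩, h2, rfl⟩
  have hOK : Cfsg.pCore p ↥Hb = ⊥ := by
    have : (Cfsg.pCore p ↥Hb).map Hb.subtype = ⊥ := hO
    exact (Subgroup.map_eq_bot_iff_of_injective _ Hb.subtype_injective).mp this
  have hnd := not_dvd_card_fittingSubgroup p hOK
  have hcardF : Nat.card ↥(Cfsg.fittingOf Hb) = Nat.card ↥(Cfsg.fittingSubgroup ↥Hb) :=
    Subgroup.card_map_of_injective Hb.subtype_injective
  have hPbot : P.map π = ⊥ := by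
    have hPbp : IsPGroup p ↥(P.map π) := hP.map π
    rcases hPbp.card_eq_or_dvd with h | h
    · exact Subgroup.card_eq_one.mp h
    · exfalso
      apply hnd
      rw [← hcardF]
      exact h.trans (Subgroup.card_dvd_of_le hPF)
  exact (hker P).mp hPbot

/-- case (i): if `X` centralises every `O_q(H / V)`, `q ≠ p`, then `H / V` is a `p'`-group -/
theorem not_dvd_of_commutator_preCore_le (p : ℕ) [Fact p.Prime] (H V R X : Subgroup G)
    [H.Normal] [V.Normal] (hsolv : Group.IsSolvable ↥H) (hVH : V ≤ H)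
    (hcop : (Nat.card ↥X).Coprime (Nat.card ↥H))
    [hZ : IsZGroup ↥(H ⊓ Subgroup.centralizer (X : Set G))]
    (hHR : ⁅H, R⁆ = H)
    (hO : pcOf p (H.map (QuotientGroup.mk' V)) = ⊥)
    (hcent : ∀ q : ℕ, q.Prime → q ≠ p → ⁅preCore q H V, X⁆ ≤ V) :
    ¬ p ∣ V.relIndex H := by
  classical
  set π := QuotientGroup.mk' V with hπ
  set Hb : Subgroup (G ⧸ V) := H.map π with hHb
  haveI hHbn : Hb.Normal := Subgroup.Normal.map inferInstance _ (QuotientGroup.mk'_surjective V)
  have hker : ∀ K : Subgroup G, K.map π = ⊥ ↔ K ≤ V := by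
    intro K
    rw [Subgroup.map_eq_bot_iff, hπ, QuotientGroup.ker_mk']
  have hsolvb : Group.IsSolvable ↥Hb := by
    have hsurj : Function.Surjective (π.subgroupMap H) := π.subgroupMap_surjective H
    haveI := hsolv
    exact Group.isSolvable_of_surjective hsurj
  have hcardHb : Nat.card ↥Hb ∣ Nat.card ↥H := Subgroup.card_map_dvd _ _
  -- `X̄` centralises `H̄`
  have hXH : Hb ≤ Subgroup.centralizer ((X.map π : Subgroup (G ⧸ V)) : Set (G ⧸ V)) := by
    intro k hk
    rw [Subgroup.mem_centralizer_iff]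
    rintro _ ⟨x, hx, rfl⟩
    have hxr : (π x) ^ Nat.card ↥X = 1 := by
      have h1 : (⟨x, hx⟩ : ↥X) ^ Nat.card ↥X = 1 := pow_card_eq_one'
      have h2 := congrArg Subtype.val h1
      rw [Subgroup.coe_pow] at h2
      rw [← map_pow]
      simp only at h2
      rw [h2, Subgroup.coe_one, map_one]
    refine comm_of_comm_pCore Hb hsolvb (π x) hxr
      (Nat.Coprime.coprime_dvd_right hcardHb hcop) ?_ k hk
    intro q hq y hy
    by_cases hqp : q = p
    · rw [hqp, hO, Subgroup.mem_bot] at hy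
      rw [hy, mul_one, one_mul]
    · rw [← map_preCore] at hy
      obtain ⟨n, hn, rfl⟩ := hy
      have h1 : ⁅n, x⁆ ∈ V := hcent q hq hqp (Subgroup.commutator_mem_commutator hn hx)
      have h2 : π ⁅n, x⁆ = 1 := (QuotientGroup.eq_one_iff _).mpr h1
      rw [map_commutatorElement, commutatorElement_eq_one_iff_mul_comm] at h2
      exact h2.symm
  -- `H̄` is a Z-group
  haveI hZb := Helper3.BG36R.quot_zgroup V H X hVH hcop hsolv
  have hinf : Hb ⊓ Subgroup.centralizer ((X.map π : Subgroup (G ⧸ V)) : Set (G ⧸ V)) = Hb :=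
    inf_eq_left.mpr hXH
  haveI hZHb : IsZGroup ↥Hb := by
    have := hZb
    rw [hinf] at this
    exact this
  have hcommb : ⁅Hb, R.map π⁆ = Hb := Helper3.BG36R.quot_commutator V H R hHR
  have hRn : R.map π ≤ Subgroup.normalizer (Hb : Set (G ⧸ V)) := by
    rw [Subgroup.normalizer_eq_top]; exact le_top
  haveI hab : IsMulCommutative ↥Hb :=
    Helper3.BG36R.isMulCommutative_of_isZGroup Hb (R.map π) hRn hcommb
  have hOK : Cfsg.pCore p ↥Hb = ⊥ := by
    have : (Cfsg.pCore p ↥Hb).map Hb.subtype = ⊥ := hO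
    exact (Subgroup.map_eq_bot_iff_of_injective _ Hb.subtype_injective).mp this
  have hnd : ¬ p ∣ Nat.card ↥Hb := by
    apply Helper3.BG36R.not_dvd_card_of_isMulCommutative
    intro N hN hNp
    have := Cfsg.Agent.Helper7.le_pCore hN hNp
    rw [hOK, le_bot_iff] at this
    exact this
  rw [← card_map_mk]
  exact hnd

end Quot

end Cfsg.Agent.Helper10.BG36K
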