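import Mathlib
import Cfsg.Agent.Lib.Helper7.PComp3
import Cfsg.Agent.Lib.Helper1.Coprime
import Cfsg.Agent.Lib.Helper9.ThompsonRepl

set_option autoImplicit false

namespace Cfsg.Agent.Helper10

open Cfsg.Agent.Helper7

section charmap

variable {G : Type*} [Group G]

/-- conjugation by an element of `N_G(K)` preserves the image of a characteristic subgroup of `K` -/
theorem conj_mem_map_of_characteristic (K : Subgroup G) (H : Subgroup ↥K) [H.Characteristic]
    {n : G} (hn : n ∈ Subgroup.normalizer (K : Set G)) {x : G} (hx : x ∈ H.map K.subtype) :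
    n * x * n⁻¹ ∈ H.map K.subtype := by
  obtain ⟨y, hy, rfl⟩ := hx
  set φ : MulAut ↥K := K.normalizerMonoidHom ⟨n, hn⟩ with hφ
  have h1 : H.map φ.toMonoidHom = H := Subgroup.characteristic_iff_map_eq.mp inferInstance φ
  have h2 : φ y ∈ H := by
    rw [← h1]; exact Subgroup.mem_map_of_mem _ hy
  exact ⟨φ y, h2, rfl⟩

theorem normalizer_le_normalizer_map_of_characteristic (K : Subgroup G) (H : Subgroup ↥K)
    [H.Characteristic] :
    Subgroup.normalizer (K : Set G) ≤ Subgroup.normalizer ((H.map K.subtype : Subgroup G) : Set G) := by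
  intro n hn
  rw [Subgroup.mem_normalizer_iff]
  intro b
  constructor
  · exact conj_mem_map_of_characteristic K H hn
  · intro hb
    have := conj_mem_map_of_characteristic K H (Subgroup.inv_mem _ hn) hb
    have e : n⁻¹ * (n * b * n⁻¹) * n⁻¹⁻¹ = b := by group
    rwa [e] at this

end charmap

section

variable {Y : Type*} [Group Y] [Finite Y] (p : ℕ) [Fact p.Prime]

/-- a surjection with `p'`-kernel onto a group with trivial `O_{p'}` has kernel `O_{p'}` -/
theorem ker_eq_pPrimeCore_of_surjective {Q : Type*} [Group Q] (f : Y →* Q) (hf : Function.Surjective f)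
    (hQ : Cfsg.pPrimeCore p Q = ⊥) (hker : (Nat.card f.ker).Coprime p) :
    f.ker = Cfsg.pPrimeCore p Y := by
  haveI : Finite Q := Finite.of_surjective f hf
  apply le_antisymm
  · exact Cfsg.Agent.Helper22.le_pPrimeCore p _ inferInstance hker
  · have h1 : ((Cfsg.pPrimeCore p Y).map f).Normal :=
      Subgroup.Normal.map (Cfsg.Agent.Helper22.pPrimeCore_normal p) f hf
    have h2 : (Nat.card ((Cfsg.pPrimeCore p Y).map f)).Coprime p :=
      Nat.Coprime.coprime_dvd_left (Subgroup.card_map_dvd _ f)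
        (Cfsg.Agent.Helper22.card_pPrimeCore_coprime p)
    have h3 := Cfsg.Agent.Helper22.le_pPrimeCore p _ h1 h2
    rw [hQ] at h3
    intro x hx
    rw [MonoidHom.mem_ker]
    exact (Subgroup.mem_bot.mp (h3 (Subgroup.mem_map_of_mem f hx)))

/-- if `Y / O_{p'}(Y)` is quasisimple then `Y = L_{p'}(Y) O_{p'}(Y)` -/
theorem pLayer_sup_pPrimeCore_eq_top (hq : Cfsg.IsQuasisimple (Y ⧸ Cfsg.pPrimeCore p Y)) :
    Cfsg.pLayer p Y ⊔ Cfsg.pPrimeCore p Y = ⊤ := by
  have hcomp : Cfsg.IsComponent (⊤ : Subgroup (Y ⧸ Cfsg.pPrimeCore p Y)) :=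
    ⟨Subgroup.IsSubnormal.top, isQuasisimple_of_mulEquiv Subgroup.topEquiv.symm hq⟩
  have hJ := isPComponent_pElementClosure_comap p hcomp
  have hmap := map_pElementClosure_comap p hcomp
  set J := Cfsg.pElementClosure p
    ((⊤ : Subgroup (Y ⧸ Cfsg.pPrimeCore p Y)).comap (QuotientGroup.mk' (Cfsg.pPrimeCore p Y))) with hJdef
  have hJle : J ≤ Cfsg.pLayer p Y := IsPComponent.le_pLayer p hJ
  rw [eq_top_iff]
  intro c _
  have h1 : QuotientGroup.mk' (Cfsg.pPrimeCore p Y) c ∈ J.map (QuotientGroup.mk' (Cfsg.pPrimeCore p Y)) := by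
    rw [hmap]; exact Subgroup.mem_top _
  obtain ⟨j, hj, hjc⟩ := h1
  have h2 : j⁻¹ * c ∈ Cfsg.pPrimeCore p Y := by
    rw [← QuotientGroup.eq_one_iff]
    have : ((j⁻¹ * c : Y) : Y ⧸ Cfsg.pPrimeCore p Y) =
        (QuotientGroup.mk' (Cfsg.pPrimeCore p Y) j)⁻¹ * QuotientGroup.mk' (Cfsg.pPrimeCore p Y) c := rfl
    rw [this, hjc, inv_mul_cancel]
  have : c = j * (j⁻¹ * c) := by group
  rw [this]
  exact Subgroup.mul_mem _ (Subgroup.mem_sup_left (hJle hj)) (Subgroup.mem_sup_right h2)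

end

end Cfsg.Agent.Helper10
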