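import Mathlib
import Cfsg.Agent.Lib.Helper10.PCompCover
import Cfsg.Prelude.Def_ClassificationStages

set_option autoImplicit false

namespace Cfsg.Agent.Helper10

open Cfsg.Agent.Helper7

variable {X : Type*} [Group X] [Finite X] (p : ℕ) [Fact p.Prime]

/-- a `p`-component is a `p`-component of itself -/
theorem top_isPComponent {K : Subgroup X} (hK : Cfsg.IsPComponent p K) :
    Cfsg.IsPComponent p (⊤ : Subgroup ↥K) := by
  have hq : Cfsg.IsQuasisimple (↥K ⧸ Cfsg.pPrimeCore p ↥K) := IsPComponent.isQuasisimple_quotient p hK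
  have hcomp : Cfsg.IsComponent (⊤ : Subgroup (↥K ⧸ Cfsg.pPrimeCore p ↥K)) :=
    ⟨Subgroup.IsSubnormal.top, isQuasisimple_of_mulEquiv Subgroup.topEquiv.symm hq⟩
  have hmaptop : (⊤ : Subgroup ↥K).map (QuotientGroup.mk' (Cfsg.pPrimeCore p ↥K)) = ⊤ :=
    Subgroup.map_top_of_surjective _ (QuotientGroup.mk'_surjective _)
  refine ⟨Subgroup.IsSubnormal.top, by rw [hmaptop]; exact hcomp, ?_⟩
  intro H hH _ hmap
  rw [hmaptop] at hmap
  have hsub : (H.map K.subtype).IsSubnormal := hH.trans' hK.1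
  have hle : H.map K.subtype ≤ K := Subgroup.map_subtype_le H
  have himg : (H.map K.subtype).map (QuotientGroup.mk' (Cfsg.pPrimeCore p X)) =
      K.map (QuotientGroup.mk' (Cfsg.pPrimeCore p X)) := by
    apply le_antisymm (Subgroup.map_mono hle)
    rintro _ ⟨k, hk, rfl⟩
    have h1 : QuotientGroup.mk' (Cfsg.pPrimeCore p ↥K) ⟨k, hk⟩ ∈
        H.map (QuotientGroup.mk' (Cfsg.pPrimeCore p ↥K)) := by
      rw [hmap]; exact Subgroup.mem_top _
    obtain ⟨h, hh, hhk⟩ := h1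
    have h2 : h⁻¹ * ⟨k, hk⟩ ∈ Cfsg.pPrimeCore p ↥K := by
      rw [QuotientGroup.mk'_apply, QuotientGroup.mk'_apply, QuotientGroup.eq] at hhk
      exact hhk
    have h3 : ((h⁻¹ * ⟨k, hk⟩ : ↥K) : X) ∈ Cfsg.pPrimeCore p X := by
      have : ((h⁻¹ * ⟨k, hk⟩ : ↥K) : X) ∈ (Cfsg.pPrimeCore p ↥K).map K.subtype := ⟨_, h2, rfl⟩
      rw [map_subtype_pPrimeCore_of_isSubnormal p hK.1] at this
      exact this.1
    refine ⟨(h : X), ⟨h, hh, rfl⟩, ?_⟩
    rw [QuotientGroup.mk'_apply, QuotientGroup.mk'_apply, QuotientGroup.eq]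
    simpa using h3
  have heq := hK.2.2 _ hsub hle himg
  rw [eq_top_iff]
  intro k _
  have hk : (k : X) ∈ H.map K.subtype := by rw [heq]; exact k.2
  obtain ⟨h, hh, hhk⟩ := hk
  have : h = k := Subtype.ext hhk
  rwa [← this]

theorem pLayer_self_eq_top {K : Subgroup X} (hK : Cfsg.IsPComponent p K) :
    Cfsg.pLayer p ↥K = ⊤ :=
  eq_top_iff.mpr (IsPComponent.le_pLayer p (top_isPComponent p hK))

theorem pLayerOf_self {K : Subgroup X} (hK : Cfsg.IsPComponent p K) : Cfsg.pLayerOf p K = K := by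
  unfold Cfsg.pLayerOf
  rw [pLayer_self_eq_top p hK, ← MonoidHom.range_eq_map, Subgroup.range_subtype]

/-- comparable `p`-components are equal -/
theorem IsPComponent.eq_of_le {K J : Subgroup X} (hK : Cfsg.IsPComponent p K)
    (hJ : Cfsg.IsPComponent p J) (hle : K ≤ J) : K = J := by
  by_contra hne
  have h1 := (IsPComponent.commutator_of_ne p hK hJ hne).1
  have h2 : K ≤ (Cfsg.pPrimeCore p ↥K).map K.subtype := by
    calc K = ⁅K, K⁆ := (IsPComponent.perfect p hK).symm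
      _ ≤ ⁅K, J⁆ := Subgroup.commutator_mono le_rfl hle
      _ ≤ _ := h1.trans inf_le_left
  have h3 : Nat.card K ∣ Nat.card ((Cfsg.pPrimeCore p ↥K).map K.subtype) := Subgroup.card_dvd_of_le h2
  rw [card_map_subtype] at h3
  have h4 : p ∣ Nat.card (Cfsg.pPrimeCore p ↥K) := (IsPComponent.dvd_card p hK).trans h3
  exact Cfsg.Agent.Helper22.not_dvd_card_pPrimeCore p (Fact.out : p.Prime) h4

end Cfsg.Agent.Helper10
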