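import Mathlib
import Cfsg.Agent.Lib.Helper10.PCompSelf
import Cfsg.Prelude.Def_ClassificationStages
import Cfsg.Prelude.Def_SevenCases

set_option autoImplicit false

namespace Cfsg.Agent.Helper10

open Cfsg.Agent.Helper7

section transport

variable {A B : Type*} [Group A] [Group B] [Finite A] (p : ℕ) [Fact p.Prime]

theorem pPrimeCore_map_mulEquiv (e : A ≃* B) :
    (Cfsg.pPrimeCore p A).map e.toMonoidHom = Cfsg.pPrimeCore p B := by
  haveI : Finite B := Finite.of_equiv A e.toEquiv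
  apply le_antisymm (Cfsg.Agent.Helper22.pPrimeCore_map_le p e)
  intro b hb
  have h1 := Cfsg.Agent.Helper22.pPrimeCore_map_le p e.symm (Subgroup.mem_map_of_mem _ hb)
  refine ⟨e.symm b, h1, ?_⟩
  simp

theorem top_isPComponent_of_mulEquiv (e : A ≃* B) (h : Cfsg.IsPComponent p (⊤ : Subgroup A)) :
    Cfsg.IsPComponent p (⊤ : Subgroup B) := by
  haveI : Finite B := Finite.of_equiv A e.toEquiv
  have hcore := pPrimeCore_map_mulEquiv p e
  have hmaptopA : (⊤ : Subgroup A).map (QuotientGroup.mk' (Cfsg.pPrimeCore p A)) = ⊤ :=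
    Subgroup.map_top_of_surjective _ (QuotientGroup.mk'_surjective _)
  have hmaptopB : (⊤ : Subgroup B).map (QuotientGroup.mk' (Cfsg.pPrimeCore p B)) = ⊤ :=
    Subgroup.map_top_of_surjective _ (QuotientGroup.mk'_surjective _)
  obtain ⟨-, hcomp, hmin⟩ := h
  rw [hmaptopA] at hcomp hmin
  have hqA : Cfsg.IsQuasisimple (A ⧸ Cfsg.pPrimeCore p A) :=
    isQuasisimple_of_mulEquiv Subgroup.topEquiv hcomp.2
  have iso : A ⧸ Cfsg.pPrimeCore p A ≃* B ⧸ Cfsg.pPrimeCore p B :=
    QuotientGroup.congr _ _ e hcore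
  have hqB : Cfsg.IsQuasisimple (B ⧸ Cfsg.pPrimeCore p B) := isQuasisimple_of_mulEquiv iso hqA
  refine ⟨Subgroup.IsSubnormal.top, ?_, ?_⟩
  · rw [hmaptopB]
    exact ⟨Subgroup.IsSubnormal.top, isQuasisimple_of_mulEquiv Subgroup.topEquiv.symm hqB⟩
  · intro H' hH' _ hmap
    rw [hmaptopB] at hmap
    have hsub : (H'.comap e.toMonoidHom).IsSubnormal := hH'.comap _
    have himg : (H'.comap e.toMonoidHom).map (QuotientGroup.mk' (Cfsg.pPrimeCore p A)) = ⊤ := by
      rw [eq_top_iff]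
      intro q _
      obtain ⟨a, rfl⟩ := QuotientGroup.mk'_surjective _ q
      have h1 : QuotientGroup.mk' (Cfsg.pPrimeCore p B) (e a) ∈
          H'.map (QuotientGroup.mk' (Cfsg.pPrimeCore p B)) := by
        rw [hmap]; exact Subgroup.mem_top _
      obtain ⟨h', hh', hhe⟩ := h1
      rw [QuotientGroup.mk'_apply, QuotientGroup.mk'_apply, QuotientGroup.eq, ← hcore] at hhe
      obtain ⟨r, hr, hre⟩ := hhe
      refine ⟨e.symm h', by simpa using hh', ?_⟩
      rw [QuotientGroup.mk'_apply, QuotientGroup.mk'_apply, QuotientGroup.eq]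
      have : (e.symm h')⁻¹ * a = r := by
        apply e.injective
        have hre' : e r = h'⁻¹ * e a := hre
        rw [hre']
        simp
      rw [this]; exact hr
    have htop := hmin _ hsub le_top himg
    rw [eq_top_iff]
    intro b _
    have : e.symm b ∈ H'.comap e.toMonoidHom := by rw [htop]; exact Subgroup.mem_top _
    simpa using this

end transport

section

variable {G : Type*} [Group G] [Finite G] (p : ℕ) [Fact p.Prime]

theorem pLayerOf_self_of_top {K : Subgroup G} (h : Cfsg.IsPComponent p (⊤ : Subgroup ↥K)) :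
    Cfsg.pLayerOf p K = K := by
  unfold Cfsg.pLayerOf
  have : Cfsg.pLayer p ↥K = ⊤ := eq_top_iff.mpr (IsPComponent.le_pLayer p h)
  rw [this, ← MonoidHom.range_eq_map, Subgroup.range_subtype]

theorem IsPComponentOf.top_isPComponent {K M : Subgroup G} (hK : Cfsg.IsPComponentOf p K M) :
    Cfsg.IsPComponent p (⊤ : Subgroup ↥K) :=
  top_isPComponent_of_mulEquiv p (Subgroup.subgroupOfEquivOfLe hK.1)
    (Cfsg.Agent.Helper10.top_isPComponent p hK.2)

theorem IsPComponentOf.pLayerOf_self {K M : Subgroup G} (hK : Cfsg.IsPComponentOf p K M) :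
    Cfsg.pLayerOf p K = K :=
  pLayerOf_self_of_top p (IsPComponentOf.top_isPComponent p hK)

theorem IsPComponentOf.eq_of_le {K J M : Subgroup G} (hK : Cfsg.IsPComponentOf p K M)
    (hJ : Cfsg.IsPComponentOf p J M) (hle : K ≤ J) : K = J := by
  have h1 : K.subgroupOf M = J.subgroupOf M :=
    IsPComponent.eq_of_le p hK.2 hJ.2 (Subgroup.subgroupOf_mono M hle)
  rw [← Subgroup.map_subgroupOf_eq_of_le hK.1, ← Subgroup.map_subgroupOf_eq_of_le hJ.1, h1]

/-- elements of `C_M(K̄)` act trivially on `K / O_{p'}(K)` -/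
theorem comm_mem_core_of_mem_centralizerModCore {K M : Subgroup G} (hK : Cfsg.IsPComponentOf p K M)
    {d : ↥M} (hd : d ∈ Cfsg.centralizerModCore p M K) {k : G} (hk : k ∈ K) :
    (d : G) * k * (d : G)⁻¹ * k⁻¹ ∈ ((Cfsg.pPrimeCore p ↥K).map K.subtype : Subgroup G) := by
  set R := Cfsg.pPrimeCore p ↥M with hR
  haveI hRn : R.Normal := Cfsg.Agent.Helper22.pPrimeCore_normal p
  set φ := QuotientGroup.mk' R with hφ
  set Kc := K.subgroupOf M with hKc
  have hd' : φ d ∈ Subgroup.centralizer ((Kc.map φ : Subgroup (↥M ⧸ R)) : Set (↥M ⧸ R)) :=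
    Subgroup.mem_comap.mp hd
  have hdN : d ∈ Subgroup.normalizer (Kc : Set ↥M) :=
    IsPComponent.mem_normalizer p hK.2 (Subgroup.centralizer_le_normalizer _ hd')
  set kc : ↥M := ⟨k, hK.1 hk⟩ with hkc
  have hkcK : kc ∈ Kc := Subgroup.mem_subgroupOf.mpr hk
  set w : ↥M := d * kc * d⁻¹ * kc⁻¹ with hw
  have hwK : w ∈ Kc :=
    Kc.mul_mem ((Subgroup.mem_normalizer_iff.mp hdN kc).mp hkcK) (Kc.inv_mem hkcK)
  have hwR : w ∈ R := by
    rw [← QuotientGroup.eq_one_iff]
    have hcomm : φ kc * φ d = φ d * φ kc :=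
      (Subgroup.mem_centralizer_iff.mp hd') (φ kc) (Subgroup.mem_map_of_mem φ hkcK)
    have : ((w : ↥M) : ↥M ⧸ R) = φ d * φ kc * (φ d)⁻¹ * (φ kc)⁻¹ := rfl
    rw [this, ← hcomm]
    group
  -- the subgroup W = K ∩ O_{p'}(M) of K
  set W : Subgroup ↥K := (R.map M.subtype).subgroupOf K with hW
  have hWn : W.Normal := by
    constructor
    intro a ha k'
    rw [hW, Subgroup.mem_subgroupOf] at ha ⊢
    obtain ⟨r, hr, hre⟩ := ha
    have hk'M : (k' : G) ∈ M := hK.1 k'.2
    refine ⟨⟨k', hk'M⟩ * r * ⟨k', hk'M⟩⁻¹, hRn.conj_mem r hr _, ?_⟩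
    simp only [Subgroup.coe_mul, Subgroup.coe_inv, Subgroup.coe_subtype]
    have : (r : G) = (a : G) := hre
    rw [this]
  have hWc : (Nat.card W).Coprime p := by
    have h1 : Nat.card W ∣ Nat.card (R.map M.subtype) :=
      Subgroup.card_comap_dvd_of_injective _ _ K.subtype_injective
    rw [card_map_subtype] at h1
    exact Nat.Coprime.coprime_dvd_left h1 (Cfsg.Agent.Helper22.card_pPrimeCore_coprime p)
  have hWle : W ≤ Cfsg.pPrimeCore p ↥K := Cfsg.Agent.Helper22.le_pPrimeCore p W hWn hWc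
  have hwKG : (w : G) ∈ K := Subgroup.mem_subgroupOf.mp hwK
  have hwW : (⟨(w : G), hwKG⟩ : ↥K) ∈ W := by
    rw [hW, Subgroup.mem_subgroupOf]
    exact ⟨w, hwR, rfl⟩
  have := hWle hwW
  exact ⟨⟨(w : G), hwKG⟩, this, rfl⟩

end

end Cfsg.Agent.Helper10
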