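import Mathlib
import Cfsg.Agent.Lib.Helper10.SecFusion

set_option autoImplicit false

namespace Cfsg.Agent.Helper10

open Cfsg

universe u

section transport

variable {H H' : Type*} [Group H] [Group H'] {p : ℕ}

theorem pCore_map_equiv_le (e : H ≃* H') : (pCore p H).map e.toMonoidHom ≤ pCore p H' := by
  rw [Subgroup.map_le_iff_le_comap]
  apply sSup_le
  intro N hN
  rw [← Subgroup.map_le_iff_le_comap]
  apply le_sSup
  exact ⟨Subgroup.Normal.map hN.1 e.toMonoidHom e.surjective, hN.2.map _⟩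

theorem pCore_map_equiv (e : H ≃* H') : (pCore p H).map e.toMonoidHom = pCore p H' := by
  apply le_antisymm (pCore_map_equiv_le e)
  intro x hx
  have h1 := pCore_map_equiv_le (p := p) e.symm (Subgroup.mem_map_of_mem _ hx)
  exact ⟨e.symm x, h1, by simp⟩

theorem constrained_of_equiv (e : H ≃* H') (h : Constrained p H) : Constrained p H' := by
  intro x' hx'
  rw [← pCore_map_equiv e]
  refine ⟨e.symm x', h ?_, by simp⟩
  rw [Subgroup.mem_centralizer_iff]
  intro y hy
  have hy' : e y ∈ pCore p H' := by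
    rw [← pCore_map_equiv e]; exact Subgroup.mem_map_of_mem _ hy
  have h1 := Subgroup.mem_centralizer_iff.mp hx' (e y) hy'
  apply e.injective
  simpa using h1

theorem nchain_mem_of_le {G : Type*} [Group G] {𝓝 : Set (Subgroup G)} {R M : Subgroup G}
    (hM : ∀ N ∈ 𝓝, N ≤ M) {A : Set G} {g : G} (h : NChain 𝓝 R A g) : g ∈ M := by
  induction h with
  | nil A hA => exact M.one_mem
  | cons A N x g hN hx hA _ ih => exact M.mul_mem (hM N hN hx) ih

end transport

end Cfsg.Agent.Helper10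

namespace Cfsg.Agent.Helper10

open Cfsg

universe u

section emptyfam

theorem pPrimeCore_quotient_pPrimeCore' (p : ℕ) [Fact p.Prime] (G : Type*) [Group G] [Finite G]
    [hP : (pPrimeCore p G).Normal] : pPrimeCore p (G ⧸ pPrimeCore p G) = ⊥ := by
  set K := pPrimeCore p G with hK
  set π := QuotientGroup.mk' K with hπ
  have hπs : Function.Surjective π := QuotientGroup.mk'_surjective _
  haveI hn2 : (pPrimeCore p (G ⧸ K)).Normal := pPrimeCore_normal p
  set L : Subgroup G := (pPrimeCore p (G ⧸ K)).comap π with hL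
  have hLn : L.Normal := Subgroup.Normal.comap hn2 π
  have hKL : K ≤ L := by
    intro x hx
    rw [hL, Subgroup.mem_comap]
    have : π x = 1 := (QuotientGroup.eq_one_iff x).mpr hx
    rw [this]; exact one_mem _
  have hmap : L.map π = pPrimeCore p (G ⧸ K) := Subgroup.map_comap_eq_self_of_surjective hπs _
  have h1 : K.relIndex L = Nat.card (pPrimeCore p (G ⧸ K)) := by
    have := Subgroup.relIndex_ker π (K := L)
    rw [hπ, QuotientGroup.ker_mk', ← hπ, hmap] at this
    exact this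
  have hcard : Nat.card K * K.relIndex L = Nat.card L := card_mul_relIndex_eq hKL
  have hcop : (Nat.card L).Coprime p := by
    rw [← hcard, h1]
    exact Nat.Coprime.mul_left (card_pPrimeCore_coprime p) (card_pPrimeCore_coprime p)
  have hLK : L ≤ K := le_pPrimeCore' hLn hcop
  rw [← hmap, eq_bot_iff]
  refine (Subgroup.map_mono hLK).trans ?_
  have h2 : K ≤ π.ker := by rw [hπ, QuotientGroup.ker_mk']
  exact le_of_eq ((Subgroup.map_eq_bot_iff K).mpr h2)

theorem fcs_mono {G : Type*} [Group G] {p : ℕ} {𝓦₁ 𝓦₂ : Set (Subgroup G → Subgroup G)}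
    (h12 : 𝓦₁ ⊆ 𝓦₂) {H : Subgroup G} (h : FamilyControlsStrongFusionIn p 𝓦₁ H) :
    FamilyControlsStrongFusionIn p 𝓦₂ H := by
  obtain ⟨T, h1, h2, h3, h4⟩ := h
  refine ⟨T, h1, h2, h3, fun A g hg hA hgA => ?_⟩
  obtain ⟨n, c, hc0, hstep, himg, hlast⟩ := h4 A g hg hA hgA
  refine ⟨n, c, hc0, fun i => ?_, himg, hlast⟩
  obtain ⟨W, hW, hmem⟩ := hstep i
  exact ⟨W, h12 hW, hmem⟩

theorem nchain_empty {G : Type*} [Group G] {R : Subgroup G} {A : Set G} {g : G}
    (h : NChain (∅ : Set (Subgroup G)) R A g) : g = 1 := by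
  cases h with
  | nil A hA => rfl
  | cons A N x g hN hx hA htail => exact absurd hN (Set.notMem_empty N)

/-- the functor taking every group to itself -/
def topFunctor : ∀ (Q : Type u) [Group Q], Subgroup Q := fun _ _ => ⊤

theorem topFunctor_char (p : ℕ) : IsCharPFunctor.{u} p topFunctor := by
  constructor
  · intro Q _ _ _ hnt
    exact top_ne_bot
  · intro Q R _ _ _ _ φ
    exact Subgroup.map_top_of_surjective φ.toMonoidHom φ.surjective

theorem indW_topFunctor {H : Type u} [Group H] (T : Subgroup H) :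
    inducedFunctor (G := H) topFunctor T = T := by
  unfold inducedFunctor topFunctor
  rw [← MonoidHom.range_eq_map, Subgroup.range_subtype]

variable {G : Type u} [Group G] [Finite G] {p : ℕ} [Fact p.Prime]

/-- the case of the empty family: fusion is trivial -/
theorem sec_fusion_empty
    (hloc : ∀ (H : Type u) [Group H] [Finite H], IsSec G H → Constrained p H →
      FamilyControlsStrongFusionIn p (∅ : Set (Subgroup H → Subgroup H)) ⊤) :
    FamilyControlsStrongFusionIn p (∅ : Set (Subgroup G → Subgroup G)) ⊤ := by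
  have h𝓦 : ∀ W' ∈ ({topFunctor} : Set (∀ (Q : Type u) [Group Q], Subgroup Q)),
      IsCharPFunctor.{u} p W' := by
    rintro _ rfl; exact topFunctor_char p
  have key := sec_fusion (p := p) (IsSec G) (isSec_closed G) h𝓦 ⟨topFunctor, rfl⟩
    (fun H _ _ hH hcon => fcs_mono (Set.empty_subset _) (hloc H hH hcon))
  have hG := key (Nat.card G) G le_rfl (IsSec.refl G)
  have S₀ : Sylow p G := default
  set S : Subgroup G := (S₀ : Subgroup G) with hSdef
  have hS : IsPGroup p S := S₀.isPGroup'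
  have hidx : ¬ p ∣ S.index := S₀.not_dvd_index
  have hrelS : ¬ p ∣ S.relIndex ⊤ := by rwa [Subgroup.relIndex_top_right]
  set NS := Subgroup.normalizer (S : Set G) with hNS
  -- the normalizer of `S` centralizes `S`
  have hcent : NS ≤ Subgroup.centralizer (S : Set G) := by
    haveI hYn : (pPrimeCore p ↥NS).Normal := pPrimeCore_normal p
    set Y₁ := pPrimeCore p ↥NS with hY₁
    set π := QuotientGroup.mk' Y₁ with hπ
    have hπs : Function.Surjective π := QuotientGroup.mk'_surjective _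
    set S' : Subgroup ↥NS := S.subgroupOf NS with hS'
    have hS'p : IsPGroup p S' := hS.comap_subtype
    haveI hS'n : S'.Normal := Subgroup.normal_in_normalizer
    have hS'idx : ¬ p ∣ S'.index := by
      show ¬ p ∣ S.relIndex NS
      exact fun hd => hidx (hd.trans (Subgroup.relIndex_dvd_index_of_le Subgroup.le_normalizer))
    set S₁ : Subgroup (↥NS ⧸ Y₁) := S'.map π with hS₁
    have hS₁p : IsPGroup p S₁ := hS'p.map π
    have hS₁idx : ¬ p ∣ S₁.index := fun hd => hS'idx (hd.trans (Subgroup.index_map_dvd S' hπs))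
    haveI hS₁n : S₁.Normal := Subgroup.Normal.map hS'n π hπs
    have hsec : IsSec G (↥NS ⧸ Y₁) := ((IsSec.refl G).subgroup NS).quotient Y₁
    have hcon : Constrained p (↥NS ⧸ Y₁) := by
      haveI : (pCore p (↥NS ⧸ Y₁)).Normal := pCore_normal p
      apply constrained_of_inf_normal S₁ hS₁p hS₁idx (pPrimeCore_quotient_pPrimeCore' p ↥NS)
      infer_instance
    have h1 := hloc (↥NS ⧸ Y₁) hsec hcon
    have hinj := injOn_mk_of_coprime S' Y₁ hS'p (card_pPrimeCore_coprime p)
    intro n hn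
    rw [Subgroup.mem_centralizer_iff]
    intro s hs
    have hS₁rel : ¬ p ∣ S₁.relIndex ⊤ := by rwa [Subgroup.relIndex_top_right]
    have hAS : ((S₁ : Subgroup (↥NS ⧸ Y₁)) : Set (↥NS ⧸ Y₁)) ⊆ S₁ := le_rfl
    have hgS : rcs (π ⟨n, hn⟩) ((S₁ : Subgroup (↥NS ⧸ Y₁)) : Set (↥NS ⧸ Y₁)) ⊆ S₁ := by
      rw [← coe_rcg, rcg_eq_self_of_normal]
    obtain ⟨g', hch, hag⟩ := fcs_transfer (fun W hW => absurd hW (Set.notMem_empty W)) h1 S₁ le_top
      hS₁p hS₁rel _ (π ⟨n, hn⟩) (Subgroup.mem_top _) hAS hgS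
    have hg' : g' = 1 := by
      apply nchain_empty (R := S₁) (A := ((S₁ : Subgroup (↥NS ⧸ Y₁)) : Set (↥NS ⧸ Y₁)))
      have e : stepFamily (∅ : Set (Subgroup (↥NS ⧸ Y₁) → Subgroup (↥NS ⧸ Y₁))) ⊤ S₁ = ∅ := by
        ext N
        simp [stepFamily]
      rw [← e]; exact hch
    have hsNS : s ∈ NS := Subgroup.le_normalizer hs
    have hs' : (⟨s, hsNS⟩ : ↥NS) ∈ S' := by rw [hS', Subgroup.mem_subgroupOf]; exact hs
    have h2 := hag (π ⟨s, hsNS⟩) (Subgroup.mem_map_of_mem π hs')
    rw [hg'] at h2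
    simp only [inv_one, one_mul, mul_one] at h2
    have h3 : (⟨n, hn⟩ : ↥NS)⁻¹ * ⟨s, hsNS⟩ * ⟨n, hn⟩ ∈ S' := by
      rw [hS', Subgroup.mem_subgroupOf]
      have := (Subgroup.mem_normalizer_iff.mp (Subgroup.inv_mem _ hn) s).mp hs
      simpa using this
    have h4 : (⟨s, hsNS⟩ : ↥NS) = (⟨n, hn⟩ : ↥NS)⁻¹ * ⟨s, hsNS⟩ * ⟨n, hn⟩ := by
      apply hinj hs' h3
      show π ⟨s, hsNS⟩ = π ((⟨n, hn⟩ : ↥NS)⁻¹ * ⟨s, hsNS⟩ * ⟨n, hn⟩)
      rw [map_mul, map_mul, map_inv]
      exact h2
    have h5 := congrArg Subtype.val h4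
    simp only [Subgroup.coe_mul, Subgroup.coe_inv] at h5
    calc s * n = n * (n⁻¹ * s * n) := by group
      _ = n * s := by rw [← h5]
  -- conclusion
  have h𝓦G := indFam_conj (H := G) h𝓦
  refine ⟨S, le_top, hS, hrelS, fun A h _ hA hhA => ?_⟩
  refine ⟨0, fun _ => 1, rfl, fun i => i.elim0, fun _ => ?_, fun a ha => ?_⟩
  · rintro _ ⟨a, ha, rfl⟩
    simpa using hA ha
  · have hhA' : rcs h⁻¹ A ⊆ (S : Set G) := by
      rintro _ ⟨a, ha, rfl⟩
      have := hhA ⟨a, ha, rfl⟩
      simpa using this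
    obtain ⟨g', hch, hag⟩ := fcs_transfer h𝓦G hG S le_top hS hrelS A h⁻¹ (Subgroup.mem_top _) hA hhA'
    have hg'N : g' ∈ NS := by
      apply nchain_mem_of_le ?_ hch
      rintro _ ⟨_, ⟨W', hW', rfl⟩, rfl⟩
      rw [Set.mem_singleton_iff.mp hW']
      show ⊤ ⊓ Subgroup.normalizer ((inducedFunctor (G := G) topFunctor S : Subgroup G) : Set G) ≤ NS
      rw [indW_topFunctor]
      exact inf_le_right
    have h2 := hag a ha
    have h3 := Subgroup.mem_centralizer_iff.mp (hcent hg'N) a (hA ha)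
    have h4 : g'⁻¹ * a * g' = a := by
      calc g'⁻¹ * a * g' = g'⁻¹ * (a * g') := by group
        _ = g'⁻¹ * (g' * a) := by rw [h3]
        _ = a := by group
    rw [h4] at h2
    simp only [inv_inv] at h2
    simp only [one_mul, inv_one, mul_one]
    exact h2

end emptyfam

end Cfsg.Agent.Helper10

namespace Cfsg.Agent.Helper10

open Cfsg

universe u

section hyp

variable {G : Type u} [Group G] [Finite G] {p : ℕ} [Fact p.Prime]
  {𝓦 : Set (∀ (Q : Type u) [Group Q], Subgroup Q)}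

/-- hypotheses stated for the sections `K/R` of `G` hold for all groups isomorphic to sections -/
theorem fcs_of_section_hyp (h𝓦 : ∀ W ∈ 𝓦, IsCharPFunctor.{u} p W)
    (hloc : ∀ (K R : Subgroup G) [hR : (R.subgroupOf K).Normal],
      Constrained p (↥K ⧸ R.subgroupOf K) →
      FamilyControlsStrongFusionIn p (indFam 𝓦 (↥K ⧸ R.subgroupOf K)) ⊤)
    (H : Type u) [Group H] [Finite H] (hH : IsSec G H) (hcon : Constrained p H) :
    FamilyControlsStrongFusionIn p (indFam 𝓦 H) ⊤ := by
  obtain ⟨K, R, hR, ⟨e⟩⟩ := hH.exists_equiv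
  have hconQ : Constrained p (↥K ⧸ R.subgroupOf K) := constrained_of_equiv e hcon
  have hQ := hloc K R hconQ
  have h1 := fcs_map_injective h𝓦 e.symm.toMonoidHom e.symm.injective hQ
  have h2 : e.symm.toMonoidHom.range = ⊤ := MonoidHom.range_eq_top.mpr e.symm.surjective
  rwa [h2] at h1

/-- Glauberman's theorem for sets of functors, including the empty set -/
theorem sec_fusion_all (h𝓦 : ∀ W ∈ 𝓦, IsCharPFunctor.{u} p W)
    (hloc : ∀ (K R : Subgroup G) [hR : (R.subgroupOf K).Normal],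
      Constrained p (↥K ⧸ R.subgroupOf K) →
      FamilyControlsStrongFusionIn p (indFam 𝓦 (↥K ⧸ R.subgroupOf K)) ⊤) :
    FamilyControlsStrongFusionIn p (indFam 𝓦 G) ⊤ := by
  by_cases hne : 𝓦.Nonempty
  · exact sec_fusion (IsSec G) (isSec_closed G) h𝓦 hne (fcs_of_section_hyp h𝓦 hloc) (Nat.card G) G
      le_rfl (IsSec.refl G)
  · have he : 𝓦 = ∅ := Set.not_nonempty_iff_eq_empty.mp hne
    subst he
    have e : ∀ (H : Type u) [Group H], indFam (∅ : Set (∀ (Q : Type u) [Group Q], Subgroup Q)) H = ∅ := by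
      intro H _
      unfold indFam
      exact Set.image_empty _
    rw [e]
    apply sec_fusion_empty
    intro H _ _ hH hcon
    have := fcs_of_section_hyp h𝓦 hloc H hH hcon
    rwa [e] at this

end hyp

end Cfsg.Agent.Helper10
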