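import Mathlib
import Cfsg.Prelude.Def_Local
import Cfsg.Agent.Lib.Helper7.Frattini
import Cfsg.Agent.Lib.Helper7.PLocal4
import Cfsg.Agent.Lib.Helper7.FStarP
import Cfsg.Agent.Lib.Helper7.PComp

set_option autoImplicit false

namespace Cfsg.Agent.Helper10

open Cfsg

variable {H : Type*} [Group H]

/-- Balance in a `p`-constrained group: a `p'`-subgroup `D` centralizing the `p`-subgroup `P` and
normalized by `C_H(P)` lies in `O_{p'}(H)`, provided `C(O_p) ≤ O_p` in `H / O_{p'}(H)`. -/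
theorem le_pPrimeCore_of_centralizer_normalizes [Finite H] (p : ℕ) [Fact p.Prime]
    (hcon : Subgroup.centralizer (pCore p (H ⧸ pPrimeCore p H) : Set (H ⧸ pPrimeCore p H))
      ≤ pCore p (H ⧸ pPrimeCore p H))
    (P D : Subgroup H) (hP : IsPGroup p ↥P) (hD : (Nat.card ↥D).Coprime p)
    (hDP : D ≤ Subgroup.centralizer (P : Set H))
    (hnorm : Subgroup.centralizer (P : Set H) ≤ Subgroup.normalizer (D : Set H)) :
    D ≤ pPrimeCore p H := by
  classical
  set W := pPrimeCore p H with hW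
  haveI hWn : W.Normal := Cfsg.Agent.Helper22.pPrimeCore_normal p
  have hWc : (Nat.card ↥W).Coprime p := Cfsg.Agent.Helper22.card_pPrimeCore_coprime p
  set φ := QuotientGroup.mk' W with hφ
  set Qb := pCore p (H ⧸ W) with hQb
  haveI hQbn : Qb.Normal := Cfsg.pCore_normal p (H ⧸ W)
  have hQbp : IsPGroup p ↥Qb := Cfsg.Agent.Helper7.pCore_isPGroup p
  intro d hd
  -- order of φ d is coprime to p
  have hdcop : (orderOf d).Coprime p :=
    Nat.Coprime.coprime_dvd_left (Subgroup.orderOf_dvd_natCard D hd) hD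
  have hφdcop : (orderOf (φ d)).Coprime p :=
    Nat.Coprime.coprime_dvd_left (orderOf_map_dvd φ d) hdcop
  have hcent : φ d ∈ Subgroup.centralizer (Qb : Set (H ⧸ W)) := by
    apply Cfsg.Agent.Helper7.thompson_AxB_element p Qb (P.map φ) hQbp (hP.map φ)
    · rw [Subgroup.normalizer_eq_top]; exact le_top
    · rw [Subgroup.normalizer_eq_top]; exact Subgroup.mem_top _
    · exact hφdcop
    · rw [Subgroup.mem_centralizer_iff]
      rintro _ ⟨u, hu, rfl⟩
      have := Subgroup.mem_centralizer_iff.mp (hDP hd) u hu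
      rw [← map_mul, ← map_mul, this]
    · rw [Subgroup.mem_centralizer_iff]
      rintro ub ⟨hubQ, hubC⟩
      have hubC' : ub ∈ Subgroup.centralizer ((P.map φ : Subgroup (H ⧸ W)) : Set (H ⧸ W)) := hubC
      rw [Cfsg.Agent.Helper7.centralizer_map_mk'_eq hP hWc] at hubC'
      obtain ⟨u, hu, rfl⟩ := hubC'
      -- commutator u d u⁻¹ d⁻¹ ∈ D
      have h1 : u * d * u⁻¹ ∈ D := (Subgroup.mem_normalizer_iff.mp (hnorm hu) d).mp hd
      have h2 : u * d * u⁻¹ * d⁻¹ ∈ D := D.mul_mem h1 (D.inv_mem hd)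
      have h3 : (orderOf (φ (u * d * u⁻¹ * d⁻¹))).Coprime p :=
        Nat.Coprime.coprime_dvd_left
          ((orderOf_map_dvd φ _).trans (Subgroup.orderOf_dvd_natCard D h2)) hD
      have h4 : φ (u * d * u⁻¹ * d⁻¹) ∈ Qb := by
        have e : φ (u * d * u⁻¹ * d⁻¹) = φ u * (φ d * (φ u)⁻¹ * (φ d)⁻¹) := by
          simp only [map_mul, map_inv]; group
        rw [e]
        exact Qb.mul_mem hubQ (hQbn.conj_mem _ (Qb.inv_mem hubQ) (φ d))
      have h5 : φ (u * d * u⁻¹ * d⁻¹) = 1 :=
        Cfsg.Agent.Helper7.eq_one_of_isPGroup_of_coprime hQbp h4 h3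
      have e : φ u * φ d = φ (u * d * u⁻¹ * d⁻¹) * (φ d * φ u) := by
        simp only [map_mul, map_inv]; group
      rw [e, h5, one_mul]
  have hmem : φ d ∈ Qb := hcon hcent
  have hone : φ d = 1 := Cfsg.Agent.Helper7.eq_one_of_isPGroup_of_coprime hQbp hmem hφdcop
  exact (QuotientGroup.eq_one_iff d).mp hone

/-- In a solvable group, `C(O_p) ≤ O_p` modulo `O_{p'}`. -/
theorem centralizer_pCore_quotient_le_of_isSolvable [Finite H] (p : ℕ) [Fact p.Prime]
    (hs : Group.IsSolvable H) :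
    Subgroup.centralizer (pCore p (H ⧸ pPrimeCore p H) : Set (H ⧸ pPrimeCore p H))
      ≤ pCore p (H ⧸ pPrimeCore p H) := by
  haveI hWn : (pPrimeCore p H).Normal := Cfsg.Agent.Helper22.pPrimeCore_normal p
  have hO := Cfsg.Agent.Helper7.pPrimeCore_quotient_eq_bot' (X := H) p
  have hsq : Group.IsSolvable (H ⧸ pPrimeCore p H) :=
    solvable_of_surjective (QuotientGroup.mk'_surjective (pPrimeCore p H))
  have hlayer : layer (H ⧸ pPrimeCore p H) = ⊥ := by
    rw [Cfsg.Agent.Helper7.layer_eq_bot_iff]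
    intro L hL
    apply Cfsg.Agent.Helper7.not_isSolvable_of_component hL
    exact solvable_of_solvable_injective (Subgroup.subtype_injective L)
  have h2 := Cfsg.Agent.Helper7.generalizedFittingSubgroup_eq_pCore_of_layer_eq_bot p hO hlayer
  exact Cfsg.Agent.Helper7.centralizer_pCore_le_of_generalizedFittingSubgroup_eq p h2

end Cfsg.Agent.Helper10
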