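import Mathlib
import Cfsg.Agent.Lib.Helper10.ThreeSub
import Cfsg.Agent.Lib.Helper10.Alperin
import Cfsg.Agent.Lib.Helper7.Coprime
import Cfsg.Agent.Lib.Helper21.PGroupFrattini
import Cfsg.Agent.Lib.Helper22.ClassTwo

set_option autoImplicit false

namespace Cfsg.Agent.Helper10

open scoped commutatorElement

variable {G : Type*} [Group G]

/-- conjugation by an element of `N_G(P)` preserves the Frattini subgroup of `P` -/
theorem conj_mem_map_frattini (P : Subgroup G) {n : G} (hn : n ∈ Subgroup.normalizer (P : Set G))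
    {x : G} (hx : x ∈ (frattini ↥P).map P.subtype) :
    n * x * n⁻¹ ∈ (frattini ↥P).map P.subtype := by
  obtain ⟨y, hy, rfl⟩ := hx
  set φ : MulAut ↥P := P.normalizerMonoidHom ⟨n, hn⟩ with hφ
  have h1 : (frattini ↥P).map φ.toMonoidHom = frattini ↥P :=
    Subgroup.characteristic_iff_map_eq.mp inferInstance φ
  have h2 : φ y ∈ frattini ↥P := by
    rw [← h1]; exact Subgroup.mem_map_of_mem _ hy
  exact ⟨φ y, h2, rfl⟩

theorem normalizer_le_normalizer_map_frattini (P : Subgroup G) :
    Subgroup.normalizer (P : Set G) ≤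
      Subgroup.normalizer (((frattini ↥P).map P.subtype : Subgroup G) : Set G) := by
  intro n hn
  apply mem_normalizer_of_conj_mem
  · intro b hb
    exact conj_mem_map_frattini P hn hb
  · intro b hb
    have := conj_mem_map_frattini P (Subgroup.inv_mem _ hn) hb
    rwa [inv_inv] at this

/-- **The `Ω₁` lemma.**  A `p'`-element `a` normalizing the `p`-subgroup `P` and centralizing all
elements of `P` of order dividing `p` (dividing `4` if `p = 2`) centralizes `P`. -/
theorem omega_lemma [Finite G] {p : ℕ} [hp : Fact p.Prime] (a : G)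
    (hcop : (orderOf a).Coprime p) :
    ∀ (n : ℕ) (P : Subgroup G), Nat.card ↥P = n → IsPGroup p ↥P →
      a ∈ Subgroup.normalizer (P : Set G) →
      (∀ x ∈ P, (x ^ p = 1 ∨ (p = 2 ∧ x ^ 4 = 1)) → a * x * a⁻¹ = x) →
      ∀ x ∈ P, a * x * a⁻¹ = x := by
  intro n
  induction n using Nat.strong_induction_on with
  | _ n ih =>
  intro P hn hP ha hΩ
  classical
  set A := Subgroup.zpowers a with hA
  have hAP : A ≤ Subgroup.normalizer (P : Set G) := Subgroup.zpowers_le.mpr ha
  have hcopA : (Nat.card ↥A).Coprime (Nat.card ↥P) := by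
    rw [Nat.card_zpowers]
    obtain ⟨k, hk⟩ := IsPGroup.iff_card.mp hP
    rw [hk]
    exact Nat.Coprime.pow_right k hcop
  have hcop_el : ∀ z ∈ P, (orderOf a).Coprime (orderOf z) := by
    intro z hz
    rw [← Nat.card_zpowers a]
    exact Nat.Coprime.coprime_dvd_right (Subgroup.orderOf_dvd_natCard P hz) hcopA
  -- a helper: a subgroup centralized elementwise by `a` commutes with `A`
  have hcentA : ∀ Q : Subgroup G, (∀ x ∈ Q, a * x * a⁻¹ = x) → ⁅Q, A⁆ = ⊥ := by
    intro Q hQ
    rw [Subgroup.commutator_eq_bot_iff_le_centralizer]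
    intro x hx
    rw [Subgroup.mem_centralizer_iff]
    intro b hb
    obtain ⟨k, rfl⟩ := Subgroup.mem_zpowers_iff.mp hb
    have h1 : Commute a x := by
      have := hQ x hx
      show a * x = x * a
      calc a * x = (a * x * a⁻¹) * a := by group
        _ = x * a := by rw [this]
    exact (h1.zpow_left k).eq
  -- smaller subgroups
  have small : ∀ Q : Subgroup G, Q ≤ P → Q ≠ P → a ∈ Subgroup.normalizer (Q : Set G) →
      ∀ x ∈ Q, a * x * a⁻¹ = x := by
    intro Q hQP hne haQ
    have hcard : Nat.card ↥Q < n := by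
      rw [← hn]
      have h1 : Nat.card ↥Q ∣ Nat.card ↥P := Subgroup.card_dvd_of_le hQP
      have h2 : Nat.card ↥Q ≤ Nat.card ↥P := Nat.le_of_dvd Nat.card_pos h1
      rcases lt_or_eq_of_le h2 with h | h
      · exact h
      · exact absurd (Subgroup.eq_of_le_of_card_ge hQP h.ge) hne
    exact ih _ hcard Q rfl (hP.to_le hQP) haQ (fun x hx hxΩ => hΩ x (hQP hx) hxΩ)
  by_cases hcase : ⁅P, A⁆ = P
  · -- the critical case
    by_cases hPbot : P = ⊥
    · intro x hx
      rw [hPbot, Subgroup.mem_bot] at hx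
      rw [hx]; group
    set Φ : Subgroup G := (frattini ↥P).map P.subtype with hΦ
    have hΦP : Φ ≤ P := Subgroup.map_subtype_le _
    have hΦne : Φ ≠ P := by
      intro h
      haveI : Nontrivial ↥P := (Subgroup.nontrivial_iff_ne_bot P).mpr hPbot
      have hfr : frattini ↥P = ⊤ := by
        rw [eq_top_iff]
        intro y _
        have hy : (y : G) ∈ Φ := by rw [h]; exact y.2
        obtain ⟨y', hy', hyy'⟩ := hy
        have : y' = y := Subtype.ext hyy'
        rwa [← this]
      rcases eq_top_or_exists_le_coatom (⊥ : Subgroup ↥P) with h0 | ⟨M, hM, -⟩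
      · exact bot_ne_top h0
      · have := frattini_le_coatom hM
        rw [hfr, top_le_iff] at this
        exact hM.1 this
    have haΦ : a ∈ Subgroup.normalizer (Φ : Set G) := normalizer_le_normalizer_map_frattini P ha
    have hΦcent := small Φ hΦP hΦne haΦ
    have hΦA : ⁅Φ, A⁆ = ⊥ := hcentA Φ hΦcent
    have hPΦn : P ≤ Subgroup.normalizer (Φ : Set G) :=
      Subgroup.le_normalizer.trans (normalizer_le_normalizer_map_frattini P)
    have hPΦ : ⁅P, Φ⁆ = ⊥ := by
      have h1 : ⁅⁅Φ, A⁆, P⁆ = ⊥ := by rw [hΦA, Subgroup.commutator_bot_left]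
      have h2 : ⁅⁅P, Φ⁆, A⁆ = ⊥ := by
        rw [eq_bot_iff, ← hΦA]
        apply Subgroup.commutator_mono _ le_rfl
        rw [Subgroup.commutator_comm]
        exact Cfsg.Agent.Helper7.commutator_le_of_le_normalizer hPΦn
      have h3 : ⁅⁅A, P⁆, Φ⁆ = ⊥ := Subgroup.commutator_commutator_eq_bot_of_rotate h2 h1
      rwa [Subgroup.commutator_comm A P, hcase] at h3
    -- the Frattini subgroup of `P` is central in `P`
    have hfc : frattini ↥P ≤ Subgroup.center ↥P := by
      intro y hy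
      rw [Subgroup.mem_center_iff]
      intro x
      have h1 : (y : G) ∈ Φ := ⟨y, hy, rfl⟩
      have h2 := Subgroup.commutator_eq_bot_iff_le_centralizer.mp hPΦ x.2
      have h3 := Subgroup.mem_centralizer_iff.mp h2 (y : G) h1
      exact Subtype.ext h3.symm
    have hPt : IsPGroup p ↥P := hP
    -- the exponent `m`
    obtain ⟨m, hm, hmchoose⟩ : ∃ m : ℕ, ((m = p) ∨ (p = 2 ∧ m = 4)) ∧ p ∣ m.choose 2 := by
      by_cases h2 : p = 2
      · exact ⟨4, Or.inr ⟨h2, rfl⟩, by rw [h2]; decide⟩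
      · refine ⟨p, Or.inl rfl, ?_⟩
        apply hp.out.dvd_choose_self (by norm_num)
        have := hp.out.two_le
        omega
    have hpowfr : ∀ x : ↥P, x ^ m ∈ frattini ↥P := by
      intro x
      rcases hm with rfl | ⟨h2, rfl⟩
      · exact Cfsg.Agent.Helper21.pow_mem_frattini_of_isPGroup hPt x
      · have h1 := Cfsg.Agent.Helper21.pow_mem_frattini_of_isPGroup hPt (x ^ 2)
        rw [h2, ← pow_mul] at h1
        exact h1
    have hcomm_fr : ∀ x y : ↥P, ⁅y, x⁆ ∈ frattini ↥P := by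
      intro x y
      rw [commutatorElement_def]
      exact Cfsg.Agent.Helper21.commutator_mem_frattini_of_isPGroup hPt y x
    have hmulpow : ∀ x y : ↥P, (x * y) ^ m = x ^ m * y ^ m := by
      intro x y
      have hc : ⁅y, x⁆ ∈ Subgroup.center ↥P := hfc (hcomm_fr x y)
      have hc' : ∀ g : ↥P, g * ⁅y, x⁆ = ⁅y, x⁆ * g := fun g => Subgroup.mem_center_iff.1 hc g
      have h := Cfsg.Agent.Helper22.mul_pow_eq_of_central x y ⁅y, x⁆ hc'
        (Cfsg.Agent.Helper22.mul_eq_commutator_mul x y) m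
      have hcp : ⁅y, x⁆ ^ p = 1 := by
        rw [← Cfsg.Agent.Helper22.commutator_pow_left_of_central x y hc p]
        have h1 : y ^ p ∈ Subgroup.center ↥P :=
          hfc (Cfsg.Agent.Helper21.pow_mem_frattini_of_isPGroup hPt y)
        have h2 := Subgroup.mem_center_iff.1 h1 x
        rw [commutatorElement_def]
        calc y ^ p * x * (y ^ p)⁻¹ * x⁻¹ = (x * y ^ p) * (y ^ p)⁻¹ * x⁻¹ := by rw [h2]
          _ = 1 := by group
      obtain ⟨k, hk⟩ := hmchoose
      rw [h, hk, pow_mul, hcp, one_pow, one_mul]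
    intro x hx
    set x' : ↥P := ⟨x, hx⟩ with hx'
    have hax : a * x * a⁻¹ ∈ P := (Subgroup.mem_normalizer_iff.mp ha x).mp hx
    set y' : ↥P := ⟨a * x * a⁻¹, hax⟩ with hy'
    set z' : ↥P := x'⁻¹ * y' with hz'
    have hzpow : z' ^ m = 1 := by
      rw [hz', hmulpow, inv_pow]
      have h1 : y' ^ m = x' ^ m := by
        apply Subtype.ext
        have h2 : ((x' ^ m : ↥P) : G) ∈ Φ := ⟨x' ^ m, hpowfr x', rfl⟩
        have h3 := hΦcent _ h2
        simp only [Subgroup.coe_pow] at h3 ⊢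
        show (a * x * a⁻¹) ^ m = x ^ m
        rw [conj_pow]
        exact h3
      rw [h1, inv_mul_cancel]
    have hzG : (x⁻¹ * (a * x * a⁻¹)) ^ m = 1 := by
      have := congrArg Subtype.val hzpow
      simpa [hz'] using this
    have hzP : x⁻¹ * (a * x * a⁻¹) ∈ P := P.mul_mem (P.inv_mem hx) hax
    have hzΩ : (x⁻¹ * (a * x * a⁻¹)) ^ p = 1 ∨ (p = 2 ∧ (x⁻¹ * (a * x * a⁻¹)) ^ 4 = 1) := by
      rcases hm with rfl | ⟨h2, rfl⟩
      · exact Or.inl hzG
      · exact Or.inr ⟨h2, hzG⟩
    have hza := hΩ _ hzP hzΩ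
    exact Cfsg.Agent.Helper7.conj_eq_self_of_coprime a x (isOfFinOrder_of_finite a) hza
      (hcop_el _ hzP)
  · -- `⁅P, A⁆ < P`
    have hP1le : ⁅P, A⁆ ≤ P := Cfsg.Agent.Helper7.commutator_le_of_le_normalizer hAP
    have haP1 : a ∈ Subgroup.normalizer ((⁅P, A⁆ : Subgroup G) : Set G) :=
      le_normalizer_commutator_right P A (Subgroup.mem_zpowers a)
    have h1 := small ⁅P, A⁆ hP1le hcase haP1
    have h2 : ⁅⁅P, A⁆, A⁆ = ⊥ := hcentA _ h1
    have h3 := Cfsg.Agent.Helper7.le_centralizer_of_commutator_commutator_eq_bot hcopA hAP h2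
    intro x hx
    have h4 := Subgroup.mem_centralizer_iff.mp (h3 hx) a (Subgroup.mem_zpowers a)
    calc a * x * a⁻¹ = (x * a) * a⁻¹ := by rw [h4]
      _ = x := by group

/-- The `Ω₁` lemma, in centralizer form. -/
theorem mem_centralizer_of_omega [Finite G] {p : ℕ} [Fact p.Prime] (P : Subgroup G)
    (hP : IsPGroup p ↥P) (a : G) (hcop : (orderOf a).Coprime p)
    (ha : a ∈ Subgroup.normalizer (P : Set G))
    (hΩ : ∀ x ∈ P, (x ^ p = 1 ∨ (p = 2 ∧ x ^ 4 = 1)) → a * x = x * a) :
    a ∈ Subgroup.centralizer (P : Set G) := by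
  have key := omega_lemma a hcop _ P rfl hP ha (fun x hx hxΩ => by
    rw [hΩ x hx hxΩ]; group)
  rw [Subgroup.mem_centralizer_iff]
  intro x hx
  have := key x hx
  calc x * a = (a * x * a⁻¹) * a := by rw [this]
    _ = a * x := by group

end Cfsg.Agent.Helper10
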