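import Mathlib
import Cfsg.Agent.Lib.Helper10.SylowMore
import Cfsg.Agent.Lib.Helper1.Coprime

set_option autoImplicit false

namespace Cfsg.Agent.Helper10

variable {G : Type*} [Group G]

/-- one step of the stability argument: an element `j` of order prime to `p` centralizing a
`p`-subgroup `H'` and moving `r` only by an element of `H'` fixes `r` -/
theorem conj_eq_of_comm_mem {p : ℕ} [Fact p.Prime] {H' : Subgroup G} (hH' : IsPGroup p H') {j : G}
    (hj : (orderOf j).Coprime p) (hc : ∀ z ∈ H', j * z * j⁻¹ = z) {r : G}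
    (hr : j * r * j⁻¹ * r⁻¹ ∈ H') : j * r * j⁻¹ = r := by
  set z := j * r * j⁻¹ * r⁻¹ with hz
  have hjr : j * r * j⁻¹ = z * r := by rw [hz]; group
  have hpow : ∀ m : ℕ, j ^ m * r * (j ^ m)⁻¹ = z ^ m * r := by
    intro m
    induction m with
    | zero => simp
    | succ m ih =>
      have hzm : j * z ^ m * j⁻¹ = z ^ m := by
        have : j * z ^ m * j⁻¹ = (j * z * j⁻¹) ^ m := by
          rw [conj_pow]
        rw [this, hc z hr]
      calc j ^ (m + 1) * r * (j ^ (m + 1))⁻¹ = j * (j ^ m * r * (j ^ m)⁻¹) * j⁻¹ := by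
            rw [pow_succ']; group
        _ = j * (z ^ m * r) * j⁻¹ := by rw [ih]
        _ = (j * z ^ m * j⁻¹) * (j * r * j⁻¹) := by group
        _ = z ^ m * (z * r) := by rw [hzm, hjr]
        _ = z ^ (m + 1) * r := by rw [pow_succ]; group
  have h1 := hpow (orderOf j)
  rw [pow_orderOf_eq_one] at h1
  have h2 : z ^ orderOf j = 1 := by
    have : r = z ^ orderOf j * r := by simpa using h1
    exact (mul_eq_right.mp this.symm)
  obtain ⟨k, hk⟩ := hH' ⟨z, hr⟩
  have h3 : z ^ p ^ k = 1 := by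
    have := congrArg Subtype.val hk
    simpa using this
  have hz1 : z = 1 := by
    have h4 := orderOf_dvd_of_pow_eq_one h2
    have h5 := orderOf_dvd_of_pow_eq_one h3
    have h6 : orderOf z ∣ 1 := by
      have := Nat.dvd_gcd h4 h5
      rwa [Nat.Coprime.pow_right k hj] at this
    exact orderOf_eq_one_iff.mp (Nat.dvd_one.mp h6)
  rw [hjr, hz1, one_mul]

/-- an element of order prime to `p` stabilizing a chain of `p`-subgroups centralizes every term -/
theorem centralizes_of_stabilizes_chain {p : ℕ} [Fact p.Prime] (D : ℕ → Subgroup G) (hD0 : D 0 = ⊥)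
    (hDp : ∀ i, IsPGroup p (D i)) {j : G} (hj : (orderOf j).Coprime p)
    (hstab : ∀ i, ∀ r ∈ D (i + 1), j * r * j⁻¹ * r⁻¹ ∈ D i) :
    ∀ i, ∀ r ∈ D i, j * r * j⁻¹ = r := by
  intro i
  induction i with
  | zero =>
    intro r hr
    rw [hD0, Subgroup.mem_bot] at hr
    rw [hr]; group
  | succ i ih =>
    intro r hr
    exact conj_eq_of_comm_mem (hDp i) hj ih (hstab i r hr)

/-- relative version of `inf_normal_relSylow` -/
theorem inf_relSylow_of_le_normalizer [Finite G] {p : ℕ} [Fact p.Prime] (J Sg P : Subgroup G)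
    (hP : IsPGroup p P) (hidx : ¬ p ∣ P.relIndex J) (hSJ : Sg ≤ J)
    (hJS : J ≤ Subgroup.normalizer (Sg : Set G)) : ¬ p ∣ (P ⊓ Sg).relIndex Sg := by
  haveI : (Sg.subgroupOf J).Normal := (Subgroup.normal_subgroupOf_iff_le_normalizer hSJ).mpr hJS
  have h1 := inf_normal_relSylow (P.subgroupOf J) (Sg.subgroupOf J) hP.comap_subtype hidx
  have e : (P.subgroupOf J ⊓ Sg.subgroupOf J) = (P ⊓ Sg).subgroupOf J :=
    (Subgroup.comap_inf _ _ _).symm
  rwa [e, Subgroup.relIndex_subgroupOf hSJ] at h1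

/-- a Frattini-type factorization: if `Sg` is normalized by `J`, `Sg / C` is a `p`-group and `S₁`
is a relative Sylow `p`-subgroup of `Sg`, then every element of `J` is the product of an element
of `C` and an element normalizing `S₁` -/
theorem exists_mul_normalizer_of_pQuotient [Finite G] {p : ℕ} [Fact p.Prime] (J Sg C S₁ : Subgroup G)
    (hJS : J ≤ Subgroup.normalizer (Sg : Set G)) (hCS : C ≤ Sg)
    (hSC : Sg ≤ Subgroup.normalizer (C : Set G))
    (hquot : ∀ j ∈ Sg, ∃ k : ℕ, j ^ (p ^ k) ∈ C)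
    (hS₁ : S₁ ≤ Sg) (hS₁p : IsPGroup p S₁) (hidx : ¬ p ∣ S₁.relIndex Sg) (x : G) (hx : x ∈ J) :
    ∃ c ∈ C, ∃ y ∈ Subgroup.normalizer (S₁ : Set G), x = c * y := by
  -- `Sg = C S₁`
  have hfac : Sg ≤ C ⊔ S₁ := by
    haveI : (C.subgroupOf Sg).Normal := (Subgroup.normal_subgroupOf_iff_le_normalizer hCS).mpr hSC
    have hpq : IsPGroup p (↥Sg ⧸ C.subgroupOf Sg) := by
      intro g
      obtain ⟨j, rfl⟩ := QuotientGroup.mk_surjective g
      obtain ⟨k, hk⟩ := hquot j j.2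
      refine ⟨k, ?_⟩
      rw [← QuotientGroup.mk_pow, QuotientGroup.eq_one_iff, Subgroup.mem_subgroupOf]
      simpa using hk
    obtain ⟨n, hn⟩ := IsPGroup.iff_card.mp hpq
    have h1 : C.relIndex Sg = p ^ n := hn
    have h2 : (C ⊔ S₁).relIndex Sg ∣ p ^ n := h1 ▸ Subgroup.relIndex_dvd_of_le_left Sg le_sup_left
    have h3 : (C ⊔ S₁).relIndex Sg ∣ S₁.relIndex Sg := Subgroup.relIndex_dvd_of_le_left Sg le_sup_right
    obtain ⟨m, -, hm⟩ := (Nat.dvd_prime_pow Fact.out).mp h2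
    have hm0 : m = 0 := by
      by_contra hne
      apply hidx
      refine dvd_trans ?_ h3
      rw [hm]
      exact dvd_pow_self p hne
    rw [hm0, pow_zero] at hm
    exact Subgroup.relIndex_eq_one.mp hm
  -- conjugate `x S₁ x⁻¹` back into `S₁` inside `Sg`
  have hS₂ : rcg x⁻¹ S₁ ≤ Sg := by
    intro y hy
    rw [mem_rcg] at hy
    have h1 := hS₁ hy
    have hxn := hJS hx
    have := (Subgroup.mem_normalizer_iff.mp hxn (x⁻¹ * y * x⁻¹⁻¹)).mp h1
    have e : x * (x⁻¹ * y * x⁻¹⁻¹) * x⁻¹ = y := by group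
    rwa [e] at this
  obtain ⟨s, hsS, hs⟩ := conj_into_relSylow Sg S₁ (rcg x⁻¹ S₁) hS₁ hS₁p hidx hS₂
    (isPGroup_rcg x⁻¹ hS₁p)
  rw [← rcg_mul] at hs
  have hs' := rcg_eq_of_le_of_finite hs
  have hnorm : x⁻¹ * s ∈ Subgroup.normalizer (S₁ : Set G) := mem_normalizer_iff_rcg.mpr hs'
  obtain ⟨c, hc, s₁, hs₁, hcs⟩ := Cfsg.Agent.Helper1.exists_mul_of_mem_sup
    (le_trans hS₁ hSC) (hfac hsS)
  refine ⟨c, hc, s₁ * (x⁻¹ * s)⁻¹, ?_, ?_⟩
  · exact Subgroup.mul_mem _ (Subgroup.le_normalizer hs₁) (Subgroup.inv_mem _ hnorm)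
  · rw [← mul_assoc, ← hcs]; group

end Cfsg.Agent.Helper10
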