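import Mathlib

/-! # S4009 (Mann's bound for the order of a `p`-group of given derived length): definitions -/

set_option autoImplicit false

namespace Cfsg.Agent.Helper10.Mann

variable {G : Type*} [Group G]

/-- `[M, G, ..., G]` with `j` copies of `G`. -/
def mIter (M : Subgroup G) : ℕ → Subgroup G
  | 0 => M
  | j + 1 => ⁅mIter M j, (⊤ : Subgroup G)⁆

@[simp] theorem mIter_zero (M : Subgroup G) : mIter M 0 = M := rfl

theorem mIter_succ (M : Subgroup G) (j : ℕ) :
    mIter M (j + 1) = ⁅mIter M j, (⊤ : Subgroup G)⁆ := rfl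

/-- the top `G`-central factor `H / [H,G]H'` of `H` is cyclic -/
def CycTop (H : Subgroup G) : Prop :=
  ∃ x ∈ H, H = Subgroup.zpowers x ⊔ ⁅H, (⊤ : Subgroup G)⁆ ⊔ ⁅H, H⁆

end Cfsg.Agent.Helper10.Mann
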