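import Mathlib
import Cfsg.Agent.Lib.Helper8.HHGlue3

/-!
# Relative form of the section Hall–Higman lemma (helper10 library)

`sec_lin_hh_rel`: as `Helper8.HHLin.sec_lin_hh`, but the fixed points of `X` on `L` are only
required to lie in `L₁`.
-/

set_option autoImplicit false
set_option linter.unusedSectionVars false

namespace Cfsg.Agent.Helper10.BG36S

open Module Cfsg.Agent.Helper8.FrobLin Cfsg.Agent.Helper8.SecRep Cfsg.Agent.Helper8.HHLin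
open scoped commutatorElement

section SecLin

variable {X : Type*} [Group X] [Finite X] {L L₁ : Subgroup X} {ℓ : ℕ} [Fact ℓ.Prime]
  (h : IsSec L L₁ ℓ) (Γ : Subgroup X) (hΓ : Γ ≤ nn L L₁)

theorem secLin_fixed_eq_bot_rel (A : Subgroup X) (hA : A ≤ Γ) (hℓA : ¬ ℓ ∣ Nat.card ↥A)
    (hcop : (Nat.card ↥A).Coprime (Nat.card ↥L₁))
    (hsolv : Group.IsSolvable ↥A ∨ Group.IsSolvable ↥L₁)
    (hCL : L ⊓ Subgroup.centralizer (A : Set X) ≤ L₁) :
    fixedBy (secLin h Γ hΓ) (A.subgroupOf Γ) = ⊥ := by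
  have hcardA : Nat.card ↥(A.subgroupOf Γ) = Nat.card ↥A :=
    Nat.card_congr (Subgroup.subgroupOfEquivOfLe hA).toEquiv
  have e1 := finrank_fixedBy_bc (LK ℓ) (secLin₀ h Γ hΓ) (A.subgroupOf Γ)
    (by rw [hcardA]; exact natCast_ne_zero_of_not_dvd (ZMod ℓ) hℓA)
  have hfix : fixedBy (secLin₀ h Γ hΓ) (A.subgroupOf Γ) =
      fixedBy (secRep h) (A.subgroupOf (nn L L₁)) := by
    unfold secLin₀
    rw [fixedBy_comp]
    congr 1
    ext x
    rw [Subgroup.mem_map, Subgroup.mem_subgroupOf]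
    constructor
    · rintro ⟨y, hy, rfl⟩
      rw [Subgroup.mem_subgroupOf] at hy
      exact hy
    · intro hx
      exact ⟨⟨(x : X), hA hx⟩, by rw [Subgroup.mem_subgroupOf]; exact hx, rfl⟩
  have hcard := card_fixed_section h A (hA.trans hΓ) hcop hsolv
  have heq : L ⊓ Subgroup.centralizer (A : Set X) = L₁ ⊓ Subgroup.centralizer (A : Set X) :=
    le_antisymm (le_inf hCL inf_le_right) (inf_le_inf_right _ h.le)
  rw [heq] at hcard
  have hpos : 0 < Nat.card ↥(L₁ ⊓ Subgroup.centralizer (A : Set X)) := Nat.card_pos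
  have h1 : Nat.card ↥(fixedBy (secRep h) (A.subgroupOf (nn L L₁))) = 1 := by
    have h2 : Nat.card ↥(fixedBy (secRep h) (A.subgroupOf (nn L L₁))) *
        Nat.card ↥(L₁ ⊓ Subgroup.centralizer (A : Set X)) =
        1 * Nat.card ↥(L₁ ⊓ Subgroup.centralizer (A : Set X)) := by rw [hcard, one_mul]
    exact Nat.eq_of_mul_eq_mul_right hpos h2
  have h2 : finrank (ZMod ℓ) ↥(fixedBy (secLin₀ h Γ hΓ) (A.subgroupOf Γ)) = 0 := by
    rw [hfix]
    have h3 := card_submodule_zmod (ℓ := ℓ) (fixedBy (secRep h) (A.subgroupOf (nn L L₁)))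
    rw [h1] at h3
    rcases Nat.pow_eq_one.mp h3.symm with h4 | h4
    · exact absurd h4 (Fact.out : ℓ.Prime).one_lt.ne'
    · exact h4
  have h5 : finrank (LK ℓ) ↥(fixedBy (secLin h Γ hΓ) (A.subgroupOf Γ)) = 0 := by
    unfold secLin
    rw [e1, h2]
  exact Submodule.finrank_eq_zero.mp h5

end SecLin

section SecLinHH

variable {G : Type*} [Group G] [Finite G]

theorem sec_lin_hh_rel (ℓ : ℕ) [Fact ℓ.Prime] {q r : ℕ} (hq : q.Prime) (hr : r.Prime)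
    (hℓq : ℓ ≠ q) (hℓr : ℓ ≠ r) (hqr : q ≠ r)
    (X Q L L₁ : Subgroup G) (h : IsSec L L₁ ℓ) (hX : Nat.card ↥X = r) (hQ : IsPGroup q ↥Q)
    (hXQ : X ≤ Subgroup.normalizer (Q : Set G))
    (hXL : X ≤ nn L L₁) (hQL : Q ≤ nn L L₁)
    (hcop : (Nat.card ↥X).Coprime (Nat.card ↥L₁))
    (hCL : L ⊓ Subgroup.centralizer (X : Set G) ≤ L₁)
    (hexc : ¬ (q = 2 ∧ ∃ m : ℕ, r = 2 ^ m + 1) ∨
      ∀ a ∈ Q, ∀ b ∈ Q, a * b * a⁻¹ * b⁻¹ ∈ actKer L L₁) :
    ⁅X, Q⁆ ≤ actKer L L₁ := by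
  classical
  have hℓp : ℓ.Prime := Fact.out
  set Γ : Subgroup G := X ⊔ Q with hΓ
  have hXΓ : X ≤ Γ := le_sup_left
  have hQΓ : Q ≤ Γ := le_sup_right
  have hΓL : Γ ≤ nn L L₁ := sup_le hXL hQL
  set ρ := secLin h Γ hΓL with hρ
  have hℓX : ¬ ℓ ∣ Nat.card ↥X := by
    rw [hX]
    intro hd
    exact hℓr ((Nat.prime_dvd_prime_iff_eq hℓp hr).mp hd)
  have hXsolv : Group.IsSolvable ↥X := by
    haveI : Fact (Nat.card ↥X).Prime := ⟨by rw [hX]; exact hr⟩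
    haveI : IsCyclic ↥X := isCyclic_of_prime_card rfl
    exact isSolvable_of_comm (fun a b => (IsCyclic.isMulCommutative (α := ↥X)).is_comm.comm a b)
  have hfix : fixedBy ρ (X.subgroupOf Γ) = ⊥ :=
    secLin_fixed_eq_bot_rel h Γ hΓL X hXΓ hℓX hcop (Or.inl hXsolv) hCL
  have hqF : (q : LK ℓ) ≠ 0 := natCast_ne_zero_of_not_dvd (LK ℓ) (by
    intro hd
    exact hℓq ((Nat.prime_dvd_prime_iff_eq hℓp hq).mp hd))
  have hrF : (r : LK ℓ) ≠ 0 := natCast_ne_zero_of_not_dvd (LK ℓ) (by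
    intro hd
    exact hℓr ((Nat.prime_dvd_prime_iff_eq hℓp hr).mp hd))
  have hcX : Nat.card ↥(X.subgroupOf Γ) = r := by
    rw [card_subgroupOf_of_le hXΓ]; exact hX
  have h1 : ∀ x ∈ X.subgroupOf Γ, ∀ g ∈ Q.subgroupOf Γ, x * g * x⁻¹ ∈ Q.subgroupOf Γ := by
    intro x hx g hg
    rw [Subgroup.mem_subgroupOf] at hx hg ⊢
    exact conj_mem_of_mem_normalizer (hXQ hx) hg
  have h2 : ¬ (q = 2 ∧ ∃ m : ℕ, r = 2 ^ m + 1) ∨
      ∀ a ∈ Q.subgroupOf Γ, ∀ b ∈ Q.subgroupOf Γ, ρ a * ρ b = ρ b * ρ a := by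
    rcases hexc with h' | h'
    · exact Or.inl h'
    · right
      intro a ha b hb
      rw [Subgroup.mem_subgroupOf] at ha hb
      rw [rho_comm_iff_commutator, hρ, secLin_eq_one_iff]
      exact (mem_actKer.mp (h' _ ha _ hb)).2
  have key := lin_hh hq hr hqr hqF hrF ρ (Q.subgroupOf Γ) (X.subgroupOf Γ) h1 hQ.comap_subtype
    hcX hfix h2
  rw [Subgroup.commutator_le]
  intro x hx g hg
  rw [commutatorElement_def, mem_actKer]
  have hxΓ : x ∈ Γ := hXΓ hx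
  have hgΓ : g ∈ Γ := hQΓ hg
  refine ⟨hΓL (Γ.mul_mem (Γ.mul_mem (Γ.mul_mem hxΓ hgΓ) (Γ.inv_mem hxΓ)) (Γ.inv_mem hgΓ)), ?_⟩
  have h3 := key ⟨g, hgΓ⟩ hg ⟨x, hxΓ⟩ hx
  rw [rho_comm_iff_commutator, hρ, secLin_eq_one_iff] at h3
  exact h3

end SecLinHH

end Cfsg.Agent.Helper10.BG36S
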