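import Mathlib
import Cfsg.Agent.Lib.Helper8.HHLin11

/-!
# Weights moved by a group of prime order with a small fixed space (helper10 library)
-/

set_option autoImplicit false
set_option linter.unusedSectionVars false

namespace Cfsg.Agent.Helper10.BG36S

open Module Cfsg.Agent.Helper8.FrobLin Cfsg.Agent.Helper8.HHLin

section Weights

variable {F : Type*} [Field F] [IsAlgClosed F] {G : Type*} [Group G] [Finite G]
  {V : Type*} [AddCommGroup V] [Module F V] [FiniteDimensional F V]
  (ρ : Representation F G V) (M N : Subgroup G) [M.Normal] [N.Normal]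

attribute [local instance] dualAct

/-- the weight space of a weight moved by a group of prime order embeds in the fixed space -/
theorem finrank_range_wproj_le [Fintype ↥M] (X : Subgroup G) (hXp : (Nat.card ↥X).Prime)
    (hcharM : (Nat.card ↥M : F) ≠ 0)
    (χ : (↥M ⧸ N.subgroupOf M) →* Fˣ) (x₀ : G) (hx₀ : x₀ ∈ X) (hx₀χ : x₀ • χ ≠ χ) :
    finrank F (LinearMap.range (wproj ρ M N χ)) ≤ finrank F (fixedBy ρ X) := by
  classical
  haveI : Fact (Nat.card ↥X).Prime := ⟨hXp⟩
  letI : Fintype ↥X := Fintype.ofFinite _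
  have hfree : ∀ e : ↥X, (e : G) • χ = χ → e = 1 := by
    intro e he
    let S : Subgroup ↥X :=
      { carrier := {e | (e : G) • χ = χ}
        one_mem' := by
          show ((1 : ↥X) : G) • χ = χ
          rw [Subgroup.coe_one, one_smul]
        mul_mem' := by
          intro a b ha hb
          show ((a * b : ↥X) : G) • χ = χ
          rw [Subgroup.coe_mul, mul_smul, hb, ha]
        inv_mem' := by
          intro a ha
          show ((a⁻¹ : ↥X) : G) • χ = χ
          rw [Subgroup.coe_inv]
          conv_lhs => rw [← ha]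
          rw [inv_smul_smul] }
    rcases S.eq_bot_or_eq_top_of_prime_card with h | h
    · have : e ∈ S := he
      rw [h, Subgroup.mem_bot] at this
      exact this
    · exfalso
      have : (⟨x₀, hx₀⟩ : ↥X) ∈ S := by rw [h]; trivial
      exact hx₀χ this
  set T : V →ₗ[F] V := ∑ e : ↥X, ρ (e : G) with hT
  have hTfix : ∀ w : V, T w ∈ fixedBy ρ X := by
    intro w
    rw [mem_fixedBy]
    intro x hx
    rw [hT, LinearMap.sum_apply, map_sum]
    rw [← Equiv.sum_comp (Equiv.mulLeft (⟨x, hx⟩ : ↥X)) (fun e : ↥X => ρ (e : G) w)]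
    apply Finset.sum_congr rfl
    intro e _
    simp only [Equiv.coe_mulLeft, Subgroup.coe_mul]
    rw [rho_mul_apply]
  have hPT : ∀ w ∈ LinearMap.range (wproj ρ M N χ), wproj ρ M N χ (T w) = w := by
    rintro _ ⟨v, rfl⟩
    rw [hT, LinearMap.sum_apply, map_sum]
    rw [Finset.sum_eq_single (1 : ↥X)]
    · rw [Subgroup.coe_one, map_one]
      show wproj ρ M N χ (wproj ρ M N χ v) = wproj ρ M N χ v
      rw [wproj_orth ρ M N hcharM, if_pos rfl]
    · intro e _ he
      have h1 := wproj_equi ρ M N (e : G) ((e : G)⁻¹ • χ) (wproj ρ M N χ v)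
      rw [smul_inv_smul] at h1
      rw [← h1, wproj_orth ρ M N hcharM, if_neg, map_zero]
      intro heq
      apply he
      apply hfree e
      conv_lhs => rw [← heq]
      rw [smul_inv_smul]
    · intro h
      exact absurd (Finset.mem_univ _) h
  let f : ↥(LinearMap.range (wproj ρ M N χ)) →ₗ[F] ↥(fixedBy ρ X) :=
    (T.comp (Submodule.subtype _)).codRestrict (fixedBy ρ X) (fun w => hTfix _)
  have hf : Function.Injective f := by
    intro a b hab
    have h1 : T (a : V) = T (b : V) := congrArg Subtype.val hab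
    have h2 := congrArg (wproj ρ M N χ) h1
    rw [hPT _ a.2, hPT _ b.2] at h2
    exact Subtype.ext h2
  exact LinearMap.finrank_le_finrank_of_injective hf

omit [IsAlgClosed F] [Finite G] [FiniteDimensional F V] in
/-- two endomorphisms preserving a subspace of dimension at most one commute on it -/
theorem comm_of_finrank_le_one (W : Submodule F V) [FiniteDimensional F ↥W]
    (hW : finrank F ↥W ≤ 1) (f g : V →ₗ[F] V)
    (hf : W ≤ W.comap f) (hg : W ≤ W.comap g) (w : V) (hw : w ∈ W) : f (g w) = g (f w) := by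
  obtain ⟨v₀, hv₀⟩ := finrank_le_one_iff.mp hW
  obtain ⟨c, hc⟩ := hv₀ ⟨w, hw⟩
  obtain ⟨α, hα⟩ := hv₀ ⟨f (v₀ : V), hf v₀.2⟩
  obtain ⟨β, hβ⟩ := hv₀ ⟨g (v₀ : V), hg v₀.2⟩
  have hc' : w = c • (v₀ : V) := (congrArg Subtype.val hc).symm
  have hα' : f (v₀ : V) = α • (v₀ : V) := (congrArg Subtype.val hα).symm
  have hβ' : g (v₀ : V) = β • (v₀ : V) := (congrArg Subtype.val hβ).symm
  rw [hc']
  simp only [map_smul, hα', hβ']
  rw [smul_comm α β]

/-- a weight with a non-zero weight space is fixed by `X`, when `M` is generated by commutators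
of a subgroup centralising `M` and the fixed space of `X` has dimension at most one -/
theorem smul_eq_of_finrank_fixedBy_le_one [Fintype ↥M] (X Q : Subgroup G)
    (hXp : (Nat.card ↥X).Prime)
    (hfix : finrank F (fixedBy ρ X) ≤ 1) (hcharM : (Nat.card ↥M : F) ≠ 0)
    (hQM : ∀ g ∈ Q, ∀ m ∈ M, g * m = m * g) (hMQ : M ≤ ⁅Q, Q⁆)
    (χ : (↥M ⧸ N.subgroupOf M) →* Fˣ) (hχ : wproj ρ M N χ ≠ 0) :
    ∀ x ∈ X, x • χ = χ := by
  classical
  by_contra hcon
  push Not at hcon
  obtain ⟨x₀, hx₀, hx₀χ⟩ := hcon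
  have hdim := (finrank_range_wproj_le ρ M N X hXp hcharM χ x₀ hx₀ hx₀χ).trans hfix
  set W := LinearMap.range (wproj ρ M N χ) with hW
  -- the subgroup acting trivially on the weight space
  let S : Subgroup G :=
    { carrier := {g | ∀ w ∈ W, ρ g w = w}
      one_mem' := by
        intro w _
        rw [map_one]; rfl
      mul_mem' := by
        intro a b ha hb w hw
        rw [rho_mul_apply, hb w hw, ha w hw]
      inv_mem' := by
        intro a ha w hw
        conv_lhs => rw [← ha w hw]
        rw [rho_inv_rho] }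
  have hQW : ∀ g ∈ Q, W ≤ W.comap (ρ g) := by
    intro g hg
    exact range_wproj_le_comap ρ M N χ g (smul_eq_of_comm M N (hQM g hg) χ)
  have hQS : ⁅Q, Q⁆ ≤ S := by
    rw [Subgroup.commutator_le]
    intro a ha b hb w hw
    rw [commutatorElement_def]
    have hab := comm_of_finrank_le_one W hdim (ρ a) (ρ b) (hQW a ha) (hQW b hb)
    have hw1 : ρ b⁻¹ w ∈ W := hQW _ (Q.inv_mem hb) hw
    have hw2 : ρ a⁻¹ (ρ b⁻¹ w) ∈ W := hQW _ (Q.inv_mem ha) hw1
    rw [rho_mul_apply, rho_mul_apply, rho_mul_apply, hab _ hw2]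
    have e1 : ρ a (ρ a⁻¹ (ρ b⁻¹ w)) = ρ b⁻¹ w := by
      have := rho_inv_rho ρ a⁻¹ (ρ b⁻¹ w)
      rwa [inv_inv] at this
    rw [e1]
    have := rho_inv_rho ρ b⁻¹ w
    rwa [inv_inv] at this
  obtain ⟨v, hv⟩ : ∃ v, wproj ρ M N χ v ≠ 0 := by
    by_contra hall
    push Not at hall
    apply hχ
    apply LinearMap.ext
    intro v
    rw [hall v]; rfl
  have hχ1 : χ = 1 := by
    apply MonoidHom.ext
    intro a
    induction a using QuotientGroup.induction_on with
    | H m =>
      have h1 := wproj_act ρ M N χ m v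
      have h2 : ρ (m : G) (wproj ρ M N χ v) = wproj ρ M N χ v :=
        hQS (hMQ m.2) _ ⟨v, rfl⟩
      rw [h2] at h1
      have h3 : ((χ (QuotientGroup.mk m) : Fˣ) : F) = 1 := by
        by_contra hne
        have h4 : (((χ (QuotientGroup.mk m) : Fˣ) : F) - 1) • wproj ρ M N χ v = 0 := by
          rw [sub_smul, one_smul, ← h1, sub_self]
        rcases smul_eq_zero.mp h4 with h5 | h5
        · exact hne (sub_eq_zero.mp h5)
        · exact hv h5
      rw [MonoidHom.one_apply]
      exact Units.ext h3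
  apply hx₀χ
  rw [hχ1]
  apply MonoidHom.ext
  intro a
  rfl

end Weights

end Cfsg.Agent.Helper10.BG36S
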