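import Mathlib
import Cfsg.Prelude
import Cfsg.Agent.Lib.Helper8.HHGlue3
import Cfsg.Agent.Lib.Helper10.BG36S2

/-!
# A group of prime order with a small fixed space centralises the derived centre (helper10)
-/

set_option autoImplicit false
set_option linter.unusedSectionVars false

namespace Cfsg.Agent.Helper10.BG36S

open Module Cfsg.Agent.Helper8.FrobLin Cfsg.Agent.Helper8.SecRep Cfsg.Agent.Helper8.HHLin
open scoped commutatorElement

section Center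

variable {G : Type*} [Group G]

theorem conj_mem_center_of_normalizer {Q : Subgroup G} {g z : G}
    (hg : g ∈ Subgroup.normalizer (Q : Set G))
    (hz : z ∈ Q ⊓ Subgroup.centralizer (Q : Set G)) :
    g * z * g⁻¹ ∈ Q ⊓ Subgroup.centralizer (Q : Set G) := by
  obtain ⟨hzQ, hzC⟩ := Subgroup.mem_inf.mp hz
  refine Subgroup.mem_inf.mpr ⟨conj_mem_of_mem_normalizer hg hzQ, ?_⟩
  rw [Subgroup.mem_centralizer_iff] at hzC ⊢
  intro y hy
  have hy' : g⁻¹ * y * g ∈ Q := conj_mem_of_mem_normalizer' hg hy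
  have h1 := hzC _ hy'
  calc y * (g * z * g⁻¹) = g * ((g⁻¹ * y * g) * z) * g⁻¹ := by group
    _ = g * (z * (g⁻¹ * y * g)) * g⁻¹ := by rw [h1]
    _ = g * z * g⁻¹ * y := by group

end Center

section Main

variable {G : Type*} [Group G] [Finite G]

attribute [local instance] dualAct

theorem centralizes_center {p q r : ℕ} [Fact p.Prime] [Fact q.Prime] [Fact r.Prime]
    (hpq : p ≠ q) (hpr : p ≠ r) (V Q₁ X : Subgroup G) (hV : Cfsg.IsElementaryAbelian p V)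
    (hQ : IsPGroup q ↥Q₁) (hX : Nat.card ↥X = r)
    (hQV : Q₁ ≤ Subgroup.normalizer (V : Set G)) (hXV : X ≤ Subgroup.normalizer (V : Set G))
    (hXQ : X ≤ Subgroup.normalizer (Q₁ : Set G))
    (hfaith : Q₁ ⊓ Subgroup.centralizer (V : Set G) = ⊥)
    (hCV : Nat.card ↥(V ⊓ Subgroup.centralizer (X : Set G)) ≤ p)
    (hZ : ⁅Q₁, Q₁⁆ = Q₁ ⊓ Subgroup.centralizer (Q₁ : Set G)) :
    ∀ x ∈ X, ∀ z ∈ Q₁ ⊓ Subgroup.centralizer (Q₁ : Set G), x * z = z * x := by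
  classical
  have hpp : p.Prime := Fact.out
  have hqp : q.Prime := Fact.out
  have hrp : r.Prime := Fact.out
  have hVc : ∀ x ∈ V, ∀ y ∈ V, x * y = y * x := by
    intro x hx y hy
    have := hV.1.is_comm.comm ⟨x, hx⟩ ⟨y, hy⟩
    exact congrArg Subtype.val this
  have hVp : ∀ x ∈ V, x ^ p = 1 := hV.2
  set Zs : Subgroup G := Q₁ ⊓ Subgroup.centralizer (Q₁ : Set G) with hZs
  set Γ : Subgroup G := Q₁ ⊔ X with hΓ
  have hQΓ : Q₁ ≤ Γ := le_sup_left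
  have hXΓ : X ≤ Γ := le_sup_right
  have hZΓ : Zs ≤ Γ := inf_le_left.trans hQΓ
  have hΓV : Γ ≤ Subgroup.normalizer (V : Set G) := sup_le hQV hXV
  have hΓQ : Γ ≤ Subgroup.normalizer (Q₁ : Set G) := sup_le Subgroup.le_normalizer hXQ
  set ρ := linRep V Γ p hVc hVp hΓV with hρ
  set M : Subgroup ↥Γ := Zs.subgroupOf Γ with hM
  set N : Subgroup ↥Γ := ⊥ with hN
  set E : Subgroup ↥Γ := X.subgroupOf Γ with hE
  set QQ : Subgroup ↥Γ := Q₁.subgroupOf Γ with hQQ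
  haveI hMn : M.Normal := by
    constructor
    intro m hm g
    rw [hM, Subgroup.mem_subgroupOf] at hm ⊢
    exact conj_mem_center_of_normalizer (hΓQ g.2) hm
  letI : Fintype ↥M := Fintype.ofFinite _
  letI : Fintype ((↥M ⧸ N.subgroupOf M) →* (LK p)ˣ) := Fintype.ofFinite _
  have hpX : ¬ p ∣ Nat.card ↥X := by
    rw [hX]
    intro hd
    exact hpr ((Nat.prime_dvd_prime_iff_eq hpp hrp).mp hd)
  have hfix : finrank (LK p) (fixedBy ρ E) ≤ 1 := by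
    have h1 := linRep_fixed V Γ p hVc hVp hΓV X hXΓ hpX
    have h2 : p ^ finrank (LK p) (fixedBy ρ E) ≤ p ^ 1 := by
      rw [hρ, hE, h1, pow_one]; exact hCV
    exact (Nat.pow_le_pow_iff_right hpp.one_lt).mp h2
  have hcardM : Nat.card ↥M = Nat.card ↥Zs := card_subgroupOf_of_le hZΓ
  have hcardE : Nat.card ↥E = r := by rw [hE, card_subgroupOf_of_le hXΓ]; exact hX
  have hZq : IsPGroup q ↥Zs := hQ.to_le inf_le_left
  have hcharM : (Nat.card ↥M : LK p) ≠ 0 := by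
    rw [hcardM]
    apply natCast_ne_zero_of_not_dvd (LK p)
    obtain ⟨n, hn⟩ := hZq.exists_card_eq
    rw [hn]
    intro hd
    exact hpq ((Nat.prime_dvd_prime_iff_eq hpp hqp).mp (hpp.dvd_of_dvd_pow hd))
  have hQM : ∀ g ∈ QQ, ∀ m ∈ M, g * m = m * g := by
    intro g hg m hm
    rw [hQQ, Subgroup.mem_subgroupOf] at hg
    rw [hM, Subgroup.mem_subgroupOf] at hm
    apply Subtype.ext
    have := Subgroup.mem_centralizer_iff.mp (Subgroup.mem_inf.mp hm).2 (g : G) hg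
    exact this
  have hMQ : M ≤ ⁅QQ, QQ⁆ := by
    intro m hm
    rw [hM, Subgroup.mem_subgroupOf, ← hZ] at hm
    have h1 : (⁅QQ, QQ⁆).map Γ.subtype = ⁅Q₁, Q₁⁆ := by
      rw [Subgroup.map_commutator, hQQ, Subgroup.subgroupOf_map_subtype, inf_eq_left.mpr hQΓ]
    rw [← h1] at hm
    obtain ⟨m', hm', hmm'⟩ := hm
    have : m' = m := Subtype.ext hmm'
    rw [← this]; exact hm'
  have hEp : (Nat.card ↥E).Prime := by rw [hcardE]; exact hrp
  have key : ∀ χ : (↥M ⧸ N.subgroupOf M) →* (LK p)ˣ, wproj ρ M N χ ≠ 0 →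
      ∀ x ∈ E, x • χ = χ := fun χ hχ =>
    smul_eq_of_finrank_fixedBy_le_one ρ M N E QQ hEp hfix hcharM hQM hMQ χ hχ
  have hNM : N ≤ M := bot_le
  have hcomm : ∀ a ∈ M, ∀ b ∈ M, a * b * a⁻¹ * b⁻¹ ∈ N := by
    intro a ha b hb
    rw [hN, Subgroup.mem_bot]
    have hb' : b ∈ QQ := by
      rw [hM, Subgroup.mem_subgroupOf] at hb
      rw [hQQ, Subgroup.mem_subgroupOf]
      exact (Subgroup.mem_inf.mp hb).1
    have h1 := hQM b hb' a ha
    rw [← h1]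
    group
  intro x hx z hz
  have hxΓ : x ∈ Γ := hXΓ hx
  have hzΓ : z ∈ Γ := hZΓ hz
  set x' : ↥Γ := ⟨x, hxΓ⟩ with hx'
  set z' : ↥Γ := ⟨z, hzΓ⟩ with hz'
  have hx'E : x' ∈ E := by rw [hE, Subgroup.mem_subgroupOf]; exact hx
  have hz'M : z' ∈ M := by rw [hM, Subgroup.mem_subgroupOf]; exact hz
  have hc1M : x' * z' * x'⁻¹ ∈ M := hMn.conj_mem z' hz'M x'
  have hcM : x' * z' * x'⁻¹ * z'⁻¹ ∈ M := M.mul_mem hc1M (M.inv_mem hz'M)
  have hρc : ρ (x' * z' * x'⁻¹ * z'⁻¹) = 1 := by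
    apply LinearMap.ext
    intro v
    have hv : v ∈ LinearMap.range (∑ χ : (↥M ⧸ N.subgroupOf M) →* (LK p)ˣ, wproj ρ M N χ) := by
      rw [range_sum_wproj ρ M N hNM hcomm hcharM, mem_fixedBy]
      intro n hn
      rw [hN, Subgroup.mem_bot] at hn
      rw [hn, map_one]; rfl
    obtain ⟨u, rfl⟩ := hv
    rw [LinearMap.sum_apply, map_sum]
    show _ = ∑ χ : (↥M ⧸ N.subgroupOf M) →* (LK p)ˣ, wproj ρ M N χ u
    apply Finset.sum_congr rfl
    intro χ _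
    by_cases hχ : wproj ρ M N χ = 0
    · rw [hχ]; simp
    · have h1 := wproj_act ρ M N χ ⟨x' * z' * x'⁻¹ * z'⁻¹, hcM⟩ u
      rw [h1]
      have h6 := key χ hχ x'⁻¹ (E.inv_mem hx'E)
      have h7 : (x'⁻¹ • χ) (QuotientGroup.mk (⟨z', hz'M⟩ : ↥M)) =
          χ (QuotientGroup.mk (⟨z', hz'M⟩ : ↥M)) := by rw [h6]
      have h8 : (x'⁻¹ • χ) (QuotientGroup.mk (⟨z', hz'M⟩ : ↥M)) =
          χ (kap M N (x'⁻¹)⁻¹ (QuotientGroup.mk (⟨z', hz'M⟩ : ↥M))) := rfl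
      rw [h8, kap_mk] at h7
      have h9 : (MulAut.conjNormal (x'⁻¹)⁻¹ (⟨z', hz'M⟩ : ↥M) : ↥M) =
          ⟨x' * z' * x'⁻¹, hc1M⟩ := by
        apply Subtype.ext
        rw [MulAut.conjNormal_apply, inv_inv]
      rw [h9] at h7
      have h10 : (⟨x' * z' * x'⁻¹ * z'⁻¹, hcM⟩ : ↥M) =
          ⟨x' * z' * x'⁻¹, hc1M⟩ * (⟨z', hz'M⟩ : ↥M)⁻¹ := rfl
      rw [h10, QuotientGroup.mk_mul, map_mul, h7, QuotientGroup.mk_inv, map_inv,
        mul_inv_cancel, Units.val_one, one_smul]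
  rw [hρ, linRep_eq_one_iff] at hρc
  have hcQ : x * z * x⁻¹ * z⁻¹ ∈ Q₁ :=
    Q₁.mul_mem (conj_mem_of_mem_normalizer (hXQ hx) (Subgroup.mem_inf.mp hz).1)
      (Q₁.inv_mem (Subgroup.mem_inf.mp hz).1)
  have h1 : x * z * x⁻¹ * z⁻¹ ∈ Q₁ ⊓ Subgroup.centralizer (V : Set G) :=
    Subgroup.mem_inf.mpr ⟨hcQ, hρc⟩
  rw [hfaith, Subgroup.mem_bot] at h1
  calc x * z = (x * z * x⁻¹ * z⁻¹) * z * x := by group
    _ = z * x := by rw [h1, one_mul]

end Main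

end Cfsg.Agent.Helper10.BG36S
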