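import Mathlib
import Cfsg.Prelude
import Cfsg.Agent.Lib.Helper1.Coprime
import Cfsg.Agent.Lib.Helper1.CommutatorBasic
import Cfsg.Agent.Lib.Helper10.BG36S1
import Cfsg.Agent.Lib.Helper10.BG36S3

/-!
# The special case of Lemma A for BG Theorem 3.6 (helper10 library)

`lemmaA_special`: the configuration with `Q₁` a non-abelian special-like `q`-group cannot occur.
-/

set_option autoImplicit false
set_option linter.unusedSectionVars false

namespace Cfsg.Agent.Helper10.BG36S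

open Module Cfsg.Agent.Helper8.FrobLin Cfsg.Agent.Helper8.SecRep Cfsg.Agent.Helper8.HHLin
open scoped commutatorElement

section Coprime

variable {G : Type*} [Group G] [Finite G]

/-- coprime action: `R = [R, A] C_R(A)` -/
theorem comm_sup_cent {p : ℕ} [Fact p.Prime] (R A : Subgroup G) (hR : IsPGroup p R)
    (hA : A ≤ Subgroup.normalizer (R : Set G)) (hcop : (Nat.card A).Coprime p) :
    ⁅R, A⁆ ⊔ (R ⊓ Subgroup.centralizer (A : Set G)) = R := by
  have hYR : ⁅R, A⁆ ≤ R := Helper1.commutator_le_of_le_normalizer hA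
  apply le_antisymm (sup_le hYR inf_le_left)
  intro x hx
  have hYp : IsPGroup p ↥⁅R, A⁆ := hR.to_le hYR
  have hcopY : (Nat.card A).Coprime (Nat.card ↥⁅R, A⁆) := by
    obtain ⟨n, hn⟩ := IsPGroup.iff_card.mp hYp
    rw [hn]
    exact Nat.Coprime.pow_right n hcop
  have hsolv : Group.IsSolvable ↥⁅R, A⁆ := by
    haveI : Group.IsNilpotent ↥⁅R, A⁆ := hYp.isNilpotent
    infer_instance
  have hxa : ∀ a ∈ A, x⁻¹ * a * x * a⁻¹ ∈ ⁅R, A⁆ := by
    intro a ha
    have h1 : x⁻¹ * a * x * a⁻¹ = ⁅x⁻¹, a⁆ := by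
      rw [commutatorElement_def]
      group
    rw [h1]
    exact Subgroup.commutator_mem_commutator (R.inv_mem hx) ha
  obtain ⟨c, hc, hxc⟩ := Helper1.exists_centralizer_mem_coset ⁅R, A⁆ A
    (Helper1.le_normalizer_commutator_right R A) hcopY (Or.inr hsolv) x hxa
  have hcR : c ∈ R := by
    have h1 : c = x * (x⁻¹ * c) := by group
    rw [h1]
    exact R.mul_mem hx (hYR hxc)
  have h2 : x = c * (x⁻¹ * c)⁻¹ := by group
  rw [h2]
  exact Subgroup.mul_mem _ (Subgroup.mem_sup_right (Subgroup.mem_inf.mpr ⟨hcR, hc⟩))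
    (Subgroup.mem_sup_left (Subgroup.inv_mem _ hxc))

theorem normalizer_le_normalizer_center (Q : Subgroup G) :
    Subgroup.normalizer (Q : Set G) ≤
      Subgroup.normalizer ((Q ⊓ Subgroup.centralizer (Q : Set G) : Subgroup G) : Set G) := by
  intro g hg
  rw [Subgroup.mem_normalizer_iff]
  intro z
  constructor
  · intro hz
    exact conj_mem_center_of_normalizer hg hz
  · intro hz
    have h1 := conj_mem_center_of_normalizer (Subgroup.inv_mem _ hg) hz
    have e : g⁻¹ * (g * z * g⁻¹) * g⁻¹⁻¹ = z := by group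
    rwa [e] at h1

end Coprime

section Main

variable {G : Type*} [Group G] [Finite G]

theorem fixed_le_center {p q r : ℕ} [Fact p.Prime] [Fact q.Prime] [Fact r.Prime]
    (hpq : p ≠ q) (hpr : p ≠ r) (hqr : q ≠ r) (V Q₁ X : Subgroup G)
    (hV : Cfsg.IsElementaryAbelian p V)
    (hQ : IsPGroup q ↥Q₁) (hX : Nat.card ↥X = r)
    (hQV : Q₁ ≤ Subgroup.normalizer (V : Set G)) (hXV : X ≤ Subgroup.normalizer (V : Set G))
    (hXQ : X ≤ Subgroup.normalizer (Q₁ : Set G))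
    (hfaith : Q₁ ⊓ Subgroup.centralizer (V : Set G) = ⊥)
    (hCV : Nat.card ↥(V ⊓ Subgroup.centralizer (X : Set G)) ≤ p)
    (hCQ : IsCyclic ↥(Q₁ ⊓ Subgroup.centralizer (X : Set G)))
    (hZ : ⁅Q₁, Q₁⁆ = Q₁ ⊓ Subgroup.centralizer (Q₁ : Set G)) :
    Q₁ ⊓ Subgroup.centralizer (X : Set G) ≤ Q₁ ⊓ Subgroup.centralizer (Q₁ : Set G) := by
  have hqp : q.Prime := Fact.out
  have hrp : r.Prime := Fact.out
  have hstep1 := centralizes_center hpq hpr V Q₁ X hV hQ hX hQV hXV hXQ hfaith hCV hZ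
  intro c hc
  obtain ⟨hcQ, hcX⟩ := Subgroup.mem_inf.mp hc
  refine Subgroup.mem_inf.mpr ⟨hcQ, ?_⟩
  have hQX : ⁅Q₁, X⁆ ≤ Q₁ := Helper1.commutator_le_of_le_normalizer hXQ
  have hcomm : ⁅Q₁, X⁆ ≤ Subgroup.centralizer ({c} : Set G) := by
    rw [Subgroup.commutator_le]
    intro g hg x hx
    rw [Subgroup.mem_centralizer_iff]
    intro y hy
    rw [Set.mem_singleton_iff] at hy
    subst hy
    rw [commutatorElement_def]
    set k : G := y * g * y⁻¹ * g⁻¹ with hk
    have hkZ : k ∈ Q₁ ⊓ Subgroup.centralizer (Q₁ : Set G) := by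
      rw [← hZ]
      have : k = ⁅y, g⁆ := by rw [commutatorElement_def]
      rw [this]
      exact Subgroup.commutator_mem_commutator hcQ hg
    have hkx : x * k = k * x := hstep1 x hx k hkZ
    have hwQ : g * x * g⁻¹ * x⁻¹ ∈ Q₁ := by
      have : g * x * g⁻¹ * x⁻¹ = ⁅g, x⁆ := by rw [commutatorElement_def]
      rw [this]
      exact hQX (Subgroup.commutator_mem_commutator hg hx)
    have hkw : (g * x * g⁻¹ * x⁻¹) * k = k * (g * x * g⁻¹ * x⁻¹) :=
      Subgroup.mem_centralizer_iff.mp (Subgroup.mem_inf.mp hkZ).2 _ hwQ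
    have hxy : x * y = y * x := Subgroup.mem_centralizer_iff.mp hcX x hx
    have e1 : y * x * y⁻¹ = x := by
      rw [← hxy]; group
    have e2 : y * g * y⁻¹ = k * g := by
      rw [hk]; group
    have e3 : k⁻¹ * x⁻¹ = x⁻¹ * k⁻¹ := by
      rw [← mul_inv_rev, ← mul_inv_rev, hkx]
    calc y * (g * x * g⁻¹ * x⁻¹)
        = (y * g * y⁻¹) * (y * x * y⁻¹) * (y * g * y⁻¹)⁻¹ * (y * x * y⁻¹)⁻¹ * y := by group
      _ = (k * g) * x * (k * g)⁻¹ * x⁻¹ * y := by rw [e1, e2]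
      _ = k * (g * x * g⁻¹) * (k⁻¹ * x⁻¹) * y := by group
      _ = k * (g * x * g⁻¹) * (x⁻¹ * k⁻¹) * y := by rw [e3]
      _ = (k * (g * x * g⁻¹ * x⁻¹)) * k⁻¹ * y := by group
      _ = ((g * x * g⁻¹ * x⁻¹) * k) * k⁻¹ * y := by rw [hkw]
      _ = g * x * g⁻¹ * x⁻¹ * y := by group
  have hcyc : Q₁ ⊓ Subgroup.centralizer (X : Set G) ≤ Subgroup.centralizer ({c} : Set G) := by
    intro y hy
    rw [Subgroup.mem_centralizer_iff]
    intro z hz
    rw [Set.mem_singleton_iff] at hz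
    subst hz
    have := (IsCyclic.isMulCommutative
      (α := ↥(Q₁ ⊓ Subgroup.centralizer (X : Set G)))).is_comm.comm ⟨z, hc⟩ ⟨y, hy⟩
    exact congrArg Subtype.val this
  have hcopX : (Nat.card ↥X).Coprime q := by
    rw [hX]
    exact (Nat.coprime_primes hrp hqp).mpr (Ne.symm hqr)
  have hdec := comm_sup_cent Q₁ X hQ hXQ hcopX
  have hall : Q₁ ≤ Subgroup.centralizer ({c} : Set G) := by
    rw [← hdec]
    exact sup_le hcomm hcyc
  rw [Subgroup.mem_centralizer_iff]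
  intro h hh
  have := Subgroup.mem_centralizer_iff.mp (hall hh) c (Set.mem_singleton c)
  exact this.symm

/-- **Lemma A, special case**: the configuration with `Q₁` non-abelian, `Q₁' = Z(Q₁)`,
`Q₁ / Z(Q₁)` of exponent `q`, and `Q₁ = [Q₁, P₁]` does not occur. -/
theorem lemmaA_special (hodd : Odd (Nat.card G)) {p q r : ℕ} [Fact p.Prime] [Fact q.Prime]
    [Fact r.Prime] (hpq : p ≠ q) (hpr : p ≠ r) (hqr : q ≠ r) (V Q₁ P₁ X : Subgroup G)
    (hV : Cfsg.IsElementaryAbelian p V) (hQ : IsPGroup q ↥Q₁) (hP₁ : IsPGroup p ↥P₁)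
    (hX : Nat.card ↥X = r)
    (hQV : Q₁ ≤ Subgroup.normalizer (V : Set G)) (hXV : X ≤ Subgroup.normalizer (V : Set G))
    (hPQ : P₁ ≤ Subgroup.normalizer (Q₁ : Set G)) (hXQ : X ≤ Subgroup.normalizer (Q₁ : Set G))
    (hXP : X ≤ Subgroup.normalizer (P₁ : Set G))
    (hfaith : Q₁ ⊓ Subgroup.centralizer (V : Set G) = ⊥)
    (hcomm : ⁅P₁, X⁆ = P₁)
    (hCV : Nat.card ↥(V ⊓ Subgroup.centralizer (X : Set G)) ≤ p)
    (hCQ : IsCyclic ↥(Q₁ ⊓ Subgroup.centralizer (X : Set G)))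
    (hZ : ⁅Q₁, Q₁⁆ = Q₁ ⊓ Subgroup.centralizer (Q₁ : Set G))
    (hpow : ∀ a ∈ Q₁, a ^ q ∈ Q₁ ⊓ Subgroup.centralizer (Q₁ : Set G))
    (hQP : ⁅Q₁, P₁⁆ = Q₁) (hna : ¬ IsMulCommutative ↥Q₁) : False := by
  classical
  have hpp : p.Prime := Fact.out
  have hqp : q.Prime := Fact.out
  have hrp : r.Prime := Fact.out
  set Zs : Subgroup G := Q₁ ⊓ Subgroup.centralizer (Q₁ : Set G) with hZs
  have hsec : IsSec Q₁ Zs q :=
    { le := inf_le_left
      normal := fun x hx n hn => conj_mem_center_of_normalizer (Subgroup.le_normalizer hx) hn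
      comm := by
        intro x hx y hy
        rw [← hZ]
        have : x * y * x⁻¹ * y⁻¹ = ⁅x, y⁆ := by rw [commutatorElement_def]
        rw [this]
        exact Subgroup.commutator_mem_commutator hx hy
      pow := hpow }
  have hXnn : X ≤ nn Q₁ Zs := by
    intro x hx
    exact mem_nn.mpr ⟨hXQ hx, normalizer_le_normalizer_center Q₁ (hXQ hx)⟩
  have hPnn : P₁ ≤ nn Q₁ Zs := by
    intro x hx
    exact mem_nn.mpr ⟨hPQ hx, normalizer_le_normalizer_center Q₁ (hPQ hx)⟩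
  have hZq : IsPGroup q ↥Zs := hQ.to_le inf_le_left
  have hcop : (Nat.card ↥X).Coprime (Nat.card ↥Zs) := by
    obtain ⟨n, hn⟩ := hZq.exists_card_eq
    rw [hX, hn]
    exact Nat.Coprime.pow_right n ((Nat.coprime_primes hrp hqp).mpr (Ne.symm hqr))
  have hCL : Q₁ ⊓ Subgroup.centralizer (X : Set G) ≤ Zs :=
    fixed_le_center hpq hpr hqr V Q₁ X hV hQ hX hQV hXV hXQ hfaith hCV hCQ hZ
  -- `P₁` is non-trivial, so `p` is odd
  have hP₁ne : P₁ ≠ ⊥ := by
    intro h0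
    apply hna
    have h1 : Q₁ = ⊥ := by
      rw [← hQP, h0]
      exact Subgroup.commutator_bot_right Q₁
    constructor
    constructor
    intro a b
    have hall : ∀ g ∈ Q₁, g = 1 := by
      intro g hg
      rw [h1, Subgroup.mem_bot] at hg
      exact hg
    have ha : (a : G) = 1 := hall _ a.2
    have hb : (b : G) = 1 := hall _ b.2
    apply Subtype.ext
    rw [Subgroup.coe_mul, Subgroup.coe_mul, ha, hb]
  have hp2 : p ≠ 2 := by
    intro h2
    have h3 : p ∣ Nat.card ↥P₁ := by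
      obtain ⟨n, hn⟩ := hP₁.exists_card_eq
      rw [hn]
      have hn0 : n ≠ 0 := by
        intro h0
        rw [h0, pow_zero] at hn
        exact hP₁ne (Subgroup.card_eq_one.mp hn)
      exact dvd_pow_self p hn0
    have h4 : p ∣ Nat.card G := h3.trans (Subgroup.card_subgroup_dvd_card P₁)
    rw [h2] at h4
    exact (Nat.not_even_iff_odd.mpr hodd) (even_iff_two_dvd.mpr h4)
  have hexc : ¬ (p = 2 ∧ ∃ m : ℕ, r = 2 ^ m + 1) := fun h => hp2 h.1
  have hT := sec_lin_hh_rel q hpp hrp (Ne.symm hpq) hqr hpr X P₁ Q₁ Zs hsec hX hP₁ hXP hXnn hPnn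
    hcop hCL (Or.inl hexc)
  rw [Subgroup.commutator_comm, hcomm] at hT
  have hQZ : Q₁ ≤ Zs := by
    rw [← hQP, Subgroup.commutator_le]
    intro a ha g hg
    have h1 := (mem_actKer.mp (hT hg)).2 a ha
    have h2 : ⁅a, g⁆ = (g * a * g⁻¹ * a⁻¹)⁻¹ := by
      rw [commutatorElement_def]; group
    rw [h2]
    exact Zs.inv_mem h1
  apply hna
  constructor
  constructor
  intro a b
  apply Subtype.ext
  have h1 := Subgroup.mem_centralizer_iff.mp (Subgroup.mem_inf.mp (hQZ b.2)).2 (a : G) a.2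
  exact h1

end Main

end Cfsg.Agent.Helper10.BG36S
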