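import Mathlib
import Cfsg.Prelude
import Cfsg.Agent.Lib.Helper1.Coprime
import Cfsg.Agent.Lib.Helper1.CommutatorBasic
import Cfsg.Agent.Lib.Helper10.BG36K1
import Cfsg.Agent.Lib.Helper10.BG36S4

/-!
# Case (ii) of the core of BG Theorem 3.6 (helper10 library)
-/

set_option autoImplicit false
set_option linter.unusedSectionVars false

namespace Cfsg.Agent.Helper10.BG36K

open scoped commutatorElement
open Cfsg.Agent.Helper10.BG36S

/-- the statement of Lemma A (helper25's `lemmaA`, with the oddness hypothesis discharged) -/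
def LemmaA (G : Type*) [Group G] [Finite G] : Prop :=
  ∀ (p q r : ℕ), p.Prime → q.Prime → r.Prime → p ≠ q → p ≠ r → q ≠ r →
    ∀ (V Q P₁ X : Subgroup G), Cfsg.IsElementaryAbelian p V → IsPGroup q ↥Q → IsPGroup p ↥P₁ →
      Nat.card ↥X = r → Q ≤ Subgroup.normalizer (V : Set G) →
      P₁ ≤ Subgroup.normalizer (V : Set G) → X ≤ Subgroup.normalizer (V : Set G) →
      P₁ ≤ Subgroup.normalizer (Q : Set G) → X ≤ Subgroup.normalizer (Q : Set G) →
      X ≤ Subgroup.normalizer (P₁ : Set G) → Q ⊓ Subgroup.centralizer (V : Set G) = ⊥ →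
      ⁅P₁, X⁆ = P₁ →
      P₁ ⊓ Subgroup.centralizer (X : Set G) ≤ Subgroup.centralizer (Q : Set G) →
      Nat.card ↥(V ⊓ Subgroup.centralizer (X : Set G)) ≤ p →
      IsCyclic ↥(Q ⊓ Subgroup.centralizer (X : Set G)) →
      P₁ ≤ Subgroup.centralizer (Q : Set G)

section Coprime

variable {G : Type*} [Group G] [Finite G]

/-- coprime action: `[R, A, A] = [R, A]` -/
theorem comm_comm_eq {p : ℕ} [Fact p.Prime] (R A : Subgroup G) (hR : IsPGroup p R)
    (hA : A ≤ Subgroup.normalizer (R : Set G)) (hcop : (Nat.card A).Coprime p) :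
    ⁅⁅R, A⁆, A⁆ = ⁅R, A⁆ := by
  have hAY : A ≤ Subgroup.normalizer ((⁅R, A⁆ : Subgroup G) : Set G) :=
    Helper1.le_normalizer_commutator_right R A
  have hCY : R ⊓ Subgroup.centralizer (A : Set G) ≤
      Subgroup.normalizer ((⁅R, A⁆ : Subgroup G) : Set G) :=
    inf_le_left.trans (Helper1.le_normalizer_commutator_left R A)
  apply le_antisymm (Helper1.commutator_le_of_le_normalizer hAY)
  rw [Subgroup.commutator_le]
  intro x hx a ha
  have hx' : x ∈ ⁅R, A⁆ ⊔ (R ⊓ Subgroup.centralizer (A : Set G)) := by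
    rw [comm_sup_cent R A hR hA hcop]
    exact hx
  obtain ⟨y, hy, c, hc, rfl⟩ := Helper1.exists_mul_of_mem_sup hCY hx'
  have hca : ⁅c, a⁆ = 1 := by
    rw [commutatorElement_eq_one_iff_mul_comm]
    exact ((Subgroup.mem_centralizer_iff.mp (Subgroup.mem_inf.mp hc).2) a ha).symm
  have h1 : ⁅y * c, a⁆ = y * ⁅c, a⁆ * y⁻¹ * ⁅y, a⁆ := by
    simp only [commutatorElement_def]
    group
  rw [h1, hca, mul_one, mul_inv_cancel, one_mul]
  exact Subgroup.commutator_mem_commutator hy ha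

theorem normalizer_inf_le (A B : Subgroup G) :
    Subgroup.normalizer (A : Set G) ⊓ Subgroup.normalizer (B : Set G) ≤
      Subgroup.normalizer ((A ⊓ B : Subgroup G) : Set G) := by
  intro g hg
  obtain ⟨hA, hB⟩ := Subgroup.mem_inf.mp hg
  rw [Subgroup.mem_normalizer_iff] at hA hB ⊢
  intro h
  rw [Subgroup.mem_inf, Subgroup.mem_inf, hA h, hB h]

end Coprime

section CaseTwo

variable {G : Type*} [Group G] [Finite G]

theorem case_two (hA : LemmaA G) {p q r : ℕ} [Fact p.Prime] [Fact q.Prime] [Fact r.Prime]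
    (hpq : p ≠ q) (hpr : p ≠ r) (hqr : q ≠ r)
    (V N P X : Subgroup G) [V.Normal] [N.Normal]
    (hV : Cfsg.IsElementaryAbelian p V) (hVN : V ≤ N) (hVP : V ≤ P)
    (hNq : ∀ n ∈ N, ∃ k : ℕ, n ^ q ^ k ∈ V)
    (hP : IsPGroup p ↥P) (hX : Nat.card ↥X = r)
    (hXP : X ≤ Subgroup.normalizer (P : Set G))
    (hcopN : (Nat.card ↥X).Coprime (Nat.card ↥N))
    (hfaith : N ⊓ Subgroup.centralizer (V : Set G) ≤ V)
    (hCV : Nat.card ↥(V ⊓ Subgroup.centralizer (X : Set G)) ≤ p)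
    (hcyc : ∀ Q : Subgroup G, Q ≤ N → IsPGroup q ↥Q →
      IsCyclic ↥(Q ⊓ Subgroup.centralizer (X : Set G)))
    (hCPX : P ⊓ Subgroup.centralizer (X : Set G) ≤ V) :
    ⁅N, P⁆ ≤ V := by
  classical
  have hpp : p.Prime := Fact.out
  have hqp : q.Prime := Fact.out
  have hrp : r.Prime := Fact.out
  have hVp : IsPGroup p ↥V := by
    intro v
    refine ⟨1, ?_⟩
    apply Subtype.ext
    rw [pow_one, Subgroup.coe_pow]
    exact hV.2 v v.2
  have hXsolv : Group.IsSolvable ↥X := by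
    haveI : Fact (Nat.card ↥X).Prime := ⟨by rw [hX]; exact hrp⟩
    haveI : IsCyclic ↥X := isCyclic_of_prime_card rfl
    exact isSolvable_of_comm (fun a b => (IsCyclic.isMulCommutative (α := ↥X)).is_comm.comm a b)
  obtain ⟨Q, hQq, hQN, hsup, hXQ, hfrat⟩ :=
    exists_sylow_lift V N X hVN hNq hcopN (Or.inl hXsolv)
  have hVQ : V ⊓ Q = ⊥ := disjoint_of_isPGroup hpq V Q hVp hQq
  have htop : ∀ K : Subgroup G, K ≤ Subgroup.normalizer (V : Set G) := by
    intro K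
    rw [Subgroup.normalizer_eq_top]; exact le_top
  set NQ : Subgroup G := Subgroup.normalizer (Q : Set G) with hNQ
  set P₃ : Subgroup G := P ⊓ NQ with hP₃
  have hPsup : P = V ⊔ P₃ := by
    apply le_antisymm
    · intro g hg
      have hg' : g ∈ V ⊔ NQ := by rw [hfrat]; trivial
      obtain ⟨v, hv, n, hn, rfl⟩ := Subgroup.mem_sup_of_normal_left.mp hg'
      have hnP : n ∈ P := by
        have : n = v⁻¹ * (v * n) := by group
        rw [this]
        exact P.mul_mem (P.inv_mem (hVP hv)) hg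
      exact Subgroup.mul_mem _ (Subgroup.mem_sup_left hv)
        (Subgroup.mem_sup_right (Subgroup.mem_inf.mpr ⟨hnP, hn⟩))
    · exact sup_le hVP inf_le_left
  have hXNQ : X ≤ Subgroup.normalizer (NQ : Set G) := hXQ.trans Subgroup.le_normalizer
  have hXP₃ : X ≤ Subgroup.normalizer (P₃ : Set G) :=
    (le_inf hXP hXNQ).trans (normalizer_inf_le P NQ)
  have hP₃p : IsPGroup p ↥P₃ := hP.to_le inf_le_left
  have hcopX : (Nat.card ↥X).Coprime p := by
    rw [hX]
    exact (Nat.coprime_primes hrp hpp).mpr (Ne.symm hpr)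
  set P₁ : Subgroup G := ⁅P₃, X⁆ with hP₁
  have hP₁P₃ : P₁ ≤ P₃ := Helper1.commutator_le_of_le_normalizer hXP₃
  have hP₁p : IsPGroup p ↥P₁ := hP₃p.to_le hP₁P₃
  have hcomm : ⁅P₁, X⁆ = P₁ := comm_comm_eq P₃ X hP₃p hXP₃ hcopX
  have hXP₁ : X ≤ Subgroup.normalizer (P₁ : Set G) := Helper1.le_normalizer_commutator_right P₃ X
  have hfixP₃ : P₃ ⊓ Subgroup.centralizer (X : Set G) ≤ Subgroup.centralizer (Q : Set G) := by
    intro g hg
    obtain ⟨hg3, hgX⟩ := Subgroup.mem_inf.mp hg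
    obtain ⟨hgP, hgN⟩ := Subgroup.mem_inf.mp hg3
    have hgV : g ∈ V := hCPX (Subgroup.mem_inf.mpr ⟨hgP, hgX⟩)
    exact inf_normalizer_le_centralizer V Q hVQ (Subgroup.mem_inf.mpr ⟨hgV, hgN⟩)
  have hfaithQ : Q ⊓ Subgroup.centralizer (V : Set G) = ⊥ := by
    rw [eq_bot_iff, ← hVQ]
    intro g hg
    obtain ⟨hgQ, hgC⟩ := Subgroup.mem_inf.mp hg
    exact Subgroup.mem_inf.mpr ⟨hfaith (Subgroup.mem_inf.mpr ⟨hQN hgQ, hgC⟩), hgQ⟩
  have hP₁Q : P₁ ≤ Subgroup.centralizer (Q : Set G) :=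
    hA p q r hpp hqp hrp hpq hpr hqr V Q P₁ X hV hQq hP₁p hX (htop Q) (htop P₁) (htop X)
      (hP₁P₃.trans inf_le_right) hXQ hXP₁ hfaithQ hcomm
      ((inf_le_inf_right _ hP₁P₃).trans hfixP₃) hCV (hcyc Q hQN hQq)
  have hP₃Q : P₃ ≤ Subgroup.centralizer (Q : Set G) := by
    rw [← comm_sup_cent P₃ X hP₃p hXP₃ hcopX]
    exact sup_le hP₁Q hfixP₃
  have hQP₃ : ⁅Q, P₃⁆ ≤ V := by
    have : ⁅Q, P₃⁆ = ⊥ := by
      rw [Subgroup.commutator_comm, Subgroup.commutator_eq_bot_iff_le_centralizer]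
      exact hP₃Q
    rw [this]; exact bot_le
  have := commutator_sup_le V Q P₃ hQP₃
  rw [hsup, ← hPsup] at this
  exact this

end CaseTwo

end Cfsg.Agent.Helper10.BG36K
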