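import Mathlib
import Cfsg.Prelude
import Cfsg.Agent.Lib.Helper3.BG36R1
import Cfsg.Agent.Lib.Helper10.BG36K2

/-!
# Case (i) of the core of BG Theorem 3.6: the local step (helper10 library)
-/

set_option autoImplicit false
set_option linter.unusedSectionVars false

namespace Cfsg.Agent.Helper10.BG36K

open scoped commutatorElement

section CaseOne

variable {G : Type*} [Group G] [Finite G]

theorem case_one_step {p q r : ℕ} [Fact p.Prime] [Fact q.Prime] [Fact r.Prime]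
    (hpq : p ≠ q) (hpr : p ≠ r) (hqr : q ≠ r) (hq2 : q ≠ 2)
    (H V N X : Subgroup G) [V.Normal] [N.Normal]
    [IsZGroup ↥(H ⊓ Subgroup.centralizer (X : Set G))]
    (hV : Cfsg.IsElementaryAbelian p V) (hVH : V ≤ H) (hVN : V ≤ N)
    (hNq : ∀ n ∈ N, ∃ k : ℕ, n ^ q ^ k ∈ V) (hX : Nat.card ↥X = r)
    (hcopN : (Nat.card ↥X).Coprime (Nat.card ↥N))
    (hfaith : N ⊓ Subgroup.centralizer (V : Set G) ≤ V)
    (y : G) (hyH : y ∈ H) (hyX : y ∈ Subgroup.centralizer (X : Set G))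
    (hyp : ∃ k : ℕ, y ^ p ^ k = 1) (hyV : y ∉ V) :
    ⁅N, X⁆ ≤ V := by
  classical
  have hpp : p.Prime := Fact.out
  have hqp : q.Prime := Fact.out
  have hrp : r.Prime := Fact.out
  have hVp : IsPGroup p ↥V := by
    intro v
    refine ⟨1, ?_⟩
    apply Subtype.ext
    rw [pow_one, Subgroup.coe_pow]
    exact hV.2 v v.2
  have hVc : ∀ a ∈ V, ∀ b ∈ V, a * b = b * a := by
    intro a ha b hb
    have := hV.1.is_comm.comm ⟨a, ha⟩ ⟨b, hb⟩
    exact congrArg Subtype.val this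
  have hXsolv : Group.IsSolvable ↥X := by
    haveI : Fact (Nat.card ↥X).Prime := ⟨by rw [hX]; exact hrp⟩
    haveI : IsCyclic ↥X := isCyclic_of_prime_card rfl
    exact isSolvable_of_comm (fun a b => (IsCyclic.isMulCommutative (α := ↥X)).is_comm.comm a b)
  obtain ⟨Q, hQq, hQN, hsup, hXQ, hfrat⟩ :=
    exists_sylow_lift V N X hVN hNq hcopN (Or.inl hXsolv)
  have hVQ : V ⊓ Q = ⊥ := disjoint_of_isPGroup hpq V Q hVp hQq
  have htop : ∀ K : Subgroup G, K ≤ Subgroup.normalizer (V : Set G) := by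
    intro K
    rw [Subgroup.normalizer_eq_top]; exact le_top
  set NQ : Subgroup G := Subgroup.normalizer (Q : Set G) with hNQ
  set D : Subgroup G := V ⊓ NQ with hD
  have hXNQ : X ≤ Subgroup.normalizer (NQ : Set G) := hXQ.trans Subgroup.le_normalizer
  have hXD : X ≤ Subgroup.normalizer (D : Set G) :=
    (le_inf (htop X) hXNQ).trans (normalizer_inf_le V NQ)
  have hDp : IsPGroup p ↥D := hVp.to_le inf_le_left
  have hcopD : (Nat.card ↥X).Coprime (Nat.card ↥D) := by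
    obtain ⟨n, hn⟩ := hDp.exists_card_eq
    rw [hX, hn]
    exact Nat.Coprime.pow_right n ((Nat.coprime_primes hrp hpp).mpr (Ne.symm hpr))
  -- write `y = v * n₁`
  have hy' : y ∈ V ⊔ NQ := by rw [hfrat]; trivial
  obtain ⟨v, hv, n₁, hn₁, hvn⟩ := Subgroup.mem_sup_of_normal_left.mp hy'
  have hcoset : ∀ a ∈ X, n₁⁻¹ * a * n₁ * a⁻¹ ∈ D := by
    intro a ha
    refine Subgroup.mem_inf.mpr ⟨?_, ?_⟩
    · have hay : a * y = y * a := Subgroup.mem_centralizer_iff.mp hyX a ha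
      have hn₁' : n₁ = v⁻¹ * y := by rw [← hvn]; group
      have e : n₁⁻¹ * a * n₁ * a⁻¹ = y⁻¹ * (v * (a * v⁻¹ * a⁻¹)) * y⁻¹⁻¹ := by
        rw [hn₁']
        have h1 : y * a⁻¹ = a⁻¹ * y := by
          calc y * a⁻¹ = a⁻¹ * (a * y) * a⁻¹ := by group
            _ = a⁻¹ * (y * a) * a⁻¹ := by rw [hay]
            _ = a⁻¹ * y := by group
        calc (v⁻¹ * y)⁻¹ * a * (v⁻¹ * y) * a⁻¹ = y⁻¹ * v * a * v⁻¹ * (y * a⁻¹) := by group
          _ = y⁻¹ * v * a * v⁻¹ * (a⁻¹ * y) := by rw [h1]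
          _ = y⁻¹ * (v * (a * v⁻¹ * a⁻¹)) * y⁻¹⁻¹ := by group
      rw [e]
      apply ‹V.Normal›.conj_mem
      exact V.mul_mem hv (‹V.Normal›.conj_mem v⁻¹ (V.inv_mem hv) a)
    · have h1 : a * n₁ * a⁻¹ ∈ NQ :=
        NQ.mul_mem (NQ.mul_mem (hXQ ha) hn₁) (NQ.inv_mem (hXQ ha))
      have e : n₁⁻¹ * a * n₁ * a⁻¹ = n₁⁻¹ * (a * n₁ * a⁻¹) := by group
      rw [e]
      exact NQ.mul_mem (NQ.inv_mem hn₁) h1
  obtain ⟨c, hcX, hcD⟩ := Helper1.exists_centralizer_mem_coset D X hXD hcopD (Or.inl hXsolv)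
    n₁ hcoset
  obtain ⟨hcDV, hcDN⟩ := Subgroup.mem_inf.mp hcD
  -- `c = n₁ * d = v⁻¹ * y * d`
  have hcNQ : c ∈ NQ := by
    have : c = n₁ * (n₁⁻¹ * c) := by group
    rw [this]
    exact NQ.mul_mem hn₁ hcDN
  have hc_eq : c = v⁻¹ * y * (n₁⁻¹ * c) := by
    rw [← hvn]; group
  have hcH : c ∈ H := by
    rw [hc_eq]
    exact H.mul_mem (H.mul_mem (H.inv_mem (hVH hv)) hyH) (hVH hcDV)
  have hcV : c ∉ V := by
    intro hcV
    apply hyV
    have : y = v * c * (n₁⁻¹ * c)⁻¹ := by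
      rw [← hvn]; group
    rw [this]
    exact V.mul_mem (V.mul_mem hv hcV) (V.inv_mem hcDV)
  have hcp : ∃ k : ℕ, c ^ p ^ k = 1 := by
    have hBp : IsPGroup p ↥(Subgroup.zpowers y) := by
      obtain ⟨k, hk⟩ := hyp
      intro z
      obtain ⟨j, hj⟩ := Subgroup.mem_zpowers_iff.mp z.2
      refine ⟨k, ?_⟩
      apply Subtype.ext
      rw [Subgroup.coe_pow, Subgroup.coe_one, ← hj, ← zpow_natCast, ← zpow_mul, mul_comm,
        zpow_mul, zpow_natCast, hk, one_zpow]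
    have hsupp : IsPGroup p ↥(Subgroup.zpowers y ⊔ V) :=
      IsPGroup.to_sup_of_normal_right' hBp hVp (htop _)
    have hcmem : c ∈ Subgroup.zpowers y ⊔ V := by
      rw [hc_eq]
      exact Subgroup.mul_mem _ (Subgroup.mul_mem _
        (Subgroup.mem_sup_right (V.inv_mem hv))
        (Subgroup.mem_sup_left (Subgroup.mem_zpowers y)))
        (Subgroup.mem_sup_right hcDV)
    obtain ⟨k, hk⟩ := hsupp ⟨c, hcmem⟩
    refine ⟨k, ?_⟩
    have := congrArg Subtype.val hk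
    simpa using this
  have hfix : V ⊓ Subgroup.centralizer (X : Set G) ≤ Subgroup.centralizer (Q : Set G) :=
    Helper3.BG36R.key_trick H V Q X hVH hVp hV.2 (htop Q) hVQ c hcH hcX hcNQ (htop ⊤ trivial)
      hcp hcV
  have hfaithQ : Q ⊓ Subgroup.centralizer (V : Set G) = ⊥ := by
    rw [eq_bot_iff, ← hVQ]
    intro g hg
    obtain ⟨hgQ, hgC⟩ := Subgroup.mem_inf.mp hg
    exact Subgroup.mem_inf.mpr ⟨hfaith (Subgroup.mem_inf.mpr ⟨hQN hgQ, hgC⟩), hgQ⟩
  have hQX : Q ≤ Subgroup.centralizer (X : Set G) :=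
    Helper3.BG36R.le_centralizer_of_fixed_le hqp hrp hpq hpr hqr hq2 V Q X hVp hVc hQq hX hXQ
      (htop X) (htop Q) hfaithQ hfix
  have hQX' : ⁅Q, X⁆ ≤ V := by
    have : ⁅Q, X⁆ = ⊥ := by
      rw [Subgroup.commutator_eq_bot_iff_le_centralizer]
      exact hQX
    rw [this]; exact bot_le
  have h1 := commutator_sup_le V Q X hQX'
  rw [hsup] at h1
  exact (Subgroup.commutator_mono le_rfl le_sup_right).trans h1

end CaseOne

end Cfsg.Agent.Helper10.BG36K
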