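import Mathlib
import Cfsg.Prelude
import Cfsg.Agent.Lib.Helper14.Basic
import Cfsg.Agent.Lib.Helper10.BG36K3
import Cfsg.Agent.Lib.Helper10.BG36K4

/-!
# The core of BG Theorem 3.6 (helper10 library)

`core`: `G = H R` solvable of odd order, `H` a normal Hall subgroup with complement `R`, `X ≤ R` of
prime order with `C_H(X)` a Z-group, `H = [H, R]`, `V` a normal elementary abelian `p`-subgroup of
`G` inside `H` which is self-centralising in `H` and contains every normal `p`-subgroup of `G`
inside `H`.  Then `H / V` is a `p'`-group.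
-/

set_option autoImplicit false
set_option linter.unusedSectionVars false

namespace Cfsg.Agent.Helper10.BG36K

open scoped commutatorElement

universe u

theorem core {G : Type u} [Group G] [Finite G] [Group.IsSolvable G] (hodd : Odd (Nat.card G))
    (H R X : Subgroup G) [H.Normal] (hHall : (Nat.card H).Coprime H.index)
    (hR : Subgroup.IsComplement' H R) (hXR : X ≤ R) (hXp : (Nat.card X).Prime)
    (hZ : IsZGroup ↥(H ⊓ Subgroup.centralizer (X : Set G))) (p : ℕ) [Fact p.Prime]
    (hHR : ⁅H, R⁆ = H) (V : Subgroup G) [V.Normal] (hVH : V ≤ H)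
    (hV : Cfsg.IsElementaryAbelian p V)
    (hCV : H ⊓ Subgroup.centralizer (V : Set G) ≤ V)
    (hmax : ∀ N : Subgroup G, N.Normal → N ≤ H → IsPGroup p ↥N → N ≤ V)
    (hA : LemmaA G) : ¬ p ∣ V.relIndex H := by
  classical
  intro hdvd
  haveI : Fact (Nat.card ↥X).Prime := ⟨hXp⟩
  have hpp : p.Prime := Fact.out
  have hcardR : H.index = Nat.card ↥R := hR.symm.index_eq_card
  have hcopHR : (Nat.card ↥H).Coprime (Nat.card ↥R) := by rw [← hcardR]; exact hHall
  have hcopX : (Nat.card ↥X).Coprime (Nat.card ↥H) :=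
    Nat.Coprime.coprime_dvd_left (Subgroup.card_dvd_of_le hXR) hcopHR.symm
  have hoddH : Odd (Nat.card ↥H) := Odd.of_dvd_nat hodd (Subgroup.card_subgroup_dvd_card H)
  have hsolvH : Group.IsSolvable ↥H := inferInstance
  have hpH : p ∣ Nat.card ↥H := hdvd.trans (Subgroup.relIndex_dvd_card V H)
  have hpr : p ≠ Nat.card ↥X := by
    intro h
    have h1 : p ∣ Nat.gcd (Nat.card ↥X) (Nat.card ↥H) := Nat.dvd_gcd (by rw [← h]) hpH
    rw [Nat.Coprime.gcd_eq_one hcopX, Nat.dvd_one] at h1
    exact hpp.one_lt.ne' h1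
  have hVp : IsPGroup p ↥V := by
    intro v
    refine ⟨1, ?_⟩
    apply Subtype.ext
    rw [pow_one, Subgroup.coe_pow]
    exact hV.2 v v.2
  have hXH : X ≤ Subgroup.normalizer (H : Set G) := by
    rw [Subgroup.normalizer_eq_top]; exact le_top
  obtain ⟨P', hP'⟩ := Helper1.exists_invariant_sylow (p := p) (K := H) X hXH hcopX (Or.inr hsolvH)
  set P : Subgroup G := (P' : Subgroup ↥H).map H.subtype with hPdef
  have hPH : P ≤ H := Subgroup.map_subtype_le _
  have hP : IsPGroup p ↥P := P'.2.map H.subtype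
  have hVP' : V.subgroupOf H ≤ (P' : Subgroup ↥H) := by
    haveI : (V.subgroupOf H).Normal := Subgroup.Normal.subgroupOf ‹V.Normal› H
    exact (Cfsg.Agent.Helper14.le_pCore inferInstance hVp.comap_subtype).trans
      (Cfsg.Agent.Helper14.pCore_le_sylow P')
  have hVP : V ≤ P := by
    intro v hv
    exact ⟨⟨v, hVH hv⟩, hVP' (Subgroup.mem_subgroupOf.mpr hv), rfl⟩
  have hCVcard : Nat.card ↥(V ⊓ Subgroup.centralizer (X : Set G)) ≤ p := by
    haveI : IsCyclic ↥(V ⊓ Subgroup.centralizer (X : Set G)) :=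
      Helper3.BG36R.isCyclic_of_le_zgroup (C := H ⊓ Subgroup.centralizer (X : Set G))
        (inf_le_inf_right _ hVH) (hVp.to_le inf_le_left)
    apply Helper3.BG36R.card_le_of_isCyclic_of_pow_eq_one hpp.pos
    intro a
    apply Subtype.ext
    rw [Subgroup.coe_pow, Subgroup.coe_one]
    exact hV.2 _ (Subgroup.mem_inf.mp a.2).1
  have hO := pCoreOf_eq_bot p H V hVH hVp hmax
  have hsmall : ∀ q : ℕ, q.Prime → ¬ q ∣ Nat.card ↥H → ∀ B : Subgroup G,
      ⁅preCore q H V, B⁆ ≤ V := by
    intro q hq hqH B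
    haveI : Fact q.Prime := ⟨hq⟩
    have h1 : preCore q H V ≤ V :=
      preCore_le_of_coprime q H V hVH ((Nat.Prime.coprime_iff_not_dvd hq).mpr hqH)
    exact (Subgroup.commutator_mono h1 le_rfl).trans (Subgroup.commutator_le_left V B)
  have hqr : ∀ q : ℕ, q ∣ Nat.card ↥H → q.Prime → q ≠ Nat.card ↥X := by
    intro q hqH hq h
    have h1 : q ∣ Nat.gcd (Nat.card ↥X) (Nat.card ↥H) := Nat.dvd_gcd (by rw [← h]) hqH
    rw [Nat.Coprime.gcd_eq_one hcopX, Nat.dvd_one] at h1
    exact hq.one_lt.ne' h1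
  by_cases hcase : P ⊓ Subgroup.centralizer (X : Set G) ≤ V
  · -- case (ii)
    have hPV : P ≤ V := by
      apply le_of_commutator_preCore_le p H V P hsolvH hVH hPH hP hO
      intro q hq hqp
      haveI : Fact q.Prime := ⟨hq⟩
      by_cases hqH : q ∣ Nat.card ↥H
      · haveI := preCore_normal q H V
        have hle := preCore_le q H V hVH
        exact case_two hA (Ne.symm hqp) hpr (hqr q hqH hq) V (preCore q H V) P X hV
          (le_preCore q H V) hVP (preCore_pow q H V) hP rfl hP'
          (Nat.Coprime.coprime_dvd_right (Subgroup.card_dvd_of_le hle) hcopX)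
          ((inf_le_inf_right _ hle).trans hCV) hCVcard
          (fun Q hQ hQq => Helper3.BG36R.isCyclic_of_le_zgroup
            (C := H ⊓ Subgroup.centralizer (X : Set G))
            (inf_le_inf_right _ (hQ.trans hle)) (hQq.to_le inf_le_left)) hcase
      · exact hsmall q hq hqH P
    have h1 : (V.subgroupOf H).index ∣ (P' : Subgroup ↥H).index := by
      apply Subgroup.index_dvd_of_le
      intro g hg
      rw [Subgroup.mem_subgroupOf]
      exact hPV ⟨g, hg, rfl⟩
    exact P'.not_dvd_index (hdvd.trans h1)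
  · -- case (i)
    obtain ⟨y, hy, hyV⟩ := SetLike.not_le_iff_exists.mp hcase
    obtain ⟨hyP, hyX⟩ := Subgroup.mem_inf.mp hy
    have hyp : ∃ k : ℕ, y ^ p ^ k = 1 := by
      obtain ⟨k, hk⟩ := hP ⟨y, hyP⟩
      refine ⟨k, ?_⟩
      have := congrArg Subtype.val hk
      simpa using this
    refine not_dvd_of_commutator_preCore_le p H V R X hsolvH hVH hcopX hHR hO ?_ hdvd
    intro q hq hqp
    haveI : Fact q.Prime := ⟨hq⟩
    by_cases hqH : q ∣ Nat.card ↥H
    · haveI := preCore_normal q H V
      have hle := preCore_le q H V hVH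
      have hq2 : q ≠ 2 := by
        intro h2
        rw [h2] at hqH
        exact (Nat.not_even_iff_odd.mpr hoddH) (even_iff_two_dvd.mpr hqH)
      exact case_one_step (Ne.symm hqp) hpr (hqr q hqH hq) hq2 H V (preCore q H V) X hV hVH
        (le_preCore q H V) (preCore_pow q H V) rfl
        (Nat.Coprime.coprime_dvd_right (Subgroup.card_dvd_of_le hle) hcopX)
        ((inf_le_inf_right _ hle).trans hCV) y (hPH hyP) hyX hyp hyV
    · exact hsmall q hq hqH X

end Cfsg.Agent.Helper10.BG36K
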