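import Mathlib
import Cfsg.Agent.Lib.Helper4.GTAbstract

set_option autoImplicit false

/-! The Glauberman--Thompson minimal counterexample reduction, relative to a class of groups closed
under subgroups and quotients, for a characteristic `p`-functor without any `ZJ`-type hypothesis
(after Helper4's `GTAbstract`). -/

namespace Cfsg.Agent.Helper10.GTS

universe u

open Cfsg Cfsg.Agent.Helper10 Cfsg.Agent.Helper4.NPCB Cfsg.Agent.Helper4.GT
open scoped commutatorElement

/-- A characteristic `p`-functor. -/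
structure CharFun0 (p : ℕ) where
  W : ∀ (X : Type u) [Group X], Subgroup X → Subgroup X
  le_self : ∀ (X : Type u) [Group X] (R : Subgroup X), W X R ≤ R
  ne_bot : ∀ (X : Type u) [Group X] [Finite X] (R : Subgroup X), IsPGroup p R → R ≠ ⊥ →
    W X R ≠ ⊥
  map : ∀ (X Y : Type u) [Group X] [Group Y] [Finite X] [Finite Y] (f : X →* Y)
    (R : Subgroup X), IsPGroup p R → Set.InjOn f R → W Y (R.map f) = (W X R).map f

variable {p : ℕ} [hpp : Fact p.Prime] (cf : CharFun0.{u} p) {G : Type u} [Group G] [Finite G]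

omit hpp in
theorem normalizer_le0 (R : Subgroup G) (hR : IsPGroup p R) :
    Subgroup.normalizer (R : Set G) ≤ Subgroup.normalizer (cf.W G R : Set G) := by
  intro n hn
  rw [Subgroup.mem_normalizer_iff_map_conj_eq] at hn ⊢
  have h1 : R.map (MulAut.conj n).toMonoidHom = R := hn
  have h2 := cf.map G G (MulAut.conj n).toMonoidHom R hR (MulAut.conj n).injective.injOn
  rw [h1] at h2
  exact h2.symm

theorem npc_normalizer_conj0 (P : Sylow p G)
    (h : NPC p ↥(Subgroup.normalizer (cf.W G (P : Subgroup G) : Set G))) (P' : Sylow p G) :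
    NPC p ↥(Subgroup.normalizer (cf.W G (P' : Subgroup G) : Set G)) := by
  obtain ⟨g, hg⟩ := MulAction.exists_smul_eq G P P'
  have h1 : (P' : Subgroup G) = (P : Subgroup G).map (MulAut.conj g).toMonoidHom := by
    rw [← hg]; rfl
  rw [h1, cf.map G G (MulAut.conj g).toMonoidHom _ P.2 (MulAut.conj g).injective.injOn,
    ← Subgroup.map_equiv_normalizer_eq]
  exact npc_map_conj _ g h

variable (𝒞 : ∀ (X : Type u) [Group X], Prop)
  (hsub : ∀ (X : Type u) [Group X] (L : Subgroup X), 𝒞 X → 𝒞 ↥L)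
  (hquot : ∀ (X : Type u) [Group X] (N : Subgroup X) [N.Normal], 𝒞 X → 𝒞 (X ⧸ N))

include hsub in
/-- the induction hypothesis, for subgroups -/
theorem npc_subgroup_of_ih0 {n : ℕ} (hG : 𝒞 G)
    (ih : ∀ m < n, ∀ (X : Type u) [Group X] [Finite X], 𝒞 X → Nat.card X = m → ∀ P : Sylow p X,
      NPC p ↥(Subgroup.normalizer (cf.W X (P : Subgroup X) : Set X)) → NPC p X)
    (L : Subgroup G) (hL : Nat.card L < n) (S : Sylow p ↥L)
    (h : NPC p ↥(Subgroup.normalizer (cf.W G ((S : Subgroup ↥L).map L.subtype) : Set G))) :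
    NPC p ↥L := by
  apply ih _ hL ↥L (hsub G L hG) rfl S
  have hmap : cf.W G ((S : Subgroup ↥L).map L.subtype) = (cf.W ↥L (S : Subgroup ↥L)).map L.subtype :=
    cf.map ↥L G L.subtype _ S.2 (Subgroup.subtype_injective L).injOn
  rw [hmap] at h
  let f : ↥(Subgroup.normalizer (cf.W ↥L (S : Subgroup ↥L) : Set ↥L)) →*
      ↥(Subgroup.normalizer (((cf.W ↥L (S : Subgroup ↥L)).map L.subtype : Subgroup G) : Set G)) :=
    (L.subtype.comp (Subgroup.normalizer (cf.W ↥L (S : Subgroup ↥L) : Set ↥L)).subtype).codRestrict _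
      (fun x => Subgroup.le_normalizer_map L.subtype ⟨x, x.2, rfl⟩)
  have hf : Function.Injective f := by
    intro x y hxy
    have := congrArg Subtype.val hxy
    exact Subtype.ext (Subtype.ext this)
  exact npc_of_injective f hf h

section minimal

variable {n : ℕ} (hG : 𝒞 G) (hcard : Nat.card G = n)
  (ih : ∀ m < n, ∀ (X : Type u) [Group X] [Finite X], 𝒞 X → Nat.card X = m → ∀ P : Sylow p X,
      NPC p ↥(Subgroup.normalizer (cf.W X (P : Subgroup X) : Set X)) → NPC p X)
  (hall : ∀ P' : Sylow p G, NPC p ↥(Subgroup.normalizer (cf.W G (P' : Subgroup G) : Set G)))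

include hG hcard ih hall hsub in
/-- Step 1: a bad subgroup with `ν` maximal is normal. -/
theorem stepA0 (H : Subgroup G) (hHp : IsPGroup p H) (hH1 : H ≠ ⊥)
    (hHbad : ¬ NPC p ↥(Subgroup.normalizer (H : Set G)))
    (hmax : ∀ Q : Subgroup G, IsPGroup p Q → Q ≠ ⊥ →
      ¬ NPC p ↥(Subgroup.normalizer (Q : Set G)) → nu p Q ≤ nu p H) :
    Subgroup.normalizer (H : Set G) = ⊤ := by
  by_contra hne
  set N := Subgroup.normalizer (H : Set G) with hN
  have hNlt : Nat.card N < n := hcard ▸ card_lt_of_ne_top N hne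
  obtain R : Sylow p ↥N := default
  set RG : Subgroup G := (R : Subgroup ↥N).map N.subtype with hRG
  have hRGp : IsPGroup p RG := R.isPGroup'.map _
  have hbad2 : ¬ NPC p ↥(Subgroup.normalizer (cf.W G RG : Set G)) :=
    fun h => hHbad (npc_subgroup_of_ih0 cf 𝒞 hsub hG ih N hNlt R h)
  have hHR : H ≤ RG := by
    have : (H.subgroupOf N).Normal := Subgroup.normal_in_normalizer
    have h1 := Cfsg.Agent.Helper23.PSolv.normal_pGroup_le_sylow (H.subgroupOf N)
      hHp.comap_subtype R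
    intro x hx
    exact ⟨⟨x, Subgroup.le_normalizer hx⟩, h1 (Subgroup.mem_subgroupOf.mpr hx), rfl⟩
  have hRG1 : RG ≠ ⊥ := fun h => hH1 (eq_bot_iff.mpr (h ▸ hHR))
  have hW1 : cf.W G RG ≠ ⊥ := cf.ne_bot G RG hRGp hRG1
  have hWp : IsPGroup p (cf.W G RG) := hRGp.to_le (cf.le_self G RG)
  have hν := hmax _ hWp hW1 hbad2
  have hcardR : Nat.card RG = p ^ nu p H := by
    rw [hRG, Subgroup.card_map_of_injective (Subgroup.subtype_injective _),
      R.card_eq_multiplicity]
    rfl
  obtain ⟨P₁, hP₁⟩ := hRGp.exists_le_sylow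
  by_cases hle : (P₁ : Subgroup G) ≤ RG
  · have heq : RG = P₁ := le_antisymm hP₁ hle
    rw [heq] at hbad2
    exact hbad2 (hall P₁)
  · obtain ⟨x, hxP, hxN, hxR⟩ :=
      Cfsg.Agent.S0658.exists_normalizer_growth (P₁ : Subgroup G) RG P₁.2 hP₁ hle
    set X : Subgroup G := (P₁ : Subgroup G) ⊓ Subgroup.normalizer (RG : Set G) with hX
    have hXp : IsPGroup p X := P₁.2.to_le inf_le_left
    have hlt : Nat.card RG < Nat.card X :=
      Cfsg.Agent.S0658.card_lt_of_lt (le_inf hP₁ Subgroup.le_normalizer)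
        (Subgroup.mem_inf.2 ⟨hxP, hxN⟩) hxR
    have hXN : X ≤ Subgroup.normalizer (cf.W G RG : Set G) :=
      inf_le_right.trans (normalizer_le0 cf RG hRGp)
    have h1 := card_le_of_le (Subgroup.normalizer (cf.W G RG : Set G)) X hXp hXN
    have h2 : p ^ nu p (cf.W G RG) ≤ p ^ nu p H := Nat.pow_le_pow_right hpp.out.pos hν
    have h1' : Nat.card X ≤ p ^ nu p (cf.W G RG) := h1
    omega

include hG hcard ih hquot in
/-- Step 3: the quotient by `O_p(G)` has a normal `p`-complement. -/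
theorem stepB0 (P : Sylow p G) (hO1 : pCore p G ≠ ⊥) (hPO : ¬ (P : Subgroup G) ≤ pCore p G)
    (hb : ∀ Q : Subgroup G, IsPGroup p Q → (P : Subgroup G) ≤ Subgroup.normalizer (Q : Set G) →
      Nat.card (pCore p G) < Nat.card Q → NPC p ↥(Subgroup.normalizer (Q : Set G))) :
    NPC p (G ⧸ pCore p G) := by
  set O := pCore p G with hO
  have hsurj := QuotientGroup.mk'_surjective O
  have hlt : Nat.card (G ⧸ O) < n := hcard ▸ card_quotient_lt O hO1
  set Pb : Sylow p (G ⧸ O) := P.mapSurjective hsurj with hPb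
  have hPbcoe : (Pb : Subgroup (G ⧸ O)) = (P : Subgroup G).map (QuotientGroup.mk' O) :=
    Sylow.coe_mapSurjective hsurj P
  apply ih _ hlt (G ⧸ O) (hquot G O hG) rfl Pb
  set Wb := cf.W (G ⧸ O) (Pb : Subgroup (G ⧸ O)) with hWb
  have hOP : O ≤ P := Cfsg.Agent.Helper23.PSolv.pCore_le_sylow P
  have hPb1 : (Pb : Subgroup (G ⧸ O)) ≠ ⊥ := by
    intro h
    rw [hPbcoe, Subgroup.map_eq_bot_iff, QuotientGroup.ker_mk'] at h
    exact hPO h
  have hWb1 : Wb ≠ ⊥ := cf.ne_bot _ _ Pb.2 hPb1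
  have hWbP : Wb ≤ Pb := cf.le_self _ _
  set H₁ : Subgroup G := Wb.comap (QuotientGroup.mk' O) with hH₁
  have hOH₁ : O ≤ H₁ := by
    intro x hx
    rw [hH₁, Subgroup.mem_comap]
    have : QuotientGroup.mk' O x = 1 := (QuotientGroup.eq_one_iff x).mpr hx
    rw [this]; exact Subgroup.one_mem _
  have hH₁P : H₁ ≤ P := by
    have h1 : H₁ ≤ ((P : Subgroup G).map (QuotientGroup.mk' O)).comap (QuotientGroup.mk' O) :=
      Subgroup.comap_mono (hPbcoe ▸ hWbP)
    rwa [QuotientGroup.comap_map_mk', sup_eq_right.mpr hOP] at h1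
  have hH₁p : IsPGroup p H₁ := P.2.to_le hH₁P
  have hcardlt : Nat.card O < Nat.card H₁ := by
    obtain ⟨⟨w, hw⟩, hw1⟩ := (Subgroup.ne_bot_iff_exists_ne_one (H := Wb)).mp hWb1
    obtain ⟨x, rfl⟩ := hsurj w
    refine Cfsg.Agent.S0658.card_lt_of_lt hOH₁ (x := x) hw ?_
    intro hxO
    apply hw1
    apply Subtype.ext
    exact (QuotientGroup.eq_one_iff x).mpr hxO
  have hPN : (P : Subgroup G) ≤ Subgroup.normalizer (H₁ : Set G) := by
    rw [hH₁, ← Subgroup.comap_normalizer_eq_of_surjective Wb hsurj]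
    intro x hx
    rw [Subgroup.mem_comap]
    apply normalizer_le0 cf (Pb : Subgroup (G ⧸ O)) Pb.2
    apply Subgroup.le_normalizer
    rw [hPbcoe]
    exact Subgroup.mem_map_of_mem _ hx
  have hnpc := hb H₁ hH₁p hPN hcardlt
  have hNeq : Subgroup.normalizer (Wb : Set (G ⧸ O)) =
      (Subgroup.normalizer (H₁ : Set G)).map (QuotientGroup.mk' O) := by
    rw [hH₁, ← Subgroup.comap_normalizer_eq_of_surjective Wb hsurj,
      Subgroup.map_comap_eq_self_of_surjective hsurj]
  rw [hNeq]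
  exact npc_of_surjective ((QuotientGroup.mk' O).subgroupMap _)
    ((QuotientGroup.mk' O).subgroupMap_surjective _) hnpc

include hG hcard ih hall hquot in
/-- Step 4: `O_{p'}(G) = 1`. -/
theorem stepC0 (P : Sylow p G) (hnot : ¬ NPC p G) : pPrimeCore p G = ⊥ := by
  by_contra hK
  have hKc : (Nat.card (pPrimeCore p G)).Coprime p :=
    Cfsg.Agent.Helper22.card_pPrimeCore_coprime p
  have hlt : Nat.card (G ⧸ pPrimeCore p G) < n := hcard ▸ card_quotient_lt _ hK
  have hsurj := QuotientGroup.mk'_surjective (pPrimeCore p G)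
  apply hnot
  apply npc_of_quotient (pPrimeCore p G) hKc
  apply ih _ hlt (G ⧸ pPrimeCore p G) (hquot G _ hG) rfl (P.mapSurjective hsurj)
  rw [Sylow.coe_mapSurjective, cf.map G (G ⧸ pPrimeCore p G) (QuotientGroup.mk' (pPrimeCore p G))
    (P : Subgroup G) P.2 (Cfsg.Agent.S0667.injOn_mk' P.2 hKc)]
  have hWp : IsPGroup p (cf.W G (P : Subgroup G)) := P.2.to_le (cf.le_self G _)
  rw [Cfsg.Agent.Helper7.normalizer_map_mk'_eq hWp hKc]
  exact npc_of_surjective ((QuotientGroup.mk' (pPrimeCore p G)).subgroupMap _)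
    ((QuotientGroup.mk' (pPrimeCore p G)).subgroupMap_surjective _) (hall P)

include hG hcard ih hall hsub in
/-- Step 6a: `P` is a maximal subgroup of `G`. -/
theorem stepE0 (P : Sylow p G)
    (hcent : Subgroup.centralizer (pCore p G : Set G) ≤ pCore p G) (L : Subgroup G)
    (hPL : (P : Subgroup G) ≤ L) (hL : L ≠ ⊤) : L ≤ P := by
  have hLlt : Nat.card L < n := hcard ▸ card_lt_of_ne_top L hL
  set S : Sylow p ↥L := P.subtype hPL with hS
  have hSmap : (S : Subgroup ↥L).map L.subtype = P := by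
    rw [hS, Sylow.coe_subtype, Subgroup.map_subgroupOf_eq_of_le hPL]
  have hnpc : NPC p ↥L := npc_subgroup_of_ih0 cf 𝒞 hsub hG ih L hLlt S
    (by rw [hSmap]; exact hall P)
  have hOP : pCore p G ≤ P := Cfsg.Agent.Helper23.PSolv.pCore_le_sylow P
  have hOn : ((pCore p G).subgroupOf L).Normal :=
    Subgroup.Normal.subgroupOf inferInstance L
  have hpg : IsPGroup p ↥L :=
    isPGroup_of_npc_of_centralizer_le hnpc ((pCore p G).subgroupOf L)
      ((Cfsg.Agent.Helper10.pCore_isPGroup p).comap_subtype) (by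
        intro x hx
        rw [Subgroup.mem_subgroupOf]
        apply hcent
        rw [Subgroup.mem_centralizer_iff] at hx ⊢
        intro o ho
        have := hx ⟨o, hPL (hOP ho)⟩ (Subgroup.mem_subgroupOf.mpr ho)
        exact congrArg Subtype.val this)
  exact (P.is_maximal' (Q := L) hpg hPL).le

end minimal

/-- The structure of a minimal counterexample. -/
structure MinStruc (p : ℕ) [Fact p.Prime] (X : Type u) [Group X] (P : Sylow p X) : Prop where
  hO1 : pCore p X ≠ ⊥
  hPO : ¬ (P : Subgroup X) ≤ pCore p X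
  hcent : Subgroup.centralizer (pCore p X : Set X) ≤ pCore p X
  hmax : ∀ L : Subgroup X, (P : Subgroup X) ≤ L → L ≠ ⊤ → L ≤ P
  hquo : NPC p (X ⧸ pCore p X)
  hstruc : ∃ M : Subgroup X, Cfsg.Agent.Helper4.QS.Struc p X (pCore p X) M

include hsub hquot in
/-- **Glauberman--Thompson reduction**, relative form: it suffices to refute the minimal
structure. -/
theorem gts_aux
    (hfin : ∀ (X : Type u) [Group X] [Finite X], 𝒞 X → ∀ P : Sylow p X,
      NPC p ↥(Subgroup.normalizer (cf.W X (P : Subgroup X) : Set X)) → ¬ NPC p X →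
      MinStruc p X P → False) :
    ∀ n : ℕ, ∀ (G : Type u) [Group G] [Finite G], 𝒞 G → Nat.card G = n →
    ∀ P : Sylow p G, NPC p ↥(Subgroup.normalizer (cf.W G (P : Subgroup G) : Set G)) →
    NPC p G := by
  intro n
  induction n using Nat.strong_induction_on with
  | _ n ih =>
  intro G _ _ hG hcard P hP
  by_contra hnot
  have hall := npc_normalizer_conj0 cf P hP
  -- the bad subgroups
  let Bad : Subgroup G → Prop := fun Q =>
    IsPGroup p Q ∧ Q ≠ ⊥ ∧ ¬ NPC p ↥(Subgroup.normalizer (Q : Set G))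
  have hne : ∃ Q, Bad Q := by
    by_contra h
    push Not at h
    apply hnot
    apply npc_of_local
    intro Q hQ hQ1
    by_contra hb
    exact h Q ⟨hQ, hQ1, hb⟩
  let f : Subgroup G → ℕ := fun Q => nu p Q * (Nat.card G + 1) + Nat.card Q
  obtain ⟨H, hHbad, hHmax⟩ := Set.exists_max_image {Q | Bad Q} f (Set.toFinite _) hne
  have hcardle : ∀ Q : Subgroup G, Nat.card Q ≤ Nat.card G := fun Q =>
    Subgroup.card_le_card_group Q
  have hmax1 : ∀ Q, Bad Q → nu p Q ≤ nu p H := by
    intro Q hQ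
    by_contra hlt
    push Not at hlt
    have h1 : f Q ≤ f H := hHmax Q hQ
    have h2 : (nu p H + 1) * (Nat.card G + 1) ≤ nu p Q * (Nat.card G + 1) :=
      Nat.mul_le_mul_right _ hlt
    have h3 := hcardle H
    simp only [f] at h1
    rw [add_mul, one_mul] at h2
    omega
  have hmax2 : ∀ Q, Bad Q → nu p Q = nu p H → Nat.card Q ≤ Nat.card H := by
    intro Q hQ heq
    have h1 : f Q ≤ f H := hHmax Q hQ
    simp only [f] at h1
    rw [heq] at h1
    omega
  have hHn : Subgroup.normalizer (H : Set G) = ⊤ :=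
    stepA0 cf 𝒞 hsub hG hcard ih hall H hHbad.1 hHbad.2.1 hHbad.2.2
      (fun Q h1 h2 h3 => hmax1 Q ⟨h1, h2, h3⟩)
  have hHnormal : H.Normal := Subgroup.normalizer_eq_top_iff.mp hHn
  have hHO : H ≤ pCore p G := le_sSup ⟨hHnormal, hHbad.1⟩
  have hO1 : pCore p G ≠ ⊥ := fun h => hHbad.2.1 (eq_bot_iff.mpr (h ▸ hHO))
  have hνH : nu p H = (Nat.card G).factorization p := by
    unfold nu
    rw [hHn, Subgroup.card_top]
  have hOP : pCore p G ≤ P := Cfsg.Agent.Helper23.PSolv.pCore_le_sylow P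
  have hPO : ¬ (P : Subgroup G) ≤ pCore p G := by
    intro h
    have hPeq : (P : Subgroup G) = pCore p G := le_antisymm h hOP
    have hPn : (P : Subgroup G).Normal := hPeq ▸ inferInstance
    have h1 : Subgroup.normalizer (cf.W G (P : Subgroup G) : Set G) = ⊤ := by
      rw [eq_top_iff, ← Subgroup.normalizer_eq_top (P : Subgroup G)]
      exact normalizer_le0 cf _ P.2
    rw [h1] at hP
    exact hnot (npc_top_iff.mp hP)
  have hb : ∀ Q : Subgroup G, IsPGroup p Q →
      (P : Subgroup G) ≤ Subgroup.normalizer (Q : Set G) →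
      Nat.card (pCore p G) < Nat.card Q → NPC p ↥(Subgroup.normalizer (Q : Set G)) := by
    intro Q hQ hPQ hlt
    by_contra hbad
    have hQ1 : Q ≠ ⊥ := by
      rintro rfl
      rw [Subgroup.card_bot] at hlt
      have : 0 < Nat.card (pCore p G) := Nat.card_pos
      omega
    have hBadQ : Bad Q := ⟨hQ, hQ1, hbad⟩
    have h1 := hmax1 Q hBadQ
    have h2 : nu p H ≤ nu p Q := by
      have h3 := card_le_of_le (Subgroup.normalizer (Q : Set G)) (P : Subgroup G) P.2 hPQ
      rw [P.card_eq_multiplicity] at h3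
      rw [hνH]
      exact (Nat.pow_le_pow_iff_right hpp.out.one_lt).mp h3
    have h3 := hmax2 Q hBadQ (le_antisymm h1 h2)
    have h4 : Nat.card H ≤ Nat.card (pCore p G) := Subgroup.card_le_of_le hHO
    omega
  have hquo := stepB0 cf 𝒞 hquot hG hcard ih P hO1 hPO hb
  obtain ⟨Nb, hNbn, hNbc, k, hk⟩ := hquo
  have hK := stepC0 cf 𝒞 hquot hG hcard ih hall P hnot
  have hcent := stepD hK Nb hNbn hNbc k hk
  have hE := stepE0 cf 𝒞 hsub hG hcard ih hall P hcent
  have st := stepF hnot P hE Nb hNbn hNbc k hk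
  exact hfin G hG P hP hnot ⟨hO1, hPO, hcent, hE, ⟨Nb, hNbn, hNbc, k, hk⟩, ⟨_, st⟩⟩

include hsub hquot in
theorem gts
    (hfin : ∀ (X : Type u) [Group X] [Finite X], 𝒞 X → ∀ P : Sylow p X,
      NPC p ↥(Subgroup.normalizer (cf.W X (P : Subgroup X) : Set X)) → ¬ NPC p X →
      MinStruc p X P → False)
    (hG : 𝒞 G) (P : Sylow p G)
    (h : NPC p ↥(Subgroup.normalizer (cf.W G (P : Subgroup G) : Set G))) : NPC p G :=
  gts_aux cf 𝒞 hsub hquot hfin _ G hG rfl P h

end Cfsg.Agent.Helper10.GTS
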