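import Mathlib
import Cfsg.Agent.Lib.Helper10.TameAlperin
import Cfsg.Agent.Lib.Helper10.StabChain

set_option autoImplicit false

namespace Cfsg.Agent.Helper10

open Cfsg

variable {G : Type*} [Group G]

/-- one-sided criterion for membership in a normalizer, in a finite group -/
theorem mem_normalizer_of_conj_mem_finite [Finite G] {B : Subgroup G} {x : G}
    (h1 : ∀ b ∈ B, x * b * x⁻¹ ∈ B) : x ∈ Subgroup.normalizer (B : Set G) := by
  have h2 : rcg x⁻¹ B ≤ B := by
    intro y hy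
    rw [mem_rcg] at hy
    have := h1 _ hy
    have e : x * (x⁻¹ * y * x⁻¹⁻¹) * x⁻¹ = y := by group
    rwa [e] at this
  have h3 := rcg_eq_of_le_of_finite h2
  have h4 : x⁻¹ ∈ Subgroup.normalizer (B : Set G) := mem_normalizer_iff_rcg.mpr h3
  simpa using Subgroup.inv_mem _ h4

/-- the elements normalizing `H'` and moving the elements of `H` only by elements of `H'` -/
def commStab (H H' : Subgroup G) : Subgroup G where
  carrier := {j | j ∈ Subgroup.normalizer (H' : Set G) ∧ ∀ r ∈ H, j * r * j⁻¹ * r⁻¹ ∈ H'}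
  one_mem' := ⟨Subgroup.one_mem _, fun r _ => by simp⟩
  mul_mem' := by
    rintro j j' ⟨hj, hjc⟩ ⟨hj', hjc'⟩
    refine ⟨Subgroup.mul_mem _ hj hj', fun r hr => ?_⟩
    have h1 := (Subgroup.mem_normalizer_iff.mp hj _).mp (hjc' r hr)
    have e : j * j' * r * (j * j')⁻¹ * r⁻¹ = (j * (j' * r * j'⁻¹ * r⁻¹) * j⁻¹) * (j * r * j⁻¹ * r⁻¹) := by
      group
    rw [e]
    exact H'.mul_mem h1 (hjc r hr)
  inv_mem' := by
    rintro j ⟨hj, hjc⟩
    refine ⟨Subgroup.inv_mem _ hj, fun r hr => ?_⟩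
    have h1 := (Subgroup.mem_normalizer_iff.mp (Subgroup.inv_mem _ hj) _).mp (H'.inv_mem (hjc r hr))
    have e : j⁻¹ * r * j⁻¹⁻¹ * r⁻¹ = j⁻¹ * (j * r * j⁻¹ * r⁻¹)⁻¹ * j⁻¹⁻¹ := by group
    rw [e]
    exact h1

theorem mem_commStab {H H' : Subgroup G} {j : G} : j ∈ commStab H H' ↔
    (j ∈ Subgroup.normalizer (H' : Set G) ∧ ∀ r ∈ H, j * r * j⁻¹ * r⁻¹ ∈ H') := Iff.rfl

theorem conj_mem_commStab {H H' : Subgroup G} {x j : G} (hxH : x ∈ Subgroup.normalizer (H : Set G))
    (hxH' : x ∈ Subgroup.normalizer (H' : Set G)) (hj : j ∈ commStab H H') :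
    x * j * x⁻¹ ∈ commStab H H' := by
  obtain ⟨hj1, hj2⟩ := hj
  refine ⟨Subgroup.mul_mem _ (Subgroup.mul_mem _ hxH' hj1) (Subgroup.inv_mem _ hxH'), fun r hr => ?_⟩
  have hr' : x⁻¹ * r * x⁻¹⁻¹ ∈ H := (Subgroup.mem_normalizer_iff.mp (Subgroup.inv_mem _ hxH) r).mp hr
  have h1 := hj2 _ hr'
  have h2 := (Subgroup.mem_normalizer_iff.mp hxH' _).mp h1
  have e : x * j * x⁻¹ * r * (x * j * x⁻¹)⁻¹ * r⁻¹
      = x * (j * (x⁻¹ * r * x⁻¹⁻¹) * j⁻¹ * (x⁻¹ * r * x⁻¹⁻¹)⁻¹) * x⁻¹ := by group
  rw [e]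
  exact h2

theorem conj_eq_of_mem_centralizer {R : Subgroup G} {j r : G}
    (hj : j ∈ Subgroup.centralizer (R : Set G)) (hr : r ∈ R) : j * r * j⁻¹ = r := by
  have := Subgroup.mem_centralizer_iff.mp hj r hr
  rw [← this]; group

theorem centralizer_le_commStab {R H H' : Subgroup G} (hH : H ≤ R) (hH' : H' ≤ R) :
    Subgroup.centralizer (R : Set G) ≤ commStab H H' := by
  intro j hj
  refine ⟨?_, fun r hr => ?_⟩
  · apply mem_normalizer_of_conj_mem
    · intro b hb
      rw [conj_eq_of_mem_centralizer hj (hH' hb)]; exact hb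
    · intro b hb
      have := conj_eq_of_mem_centralizer (Subgroup.inv_mem _ hj) (hH' hb)
      rw [inv_inv] at this
      rw [this]; exact hb
  · rw [conj_eq_of_mem_centralizer hj (hH hr)]
    simp

theorem normalizer_inf_le_normalizer_sup (A B : Subgroup G) :
    Subgroup.normalizer (A : Set G) ⊓ Subgroup.normalizer (B : Set G)
      ≤ Subgroup.normalizer ((A ⊔ B : Subgroup G) : Set G) := by
  intro y hy
  obtain ⟨hA, hB⟩ := Subgroup.mem_inf.mp hy
  rw [mem_normalizer_iff_rcg] at hA hB ⊢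
  have : rcg y (A ⊔ B) = rcg y A ⊔ rcg y B := Subgroup.map_sup _ _ _
  rw [this, hA, hB]

theorem normalizer_le_normalizer_centralizer (R : Subgroup G) :
    Subgroup.normalizer (R : Set G) ≤ Subgroup.normalizer ((Subgroup.centralizer (R : Set G) : Subgroup G) : Set G) := by
  intro x hx
  apply mem_normalizer_of_conj_mem
  · intro c hc
    rw [Subgroup.mem_centralizer_iff]
    intro r hr
    have hr' : x⁻¹ * r * x⁻¹⁻¹ ∈ R := (Subgroup.mem_normalizer_iff.mp (Subgroup.inv_mem _ hx) r).mp hr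
    have h1 := Subgroup.mem_centralizer_iff.mp hc _ hr'
    calc r * (x * c * x⁻¹) = x * ((x⁻¹ * r * x⁻¹⁻¹) * c) * x⁻¹ := by group
      _ = x * (c * (x⁻¹ * r * x⁻¹⁻¹)) * x⁻¹ := by rw [h1]
      _ = x * c * x⁻¹ * r := by group
  · intro c hc
    rw [Subgroup.mem_centralizer_iff]
    intro r hr
    have hr' : x * r * x⁻¹ ∈ R := (Subgroup.mem_normalizer_iff.mp hx r).mp hr
    have h1 := Subgroup.mem_centralizer_iff.mp hc _ hr'
    calc r * (x⁻¹ * c * x) = x⁻¹ * ((x * r * x⁻¹) * c) * x := by group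
      _ = x⁻¹ * (c * (x * r * x⁻¹)) * x := by rw [h1]
      _ = x⁻¹ * c * x * r := by group

section series

variable [Finite G] {p : ℕ} [Fact p.Prime] (P : Sylow p G) (k : ℕ) (U : ℕ → Subgroup G)
  (hU0 : U 0 = ⊥) (hUP : ∀ i, U i ≤ (P : Subgroup G))
  (hUsc : ∀ i, ∀ u ∈ U i, ∀ g : G, g * u * g⁻¹ ∈ (P : Subgroup G) → g * u * g⁻¹ ∈ U i)
  (hUc : ∀ i, ∀ w ∈ U k, ∀ u ∈ U (i + 1), w * u * w⁻¹ * u⁻¹ ∈ U i)

include hUsc in
/-- the sections `U i ⊓ R` are normalized by `N_G(R)` -/
theorem normalizer_le_normalizer_inf_series (R : Subgroup G) (hRP : R ≤ (P : Subgroup G)) (i : ℕ) :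
    Subgroup.normalizer (R : Set G) ≤ Subgroup.normalizer ((U i ⊓ R : Subgroup G) : Set G) := by
  intro x hx
  apply mem_normalizer_of_conj_mem_finite
  rintro b ⟨hb1, hb2⟩
  have h1 : x * b * x⁻¹ ∈ R := (Subgroup.mem_normalizer_iff.mp hx b).mp hb2
  exact ⟨hUsc i b hb1 x (hRP h1), h1⟩

include hUP hUsc in
/-- anything carrying `U i` into `P` normalizes `U i` -/
theorem mem_normalizer_series_of_conj_le (i : ℕ) {x : G}
    (hx : ∀ u ∈ U i, x * u * x⁻¹ ∈ (P : Subgroup G)) :
    x ∈ Subgroup.normalizer (U i : Set G) := by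
  apply mem_normalizer_of_conj_mem_finite
  intro b hb
  exact hUsc i b hb x (hx b hb)

/-- the stability group attached to `R` -/
def stabGroup (k : ℕ) (U : ℕ → Subgroup G) (R : Subgroup G) : Subgroup G :=
  Subgroup.normalizer (R : Set G) ⊓ commStab R (U k ⊓ R) ⊓ ⨅ i, commStab (U (i + 1) ⊓ R) (U i ⊓ R)

theorem mem_stabGroup {k : ℕ} {U : ℕ → Subgroup G} {R : Subgroup G} {j : G} :
    j ∈ stabGroup k U R ↔ (j ∈ Subgroup.normalizer (R : Set G) ∧ j ∈ commStab R (U k ⊓ R) ∧
      ∀ i, j ∈ commStab (U (i + 1) ⊓ R) (U i ⊓ R)) := by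
  simp only [stabGroup, Subgroup.mem_inf, Subgroup.mem_iInf, and_assoc]

include hUsc in
theorem normalizer_le_normalizer_stabGroup (R : Subgroup G) (hRP : R ≤ (P : Subgroup G)) :
    Subgroup.normalizer (R : Set G) ≤ Subgroup.normalizer ((stabGroup k U R : Subgroup G) : Set G) := by
  intro x hx
  apply mem_normalizer_of_conj_mem_finite
  intro j hj
  obtain ⟨hj1, hj2, hj3⟩ := mem_stabGroup.mp hj
  refine mem_stabGroup.mpr ⟨?_, ?_, ?_⟩
  · exact Subgroup.mul_mem _ (Subgroup.mul_mem _ hx hj1) (Subgroup.inv_mem _ hx)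
  · exact conj_mem_commStab hx (normalizer_le_normalizer_inf_series P U hUsc R hRP k hx) hj2
  · intro i
    exact conj_mem_commStab (normalizer_le_normalizer_inf_series P U hUsc R hRP (i + 1) hx)
      (normalizer_le_normalizer_inf_series P U hUsc R hRP i hx) (hj3 i)

theorem centralizer_le_stabGroup (R : Subgroup G) :
    Subgroup.centralizer (R : Set G) ≤ stabGroup k U R := by
  intro j hj
  refine mem_stabGroup.mpr ⟨?_, ?_, ?_⟩
  · exact Subgroup.centralizer_le_normalizer _ hj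
  · exact centralizer_le_commStab le_rfl inf_le_right hj
  · intro i
    exact centralizer_le_commStab inf_le_right inf_le_right hj

include hU0 hUP in
/-- elements of the stability group of order prime to `p` centralize `R` -/
theorem mem_centralizer_of_mem_stabGroup (R : Subgroup G) {j : G}
    (hj : j ∈ stabGroup k U R) (hjo : (orderOf j).Coprime p) :
    j ∈ Subgroup.centralizer (R : Set G) := by
  obtain ⟨hj1, hj2, hj3⟩ := mem_stabGroup.mp hj
  have hDp : ∀ i, IsPGroup p (U i ⊓ R : Subgroup G) := fun i => P.isPGroup'.to_le (inf_le_left.trans (hUP i))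
  have h1 := centralizes_of_stabilizes_chain (p := p) (fun i => U i ⊓ R) (by simp [hU0]) hDp hjo
    (fun i r hr => (hj3 i).2 r hr)
  rw [Subgroup.mem_centralizer_iff]
  intro r hr
  have h2 := conj_eq_of_comm_mem (hDp k) hjo (h1 k) (hj2.2 r hr)
  calc r * j = (j * r * j⁻¹) * j := by rw [h2]
    _ = j * r := by group

include hU0 hUP in
theorem exists_pow_mem_centralizer_of_mem_stabGroup (R : Subgroup G) {j : G}
    (hj : j ∈ stabGroup k U R) : ∃ a : ℕ, j ^ (p ^ a) ∈ Subgroup.centralizer (R : Set G) := by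
  have hpos : orderOf j ≠ 0 := (orderOf_pos j).ne'
  obtain ⟨a, b, hb, hab⟩ := Nat.exists_eq_pow_mul_and_not_dvd hpos p (Fact.out : p.Prime).ne_one
  refine ⟨a, mem_centralizer_of_mem_stabGroup P k U hU0 hUP R (Subgroup.pow_mem _ hj _) ?_⟩
  have h1 : (j ^ p ^ a) ^ b = 1 := by
    rw [← pow_mul, ← hab, pow_orderOf_eq_one]
  have h2 : orderOf (j ^ p ^ a) ∣ b := orderOf_dvd_of_pow_eq_one h1
  have h3 : b.Coprime p := ((Nat.Prime.coprime_iff_not_dvd Fact.out).mpr hb).symm
  exact Nat.Coprime.coprime_dvd_left h2 h3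

include hUP hUsc hUc in
/-- the part of `U k` normalizing `R` lies in the stability group -/
theorem inf_normalizer_le_stabGroup (R : Subgroup G) (hRP : R ≤ (P : Subgroup G)) :
    U k ⊓ Subgroup.normalizer (R : Set G) ≤ stabGroup k U R := by
  intro w hw'
  obtain ⟨hw, hwN⟩ := Subgroup.mem_inf.mp hw'
  have hcomm : ∀ r ∈ R, w * r * w⁻¹ * r⁻¹ ∈ R := by
    intro r hr
    exact R.mul_mem ((Subgroup.mem_normalizer_iff.mp hwN r).mp hr) (R.inv_mem hr)
  refine mem_stabGroup.mpr ⟨hwN, ⟨?_, ?_⟩, ?_⟩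
  · exact normalizer_le_normalizer_inf_series P U hUsc R hRP k hwN
  · intro r hr
    refine Subgroup.mem_inf.mpr ⟨?_, hcomm r hr⟩
    -- `w r w⁻¹ r⁻¹ = w (r w⁻¹ r⁻¹)` with `r w⁻¹ r⁻¹ ∈ U k`
    have h1 : r * w⁻¹ * r⁻¹ ∈ U k :=
      hUsc k _ ((U k).inv_mem hw) r
        ((P : Subgroup G).mul_mem ((P : Subgroup G).mul_mem (hRP hr) ((P : Subgroup G).inv_mem (hUP k hw)))
          ((P : Subgroup G).inv_mem (hRP hr)))
    have e : w * r * w⁻¹ * r⁻¹ = w * (r * w⁻¹ * r⁻¹) := by group
    rw [e]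
    exact (U k).mul_mem hw h1
  · intro i
    refine ⟨normalizer_le_normalizer_inf_series P U hUsc R hRP i hwN, ?_⟩
    intro r hr
    obtain ⟨hr1, hr2⟩ := Subgroup.mem_inf.mp hr
    exact Subgroup.mem_inf.mpr ⟨hUc i w hw r hr1, hcomm r hr2⟩

include hU0 hUP hUsc hUc in
/-- the local step: an element of `N_G(R)`, for a tame `R ≤ P`, either normalizes `U k` or is, modulo
`C_G(R)`, an element normalizing a strictly larger subgroup of `P` -/
theorem local_step (R : Subgroup G) (hRP : R ≤ (P : Subgroup G))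
    (htame : ¬ p ∣ ((P : Subgroup G) ⊓ Subgroup.normalizer (R : Set G)).relIndex
      (Subgroup.normalizer (R : Set G))) (x : G) (hx : x ∈ Subgroup.normalizer (R : Set G)) :
    x ∈ Subgroup.normalizer (U k : Set G) ∨
      ∃ c ∈ Subgroup.centralizer (R : Set G), ∃ (y : G) (R' : Subgroup G), x = c * y ∧ R < R' ∧
        R' ≤ (P : Subgroup G) ∧ y ∈ Subgroup.normalizer (R' : Set G) := by
  by_cases hWR : U k ≤ R
  · left
    apply mem_normalizer_series_of_conj_le P U hUP hUsc k
    intro u hu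
    exact hRP ((Subgroup.mem_normalizer_iff.mp hx u).mp (hWR hu))
  · right
    set J := Subgroup.normalizer (R : Set G) with hJ
    set Sg := stabGroup k U R with hSg
    set C := Subgroup.centralizer (R : Set G) with hC
    set S₁ := (P : Subgroup G) ⊓ Sg with hS₁
    have hSgJ : Sg ≤ J := inf_le_left.trans inf_le_left
    have hJSg : J ≤ Subgroup.normalizer (Sg : Set G) :=
      normalizer_le_normalizer_stabGroup P k U hUsc R hRP
    have hCSg : C ≤ Sg := centralizer_le_stabGroup k U R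
    have hSgC : Sg ≤ Subgroup.normalizer (C : Set G) :=
      hSgJ.trans (normalizer_le_normalizer_centralizer R)
    have hidx : ¬ p ∣ S₁.relIndex Sg := by
      have h1 := inf_relSylow_of_le_normalizer J Sg ((P : Subgroup G) ⊓ J)
        (P.isPGroup'.to_le inf_le_left) htame hSgJ hJSg
      have e : (P : Subgroup G) ⊓ J ⊓ Sg = S₁ := by
        rw [hS₁, inf_assoc, inf_eq_right.mpr hSgJ]
      rwa [e] at h1
    obtain ⟨c, hc, y, hy, hxy⟩ := exists_mul_normalizer_of_pQuotient J Sg C S₁ hJSg hCSg hSgC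
      (fun j hj => exists_pow_mem_centralizer_of_mem_stabGroup P k U hU0 hUP R hj)
      inf_le_right (P.isPGroup'.to_le inf_le_left) hidx x hx
    have hyJ : y ∈ J := by
      have : y = c⁻¹ * x := by rw [hxy]; group
      rw [this]
      exact J.mul_mem (J.inv_mem (Subgroup.centralizer_le_normalizer _ hc)) hx
    refine ⟨c, hc, y, R ⊔ S₁, hxy, ?_, sup_le hRP inf_le_left,
      normalizer_inf_le_normalizer_sup R S₁ ⟨hyJ, hy⟩⟩
    -- `R < R ⊔ S₁`
    refine lt_of_le_of_ne le_sup_left ?_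
    intro heq
    have hS₁R : S₁ ≤ R := by rw [heq]; exact le_sup_right
    -- `R < R ⊔ U k`
    set E := R ⊔ U k with hE
    have hEP : E ≤ (P : Subgroup G) := sup_le hRP (hUP k)
    have hRE : R < E := by
      refine lt_of_le_of_ne le_sup_left ?_
      intro h
      apply hWR
      rw [h]; exact le_sup_right
    have : Group.IsNilpotent E := (P.isPGroup'.to_le hEP).isNilpotent
    have h1 := lt_inf_normalizer_of_lt E R hRE
    obtain ⟨e, heE, heR⟩ := SetLike.exists_of_lt h1
    -- write `e = r w`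
    have hUkN : R ≤ Subgroup.normalizer (U k : Set G) := by
      intro r hr
      apply mem_normalizer_series_of_conj_le P U hUP hUsc k
      intro u hu
      exact (P : Subgroup G).mul_mem ((P : Subgroup G).mul_mem (hRP hr) (hUP k hu))
        ((P : Subgroup G).inv_mem (hRP hr))
    have heE' : e ∈ U k ⊔ R := by rw [sup_comm]; exact heE.1
    obtain ⟨w, hw, r, hr, hewr⟩ := Cfsg.Agent.Helper1.exists_mul_of_mem_sup hUkN heE'
    have hwJ : w ∈ J := by
      have : w = e * r⁻¹ := by rw [hewr]; group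
      rw [this]
      exact J.mul_mem heE.2 (J.inv_mem (Subgroup.le_normalizer hr))
    have hwS₁ : w ∈ S₁ :=
      ⟨hUP k hw, inf_normalizer_le_stabGroup P k U hUP hUsc hUc R hRP ⟨hw, hwJ⟩⟩
    apply heR
    rw [hewr]
    exact R.mul_mem (hS₁R hwS₁) hr

omit [Finite G] in
/-- factorization along a chain: if every step factors as (centralizing element)(element of `L`),
so does the whole chain -/
theorem XChain.factor [Finite G] {St : Subgroup G → G → Prop} (L : Subgroup G) (m : ℕ)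
    (hstep : ∀ T x, St T x → x ∈ Subgroup.normalizer (T : Set G) → m ≤ Nat.card T →
      ∃ c ∈ Subgroup.centralizer (T : Set G), ∃ l ∈ L, x = c * l)
    {A : Set G} {g : G} (h : XChain St A g) (hm : m ≤ Set.ncard A) :
    ∃ c ∈ Subgroup.centralizer A, ∃ l ∈ L, g = c * l := by
  induction h with
  | nil A => exact ⟨1, one_mem _, 1, one_mem _, by simp⟩
  | cons A T x g hT hx hAT _ ih =>
    have hAT' : Set.ncard A ≤ Nat.card T := by
      have h1 : Set.ncard A ≤ Set.ncard (T : Set G) := Set.ncard_le_ncard hAT (Set.toFinite _)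
      have h2 : Set.ncard (T : Set G) = Nat.card T := (_root_.Nat.card_coe_set_eq (T : Set G)).symm
      rw [← h2]; exact h1
    obtain ⟨c, hc, l, hl, hxcl⟩ := hstep T x hT hx (hm.trans hAT')
    have hcard : Set.ncard (rcs x A) = Set.ncard A := by
      unfold rcs
      apply Set.ncard_image_of_injective
      intro a b hab
      simpa using hab
    obtain ⟨c', hc', l', hl', hg⟩ := ih (by rw [hcard]; exact hm)
    refine ⟨c * (l * c' * l⁻¹), ?_, l * l', L.mul_mem hl hl', ?_⟩
    · apply Subgroup.mul_mem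
      · exact Subgroup.centralizer_le hAT hc
      · rw [Subgroup.mem_centralizer_iff]
        intro a ha
        have h1 : x⁻¹ * a * x ∈ rcs x A := ⟨a, ha, rfl⟩
        have h2 := Subgroup.mem_centralizer_iff.mp hc' _ h1
        have h3 : x⁻¹ * a * x = l⁻¹ * a * l := by
          have hca : c⁻¹ * a * c = a := by
            have := Subgroup.mem_centralizer_iff.mp hc a (hAT ha)
            calc c⁻¹ * a * c = c⁻¹ * (a * c) := by group
              _ = c⁻¹ * (c * a) := by rw [this]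
              _ = a := by group
          rw [hxcl]
          calc (c * l)⁻¹ * a * (c * l) = l⁻¹ * (c⁻¹ * a * c) * l := by group
            _ = l⁻¹ * a * l := by rw [hca]
        rw [h3] at h2
        calc a * (l * c' * l⁻¹) = l * ((l⁻¹ * a * l) * c') * l⁻¹ := by group
          _ = l * (c' * (l⁻¹ * a * l)) * l⁻¹ := by rw [h2]
          _ = l * c' * l⁻¹ * a := by group
    · rw [hxcl, hg]; group

include hU0 hUP hUsc hUc in
theorem closed_series_step (A : Subgroup G) (hAP : A ≤ (P : Subgroup G))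
    (hbig : ∀ A' : Subgroup G, A' ≤ (P : Subgroup G) → Nat.card A < Nat.card A' → ∀ g : G,
      rcg g A' ≤ (P : Subgroup G) →
      ∃ c ∈ Subgroup.centralizer (A' : Set G), ∃ l ∈ Subgroup.normalizer (U k : Set G), g = c * l)
    (g : G) (hg : rcg g A ≤ (P : Subgroup G)) :
    ∃ c ∈ Subgroup.centralizer (A : Set G), ∃ l ∈ Subgroup.normalizer (U k : Set G), g = c * l := by
  have hchain := tame_chain P (A : Set G) g (SetLike.coe_subset_coe.mpr hAP)
    (by rw [← coe_rcg]; exact SetLike.coe_subset_coe.mpr hg)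
  have hncard : Set.ncard (A : Set G) = Nat.card A := (_root_.Nat.card_coe_set_eq (A : Set G)).symm
  apply XChain.factor (Subgroup.normalizer (U k : Set G)) (Nat.card A) ?_ hchain (by rw [hncard])
  intro T x hT hxT hm
  obtain ⟨Q, hTQ, htame, -, -⟩ := hT
  have hTP : T ≤ (P : Subgroup G) := hTQ ▸ inf_le_left
  rcases local_step P k U hU0 hUP hUsc hUc T hTP htame x hxT with
    h | ⟨c, hc, y, R', hxy, hlt, hR'P, hyR'⟩
  · exact ⟨1, one_mem _, x, h, by simp⟩
  · have hcard : Nat.card A < Nat.card R' := lt_of_le_of_lt hm (card_lt_card_of_lt hlt)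
    have hyR'' : rcg y R' ≤ (P : Subgroup G) := by
      rw [mem_normalizer_iff_rcg.mp hyR']; exact hR'P
    obtain ⟨c', hc', l, hl, hy⟩ := hbig R' hR'P hcard y hyR''
    refine ⟨c * c', Subgroup.mul_mem _ hc (Subgroup.centralizer_le hlt.le hc'), l, hl, ?_⟩
    rw [hxy, hy, mul_assoc]

include hU0 hUP hUsc hUc in
theorem closed_series_aux (n : ℕ) : ∀ A : Subgroup G, A ≤ (P : Subgroup G) →
    Nat.card (P : Subgroup G) - Nat.card A ≤ n → ∀ g : G, rcg g A ≤ (P : Subgroup G) →
    ∃ c ∈ Subgroup.centralizer (A : Set G), ∃ l ∈ Subgroup.normalizer (U k : Set G), g = c * l := by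
  induction n with
  | zero =>
    intro A hAP hn g hg
    apply closed_series_step P k U hU0 hUP hUsc hUc A hAP ?_ g hg
    intro A' hA'P hlt
    exfalso
    have := Subgroup.card_le_of_le hA'P
    omega
  | succ n ih =>
    intro A hAP hn g hg
    apply closed_series_step P k U hU0 hUP hUsc hUc A hAP ?_ g hg
    intro A' hA'P hlt
    apply ih A' hA'P
    have := Subgroup.card_le_of_le hA'P
    omega

include hU0 hUP hUsc hUc in
/-- **A series of strongly closed subgroups.** If `1 = U 0, U 1, …, U k = W` are strongly closed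
in the Sylow `p`-subgroup `P` with respect to `G` and `[W, U (i+1)] ≤ U i`, then `N_G(W)` controls
strong fusion in `P` with respect to `G`. -/
theorem controls_of_closed_series : ∀ A : Subgroup G, A ≤ (P : Subgroup G) → ∀ g : G,
    A.map (MulAut.conj g).toMonoidHom ≤ (P : Subgroup G) →
    ∃ h ∈ Subgroup.normalizer (U k : Set G), ∃ c ∈ Subgroup.centralizer (A : Set G), g = h * c := by
  intro A hAP g hg
  have h1 : rcg g⁻¹ A ≤ (P : Subgroup G) := by
    unfold rcg; rwa [inv_inv]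
  obtain ⟨c, hc, l, hl, hgcl⟩ := closed_series_aux P k U hU0 hUP hUsc hUc _ A hAP le_rfl g⁻¹ h1
  refine ⟨l⁻¹, Subgroup.inv_mem _ hl, c⁻¹, Subgroup.inv_mem _ hc, ?_⟩
  have : g = (g⁻¹)⁻¹ := by simp
  rw [this, hgcl]; group

end series

end Cfsg.Agent.Helper10
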