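import Mathlib
import Cfsg.Prelude.Def_ConjugacyFunctors
import Cfsg.Agent.Lib.Helper10.FamilyFusion2
import Cfsg.Agent.Lib.Helper10.Fusion
import Cfsg.Agent.Lib.Helper10.StabChain
import Cfsg.Agent.Lib.Helper10.ClosedSeries

set_option autoImplicit false

namespace Cfsg.Agent.Helper10

open Cfsg

variable {G : Type*} [Group G]

/-- the two step subgroups `N_L(W Q)`, `C_L(V Q)` attached to a pair of functors -/
def pairFamily (W V : Subgroup G → Subgroup G) (L Q : Subgroup G) : Set (Subgroup G) :=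
  {L ⊓ Subgroup.normalizer ((W Q : Subgroup G) : Set G), L ⊓ Subgroup.centralizer ((V Q : Subgroup G) : Set G)}

theorem rcs_eq_self_of_mem_centralizer {X : Set G} {c : G} (hc : c ∈ Subgroup.centralizer X) :
    rcs c X = X := by
  have h : ∀ x ∈ X, c⁻¹ * x * c = x := by
    intro x hx
    have := Subgroup.mem_centralizer_iff.mp hc x hx
    calc c⁻¹ * x * c = c⁻¹ * (x * c) := by group
      _ = c⁻¹ * (c * x) := by rw [this]
      _ = x := by group
  unfold rcs
  ext y
  constructor
  · rintro ⟨x, hx, rfl⟩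
    show c⁻¹ * x * c ∈ X
    rw [h x hx]; exact hx
  · intro hy
    exact ⟨y, hy, h y hy⟩

section lists

variable {𝓝 : Set (Subgroup G)} {R : Subgroup G}

theorem nchain_of_list : ∀ (l : List G) (A : Set G), (∀ x ∈ l, ∃ N ∈ 𝓝, x ∈ N) →
    (∀ k, k ≤ l.length → rcs (l.take k).prod A ⊆ (R : Set G)) → NChain 𝓝 R A l.prod
  | [], A, _, h => by
    have h0 := h 0 (le_refl _)
    simp only [List.take_nil, List.prod_nil, rcs_one] at h0
    simpa using NChain.nil A h0
  | x :: l, A, hmem, h => by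
    rw [List.prod_cons]
    obtain ⟨N, hN, hx⟩ := hmem x List.mem_cons_self
    have h0 := h 0 (Nat.zero_le _)
    simp only [List.take_zero, List.prod_nil, rcs_one] at h0
    refine NChain.cons A N x l.prod hN hx h0 ?_
    apply nchain_of_list l (rcs x A) (fun y hy => hmem y (List.mem_cons_of_mem _ hy))
    intro k hk
    have := h (k + 1) (by simp only [List.length_cons]; omega)
    rw [List.take_succ_cons, List.prod_cons, rcs_mul] at this
    exact this

theorem NChain.toList {A : Set G} {g : G} (h : NChain 𝓝 R A g) :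
    ∃ l : List G, (∀ x ∈ l, ∃ N ∈ 𝓝, x ∈ N) ∧ l.prod = g ∧
      ∀ k, k ≤ l.length → rcs (l.take k).prod A ⊆ (R : Set G) := by
  induction h with
  | nil A hA =>
    refine ⟨[], by simp, by simp, fun k _ => ?_⟩
    simp only [List.take_nil, List.prod_nil, rcs_one]
    exact hA
  | cons A N x g hN hx hA htail ih =>
    obtain ⟨l, hl1, hl2, hl3⟩ := ih
    refine ⟨x :: l, ?_, by rw [List.prod_cons, hl2], ?_⟩
    · intro y hy
      rcases List.mem_cons.mp hy with rfl | hy
      · exact ⟨N, hN, hx⟩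
      · exact hl1 y hy
    · intro k hk
      cases k with
      | zero =>
        simp only [List.take_zero, List.prod_nil, rcs_one]
        exact hA
      | succ k =>
        rw [List.take_succ_cons, List.prod_cons, rcs_mul]
        exact hl3 k (by simpa using hk)

/-- from the explicit `Fin`-indexed form to `NComp` -/
theorem ncomp_of_fin {X : Set G} {a c : G} (hc : c ∈ Subgroup.centralizer X) {n : ℕ} (b : Fin n → G)
    (hb : ∀ i, ∃ N ∈ 𝓝, b i ∈ N) (ha : a = c * (List.ofFn b).prod)
    (hk : ∀ k : ℕ, k ≤ n → rcs ((List.ofFn b).take k).prod (rcs c X) ⊆ (R : Set G)) :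
    NComp 𝓝 R X a := by
  rw [rcs_eq_self_of_mem_centralizer hc] at hk
  refine ⟨(List.ofFn b).prod, ?_, ?_⟩
  · apply nchain_of_list
    · intro x hx
      obtain ⟨i, rfl⟩ := (List.mem_ofFn' b x).mp hx
      exact hb i
    · intro k hk'
      apply hk
      simpa using hk'
  · intro x hx
    have h1 : c⁻¹ * x * c = x := by
      have := Subgroup.mem_centralizer_iff.mp hc x hx
      calc c⁻¹ * x * c = c⁻¹ * (x * c) := by group
        _ = c⁻¹ * (c * x) := by rw [this]
        _ = x := by group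
    rw [ha]
    calc (List.ofFn b).prod⁻¹ * x * (List.ofFn b).prod
        = (List.ofFn b).prod⁻¹ * (c⁻¹ * x * c) * (List.ofFn b).prod := by rw [h1]
      _ = _ := by group

/-- from `NComp` to the explicit `Fin`-indexed form -/
theorem fin_of_ncomp {X : Set G} {a : G} (h : NComp 𝓝 R X a) :
    ∃ c ∈ Subgroup.centralizer X, ∃ (n : ℕ) (b : Fin n → G), (∀ i, ∃ N ∈ 𝓝, b i ∈ N) ∧
      a = c * (List.ofFn b).prod ∧
      ∀ k : ℕ, k ≤ n → rcs ((List.ofFn b).take k).prod (rcs c X) ⊆ (R : Set G) := by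
  obtain ⟨g', hch, hag⟩ := h
  obtain ⟨l, hl1, hl2, hl3⟩ := hch.toList
  have hc : a * g'⁻¹ ∈ Subgroup.centralizer X := by
    rw [Subgroup.mem_centralizer_iff]
    intro x hx
    have := hag x hx
    calc x * (a * g'⁻¹) = a * (a⁻¹ * x * a) * g'⁻¹ := by group
      _ = a * (g'⁻¹ * x * g') * g'⁻¹ := by rw [this]
      _ = a * g'⁻¹ * x := by group
  refine ⟨a * g'⁻¹, hc, l.length, fun i => l.get i, ?_, ?_, ?_⟩
  · intro i
    exact hl1 _ (List.get_mem l i)
  · rw [List.ofFn_get, hl2]; group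
  · intro k hk
    rw [List.ofFn_get, rcs_eq_self_of_mem_centralizer hc]
    exact hl3 k hk

end lists

theorem rcg_centralizer (c : G) (B : Subgroup G) :
    rcg c (Subgroup.centralizer (B : Set G)) = Subgroup.centralizer ((rcg c B : Subgroup G) : Set G) := by
  ext y
  rw [mem_rcg, Subgroup.mem_centralizer_iff, Subgroup.mem_centralizer_iff]
  constructor
  · intro h b' hb'
    have hb : c * b' * c⁻¹ ∈ B := mem_rcg.mp hb'
    have := h _ hb
    calc b' * y = c⁻¹ * ((c * b' * c⁻¹) * (c * y * c⁻¹)) * c := by group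
      _ = c⁻¹ * ((c * y * c⁻¹) * (c * b' * c⁻¹)) * c := by rw [this]
      _ = y * b' := by group
  · intro h b hb
    have hb' : c⁻¹ * b * c ∈ rcg c B := by
      rw [mem_rcg]
      have : c * (c⁻¹ * b * c) * c⁻¹ = b := by group
      rw [this]; exact hb
    have := h _ hb'
    calc b * (c * y * c⁻¹) = c * ((c⁻¹ * b * c) * y) * c⁻¹ := by group
      _ = c * (y * (c⁻¹ * b * c)) * c⁻¹ := by rw [this]
      _ = c * y * c⁻¹ * b := by group

/-- the pair `(W, V)` controls strong fusion in `L` (chain form) -/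
def PairControls (p : ℕ) (W V : Subgroup G → Subgroup G) (L : Subgroup G) : Prop :=
  ∃ Q : Subgroup G, Q ≤ L ∧ IsPGroup p Q ∧ ¬ p ∣ Q.relIndex L ∧
    ∀ (X : Set G) (a : G), X ⊆ (Q : Set G) → a ∈ L → rcs a X ⊆ (Q : Set G) →
      NComp (pairFamily W V L Q) Q X a

/-- control of strong fusion by a pair may be tested on any Sylow `p`-subgroup of `L` -/
theorem pair_transfer [Finite G] {p : ℕ} [Fact p.Prime] {W V : Subgroup G → Subgroup G}
    (hW : IsConjugacyFunctor p W) (hV : IsConjugacyFunctor p V) {L : Subgroup G}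
    (hc : PairControls p W V L)
    (R : Subgroup G) (hRL : R ≤ L) (hRp : IsPGroup p R) (hRidx : ¬ p ∣ R.relIndex L)
    (A : Set G) (g : G) (hg : g ∈ L) (hAR : A ⊆ (R : Set G)) (hgA : rcs g A ⊆ (R : Set G)) :
    NComp (pairFamily W V L R) R A g := by
  obtain ⟨T', hT'L, hT'p, hT'idx, hT'⟩ := hc
  obtain ⟨c, hcL, hcR⟩ := exists_rcg_eq_of_relSylow L R T' hRL hRp hRidx hT'L hT'p hT'idx
  have hT'c : ((T' : Subgroup G) : Set G) = rcs c⁻¹ (R : Set G) := by
    rw [← hcR, coe_rcg, rcs_inv_rcs]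
  have h1 := hT' (rcs c⁻¹ A) (c * g * c⁻¹)
    (by rw [hT'c]; exact rcs_mono _ hAR)
    (L.mul_mem (L.mul_mem hcL hg) (L.inv_mem hcL))
    (by
      rw [← rcs_mul, hT'c]
      have e : c⁻¹ * (c * g * c⁻¹) = g * c⁻¹ := by group
      rw [e, rcs_mul]
      exact rcs_mono _ hgA)
  have h2 := h1.conj (𝓝' := pairFamily W V L R) c (by
    intro N hN
    rcases hN with rfl | rfl
    · left
      rw [rcg_inf, rcg_self_of_mem hcL, rcg_normalizer, ← cf_rcg hW hT'p, hcR]
    · right
      rw [Set.mem_singleton_iff, rcg_inf, rcg_self_of_mem hcL, rcg_centralizer, ← cf_rcg hV hT'p, hcR])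
  rw [hcR] at h2
  have e1 : rcs c (rcs c⁻¹ A) = A := by
    have := rcs_inv_rcs c⁻¹ A
    rwa [inv_inv] at this
  have e2 : c⁻¹ * (c * g * c⁻¹) * c = g := by group
  rwa [e1, e2] at h2

section main

variable [Finite G] {p : ℕ} [Fact p.Prime] (S : Subgroup G) (hS : IsPGroup p S) (hidx : ¬ p ∣ S.index)
  (W V : Subgroup G → Subgroup G) (hW : IsConjugacyFunctor p W) (hV : IsConjugacyFunctor p V)
  (hWZ : ∀ H : Subgroup G, IsPGroup p ↥H → H ⊓ Subgroup.centralizer ((H : Subgroup G) : Set G) ≤ W H)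
  (hVmono : ∀ H K : Subgroup G, IsPGroup p ↥H → IsPGroup p ↥K → H ≠ ⊥ → K ≠ ⊥ →
    H ⊓ Subgroup.centralizer ((H : Subgroup G) : Set G) ≤ K ⊓ Subgroup.centralizer ((K : Subgroup G) : Set G) →
    V H ≤ V K)
  (hloc : ∀ H : Subgroup G, S ⊓ Subgroup.centralizer (S : Set G) ≤ H → H ≤ S →
    PairControls p W V (Subgroup.normalizer (H : Set G)))

theorem pair_top_W (z : G) (hz : z ∈ Subgroup.normalizer ((W S : Subgroup G) : Set G)) (A' : Set G)
    (hA' : A' ⊆ (S : Set G)) (hzA' : rcs z A' ⊆ (S : Set G)) :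
    NComp (pairFamily W V ⊤ S) S A' z :=
  NComp.single (N := ⊤ ⊓ Subgroup.normalizer ((W S : Subgroup G) : Set G)) (Or.inl rfl)
    ⟨Subgroup.mem_top _, hz⟩ hA' hzA'

theorem pair_top_V (z : G) (hz : z ∈ Subgroup.centralizer ((V S : Subgroup G) : Set G)) (A' : Set G)
    (hA' : A' ⊆ (S : Set G)) (hzA' : rcs z A' ⊆ (S : Set G)) :
    NComp (pairFamily W V ⊤ S) S A' z :=
  NComp.single (N := ⊤ ⊓ Subgroup.centralizer ((V S : Subgroup G) : Set G)) (Or.inr rfl)
    ⟨Subgroup.mem_top _, hz⟩ hA' hzA'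

include hS hW hV hVmono hloc in
theorem pair_local (U : Subgroup G) (hUS : U ≤ S)
    (hZU : S ⊓ Subgroup.centralizer (S : Set G) ≤ U)
    (hUgood : ¬ p ∣ (S ⊓ Subgroup.normalizer (U : Set G)).relIndex (Subgroup.normalizer (U : Set G)))
    (hE : ∀ z ∈ Subgroup.normalizer ((W (S ⊓ Subgroup.normalizer (U : Set G)) : Subgroup G) : Set G),
      ∀ A' : Set G, A' ⊆ ((S ⊓ Subgroup.normalizer (U : Set G) : Subgroup G) : Set G) →
        rcs z A' ⊆ ((S ⊓ Subgroup.normalizer (U : Set G) : Subgroup G) : Set G) →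
        NComp (pairFamily W V ⊤ S) S A' z)
    (x : G) (hx : x ∈ Subgroup.normalizer (U : Set G)) (A : Set G)
    (hA : A ⊆ ((S ⊓ Subgroup.normalizer (U : Set G) : Subgroup G) : Set G))
    (hxA : rcs x A ⊆ ((S ⊓ Subgroup.normalizer (U : Set G) : Subgroup G) : Set G)) :
    NComp (pairFamily W V ⊤ S) S A x := by
  set R := S ⊓ Subgroup.normalizer (U : Set G) with hR
  have hRp : IsPGroup p R := hS.to_le inf_le_left
  have h1 := pair_transfer hW hV (hloc U hZU hUS) R inf_le_right hRp hUgood A x hx hA hxA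
  refine h1.bind inf_le_left ?_
  intro N hN z hz A' hA' hzA'
  rcases hN with rfl | hN
  · exact hE z hz.2 A' hA' hzA'
  · rw [Set.mem_singleton_iff] at hN
    subst hN
    by_cases hRbot : R = ⊥
    · apply NComp.of_subset_one
      intro a ha
      have := hA' ha
      rw [hRbot] at this
      exact Subgroup.mem_bot.mp this
    have hSbot : S ≠ ⊥ := by
      intro h
      apply hRbot
      rw [hR, h]; exact bot_inf_eq _
    have hUR : U ≤ R := le_inf hUS Subgroup.le_normalizer
    have hZ : S ⊓ Subgroup.centralizer (S : Set G) ≤ R ⊓ Subgroup.centralizer (R : Set G) :=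
      le_inf ((hZU.trans hUR)) (inf_le_right.trans (Subgroup.centralizer_le
        (show (R : Set G) ⊆ (S : Set G) from SetLike.coe_subset_coe.mpr inf_le_left)))
    have hVSR : V S ≤ V R := hVmono S R hS hRp hSbot hRbot hZ
    have hzV : z ∈ Subgroup.centralizer ((V S : Subgroup G) : Set G) :=
      Subgroup.centralizer_le (show ((V S : Subgroup G) : Set G) ⊆ ((V R : Subgroup G) : Set G) from
        SetLike.coe_subset_coe.mpr hVSR) hz.2
    exact pair_top_V S W V z hzV A' (hA'.trans (SetLike.coe_subset_coe.mpr inf_le_left))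
      (hzA'.trans (SetLike.coe_subset_coe.mpr inf_le_left))

include hS hW hV hWZ hVmono hloc in
theorem pair_tower (n : ℕ) : ∀ T : Subgroup G, IsWellPlaced p W S T →
    S ⊓ Subgroup.centralizer (S : Set G) ≤ T →
    Nat.card S - Nat.card ↥(S ⊓ Subgroup.normalizer (T : Set G)) ≤ n →
    ∀ (B : Set G) (h : G), h ∈ Subgroup.normalizer (T : Set G) →
      B ⊆ ((S ⊓ Subgroup.normalizer (T : Set G) : Subgroup G) : Set G) →
      rcs h B ⊆ ((S ⊓ Subgroup.normalizer (T : Set G) : Subgroup G) : Set G) →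
      NComp (pairFamily W V ⊤ S) S B h := by
  induction n with
  | zero =>
    intro T hT hZT hcard B h hh hB hhB
    have hRS : S ⊓ Subgroup.normalizer (T : Set G) = S := by
      apply Subgroup.eq_of_le_of_card_ge inf_le_left
      omega
    apply pair_local S hS W V hW hV hVmono hloc T hT.1 hZT (hT.2 0) ?_ h hh B hB hhB
    intro z hz A' hA' hzA'
    rw [hRS] at hz hA' hzA'
    exact pair_top_W S W V z hz A' hA' hzA'
  | succ n ih =>
    intro T hT hZT hcard B h hh hB hhB
    set R := S ⊓ Subgroup.normalizer (T : Set G) with hR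
    have hRp : IsPGroup p R := hS.to_le inf_le_left
    apply pair_local S hS W V hW hV hVmono hloc T hT.1 hZT (hT.2 0) ?_ h hh B hB hhB
    intro z hz A' hA' hzA'
    rw [← hR] at hz hA' hzA'
    by_cases hRS : R = S
    · rw [hRS] at hz hA' hzA'
      exact pair_top_W S W V z hz A' hA' hzA'
    have hlt : R < S := lt_of_le_of_ne inf_le_left hRS
    have hnil : Group.IsNilpotent S := hS.isNilpotent
    have h1 := lt_inf_normalizer_of_lt S R hlt
    set T₁ := W R with hT₁
    have hT₁wp : IsWellPlaced p W S T₁ := isWellPlaced_next hW hS hT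
    have hTR : T ≤ R := le_inf hT.1 Subgroup.le_normalizer
    set R₁ := S ⊓ Subgroup.normalizer (T₁ : Set G) with hR₁
    have h2 : S ⊓ Subgroup.normalizer (R : Set G) ≤ R₁ := inf_le_inf_left S (cf_normalizer_le hW hRp)
    have hRR₁ : R < R₁ := lt_of_lt_of_le h1 h2
    have hcard1 : Nat.card S - Nat.card R₁ ≤ n := by
      have := card_lt_card_of_lt hRR₁
      have h3 : Nat.card R₁ ≤ Nat.card S := Subgroup.card_le_of_le inf_le_left
      have h0 : Nat.card S - Nat.card R ≤ n + 1 := hcard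
      omega
    have hZT₁ : S ⊓ Subgroup.centralizer (S : Set G) ≤ T₁ := by
      refine le_trans ?_ (hWZ R hRp)
      exact le_inf ((hZT.trans hTR)) (inf_le_right.trans (Subgroup.centralizer_le
        (show (R : Set G) ⊆ (S : Set G) from SetLike.coe_subset_coe.mpr inf_le_left)))
    exact ih T₁ hT₁wp hZT₁ hcard1 A' z hz
      (hA'.trans (SetLike.coe_subset_coe.mpr hRR₁.le))
      (hzA'.trans (SetLike.coe_subset_coe.mpr hRR₁.le))

end main

/-- the centric reduction: an element of `N_G(T)`, `T ≤ S` fully normalized, is the product of an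
element of `C_G(T)` and an element normalizing both `T` and `C_S(T)` -/
theorem centric_factor [Finite G] {p : ℕ} [Fact p.Prime] (S : Subgroup G) (hS : IsPGroup p S)
    (T : Subgroup G)
    (htame : ¬ p ∣ (S ⊓ Subgroup.normalizer (T : Set G)).relIndex (Subgroup.normalizer (T : Set G)))
    (x : G) (hx : x ∈ Subgroup.normalizer (T : Set G)) :
    ∃ c ∈ Subgroup.centralizer (T : Set G), ∃ y : G, x = c * y ∧ y ∈ Subgroup.normalizer (T : Set G) ∧
      y ∈ Subgroup.normalizer ((S ⊓ Subgroup.centralizer (T : Set G) : Subgroup G) : Set G) := by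
  set J := Subgroup.normalizer (T : Set G) with hJ
  set C := Subgroup.centralizer (T : Set G) with hC
  have hCJ : C ≤ J := Subgroup.centralizer_le_normalizer _
  have hJC : J ≤ Subgroup.normalizer (C : Set G) := normalizer_le_normalizer_centralizer T
  have hidx : ¬ p ∣ (S ⊓ C).relIndex C := by
    have h1 := inf_relSylow_of_le_normalizer J C (S ⊓ J) (hS.to_le inf_le_left) htame hCJ hJC
    have e : S ⊓ J ⊓ C = S ⊓ C := by rw [inf_assoc, inf_eq_right.mpr hCJ]
    rwa [e] at h1
  obtain ⟨c, hc, y, hy, hxy⟩ := exists_mul_normalizer_of_pQuotient J C C (S ⊓ C) hJC le_rfl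
    Subgroup.le_normalizer (fun j hj => ⟨0, by simpa using hj⟩) inf_le_right (hS.to_le inf_le_left)
    hidx x hx
  refine ⟨c, hc, y, hxy, ?_, hy⟩
  have : y = c⁻¹ * x := by rw [hxy]; group
  rw [this]
  exact J.mul_mem (J.inv_mem (hCJ hc)) hx

/-- turning an Alperin chain into a composite, given composites for the single steps -/
theorem Chain.toNComp [Finite G] {𝓕 𝓝 : Set (Subgroup G)} {R : Subgroup G} (m : ℕ)
    (hstep : ∀ T ∈ 𝓕, ∀ x ∈ Subgroup.normalizer (T : Set G), m ≤ Nat.card T →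
      NComp 𝓝 R (T : Set G) x)
    {A : Set G} {g : G} (h : Chain 𝓕 A g) (hA : A ⊆ (R : Set G)) (hm : m ≤ Set.ncard A) :
    NComp 𝓝 R A g := by
  induction h with
  | nil A => exact NComp.of_chain (NChain.nil A hA)
  | cons A T x g hT hx hAT _ ih =>
    have hAT' : Set.ncard A ≤ Nat.card T := by
      have h1 : Set.ncard A ≤ Set.ncard (T : Set G) := Set.ncard_le_ncard hAT (Set.toFinite _)
      have h2 : Set.ncard (T : Set G) = Nat.card T := (_root_.Nat.card_coe_set_eq (T : Set G)).symm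
      rw [← h2]; exact h1
    have h1 := (hstep T hT x hx (hm.trans hAT')).mono hAT
    have hcard : Set.ncard (rcs x A) = Set.ncard A := by
      unfold rcs
      apply Set.ncard_image_of_injective
      intro a b hab
      simpa using hab
    exact h1.trans (ih h1.image_subset (by rw [hcard]; exact hm))

section main2

variable [Finite G] {p : ℕ} [Fact p.Prime] (S : Subgroup G) (hS : IsPGroup p S) (hidx : ¬ p ∣ S.index)
  (W V : Subgroup G → Subgroup G) (hW : IsConjugacyFunctor p W) (hV : IsConjugacyFunctor p V)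
  (hWZ : ∀ H : Subgroup G, IsPGroup p ↥H → H ⊓ Subgroup.centralizer ((H : Subgroup G) : Set G) ≤ W H)
  (hVmono : ∀ H K : Subgroup G, IsPGroup p ↥H → IsPGroup p ↥K → H ≠ ⊥ → K ≠ ⊥ →
    H ⊓ Subgroup.centralizer ((H : Subgroup G) : Set G) ≤ K ⊓ Subgroup.centralizer ((K : Subgroup G) : Set G) →
    V H ≤ V K)
  (hloc : ∀ H : Subgroup G, S ⊓ Subgroup.centralizer (S : Set G) ≤ H → H ≤ S →
    PairControls p W V (Subgroup.normalizer (H : Set G)))

include hS hW hV hWZ hVmono hloc in
theorem pair_step (m : ℕ)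
    (hbig : ∀ A' : Subgroup G, A' ≤ S → m < Nat.card A' → ∀ g : G, rcg g A' ≤ S →
      NComp (pairFamily W V ⊤ S) S (A' : Set G) g)
    (T : Subgroup G) (hT : IsWellPlaced p W S T) (hmT : m ≤ Nat.card T) (x : G)
    (hx : x ∈ Subgroup.normalizer (T : Set G)) : NComp (pairFamily W V ⊤ S) S (T : Set G) x := by
  obtain ⟨c, hc, y, hxy, hyT, hyC⟩ := centric_factor S hS T (hT.2 0) x hx
  set S₁ := S ⊓ Subgroup.centralizer (T : Set G) with hS₁
  have hcongr : ∀ a ∈ (T : Set G), x⁻¹ * a * x = y⁻¹ * a * y := by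
    intro a ha
    have h1 : c⁻¹ * a * c = a := by
      have := Subgroup.mem_centralizer_iff.mp hc a ha
      calc c⁻¹ * a * c = c⁻¹ * (a * c) := by group
        _ = c⁻¹ * (c * a) := by rw [this]
        _ = a := by group
    rw [hxy]
    calc (c * y)⁻¹ * a * (c * y) = y⁻¹ * (c⁻¹ * a * c) * y := by group
      _ = y⁻¹ * a * y := by rw [h1]
  have hTN : T ≤ S ⊓ Subgroup.normalizer (T : Set G) := le_inf hT.1 Subgroup.le_normalizer
  by_cases hST : S₁ ≤ T
  · have hZT : S ⊓ Subgroup.centralizer (S : Set G) ≤ T := by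
      refine le_trans ?_ hST
      exact le_inf inf_le_left (inf_le_right.trans (Subgroup.centralizer_le
        (show (T : Set G) ⊆ (S : Set G) from SetLike.coe_subset_coe.mpr hT.1)))
    apply pair_tower S hS W V hW hV hWZ hVmono hloc (Nat.card S) T hT hZT (Nat.sub_le _ _)
      (T : Set G) x hx (SetLike.coe_subset_coe.mpr hTN)
    rw [← coe_rcg, mem_normalizer_iff_rcg.mp hx]
    exact SetLike.coe_subset_coe.mpr hTN
  · set Ts := T ⊔ S₁ with hTs
    have hTlt : T < Ts := by
      refine lt_of_le_of_ne le_sup_left ?_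
      intro h
      apply hST
      rw [h]; exact le_sup_right
    have hTsS : Ts ≤ S := sup_le hT.1 inf_le_left
    have hyTs : y ∈ Subgroup.normalizer (Ts : Set G) := normalizer_inf_le_normalizer_sup T S₁ ⟨hyT, hyC⟩
    have hcard : m < Nat.card Ts := lt_of_le_of_lt hmT (card_lt_card_of_lt hTlt)
    have h1 := hbig Ts hTsS hcard y (by rw [mem_normalizer_iff_rcg.mp hyTs]; exact hTsS)
    exact (h1.mono (SetLike.coe_subset_coe.mpr hTlt.le)).congr hcongr

include hS hidx hW hV hWZ hVmono hloc in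
theorem pair_main (n : ℕ) : ∀ B : Subgroup G, B ≤ S → Nat.card S - Nat.card B ≤ n → ∀ g : G,
    rcg g B ≤ S → NComp (pairFamily W V ⊤ S) S (B : Set G) g := by
  induction n with
  | zero =>
    intro B hBS hcard g hg
    have hF : ∀ T : Subgroup G, T ≤ S →
        ∃ U ∈ {T : Subgroup G | IsWellPlaced p W S T}, U ≤ S ∧ (∃ g : G, rcg g T = U) ∧
        ¬ p ∣ (S ⊓ Subgroup.normalizer (U : Set G)).relIndex (Subgroup.normalizer (U : Set G)) := by
      intro T hT
      obtain ⟨k, -, hk⟩ := exists_wellPlaced S hS hidx hW T hT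
      exact ⟨_, hk, hk.1, ⟨k, rfl⟩, hk.2 0⟩
    have hchain := alperin_chain S hS _ hF (B : Set G) g (SetLike.coe_subset_coe.mpr hBS)
      (by rw [← coe_rcg]; exact SetLike.coe_subset_coe.mpr hg)
    have hncard : Set.ncard (B : Set G) = Nat.card B := (_root_.Nat.card_coe_set_eq (B : Set G)).symm
    apply Chain.toNComp (Nat.card B) ?_ hchain (SetLike.coe_subset_coe.mpr hBS) (by rw [hncard])
    intro T hT x hx hm
    apply pair_step S hS W V hW hV hWZ hVmono hloc (Nat.card B) ?_ T hT hm x hx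
    intro A' hA'S hlt
    have := Subgroup.card_le_of_le hA'S
    omega
  | succ n ih =>
    intro B hBS hcard g hg
    have hF : ∀ T : Subgroup G, T ≤ S →
        ∃ U ∈ {T : Subgroup G | IsWellPlaced p W S T}, U ≤ S ∧ (∃ g : G, rcg g T = U) ∧
        ¬ p ∣ (S ⊓ Subgroup.normalizer (U : Set G)).relIndex (Subgroup.normalizer (U : Set G)) := by
      intro T hT
      obtain ⟨k, -, hk⟩ := exists_wellPlaced S hS hidx hW T hT
      exact ⟨_, hk, hk.1, ⟨k, rfl⟩, hk.2 0⟩
    have hchain := alperin_chain S hS _ hF (B : Set G) g (SetLike.coe_subset_coe.mpr hBS)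
      (by rw [← coe_rcg]; exact SetLike.coe_subset_coe.mpr hg)
    have hncard : Set.ncard (B : Set G) = Nat.card B := (_root_.Nat.card_coe_set_eq (B : Set G)).symm
    apply Chain.toNComp (Nat.card B) ?_ hchain (SetLike.coe_subset_coe.mpr hBS) (by rw [hncard])
    intro T hT x hx hm
    apply pair_step S hS W V hW hV hWZ hVmono hloc (Nat.card B) ?_ T hT hm x hx
    intro A' hA'S hlt g' hg'
    apply ih A' hA'S ?_ g' hg'
    omega

include hS hidx hW hV hWZ hVmono hloc in
/-- local control by the pair `(W, V)` in the normalizers of the `H` with `Z(S) ≤ H ≤ S` implies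
global control -/
theorem pair_final (A : Set G) (g : G) (hA : A ⊆ (S : Set G)) (hgA : rcs g A ⊆ (S : Set G)) :
    NComp (pairFamily W V ⊤ S) S A g := by
  have hB : Subgroup.closure A ≤ S := (Subgroup.closure_le S).mpr hA
  have hBg : rcg g (Subgroup.closure A) ≤ S := by
    rw [rcg_le_iff, Subgroup.closure_le]
    intro a ha
    rw [SetLike.mem_coe, mem_rcg]
    apply hgA
    rw [mem_rcs]
    simpa [mul_assoc] using ha
  exact (pair_main S hS hidx W V hW hV hWZ hVmono hloc (Nat.card S) (Subgroup.closure A) hB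
    (Nat.sub_le _ _) g hBg).mono Subgroup.subset_closure

end main2

end Cfsg.Agent.Helper10
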