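import Mathlib
import Cfsg.Prelude.Def_ConjugacyFunctors
import Cfsg.Agent.Lib.Helper10.PairFusion

set_option autoImplicit false

namespace Cfsg.Agent.Helper10

open Cfsg

variable {G : Type*} [Group G]

/-- turning an Alperin chain into a statement `Good A g`, given it for the single steps -/
theorem Chain.toGood [Finite G] {𝓕 : Set (Subgroup G)} {S : Subgroup G} (Good : Set G → G → Prop)
    (hnil : ∀ A : Set G, A ⊆ (S : Set G) → Good A 1)
    (hmono : ∀ (A B : Set G) (g : G), Good B g → A ⊆ B → Good A g)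
    (htrans : ∀ (A : Set G) (g h : G), Good A g → Good (rcs g A) h → Good A (g * h))
    (h𝓕 : ∀ T ∈ 𝓕, T ≤ S) (m : ℕ)
    (hstep : ∀ T ∈ 𝓕, ∀ x ∈ Subgroup.normalizer (T : Set G), m ≤ Nat.card T → Good (T : Set G) x)
    {A : Set G} {g : G} (h : Chain 𝓕 A g) (hA : A ⊆ (S : Set G)) (hm : m ≤ Set.ncard A) :
    Good A g := by
  induction h with
  | nil A => exact hnil A hA
  | cons A T x g hT hx hAT _ ih =>
    have hAT' : Set.ncard A ≤ Nat.card T := by
      have h1 : Set.ncard A ≤ Set.ncard (T : Set G) := Set.ncard_le_ncard hAT (Set.toFinite _)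
      have h2 : Set.ncard (T : Set G) = Nat.card T := (_root_.Nat.card_coe_set_eq (T : Set G)).symm
      rw [← h2]; exact h1
    have h1 := hmono _ _ _ (hstep T hT x hx (hm.trans hAT')) hAT
    have hcard : Set.ncard (rcs x A) = Set.ncard A := by
      unfold rcs
      apply Set.ncard_image_of_injective
      intro a b hab
      simpa using hab
    have hxA : rcs x A ⊆ (S : Set G) := by
      have h2 : rcs x A ⊆ rcs x (T : Set G) := rcs_mono x hAT
      rw [← coe_rcg, mem_normalizer_iff_rcg.mp hx] at h2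
      exact h2.trans (SetLike.coe_subset_coe.mpr (h𝓕 T hT))
    exact htrans _ _ _ h1 (ih hxA (by rw [hcard]; exact hm))

section main

variable [Finite G] {p : ℕ} [Fact p.Prime] (S : Subgroup G) (hS : IsPGroup p S) (hidx : ¬ p ∣ S.index)
  (W : Subgroup G → Subgroup G) (hW : IsConjugacyFunctor p W) (Good : Set G → G → Prop)
  (hnil : ∀ A : Set G, A ⊆ (S : Set G) → Good A 1)
  (hmono : ∀ (A B : Set G) (g : G), Good B g → A ⊆ B → Good A g)
  (htrans : ∀ (A : Set G) (g h : G), Good A g → Good (rcs g A) h → Good A (g * h))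
  (hcongr : ∀ (A : Set G) (g g₂ : G), Good A g → (∀ a ∈ A, g₂⁻¹ * a * g₂ = g⁻¹ * a * g) → Good A g₂)
  (htower : ∀ T : Subgroup G, IsWellPlaced p W S T → S ⊓ Subgroup.centralizer (S : Set G) ≤ T →
    ∀ x ∈ Subgroup.normalizer (T : Set G), ∀ B : Set G,
      B ⊆ ((S ⊓ Subgroup.normalizer (T : Set G) : Subgroup G) : Set G) →
      rcs x B ⊆ ((S ⊓ Subgroup.normalizer (T : Set G) : Subgroup G) : Set G) → Good B x)

include hS hmono hcongr htower in
theorem wp_step (m : ℕ)
    (hbig : ∀ A' : Subgroup G, A' ≤ S → m < Nat.card A' → ∀ g : G, rcg g A' ≤ S →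
      Good (A' : Set G) g)
    (T : Subgroup G) (hT : IsWellPlaced p W S T) (hmT : m ≤ Nat.card T) (x : G)
    (hx : x ∈ Subgroup.normalizer (T : Set G)) : Good (T : Set G) x := by
  obtain ⟨c, hc, y, hxy, hyT, hyC⟩ := centric_factor S hS T (hT.2 0) x hx
  set S₁ := S ⊓ Subgroup.centralizer (T : Set G) with hS₁
  have hcongr' : ∀ a ∈ (T : Set G), x⁻¹ * a * x = y⁻¹ * a * y := by
    intro a ha
    have h1 : c⁻¹ * a * c = a := by
      have := Subgroup.mem_centralizer_iff.mp hc a ha
      calc c⁻¹ * a * c = c⁻¹ * (a * c) := by group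
        _ = c⁻¹ * (c * a) := by rw [this]
        _ = a := by group
    rw [hxy]
    calc (c * y)⁻¹ * a * (c * y) = y⁻¹ * (c⁻¹ * a * c) * y := by group
      _ = y⁻¹ * a * y := by rw [h1]
  have hTN : T ≤ S ⊓ Subgroup.normalizer (T : Set G) := le_inf hT.1 Subgroup.le_normalizer
  by_cases hST : S₁ ≤ T
  · have hZT : S ⊓ Subgroup.centralizer (S : Set G) ≤ T := by
      refine le_trans ?_ hST
      exact le_inf inf_le_left (inf_le_right.trans (Subgroup.centralizer_le
        (show (T : Set G) ⊆ (S : Set G) from SetLike.coe_subset_coe.mpr hT.1)))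
    apply htower T hT hZT x hx (T : Set G) (SetLike.coe_subset_coe.mpr hTN)
    rw [← coe_rcg, mem_normalizer_iff_rcg.mp hx]
    exact SetLike.coe_subset_coe.mpr hTN
  · set Ts := T ⊔ S₁ with hTs
    have hTlt : T < Ts := by
      refine lt_of_le_of_ne le_sup_left ?_
      intro h
      apply hST
      rw [h]; exact le_sup_right
    have hTsS : Ts ≤ S := sup_le hT.1 inf_le_left
    have hyTs : y ∈ Subgroup.normalizer (Ts : Set G) := normalizer_inf_le_normalizer_sup T S₁ ⟨hyT, hyC⟩
    have hcard : m < Nat.card Ts := lt_of_le_of_lt hmT (card_lt_card_of_lt hTlt)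
    have h1 := hbig Ts hTsS hcard y (by rw [mem_normalizer_iff_rcg.mp hyTs]; exact hTsS)
    exact hcongr _ _ _ (hmono _ _ _ h1 (SetLike.coe_subset_coe.mpr hTlt.le)) hcongr'

include hS hidx hW hnil hmono htrans hcongr htower in
theorem wp_main (n : ℕ) : ∀ B : Subgroup G, B ≤ S → Nat.card S - Nat.card B ≤ n → ∀ g : G,
    rcg g B ≤ S → Good (B : Set G) g := by
  have hF : ∀ T : Subgroup G, T ≤ S →
      ∃ U ∈ {T : Subgroup G | IsWellPlaced p W S T}, U ≤ S ∧ (∃ g : G, rcg g T = U) ∧
      ¬ p ∣ (S ⊓ Subgroup.normalizer (U : Set G)).relIndex (Subgroup.normalizer (U : Set G)) := by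
    intro T hT
    obtain ⟨k, -, hk⟩ := exists_wellPlaced S hS hidx hW T hT
    exact ⟨_, hk, hk.1, ⟨k, rfl⟩, hk.2 0⟩
  have key : ∀ B : Subgroup G, B ≤ S →
      (∀ A' : Subgroup G, A' ≤ S → Nat.card B < Nat.card A' → ∀ g : G, rcg g A' ≤ S →
        Good (A' : Set G) g) → ∀ g : G, rcg g B ≤ S → Good (B : Set G) g := by
    intro B hBS hbig g hg
    have hchain := alperin_chain S hS _ hF (B : Set G) g (SetLike.coe_subset_coe.mpr hBS)
      (by rw [← coe_rcg]; exact SetLike.coe_subset_coe.mpr hg)
    have hncard : Set.ncard (B : Set G) = Nat.card B := (_root_.Nat.card_coe_set_eq (B : Set G)).symm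
    apply Chain.toGood Good hnil hmono htrans (fun T hT => hT.1) (Nat.card B) ?_ hchain
      (SetLike.coe_subset_coe.mpr hBS) (by rw [hncard])
    intro T hT x hx hm
    exact wp_step S hS W Good hmono hcongr htower (Nat.card B) hbig T hT hm x hx
  induction n with
  | zero =>
    intro B hBS hcard g hg
    apply key B hBS ?_ g hg
    intro A' hA'S hlt
    have := Subgroup.card_le_of_le hA'S
    omega
  | succ n ih =>
    intro B hBS hcard g hg
    apply key B hBS ?_ g hg
    intro A' hA'S hlt g' hg'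
    apply ih A' hA'S ?_ g' hg'
    omega

include hS hidx hW hnil hmono htrans hcongr htower in
/-- a property of conjugation maps that holds in the normalizers of the well placed subgroups
containing `Z(S)` holds for all conjugation maps between subsets of `S` -/
theorem wp_final (A : Set G) (g : G) (hA : A ⊆ (S : Set G)) (hgA : rcs g A ⊆ (S : Set G)) :
    Good A g := by
  have hB : Subgroup.closure A ≤ S := (Subgroup.closure_le S).mpr hA
  have hBg : rcg g (Subgroup.closure A) ≤ S := by
    rw [rcg_le_iff, Subgroup.closure_le]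
    intro a ha
    rw [SetLike.mem_coe, mem_rcg]
    apply hgA
    rw [mem_rcs]
    simpa [mul_assoc] using ha
  exact hmono _ _ _ (wp_main S hS hidx W hW Good hnil hmono htrans hcongr htower (Nat.card S)
    (Subgroup.closure A) hB (Nat.sub_le _ _) g hBg) Subgroup.subset_closure

end main

end Cfsg.Agent.Helper10
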