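import Mathlib
import Cfsg.Prelude.Def_LocalEven
import Cfsg.Agent.Lib.Helper4.SL2FreeApps
import Cfsg.Agent.Lib.Helper4.QuadStab

set_option autoImplicit false

/-! Groups with a series `p`-group / abelian `p'`-group / `p`-group have abelian Sylow
`2`-subgroups for odd `p`, hence do not involve `SL₂(p)` and are `p`-stable in the normalizer form. -/

namespace Cfsg.Agent.Helper10

open Cfsg Cfsg.Agent.Helper4.QS Cfsg.Agent.Helper4.SLF

theorem abelian_sylow2_of_struc {p : ℕ} [hpp : Fact p.Prime] (hp : p ≠ 2) {X : Type*} [Group X]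
    [Finite X] {H M : Subgroup X} (st : Struc p X H M) (T₂ : Sylow 2 X) :
    IsMulCommutative ↥(T₂ : Subgroup X) := by
  have hMn := st.hMn
  have hcop2 : ∀ j k : ℕ, (p ^ k).Coprime (2 ^ j) := by
    intro j k
    apply Nat.Coprime.pow
    rw [Nat.coprime_primes hpp.out Nat.prime_two]
    exact hp
  have hmemM : ∀ x ∈ (T₂ : Subgroup X), x ∈ M := by
    intro x hx
    obtain ⟨k, hk⟩ := st.hidx
    have h1 : x ^ (p ^ k) ∈ M := by rw [← hk]; exact Subgroup.pow_index_mem M x
    obtain ⟨j, hj⟩ := T₂.2 ⟨x, hx⟩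
    have hord : orderOf x ∣ 2 ^ j := by
      apply orderOf_dvd_of_pow_eq_one
      have := congrArg Subtype.val hj
      simpa using this
    have hcop : (p ^ k).Coprime (orderOf x) := Nat.Coprime.coprime_dvd_right hord (hcop2 j k)
    obtain ⟨m, hm⟩ := exists_pow_eq_self_of_coprime hcop
    rw [← hm]; exact M.pow_mem h1 m
  refine ⟨⟨fun a b => ?_⟩⟩
  apply Subtype.ext
  have hc : (a : X) * b * (a : X)⁻¹ * (b : X)⁻¹ ∈ H := st.hab a (hmemM a a.2) b (hmemM b b.2)
  have hcT : (a : X) * b * (a : X)⁻¹ * (b : X)⁻¹ ∈ (T₂ : Subgroup X) :=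
    Subgroup.mul_mem _ (Subgroup.mul_mem _ (Subgroup.mul_mem _ a.2 b.2) (Subgroup.inv_mem _ a.2))
      (Subgroup.inv_mem _ b.2)
  set c := (a : X) * b * (a : X)⁻¹ * (b : X)⁻¹ with hcdef
  obtain ⟨k, hk⟩ := st.hHp ⟨c, hc⟩
  obtain ⟨j, hj⟩ := T₂.2 ⟨c, hcT⟩
  have h1 : orderOf c ∣ p ^ k := by
    apply orderOf_dvd_of_pow_eq_one
    have := congrArg Subtype.val hk
    simpa using this
  have h2 : orderOf c ∣ 2 ^ j := by
    apply orderOf_dvd_of_pow_eq_one
    have := congrArg Subtype.val hj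
    simpa using this
  have h3 : orderOf c = 1 := Nat.eq_one_of_dvd_coprimes (hcop2 j k) h1 h2
  have h4 : c = 1 := orderOf_eq_one_iff.mp h3
  show (a : X) * b = b * a
  calc (a : X) * b = c * ((b : X) * a) := by rw [hcdef]; group
    _ = b * a := by rw [h4, one_mul]

theorem sl2free_of_struc {p : ℕ} [hpp : Fact p.Prime] (hp : p ≠ 2) {X : Type*} [Group X]
    [Finite X] {H M : Subgroup X} (st : Struc p X H M) : SL2Free p X :=
  sl2free_of_abelian_sylow2 hp (abelian_sylow2_of_struc hp st)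

theorem isNormalizerPStable_of_sl2free {p : ℕ} [hpp : Fact p.Prime] (hp : p ≠ 2) {Y : Type*}
    [Group Y] [Finite Y] (hfree : SL2Free p Y) : IsNormalizerPStable p Y := by
  intro P hP g hg hq
  have hz : Subgroup.zpowers g ≤ Subgroup.normalizer (P : Set Y) := Subgroup.zpowers_le.mpr hg
  have h := pstable_prop hp hfree (Subgroup.zpowers g) P hP
    (fun a ha x hx => (Subgroup.mem_normalizer_iff.mp (hz ha) x).mp hx) hq
  apply h
  refine ⟨⟨g, hg⟩, ?_, rfl⟩
  rw [SetLike.mem_coe, Subgroup.mem_subgroupOf]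
  exact Subgroup.mem_zpowers g

end Cfsg.Agent.Helper10
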