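import Mathlib
import Cfsg.Agent.Lib.Helper10.BR996Asm
import Cfsg.Agent.Lib.Helper24.CharOrtho
import Cfsg.Agent.S0073

/-!
# Brauer degree sieve (helper10)

Numeric form of Brauer's theorem on the characters of a group with a self-centralizing subgroup `P`
of prime order `p` (the S0996 pieces), for use in "no simple group of order `N`" arguments.
-/

set_option autoImplicit false
set_option linter.unusedSectionVars false
set_option linter.unusedVariables false

namespace Cfsg.Agent.Helper10.BrSieve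

open Cfsg Cfsg.Agent.Helper24 Cfsg.Agent.Helper10.BR996 Cfsg.Agent.Helper10.BR996.Asm

universe u

section Core

variable {G : Type u} [Group G] [Fintype G] [Fintype (IrrCharacter G)]
  (p : ℕ) [Fact p.Prime] (P : Subgroup G)

local notation "𝒩" => Subgroup.normalizer (P : Set G)

/-- Finset form, `t ≥ 2`. -/
theorem core (hperf : commutator G = ⊤) (hcard : Nat.card P = p)
    (hcent : Subgroup.centralizer (P : Set G) ≤ P) (w t : ℕ) (hw : P.relIndex 𝒩 = w)
    (hp : p = w * t + 1) (ht : 2 ≤ t) :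
    ∃ (X Y : Finset (IrrCharacter G)) (sg : IrrCharacter G → ℤ) (d0 : ℤ) (y : ℕ)
      (a : IrrCharacter G → ℕ),
      Disjoint X Y ∧ X.card = w ∧ Y.card = t ∧ principalChar G ∈ X ∧ sg (principalChar G) = 1 ∧
      (∀ χ ∈ X, sg χ = 1 ∨ sg χ = -1) ∧ (d0 = 1 ∨ d0 = -1) ∧
      (∀ χ ∈ X, (p : ℤ) * a χ = charDegree (χ : G → ℂ) + sg χ * ((p : ℤ) - 1)) ∧
      (∀ χ ∈ Y, charDegree (χ : G → ℂ) = y ∧ (p : ℤ) * a χ = y + d0 * w) ∧
      (∀ χ : IrrCharacter G, χ ∉ X → χ ∉ Y → p * a χ = charDegree (χ : G → ℂ)) ∧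
      (∑ χ ∈ X, sg χ * (charDegree (χ : G → ℂ) : ℤ) + d0 * y = 0) := by
  classical
  have hw2 : 2 ≤ w := by
    have := two_le_relIndex p P hcard hcent hperf
    omega
  have hp2 : p ≠ 2 := by
    have : 2 * 2 ≤ w * t := Nat.mul_le_mul hw2 ht
    omega
  obtain ⟨D0⟩ := exists_brauerData p P hp2 hcard hcent
  rw [hw] at D0
  have hdiv : (p - 1) / w = t := by
    have : p - 1 = w * t := by omega
    rw [this]
    exact Nat.mul_div_cancel_left t (by omega)
  rw [hdiv] at D0
  obtain ⟨D⟩ : Nonempty (BrauerData p P w t) := ⟨D0⟩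
  obtain ⟨a, ha, hwX, hwY, hwD⟩ := weights D hcard
  have hwt : 2 * w ≤ w * t := by
    calc 2 * w = w * 2 := by ring
      _ ≤ w * t := Nat.mul_le_mul_left w ht
  have hYone : principalChar G ∉ D.Y := by
    intro hY
    have h1 := hwY _ hY
    rw [charDegree_principal] at h1
    have hwtZ : (2 : ℤ) * w ≤ w * t := by exact_mod_cast hwt
    have hw2Z : (2 : ℤ) ≤ w := by exact_mod_cast hw2
    have hpZ : (p : ℤ) = w * t + 1 := by exact_mod_cast hp
    have ha0 : (0 : ℤ) ≤ a (principalChar G) := by positivity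
    have hp0 : (0 : ℤ) ≤ p := by positivity
    push_cast at h1
    rcases D.d0_pm with h | h
    · rw [h] at h1
      rcases Nat.eq_zero_or_pos (a (principalChar G)) with h0 | h0
      · rw [h0] at h1
        push_cast at h1
        omega
      · have : (1 : ℤ) ≤ a (principalChar G) := by exact_mod_cast h0
        have hpa : (p : ℤ) * 1 ≤ p * a (principalChar G) := mul_le_mul_of_nonneg_left this hp0
        linarith
    · rw [h] at h1
      have hpa : (0 : ℤ) ≤ p * a (principalChar G) := mul_nonneg hp0 ha0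
      linarith
  obtain ⟨hone, hsg1⟩ := principal_mem D hcard hYone
  have hYdeg : ∀ i ∈ D.Y, ∀ j ∈ D.Y, charDegree (i : G → ℂ) = charDegree (j : G → ℂ) := by
    intro i hi j hj
    have h1 : ¬ p ∣ orderOf (1 : G) := by
      rw [orderOf_one]
      exact fun h => (Fact.out : p.Prime).one_lt.not_ge (Nat.le_of_dvd one_pos h)
    have := D.regY i hi j hj 1 h1
    rw [irr_one_eq_charDegree i.2, irr_one_eq_charDegree j.2] at this
    exact_mod_cast this
  have hYne : D.Y.Nonempty := by
    rw [← Finset.card_pos, D.cardY]; omega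
  obtain ⟨θ, hθ⟩ := hYne
  refine ⟨D.X, D.Y, D.sg, D.d0, charDegree (θ : G → ℂ), a, D.disj, D.cardX, D.cardY, hone, hsg1,
    D.sg_pm, D.d0_pm, hwX, ?_, ?_, ?_⟩
  · intro χ hχ
    refine ⟨hYdeg χ hχ θ hθ, ?_⟩
    rw [hwY χ hχ, hYdeg χ hχ θ hθ]
  · intro χ h1 h2
    have := hwD χ h1 h2
    exact_mod_cast this
  · have h := degeq D hcard
    have hsumY : ∑ χ ∈ D.Y, (charDegree (χ : G → ℂ) : ℤ) = t * (charDegree (θ : G → ℂ) : ℤ) := by
      rw [Finset.sum_congr rfl (fun χ hχ => by rw [hYdeg χ hχ θ hθ]), Finset.sum_const, D.cardY]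
      simp
    rw [hsumY] at h
    have hpZ : (p : ℤ) - 1 = w * t := by
      have : (p : ℤ) = w * t + 1 := by exact_mod_cast hp
      linarith
    rw [hpZ] at h
    have hwt0 : ((w : ℤ) * t) ≠ 0 := by
      have : 0 < w * t := by nlinarith
      exact_mod_cast this.ne'
    have : ((w : ℤ) * t) * (∑ χ ∈ D.X, D.sg χ * (charDegree (χ : G → ℂ) : ℤ) +
        D.d0 * (charDegree (θ : G → ℂ) : ℤ)) = 0 := by
      linear_combination h
    rcases mul_eq_zero.mp this with h0 | h0
    · exact absurd h0 hwt0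
    · exact h0

end Core


section Perfect

open scoped commutatorElement

/-- a nonabelian simple group is perfect -/
theorem perfect_of_simple {G : Type*} [Group G] [IsSimpleGroup G] (hG : ∃ x y : G, x * y ≠ y * x) :
    commutator G = ⊤ := by
  rcases (inferInstance : (commutator G).Normal).eq_bot_or_eq_top with h | h
  · exfalso
    obtain ⟨a, b, hab⟩ := hG
    apply hab
    have h1 : ⁅a, b⁆ ∈ commutator G := by
      rw [commutator_def]
      exact Subgroup.commutator_mem_commutator (Subgroup.mem_top a) (Subgroup.mem_top b)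
    rw [h, Subgroup.mem_bot, commutatorElement_eq_one_iff_mul_comm] at h1
    exact h1
  · exact h

end Perfect

section W2

variable {G : Type u} [Group G] [Finite G]

/-- **Brauer, `|N(P) : P| = 2`** (perfect group, `P` self-centralizing of prime order `p ≥ 5`):
numeric form. `x` is the degree of the second nonexceptional character (sign `δ`), `y` the common
degree of the `(p-1)/2` exceptional characters (sign `d0`). -/
theorem brauer_w2_core (hperf : commutator G = ⊤) (p : ℕ) [Fact p.Prime] (P : Subgroup G)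
    (hcard : Nat.card P = p) (hcent : Subgroup.centralizer (P : Set G) ≤ P)
    (hw : P.relIndex (Subgroup.normalizer (P : Set G)) = 2) (hp5 : 5 ≤ p) :
    ∃ (x y : ℕ) (δ d0 : ℤ) (a b s : ℕ), (δ = 1 ∨ δ = -1) ∧ (d0 = 1 ∨ d0 = -1) ∧
      (p : ℤ) * a = x + δ * ((p : ℤ) - 1) ∧ (p : ℤ) * b = y + d0 * 2 ∧ 1 + δ * x + d0 * y = 0 ∧
      x ∣ Nat.card G ∧ y ∣ Nat.card G ∧
      1 + x ^ 2 + (p - 1) / 2 * y ^ 2 + p ^ 2 * s = Nat.card G ∧
      (∃ χ : IrrCharacter G, charDegree (χ : G → ℂ) = x) ∧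
      (∃ θ : IrrCharacter G, charDegree (θ : G → ℂ) = y) ∧
      ∀ χ : IrrCharacter G, charDegree (χ : G → ℂ) = 1 ∨ charDegree (χ : G → ℂ) = x ∨
        charDegree (χ : G → ℂ) = y ∨ p ∣ charDegree (χ : G → ℂ) := by
  classical
  haveI : Fintype G := Fintype.ofFinite G
  haveI : Fintype (IrrCharacter G) := Cfsg.Agent.Helper24.irrFintype
  have hodd : ¬ 2 ∣ p := by
    intro h
    have := (Nat.prime_dvd_prime_iff_eq Nat.prime_two (Fact.out : p.Prime)).mp h
    omega
  obtain ⟨t, ht⟩ : ∃ t, p = 2 * t + 1 := ⟨p / 2, by omega⟩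
  have ht2 : 2 ≤ t := by omega
  have hdiv : (p - 1) / 2 = t := by omega
  obtain ⟨X, Y, sg, d0, y, a, hdisj, hcX, hcY, hone, hsg1, hsg, hd0, hwX, hwY, hwD, heq⟩ :=
    core p P hperf hcard hcent 2 t hw ht ht2
  -- `X = {1, χ}`
  obtain ⟨χ, hχX, hχ1⟩ : ∃ χ ∈ X, χ ≠ principalChar G := by
    by_contra hcon
    push Not at hcon
    have : X ⊆ {principalChar G} := fun c hc => Finset.mem_singleton.mpr (hcon c hc)
    have := Finset.card_le_card this
    rw [hcX, Finset.card_singleton] at this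
    omega
  have hXeq : X = {principalChar G, χ} := by
    symm
    apply Finset.eq_of_subset_of_card_le
    · intro c hc
      rw [Finset.mem_insert, Finset.mem_singleton] at hc
      rcases hc with rfl | rfl
      · exact hone
      · exact hχX
    · rw [hcX, Finset.card_pair (Ne.symm hχ1)]
  obtain ⟨θ, hθ⟩ : Y.Nonempty := by
    rw [← Finset.card_pos, hcY]; omega
  have hsumX : ∑ c ∈ X, sg c * (charDegree (c : G → ℂ) : ℤ) =
      1 + sg χ * (charDegree (χ : G → ℂ) : ℤ) := by
    rw [hXeq, Finset.sum_pair (Ne.symm hχ1), hsg1, charDegree_principal]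
    push_cast
    ring
  rw [hsumX] at heq
  -- sum of squares
  have hsq := sum_charDegree_sq (G := G)
  rw [sum_split X Y hdisj] at hsq
  have hsqX : ∑ c ∈ X, charDegree (c : G → ℂ) ^ 2 = 1 + charDegree (χ : G → ℂ) ^ 2 := by
    rw [hXeq, Finset.sum_pair (Ne.symm hχ1), charDegree_principal]
    ring
  have hsqY : ∑ c ∈ Y, charDegree (c : G → ℂ) ^ 2 = t * y ^ 2 := by
    rw [Finset.sum_congr rfl (fun c hc => by rw [(hwY c hc).1]), Finset.sum_const, hcY]
    simp
  have hsqD : ∑ c ∈ (Finset.univ \ X) \ Y, charDegree (c : G → ℂ) ^ 2 =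
      p ^ 2 * ∑ c ∈ (Finset.univ \ X) \ Y, a c ^ 2 := by
    rw [Finset.mul_sum]
    refine Finset.sum_congr rfl fun c hc => ?_
    rw [Finset.mem_sdiff, Finset.mem_sdiff] at hc
    rw [← hwD c hc.1.2 hc.2]
    ring
  rw [hsqX, hsqY, hsqD] at hsq
  refine ⟨charDegree (χ : G → ℂ), y, sg χ, d0, a χ, a θ, ∑ c ∈ (Finset.univ \ X) \ Y, a c ^ 2,
    hsg χ hχX, hd0, hwX χ hχX, ?_, heq, charDegree_dvd_card χ.2, ?_, ?_, ⟨χ, rfl⟩,
    ⟨θ, (hwY θ hθ).1⟩, ?_⟩
  · have := (hwY θ hθ).2
    push_cast at this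
    exact this
  · rw [← (hwY θ hθ).1]
    exact charDegree_dvd_card θ.2
  · rw [hdiv]
    exact hsq
  · intro c
    by_cases hcX' : c ∈ X
    · rw [hXeq, Finset.mem_insert, Finset.mem_singleton] at hcX'
      rcases hcX' with rfl | rfl
      · left; exact charDegree_principal
      · right; left; rfl
    · by_cases hcY' : c ∈ Y
      · right; right; left; exact (hwY c hcY').1
      · right; right; right
        exact ⟨a c, (hwD c hcX' hcY').symm⟩

/-- **Brauer for a Sylow `p`-subgroup of order `p ≥ 5` with `|N(P)| = 2p` in a nonabelian simple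
group.** -/
theorem brauer_w2 [IsSimpleGroup G] (hG : ∃ x y : G, x * y ≠ y * x) (p : ℕ) [Fact p.Prime]
    (P : Sylow p G) (hP : Nat.card (P : Subgroup G) = p)
    (hN : Nat.card (Subgroup.normalizer ((P : Subgroup G) : Set G)) = 2 * p) (hp5 : 5 ≤ p) :
    ∃ (x y : ℕ) (δ d0 : ℤ) (a b s : ℕ), (δ = 1 ∨ δ = -1) ∧ (d0 = 1 ∨ d0 = -1) ∧
      (p : ℤ) * a = x + δ * ((p : ℤ) - 1) ∧ (p : ℤ) * b = y + d0 * 2 ∧ 1 + δ * x + d0 * y = 0 ∧
      x ∣ Nat.card G ∧ y ∣ Nat.card G ∧
      1 + x ^ 2 + (p - 1) / 2 * y ^ 2 + p ^ 2 * s = Nat.card G ∧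
      (∃ χ : IrrCharacter G, charDegree (χ : G → ℂ) = x) ∧
      (∃ θ : IrrCharacter G, charDegree (θ : G → ℂ) = y) ∧
      ∀ χ : IrrCharacter G, charDegree (χ : G → ℂ) = 1 ∨ charDegree (χ : G → ℂ) = x ∨
        charDegree (χ : G → ℂ) = y ∨ p ∣ charDegree (χ : G → ℂ) := by
  have hpp : p.Prime := Fact.out
  have hpd : p ∣ Nat.card G := hP ▸ Subgroup.card_subgroup_dvd_card _
  have hperf := perfect_of_simple hG
  -- `C(P) = P`
  have hPC : (P : Subgroup G) ≤ Subgroup.centralizer ((P : Subgroup G) : Set G) := by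
    haveI : IsCyclic (P : Subgroup G) := isCyclic_of_prime_card hP
    intro x hx
    rw [Subgroup.mem_centralizer_iff]
    intro y hy
    have := (IsCyclic.commGroup (α := (P : Subgroup G))).mul_comm ⟨y, hy⟩ ⟨x, hx⟩
    exact congrArg Subtype.val this
  have hCN : Subgroup.centralizer ((P : Subgroup G) : Set G) ≤
      Subgroup.normalizer ((P : Subgroup G) : Set G) := Subgroup.centralizer_le_normalizer _
  have hcent : Subgroup.centralizer ((P : Subgroup G) : Set G) ≤ (P : Subgroup G) := by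
    have h1 : Nat.card (P : Subgroup G) ∣ Nat.card (Subgroup.centralizer ((P : Subgroup G) : Set G)) :=
      Subgroup.card_dvd_of_le hPC
    have h2 : Nat.card (Subgroup.centralizer ((P : Subgroup G) : Set G)) ∣ 2 * p := by
      rw [← hN]
      exact Subgroup.card_dvd_of_le hCN
    rw [hP] at h1
    obtain ⟨c, hc⟩ := h1
    rw [hc] at h2
    have hc2 : c ∣ 2 := by
      have : p * c ∣ p * 2 := by rwa [mul_comm 2 p] at h2
      exact Nat.dvd_of_mul_dvd_mul_left hpp.pos this
    have hcle := Nat.le_of_dvd (by norm_num) hc2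
    have hc0 : c ≠ 0 := by
      rintro rfl
      simp at hc2
    have hc12 : c = 1 ∨ c = 2 := by omega
    rcases hc12 with rfl | rfl
    · -- `|C| = p`
      have : (P : Subgroup G) = Subgroup.centralizer ((P : Subgroup G) : Set G) := by
        apply Subgroup.eq_of_le_of_card_ge hPC
        rw [hc, hP, mul_one]
      rw [← this]
    · -- `|C| = 2p = |N|`: `N ≤ C`
      exfalso
      have : Subgroup.centralizer ((P : Subgroup G) : Set G) =
          Subgroup.normalizer ((P : Subgroup G) : Set G) := by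
        apply Subgroup.eq_of_le_of_card_ge hCN
        rw [hc, hN, mul_comm]
      exact Cfsg.Agent.S0073.not_normalizer_le_centralizer hG P hpd (le_of_eq this.symm)
  have hw : (P : Subgroup G).relIndex (Subgroup.normalizer ((P : Subgroup G) : Set G)) = 2 := by
    have h := Subgroup.relIndex_mul_relIndex (⊥ : Subgroup G) (P : Subgroup G)
      (Subgroup.normalizer ((P : Subgroup G) : Set G)) bot_le Subgroup.le_normalizer
    rw [Subgroup.relIndex_bot_left, Subgroup.relIndex_bot_left, hP, hN] at h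
    have : p * (P : Subgroup G).relIndex (Subgroup.normalizer ((P : Subgroup G) : Set G)) = p * 2 := by
      rw [h]; ring
    exact Nat.eq_of_mul_eq_mul_left hpp.pos this
  exact brauer_w2_core hperf p (P : Subgroup G) hP hcent hw hp5

end W2

end Cfsg.Agent.Helper10.BrSieve
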