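import Mathlib
import Cfsg.Agent.Lib.Helper10.BR996Asm
import Cfsg.Agent.Lib.Helper6.BR4700A
import Cfsg.Agent.Lib.Helper6.BR4700B
import Cfsg.Agent.Lib.Helper6.BR996G0
import Cfsg.Agent.Lib.Helper24.CharOrtho

/-!
# S4700, piece P-C: THEOREM S = the S0996 assembly with the hypothesis `NC p n` in place of `2 n ≤ p + 1`

`G` perfect, `P` of prime order `p` with `C_G(P) ≤ P`, `|G : N_G(P)| = 1 + n p`, and every divisor `d ≡ 1 (mod p)` of
`(p-1)(1+np)` is `1` or `1+np`  (`Cfsg.Agent.Helper6.BR4700.NC p n`).  Then `G ≅ PSL(2,p)` (`p > 3`) or `p = 2^m + 1 > 3`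
and `G ≅ PSL(2,2^m)`.   Same proof as `BR996Asm.main` (see there); the coprimality `gcd(n+1,p) = 1` is obtained case by case.
-/

set_option autoImplicit false
set_option linter.unusedSectionVars false
set_option linter.unusedVariables false
set_option linter.style.haveILetI false

namespace Cfsg.Agent.Helper10.BR996.Asm

open scoped ComplexConjugate
open Cfsg Cfsg.Agent.Helper24 Cfsg.Agent.Helper10.BR996

universe u

variable {G : Type u} [Group G] [Fintype G] [Fintype (IrrCharacter G)]
  (p : ℕ) [Fact p.Prime] (P : Subgroup G)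

local notation "𝒩" => Subgroup.normalizer (P : Set G)

/-- `degree_ge_of_ne_principal` (helper14's PIECE SIMPLE) without the unused hypotheses on `n`
(same proof: pass to `G / ker χ` and apply S4503). -/
theorem degree_ge' (hcard : Nat.card P = p)
    (hcent : Subgroup.centralizer (P : Set G) ≤ P) (hperf : commutator G = ⊤)
    (χ : IrrCharacter G) (hχ : χ ≠ principalChar G) :
    p ≤ 2 * charDegree (χ : G → ℂ) + 1 := by
  classical
  have hp : p.Prime := Fact.out
  have hsq := SIMPLE.not_sq_dvd p P hcard hcent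
  have hdvd : p ∣ Nat.card G := by
    rw [← hcard]
    exact Subgroup.card_subgroup_dvd_card P
  set K : Subgroup G := Cfsg.Agent.Helper2.BRR.kerOf χ with hK
  haveI hKn : K.Normal := Cfsg.Agent.Helper2.BRR.kerOf_normal χ
  -- `K ≠ ⊤`
  have hKtop : K ≠ ⊤ := by
    intro h
    apply hχ
    have hconst : ∀ g : G, (χ : G → ℂ) g = (χ : G → ℂ) 1 := by
      intro g
      have : g ∈ K := by rw [h]; trivial
      exact (Cfsg.Agent.Helper2.BRR.mem_kerOf χ g).1 this
    by_contra hne
    have horth := irr_orthogonality' χ (principalChar G)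
    rw [if_neg hne] at horth
    unfold classInner at horth
    have hsum : ∑ g : G, (χ : G → ℂ) g * conj (((principalChar G : IrrCharacter G) : G → ℂ) g) =
        (Nat.card G : ℂ) * (χ : G → ℂ) 1 := by
      have : ∀ g : G, (χ : G → ℂ) g * conj (((principalChar G : IrrCharacter G) : G → ℂ) g) =
          (χ : G → ℂ) 1 := by
        intro g
        rw [hconst g]
        show (χ : G → ℂ) 1 * conj (1 : ℂ) = _
        rw [map_one, mul_one]
      rw [Finset.sum_congr rfl (fun g _ => this g), Finset.sum_const, Finset.card_univ,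
        nsmul_eq_mul, Nat.card_eq_fintype_card]
    rw [hsum] at horth
    have hG0 : (Nat.card G : ℂ) ≠ 0 := by exact_mod_cast (Nat.card_pos (α := G)).ne'
    rw [← mul_assoc, inv_mul_cancel₀ hG0, one_mul, irr_one_eq_charDegree χ.2] at horth
    have := charDegree_pos χ.2
    have h0 : charDegree (χ : G → ℂ) = 0 := by exact_mod_cast horth
    omega
  -- `p ∤ |K|`
  have hpK : ¬ p ∣ Nat.card K := by
    intro h
    have hPK : P ≤ K := Cfsg.Agent.Helper2.BRR.le_of_normal_of_dvd hsq hcard K h
    exact hKtop (SIMPLE.eq_top_of_le p P hcard hcent hperf K hPK)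
  have hcardG := Subgroup.card_eq_card_quotient_mul_card_subgroup K
  have hdivQ : p ∣ Nat.card (G ⧸ K) := by
    rw [hcardG] at hdvd
    rcases (Nat.Prime.dvd_mul hp).1 hdvd with h | h
    · exact h
    · exact absurd h hpK
  have hsqQ : ¬ p ^ 2 ∣ Nat.card (G ⧸ K) := by
    intro h
    apply hsq
    rw [hcardG]
    exact Dvd.dvd.mul_right h _
  have hperfQ := Cfsg.Agent.Helper14.BRW.perfect_quotient hperf K
  have hnnQ : ∀ H : Subgroup (G ⧸ K), H.Normal → Nat.card H ≠ p := by
    intro H hH hHc
    have hLn : (H.comap (QuotientGroup.mk' K)).Normal := hH.comap _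
    have hLc : Nat.card (H.comap (QuotientGroup.mk' K)) = p * Nat.card K := by
      rw [Cfsg.Agent.Helper14.BRW.card_comap_mk', hHc]
    have hPL : P ≤ H.comap (QuotientGroup.mk' K) :=
      Cfsg.Agent.Helper2.BRR.le_of_normal_of_dvd hsq hcard _ (by rw [hLc]; exact dvd_mul_right p _)
    have hLtop := SIMPLE.eq_top_of_le p P hcard hcent hperf _ hPL
    have hHtop : H = ⊤ := by
      rw [← Subgroup.map_comap_eq_self_of_surjective (QuotientGroup.mk'_surjective K) H, hLtop]
      exact Subgroup.map_top_of_surjective _ (QuotientGroup.mk'_surjective K)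
    -- `G ⧸ K` of prime order is cyclic, not perfect
    have hQc : Nat.card (G ⧸ K) = p := by
      rw [← hHc, hHtop, Subgroup.card_top]
    haveI : IsCyclic (G ⧸ K) := isCyclic_of_prime_card hQc
    have hbot : commutator (G ⧸ K) = ⊥ := by
      rw [commutator_eq_bot_iff_center_eq_top]
      exact (IsCyclic.commGroup (α := G ⧸ K)).center_eq_top
    rw [hperfQ] at hbot
    have h1 : Nat.card (G ⧸ K) = 1 := by
      have := congrArg (fun S : Subgroup (G ⧸ K) => Nat.card S) hbot
      simpa using this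
    rw [hQc] at h1
    exact hp.one_lt.ne' h1
  obtain ⟨ψ, hψf, hψd⟩ := Cfsg.Agent.Helper2.BRR.exists_faithful_quotient χ
  have := Cfsg.Agent.S4503.result (G := G ⧸ K) p hp hdivQ hsqQ hnnQ (ψ : G ⧸ K → ℂ)
    (isCharacter_of_isIrrCharacter ψ.2) hψf
  rw [hψd] at this
  exact this

/-- `|N_G(W)| = w (n+1)` divides `|G| = p w (1 + n p)` and `gcd(n+1,p) = 1`, hence `(n+1) ∣ p - 1`. -/
theorem dvd_step_cop (hcard : Nat.card P = p) (n : ℕ) (hidx : (𝒩).index = 1 + n * p)
    (hcop : Nat.Coprime (n + 1) p) (hw1 : 1 ≤ P.relIndex 𝒩) (W : Subgroup G)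
    (hNW : Nat.card (Subgroup.normalizer (W : Set G)) = P.relIndex 𝒩 * (n + 1)) :
    n + 1 ∣ p - 1 := by
  have h1 : Nat.card (Subgroup.normalizer (W : Set G)) ∣ Nat.card G :=
    Subgroup.card_subgroup_dvd_card _
  rw [hNW, card_eq p P hcard, hidx] at h1
  have h2 : P.relIndex 𝒩 * (n + 1) ∣ P.relIndex 𝒩 * (p * (1 + n * p)) := by
    have : p * P.relIndex 𝒩 * (1 + n * p) = P.relIndex 𝒩 * (p * (1 + n * p)) := by ring
    rw [← this]; exact h1
  have h3 : n + 1 ∣ p * (1 + n * p) := (Nat.mul_dvd_mul_iff_left (by omega)).mp h2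
  have h4 : n + 1 ∣ 1 + n * p := hcop.dvd_of_dvd_mul_left h3
  have h5 : n + 1 ∣ (n + 1) * p := Dvd.intro _ rfl
  have h6 := Nat.dvd_sub h5 h4
  have hp1 : 1 ≤ p := (Fact.out : p.Prime).one_lt.le
  have h7 : (n + 1) * p - (1 + n * p) = p - 1 := by
    have : (n + 1) * p = n * p + p := by ring
    omega
  rwa [h7] at h6

section MainNC

open Classical in
theorem main_t2_nc (hperf : commutator G = ⊤) (hcard : Nat.card P = p)
    (hcent : Subgroup.centralizer (P : Set G) ≤ P) (n : ℕ) (hidx : (𝒩).index = 1 + n * p)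
    (hnc : Cfsg.Agent.Helper6.BR4700.NC p n) (hn1 : 1 ≤ n) (w t : ℕ) (hw : P.relIndex 𝒩 = w) (hp : p = w * t + 1)
    (hw2 : 2 ≤ w) (ht : 2 ≤ t) (D : BrauerData p P w t) : Concl G p := by
  obtain ⟨a, ha, hwX, hwY, hwD⟩ := weights D hcard
  have hpZ : (p : ℤ) = w * t + 1 := by exact_mod_cast hp
  have hwt : 2 * w ≤ w * t := by
    calc 2 * w = w * 2 := by ring
      _ ≤ w * t := Nat.mul_le_mul_left w ht
  have hp5 : 5 ≤ p := by omega
  -- the principal character is in `X`
  have hYone : principalChar G ∉ D.Y := by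
    intro hY
    have h1 := hwY _ hY
    rw [charDegree_principal] at h1
    have hwtZ : (2 : ℤ) * w ≤ w * t := by exact_mod_cast hwt
    have hw2Z : (2 : ℤ) ≤ w := by exact_mod_cast hw2
    have ha0 : (0 : ℤ) ≤ a (principalChar G) := by positivity
    have hp0 : (0 : ℤ) ≤ p := by positivity
    push_cast at h1
    rcases D.d0_pm with h | h
    · rw [h] at h1
      rcases Nat.eq_zero_or_pos (a (principalChar G)) with h0 | h0
      · rw [h0] at h1
        push_cast at h1
        omega
      · have : (1 : ℤ) ≤ a (principalChar G) := by exact_mod_cast h0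
        have hpa : (p : ℤ) * 1 ≤ p * a (principalChar G) := mul_le_mul_of_nonneg_left this hp0
        linarith
    · rw [h] at h1
      have hpa : (0 : ℤ) ≤ p * a (principalChar G) := mul_nonneg hp0 ha0
      linarith
  obtain ⟨hone, hsg1⟩ := principal_mem D hcard hYone
  have hdeg1 := charDegree_principal (G := G)
  have hYdeg : ∀ i ∈ D.Y, ∀ j ∈ D.Y, charDegree (i : G → ℂ) = charDegree (j : G → ℂ) := by
    intro i hi j hj
    have h1 : ¬ p ∣ orderOf (1 : G) := by
      rw [orderOf_one]
      exact fun h => (Fact.out : p.Prime).one_lt.not_ge (Nat.le_of_dvd one_pos h)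
    have := D.regY i hi j hj 1 h1
    rw [irr_one_eq_charDegree i.2, irr_one_eq_charDegree j.2] at this
    exact_mod_cast this
  have hdvd : ∀ i : IrrCharacter G, charDegree (i : G → ℂ) ∣ p * w * (1 + n * p) := by
    intro i
    have := deg_dvd p P hcard n hidx i
    rwa [hw] at this
  have hsq : ∑ i : IrrCharacter G, charDegree (i : G → ℂ) ^ 2 = p * w * (1 + n * p) := by
    rw [deg_sq p P hcard n hidx, hw]
  have hnorm : ∑ i : IrrCharacter G, a i ^ 2 = w * (n + 1) := by
    rw [norm_identity p P hcard hcent a ha n hidx, hw]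
  obtain ⟨e, u0, he, hplus, hminus, hYa, hK, hcases⟩ :=
    Cfsg.Agent.Helper6.BR4700.num_core' (fun χ : IrrCharacter G => charDegree (χ : G → ℂ)) a D.X D.Y D.sg D.d0
      (principalChar G) p w t n hp hw2 ht hn1 hnc D.disj D.cardX D.cardY D.sg_pm D.d0_pm hone hsg1
      hdeg1 (fun χ h => eq_principal_of_degree_one hperf χ h) (fun χ => charDegree_pos χ.2)
      hwX hwY hwD hYdeg hdvd hsq (degeq D hcard) hnorm
  -- the permutation character
  obtain ⟨m, hm, hma, hm1, hmdeg, hmdsum, hmwt, hinner⟩ := perm_mult hcard hcent n hidx a ha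
  have hmdef := perm_def D hcard m hmdsum
  have ha1 : a (principalChar G) = 1 := by
    have h1 := hwX _ hone
    rw [hsg1, hdeg1] at h1
    have hp0 : (p : ℤ) ≠ 0 := by omega
    have h2 : (p : ℤ) * a (principalChar G) = (p : ℤ) * 1 := by
      rw [h1]; push_cast; ring
    exact_mod_cast mul_left_cancel₀ hp0 h2
  obtain ⟨hmD, hm0, hmsq⟩ :=
    num_perm (fun χ : IrrCharacter G => charDegree (χ : G → ℂ)) a m D.X D.Y D.sg D.d0
      (principalChar G) p w n (by omega) (by omega) D.disj D.d0_pm hone hsg1 ha1 hdeg1 D.sg_pm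
      (fun i hi h1 h2 => (hplus i hi h1 h2).1) (fun i hi h => (hminus i hi h).2) hK hm1 hma
      hmdeg hmdef hmwt
  obtain ⟨W, hWN, hWcard, hWP, hWc, hNW⟩ :=
    rank_step p P hcard hcent (by omega) n hn1 hidx m hinner hmsq
  have hpp : p.Prime := Fact.out
  have hdvd1 : Nat.Coprime (n + 1) p → n + 1 ∣ p - 1 :=
    fun hcop => dvd_step_cop p P hcard n hidx hcop (by omega) W hNW
  have hcop_of_lt : n + 1 < p → Nat.Coprime (n + 1) p := by
    intro hlt
    exact ((Nat.Prime.coprime_iff_not_dvd hpp).mpr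
      (fun h => by have := Nat.le_of_dvd (by omega) h; omega)).symm
  have hp1 : p - 1 = w * t := by omega
  have hYne : D.Y.Nonempty := by
    rw [← Finset.card_pos, D.cardY]; omega
  obtain ⟨θ, hθ⟩ := hYne
  have hθone : θ ≠ principalChar G := by
    intro h
    rw [h] at hθ
    exact hYone hθ
  -- the ending `n = 1` (used twice)
  have endN1 : n = 1 → Concl G p := by
    intro hn1'
    subst hn1'
    left
    refine endF p P hcard hcent hperf (by rw [hidx, one_mul]) ?_
    rw [hw, hp1]
    calc w = w * 1 := (mul_one w).symm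
      _ < w * t := Nat.mul_lt_mul_of_pos_left (by omega) (by omega)
  rcases hcases with ⟨hd0, hnt, hwe⟩ | ⟨hd0, hu0, hwe⟩
  swap
  · -- `δ₀ = -1`
    have hdegθ : charDegree (θ : G → ℂ) = w := by
      have := (hYa θ hθ).2
      rw [hd0, hu0] at this
      push_cast at this
      have h2 : (charDegree (θ : G → ℂ) : ℤ) = (w : ℤ) := by rw [this]; ring
      exact_mod_cast h2
    have hge := degree_ge' p P hcard hcent hperf θ hθone
    have hcop : Nat.Coprime (n + 1) p := by
      apply hcop_of_lt
      rcases Nat.eq_zero_or_pos e with h0 | h0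
      · rw [h0] at hwe; omega
      · have : n + 1 ≤ e * (n + 1) := Nat.le_mul_of_pos_left _ h0
        have hwp : w ≤ w * t := by nlinarith
        omega
    rw [hdegθ] at hge
    have ht2 : t = 2 := by
      have h1 : w * t ≤ w * 2 := by omega
      have := Nat.le_of_mul_le_mul_left h1 (by omega : 0 < w)
      omega
    subst ht2
    apply endN1
    -- `(n+1) ∣ 2 w = 2 + 2 e (n+1)`
    have h1 : n + 1 ∣ 2 + 2 * e * (n + 1) := by
      have : w * 2 = 2 + 2 * e * (n + 1) := by rw [hwe]; ring
      rw [← this, ← hp1]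
      exact hdvd1 hcop
    have h2 : n + 1 ∣ 2 := by
      have h3 : n + 1 ∣ 2 * e * (n + 1) := Dvd.intro_left _ rfl
      exact (Nat.dvd_add_left h3).mp h1
    have := Nat.le_of_dvd (by norm_num) h2
    omega
  · -- `δ₀ = +1`
    have hcop : Nat.Coprime (n + 1) p := by
      rw [Nat.coprime_comm, Nat.Prime.coprime_iff_not_dvd hpp, hnt]
      intro h
      have hu0pos : 0 < u0 := by
        rcases Nat.eq_zero_or_pos u0 with h0 | h0
        · rw [h0] at hnt; omega
        · exact h0
      have hwp : w ≤ w * t := by nlinarith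
      have htp : t ≤ w * t := by nlinarith
      rcases (Nat.Prime.dvd_mul hpp).mp h with h' | h'
      · have := Nat.le_of_dvd hu0pos h'
        have : e * (n + 1) ≥ 0 := Nat.zero_le _
        omega
      · have := Nat.le_of_dvd (by omega) h'
        omega
    have hu0 : u0 = 1 := num_u0 hp (by omega) hnt hwe (by rw [← hp1]; exact hdvd1 hcop)
    subst hu0
    have htn : t = n + 1 := by omega
    have hwe' : w = 2 + e * t := by rw [htn]; omega
    have haY : ∀ i ∈ D.Y, a i = 1 := fun i hi => (hYa i hi).1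
    have hYdeg' : ∀ i ∈ D.Y, charDegree (i : G → ℂ) + w = p := by
      intro i hi
      have := (hYa i hi).2
      rw [hd0] at this
      push_cast at this
      have h2 : ((charDegree (i : G → ℂ) + w : ℕ) : ℤ) = (p : ℤ) := by
        push_cast; rw [this]; ring
      exact_mod_cast h2
    have hA : ∀ θ ∈ D.Y, Aw P (θ : G → ℂ) = 1 := by
      intro i hi
      rw [ha i, haY i hi, Nat.cast_one]
    have hπ : ∀ θ ∈ D.Y, classInner (θ : G → ℂ) (permN P) = 0 := by
      intro i hi
      have hne : i ≠ principalChar G := by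
        intro h
        rw [h] at hi
        exact hYone hi
      rw [hm i, hm0 i (Finset.mem_union_right _ hi) hne, Nat.cast_zero]
    obtain ⟨hweven, hmu⟩ := mustar p P hcard hcent w t hw hp ht D hA hπ
    -- the involution of `W`
    haveI : Finite W := inferInstance
    have h2dvd : 2 ∣ Nat.card W := by
      rw [hWcard, hw]; exact even_iff_two_dvd.mp hweven
    obtain ⟨τ0, hτ0⟩ := exists_prime_orderOf_dvd_card' 2 h2dvd
    have hτW : (τ0 : G) ∈ W := τ0.2
    have hτ2 : (τ0 : G) * (τ0 : G) = 1 := by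
      have : τ0 ^ 2 = 1 := by rw [← hτ0]; exact pow_orderOf_eq_one τ0
      have h2 := congrArg Subtype.val this
      rw [pow_two] at h2
      exact h2
    have hτ1 : (τ0 : G) ≠ 1 := by
      intro h
      have : τ0 = 1 := Subtype.ext h
      rw [this, orderOf_one] at hτ0
      omega
    have hτN : (τ0 : G) ∈ 𝒩 := hWN hτW
    have hτP : (τ0 : G) ∉ P := by
      intro h
      have : (τ0 : G) ∈ W ⊓ P := ⟨hτW, h⟩
      rw [hWP, Subgroup.mem_bot] at this
      exact hτ1 this
    obtain ⟨ε, hε, hεY⟩ := hmu (τ0 : G) hτN hτP hτ2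
    set τ : G := (τ0 : G) with hτdef
    -- the centralizer of `τ`
    have hNC : Subgroup.normalizer (W : Set G) ≤ Subgroup.centralizer ({τ} : Set G) :=
      normalizer_le_centralizer_invol W hWc hτW hτ2 hτ1
    have hWle : W ≤ Subgroup.centralizer ({τ} : Set G) := le_centralizer_of_isCyclic W hWc hτW
    have hc_ge : w * t ≤ Nat.card (Subgroup.centralizer ({τ} : Set G)) := by
      have := Subgroup.card_le_of_le hNC
      rw [hNW, hw, ← htn] at this
      exact this
    -- the values at `τ`
    have hv0 : ∀ χ : IrrCharacter G, ∃ v : ℤ, (χ : G → ℂ) τ = (v : ℂ) ∧ |v| ≤ (a χ : ℤ) :=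
      fun χ => val_invol p P hcard hcent (isCharacter_of_isIrrCharacter χ.2) (a χ) (ha χ) hτN hτP hτ2
    choose v hv hvabs using hv0
    have hv1 : v (principalChar G) = 1 := by
      have h : (1 : ℂ) = (v (principalChar G) : ℂ) := hv (principalChar G)
      exact_mod_cast h.symm
    have hvplus : ∀ i ∈ D.X, i ≠ principalChar G → D.sg i = 1 → |v i| ≤ t := by
      intro i hi h1 h2
      have := hvabs i
      rw [(hplus i hi h1 h2).2] at this
      rw [htn]
      exact_mod_cast this
    have hvminus : ∀ i ∈ D.X, D.sg i = -1 → v i = 0 := by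
      intro i hi h
      have := hvabs i
      rw [(hminus i hi h).2] at this
      exact abs_eq_zero.mp (le_antisymm (by exact_mod_cast this) (abs_nonneg _))
    have hvY : ∀ i ∈ D.Y, v i = ε := by
      intro i hi
      have := (hv i).symm.trans (hεY i hi)
      exact_mod_cast this
    have hvD : ∀ i, i ∉ D.X → i ∉ D.Y → v i = a i := by
      intro i hi hi'
      have h1 : classInner (i : G → ℂ) (permN P) = Aw P (i : G → ℂ) := by
        rw [hm i, ha i, hmD i hi hi']
      have h2 := val_of_inner_eq p P hcard hcent (isCharacter_of_isIrrCharacter i.2) h1 hτN hτP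
      rw [hv i, ha i] at h2
      exact_mod_cast h2
    have hcc : ∑ i, v i ^ 2 = (Nat.card (Subgroup.centralizer ({τ} : Set G)) : ℤ) := by
      have h1 := second_orthogonality' τ τ
      rw [if_pos (IsConj.refl τ)] at h1
      have h2 : ∑ χ : IrrCharacter G, (χ : G → ℂ) τ * conj ((χ : G → ℂ) τ) =
          ((∑ i, v i ^ 2 : ℤ) : ℂ) := by
        push_cast
        refine Finset.sum_congr rfl fun χ _ => ?_
        rw [hv χ, map_intCast, pow_two]
      rw [h2] at h1
      exact_mod_cast h1
    have horth : ∑ i : IrrCharacter G, v i * (charDegree (i : G → ℂ) : ℤ) = 0 := by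
      have h1 := second_orthogonality' τ (1 : G)
      rw [if_neg (by rw [isConj_one_right]; exact hτ1)] at h1
      have h2 : ∑ χ : IrrCharacter G, (χ : G → ℂ) τ * conj ((χ : G → ℂ) 1) =
          ((∑ i : IrrCharacter G, v i * (charDegree (i : G → ℂ) : ℤ) : ℤ) : ℂ) := by
        push_cast
        refine Finset.sum_congr rfl fun χ _ => ?_
        rw [hv χ, irr_one_eq_charDegree χ.2, Complex.conj_natCast]
      rw [h2] at h1
      exact_mod_cast h1
    have hwD' : ∀ i : IrrCharacter G, i ∉ D.X → i ∉ D.Y →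
        charDegree (i : G → ℂ) = p * a i ∧ 0 < a i := by
      intro i hi hi'
      have h1 := hwD i hi hi'
      have h2 : charDegree (i : G → ℂ) = p * a i := by exact_mod_cast h1.symm
      refine ⟨h2, ?_⟩
      have := charDegree_pos i.2
      rw [h2] at this
      rcases Nat.eq_zero_or_pos (a i) with h0 | h0
      · rw [h0, mul_zero] at this; omega
      · exact h0
    obtain ⟨hc_eq, hor⟩ :=
      num_tau (fun χ : IrrCharacter G => charDegree (χ : G → ℂ)) a v D.X D.Y D.sg
        (principalChar G) p w t n e (Nat.card (Subgroup.centralizer ({τ} : Set G))) ε hp hw2 ht htn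
        hwe' D.disj D.cardY D.sg_pm hone hsg1 hdeg1 he hplus hYdeg' hwD' hK hv1 hvplus hvminus hε
        hvY hvD hcc hc_ge horth
    by_cases ht2 : t = 2
    · exact endN1 (by omega)
    have ht3 : 3 ≤ t := by omega
    have hcce := hor.resolve_left ht2
    -- the class multiplication constant
    have hG : Nat.card G = p * w * (1 + n * p) := by rw [card_eq p P hcard, hw, hidx]
    have hcount : Nat.card {d : G × G // (d.1 * τ * d.1⁻¹) * (d.2 * τ * d.2⁻¹) = τ} =
        (w * t - w) * (w * t) ^ 2 := by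
      have hcc1 := class_const τ τ τ
      have hsumC : ∑ χ : IrrCharacter G,
          (χ : G → ℂ) τ * (χ : G → ℂ) τ * conj ((χ : G → ℂ) τ) / (χ : G → ℂ) 1 =
          ((∑ i : IrrCharacter G, (v i : ℚ) ^ 3 / (charDegree (i : G → ℂ) : ℚ) : ℚ) : ℂ) := by
        push_cast
        refine Finset.sum_congr rfl fun χ _ => ?_
        rw [hv χ, map_intCast, irr_one_eq_charDegree χ.2]
        ring
      rw [hsumC, hG] at hcc1
      have h3 : ((Nat.card {d : G × G // (d.1 * τ * d.1⁻¹) * (d.2 * τ * d.2⁻¹) = τ} : ℚ) : ℂ) =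
          (((p * w * (1 + n * p) : ℚ) *
            ∑ i : IrrCharacter G, (v i : ℚ) ^ 3 / (charDegree (i : G → ℂ) : ℚ) : ℚ) : ℂ) := by
        push_cast
        push_cast at hcc1
        exact hcc1
      have h4 := Rat.cast_injective h3
      rw [hcce] at h4
      have h5 : (Nat.card {d : G × G // (d.1 * τ * d.1⁻¹) * (d.2 * τ * d.2⁻¹) = τ} : ℚ) =
          (((w * t - w) * (w * t) ^ 2 : ℕ) : ℚ) := by
        rw [h4]
        have : w ≤ w * t := by nlinarith
        push_cast [Nat.cast_sub this]
        ring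
      exact_mod_cast h5
    have hWcard' : Nat.card W = w := hWcard.trans hw
    have hinv := invol_of_count τ hτ2 hτ1 W hWc hτW hWle (w * t) w hc_eq hWcard' hcount
    by_cases hw2' : w = 2
    · -- `w = 2`: S1230
      right
      have het : e * t = 0 := by omega
      have hn' : 2 * n + 3 = p := by
        rw [hp, hw2', htn]; ring
      have hc' : Nat.card (Subgroup.centralizer ({τ} : Set G)) = p - 1 := by
        rw [hc_eq, hp1]
      refine endE p P hcard hcent hp5 n hidx (hw.trans hw2') hn' τ hτ2 hτ1 hc' ?_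
      intro x hx hx1
      by_cases hxW : x ∈ W
      · have hxx : (⟨x, hxW⟩ : W) ^ 2 = 1 := by
          have := pow_card_eq_one' (G := W) (x := ⟨x, hxW⟩)
          rwa [hWcard', hw2'] at this
        have hxx' : (⟨x, hxW⟩ : W) * ⟨x, hxW⟩ = 1 := by rw [← pow_two]; exact hxx
        have hx1' : (⟨x, hxW⟩ : W) ≠ 1 := fun h => hx1 (congrArg Subtype.val h)
        have hτ0' : τ0 * τ0 = 1 := Subtype.ext hτ2
        have hτ01 : τ0 ≠ 1 := fun h => hτ1 (congrArg Subtype.val h)
        have := invol_unique_of_isCyclic hxx' hx1' hτ0' hτ01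
        have hxτ : x = τ := congrArg Subtype.val this
        rw [hxτ]
        exact ⟨hτ2, IsConj.refl τ⟩
      · exact hinv x hx hxW
    · -- `w ≥ 3`, `t ≥ 3`: impossible
      exfalso
      refine endD_false (Subgroup.centralizer ({τ} : Set G)) W hWle hWc (by rw [hWcard']; omega) ?_
        (fun x hx hxW => (hinv x hx hxW).1)
      rw [hWcard', hc_eq]
      calc 3 * w = w * 3 := by ring
        _ ≤ w * t := Nat.mul_le_mul_left w ht3

open Classical in
theorem main_t1_nc (hperf : commutator G = ⊤) (hcard : Nat.card P = p)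
    (hcent : Subgroup.centralizer (P : Set G) ≤ P) (n : ℕ) (hidx : (𝒩).index = 1 + n * p)
    (hnc : Cfsg.Agent.Helper6.BR4700.NC p n) (hn1 : 1 ≤ n) (hw : P.relIndex 𝒩 = p - 1) (hp3 : 3 ≤ p)
    (D0 : BrauerData p P (p - 1) 1) : False := by
  obtain ⟨D⟩ := merge_t1 p P hcard hcent hw D0
  have hY0 : D.Y = ∅ := Finset.card_eq_zero.mp D.cardY
  obtain ⟨a, ha, hwX, hwY, hwD⟩ := weights D hcard
  have hYone : principalChar G ∉ D.Y := by rw [hY0]; exact Finset.notMem_empty _
  obtain ⟨hone, hsg1⟩ := principal_mem D hcard hYone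
  have hdeg1 := charDegree_principal (G := G)
  have hwD' : ∀ i : IrrCharacter G, i ∉ D.X → (p : ℤ) * a i = charDegree (i : G → ℂ) :=
    fun i hi => hwD i hi (by rw [hY0]; exact Finset.notMem_empty _)
  have hdvd : ∀ i : IrrCharacter G, charDegree (i : G → ℂ) ∣ p * (p - 1) * (1 + n * p) := by
    intro i
    have := deg_dvd p P hcard n hidx i
    rwa [hw] at this
  have hnorm : ∑ i : IrrCharacter G, a i ^ 2 = (p - 1) * (n + 1) := by
    rw [norm_identity p P hcard hcent a ha n hidx, hw]
  have hdegeq : ∑ i ∈ D.X, D.sg i * (charDegree (i : G → ℂ) : ℤ) = 0 := by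
    have h1 := degeq D hcard
    rw [hY0, Finset.sum_empty, mul_zero, add_zero] at h1
    have hp1 : (p : ℤ) - 1 ≠ 0 := by omega
    exact (mul_eq_zero.mp h1).resolve_left hp1
  obtain ⟨e, he, hplus, hminus, hK⟩ :=
    Cfsg.Agent.Helper6.BR4700.num_t1' (fun χ : IrrCharacter G => charDegree (χ : G → ℂ)) a D.X D.sg (principalChar G) p n hp3
      hn1 hnc D.cardX D.sg_pm hone hsg1 hdeg1 (fun χ h => eq_principal_of_degree_one hperf χ h)
      (fun χ => charDegree_pos χ.2) hwX hwD' hdvd hdegeq hnorm
  -- the permutation character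
  obtain ⟨m, hm, hma, hm1, hmdeg, hmdsum, hmwt, hinner⟩ := perm_mult hcard hcent n hidx a ha
  have hmdef := perm_def D hcard m hmdsum
  have ha1 : a (principalChar G) = 1 := by
    have h1 := hwX _ hone
    rw [hsg1, hdeg1] at h1
    have hp0 : (p : ℤ) ≠ 0 := by omega
    have h2 : (p : ℤ) * a (principalChar G) = (p : ℤ) * 1 := by
      rw [h1]; push_cast; ring
    exact_mod_cast mul_left_cancel₀ hp0 h2
  have hK' : ∑ i ∈ (Finset.univ \ D.X) \ D.Y, a i ^ 2 = n := by
    rw [hY0, Finset.sdiff_empty]; exact hK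
  obtain ⟨hmD, hm0, hmsq⟩ :=
    num_perm (fun χ : IrrCharacter G => charDegree (χ : G → ℂ)) a m D.X D.Y D.sg D.d0
      (principalChar G) p p n (by omega) (by omega) D.disj D.d0_pm hone hsg1 ha1 hdeg1 D.sg_pm
      (fun i hi h1 h2 => (hplus i hi h1 h2).1) hminus hK' hm1 hma hmdeg hmdef hmwt
  obtain ⟨W, hWN, hWcard, hWP, hWc, hNW⟩ :=
    rank_step p P hcard hcent (by omega) n hn1 hidx m hinner hmsq
  have hnp : n + 1 < p := by
    rcases Nat.eq_zero_or_pos e with h0 | h0
    · rw [h0] at he; omega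
    · have : n + 1 ≤ e * (n + 1) := Nat.le_mul_of_pos_left _ h0
      omega
  have hdvd1 : n + 1 ∣ p - 1 := dvd_step p P hcard n hidx hnp (by omega) W hNW
  have h2 : n + 1 ∣ p - 2 := ⟨e, by rw [← he]; simp [mul_comm]⟩
  have h3 : n + 1 ∣ (p - 1) - (p - 2) := Nat.dvd_sub hdvd1 h2
  have h4 : (p - 1) - (p - 2) = 1 := by omega
  rw [h4] at h3
  have := Nat.le_of_dvd one_pos h3
  omega


theorem main_nc (hperf : commutator G = ⊤) (hcard : Nat.card P = p)
    (hcent : Subgroup.centralizer (P : Set G) ≤ P) (n : ℕ) (hidx : (𝒩).index = 1 + n * p)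
    (hnc : Cfsg.Agent.Helper6.BR4700.NC p n) : Concl G p := by
  have hw2 := two_le_relIndex p P hcard hcent hperf
  have hwdvd := relIndex_dvd p P hcard hcent
  have hn1 : 1 ≤ n := by
    rcases Nat.eq_zero_or_pos n with h | h
    · exfalso
      apply index_ne_one p P hcard hcent hperf
      rw [hidx, h]
      simp
    · exact h
  have hp2' : 2 ≤ p := two_le_p
  have hp3 : 3 ≤ p := by
    have := Nat.le_of_dvd (by omega) hwdvd
    omega
  obtain ⟨D⟩ := exists_brauerData p P (by omega) hcard hcent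
  obtain ⟨w, hw⟩ : ∃ w, P.relIndex 𝒩 = w := ⟨_, rfl⟩
  rw [hw] at D hw2 hwdvd
  obtain ⟨t, ht⟩ := hwdvd
  have hdiv : (p - 1) / w = t := by
    rw [ht]
    exact Nat.mul_div_cancel_left t (by omega)
  rw [hdiv] at D
  have hp : p = w * t + 1 := by omega
  have ht1 : 1 ≤ t := by
    rcases Nat.eq_zero_or_pos t with h | h
    · rw [h] at hp; omega
    · exact h
  by_cases h : t = 1
  · exfalso
    subst h
    have hw' : w = p - 1 := by omega
    rw [hw'] at D hw
    exact main_t1_nc p P hperf hcard hcent n hidx hnc hn1 hw hp3 D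
  · exact main_t2_nc p P hperf hcard hcent n hidx hnc hn1 w t hw hp hw2 (by omega) D


/-- **Theorem S** (Brauer–Reynolds, self-centralizing case, without the bound on `n`): `G` perfect, `C_G(z) = ⟨z⟩` of
prime order `p`, `1 + n p` Sylow `p`-subgroups and `(NC)`.  Then `G ≅ PSL(2,p)`, `p > 3`, or `p = 2^m + 1 > 3` and
`G ≅ PSL(2,2^m)`. -/
theorem theoremS {G : Type u} [Group G] [Finite G] (hperf : commutator G = ⊤) (p : ℕ) [Fact p.Prime]
    (z : G) (hz : orderOf z = p) (hC : Subgroup.centralizer ({z} : Set G) = Subgroup.zpowers z)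
    (n : ℕ) (hn : Nat.card (Sylow p G) = 1 + n * p) (hnc : Cfsg.Agent.Helper6.BR4700.NC p n) :
    Concl G p := by
  classical
  haveI : Fintype G := Fintype.ofFinite G
  haveI : Fintype (IrrCharacter G) := Cfsg.Agent.Helper24.irrFintype
  obtain ⟨S, hS, hcard, hcent⟩ := Cfsg.Agent.Helper6.BR996.G0_exists_sylow p z hz hC
  have hcent' : Subgroup.centralizer ((S : Subgroup G) : Set G) ≤ (S : Subgroup G) := le_of_eq hcent
  have hcardS : Nat.card (Sylow p G) = (Subgroup.normalizer ((S : Subgroup G) : Set G)).index :=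
    S.card_eq_index_normalizer
  have hidx : (Subgroup.normalizer ((S : Subgroup G) : Set G)).index = 1 + n * p := by
    rw [← hcardS, hn]
  exact main_nc p (S : Subgroup G) hperf hcard hcent' n hidx hnc

end MainNC

end Cfsg.Agent.Helper10.BR996.Asm
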