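import Mathlib
import Cfsg.Agent.S0999
import Cfsg.Agent.S4700
import Cfsg.Agent.Lib.Helper2.CardSL
import Cfsg.Agent.Lib.Helper10.Cores
import Cfsg.Agent.Lib.Helper10.BrSieve
import Cfsg.Agent.Lib.Helper3.SmallOrd

set_option autoImplicit false
set_option maxRecDepth 8000
set_option linter.unusedVariables false
set_option linter.unusedTactic false
set_option linter.unreachableTactic false

/-!
Order filters coming from the Brauer--Reynolds theorems (S0999 and S4700), and the orders in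
(3640, 6233) that they exclude (helper10, for S0983).
-/

namespace Cfsg.Agent.Helper10.Ord83

/-- the order of `PSL₂(F)` -/
theorem card_PSL2_mul {F : Type*} [Field F] [Fintype F] :
    Nat.gcd 2 (Fintype.card F - 1) *
        Nat.card (Matrix.ProjectiveSpecialLinearGroup (Fin 2) F) =
      Fintype.card F * (Fintype.card F - 1) * (Fintype.card F + 1) := by
  have h1 := Cfsg.Agent.Helper2.card_PSL_mul (F := F) 2 (by norm_num)
  rw [Fin.prod_univ_two] at h1
  simp only [Fin.val_zero, pow_zero, Fin.val_one, pow_one] at h1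
  have hq : 2 ≤ Fintype.card F := Fintype.one_lt_card
  obtain ⟨r, hr⟩ : ∃ r, Fintype.card F = r + 2 := ⟨Fintype.card F - 2, by omega⟩
  rw [hr] at h1 ⊢
  have e1 : (r + 2) ^ 2 - 1 = (r + 1) * (r + 3) := by
    have : (r + 2) ^ 2 = (r + 1) * (r + 3) + 1 := by ring
    omega
  have e2 : (r + 2) ^ 2 - (r + 2) = (r + 2) * (r + 1) := by
    have : (r + 2) ^ 2 = (r + 2) * (r + 1) + (r + 2) := by ring
    omega
  have e3 : r + 2 - 1 = r + 1 := by omega
  rw [e1, e2, e3] at h1
  rw [e3]
  have hpos : 0 < r + 1 := by omega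
  apply Nat.eq_of_mul_eq_mul_left hpos
  calc (r + 1) * (Nat.gcd 2 (r + 1) *
        Nat.card (Matrix.ProjectiveSpecialLinearGroup (Fin 2) F))
      = Nat.gcd 2 (r + 1) * ((r + 1) *
        Nat.card (Matrix.ProjectiveSpecialLinearGroup (Fin 2) F)) := by ring
    _ = (r + 1) * (r + 3) * ((r + 2) * (r + 1)) := h1
    _ = (r + 1) * ((r + 2) * (r + 1) * (r + 2 + 1)) := by ring

/-- the order of `SL₂(F)` -/
theorem card_SL2 {F : Type*} [Field F] [Fintype F] :
    Nat.card (Matrix.SpecialLinearGroup (Fin 2) F) =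
      Fintype.card F * (Fintype.card F - 1) * (Fintype.card F + 1) := by
  have h1 := Cfsg.Agent.Helper2.card_SL_mul (F := F) 2 (by norm_num)
  rw [Fin.prod_univ_two] at h1
  simp only [Fin.val_zero, pow_zero, Fin.val_one, pow_one] at h1
  have hq : 2 ≤ Fintype.card F := Fintype.one_lt_card
  obtain ⟨r, hr⟩ : ∃ r, Fintype.card F = r + 2 := ⟨Fintype.card F - 2, by omega⟩
  rw [hr] at h1 ⊢
  have e1 : (r + 2) ^ 2 - 1 = (r + 1) * (r + 3) := by
    have : (r + 2) ^ 2 = (r + 1) * (r + 3) + 1 := by ring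
    omega
  have e2 : (r + 2) ^ 2 - (r + 2) = (r + 2) * (r + 1) := by
    have : (r + 2) ^ 2 = (r + 2) * (r + 1) + (r + 2) := by ring
    omega
  have e3 : r + 2 - 1 = r + 1 := by omega
  rw [e1, e2, e3] at h1
  rw [e3]
  have hpos : 0 < r + 1 := by omega
  apply Nat.eq_of_mul_eq_mul_left hpos
  calc (r + 1) * Nat.card (Matrix.SpecialLinearGroup (Fin 2) F)
      = (r + 1) * (r + 3) * ((r + 2) * (r + 1)) := h1
    _ = (r + 1) * ((r + 2) * (r + 1) * (r + 2 + 1)) := by ring

theorem gcd_two_pred_prime {p : ℕ} (hp : p.Prime) (h3 : 3 < p) : Nat.gcd 2 (p - 1) = 2 := by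
  apply Nat.gcd_eq_left
  rcases hp.eq_two_or_odd with h | h
  · omega
  · omega

theorem gcd_two_pred_two_pow {m : ℕ} (hm : 0 < m) : Nat.gcd 2 (2 ^ m - 1) = 1 := by
  obtain ⟨k, rfl⟩ : ∃ k, m = k + 1 := ⟨m - 1, by omega⟩
  have h1 : 1 ≤ 2 ^ k := Nat.one_le_two_pow
  have h2 : 2 ^ (k + 1) - 1 = 2 * (2 ^ k - 1) + 1 := by
    rw [pow_succ]; omega
  rw [h2]
  have : Nat.Coprime 2 (2 * (2 ^ k - 1) + 1) := by
    rw [Nat.coprime_two_left]
    exact ⟨_, rfl⟩
  exact this

theorem nonab_of_not_comm {G : Type*} [Group G] (hG : ¬ IsMulCommutative G) :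
    ∃ x y : G, x * y ≠ y * x := by
  by_contra hc
  push Not at hc
  exact hG ⟨⟨hc⟩⟩

/-- The order filter from S0999. -/
theorem br_filter {G : Type*} [Group G] [Finite G] [IsSimpleGroup G]
    (hG : ¬ IsMulCommutative G) (p : ℕ) (hp : p.Prime) (hdvd : p ∣ Nat.card G)
    (hbig : Nat.card G < p ^ 3) :
    2 * Nat.card G = p * (p - 1) * (p + 1) ∨
      ∃ m : ℕ, p = 2 ^ m + 1 ∧ Nat.card G = 2 ^ m * (2 ^ m - 1) * (2 ^ m + 1) := by
  have hcyc : ¬ IsCyclic G := fun hc => hG IsCyclic.isMulCommutative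
  rcases Cfsg.Agent.S0999.result hcyc p hp hdvd hbig with
    ⟨F, _, _, hF, h3, ⟨e⟩⟩ | ⟨m, F, _, _, hF, hpm, h3, ⟨e⟩⟩
  · left
    have h1 := card_PSL2_mul (F := F)
    rw [hF, gcd_two_pred_prime hp h3, ← Nat.card_congr e.toEquiv] at h1
    exact h1
  · right
    refine ⟨m, hpm, ?_⟩
    have hm : 0 < m := by
      rcases Nat.eq_zero_or_pos m with h | h
      · subst h; simp at hpm; omega
      · exact h
    have h1 := card_PSL2_mul (F := F)
    rw [hF, gcd_two_pred_two_pow hm, ← Nat.card_congr e.toEquiv, one_mul] at h1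
    exact h1

/-- The S0999 filter in the range (3640, 6233). -/
theorem br_range {G : Type*} [Group G] [Finite G] [IsSimpleGroup G]
    (hG : ¬ IsMulCommutative G) (p : ℕ) (hp : p.Prime) (hdvd : p ∣ Nat.card G)
    (hbig : Nat.card G < p ^ 3) (h1 : 3640 < Nat.card G) (h2 : Nat.card G ≤ 6232) :
    Nat.card G = 4080 ∨ Nat.card G = 6072 := by
  rcases br_filter hG p hp hdvd hbig with h | ⟨m, hpm, h⟩
  · have hlo : 17 ≤ p := by
      by_contra hc
      push Not at hc
      have hp1 : 1 ≤ p := hp.one_lt.le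
      have : p * (p - 1) * (p + 1) ≤ 16 * 15 * 17 :=
        Nat.mul_le_mul (Nat.mul_le_mul (by omega) (by omega)) (by omega)
      omega
    have hhi : p ≤ 23 := by
      by_contra hc
      push Not at hc
      have : 24 * 23 * 25 ≤ p * (p - 1) * (p + 1) :=
        Nat.mul_le_mul (Nat.mul_le_mul (by omega) (by omega)) (by omega)
      omega
    interval_cases p
    · omega
    · exact absurd hp (by norm_num)
    · omega
    · exact absurd hp (by norm_num)
    · exact absurd hp (by norm_num)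
    · exact absurd hp (by norm_num)
    · right; omega
  · left
    rcases Nat.lt_or_ge m 4 with hm | hm
    · exfalso
      have h8 : 2 ^ m ≤ 2 ^ 3 := Nat.pow_le_pow_right (by norm_num) (by omega)
      have : 2 ^ m * (2 ^ m - 1) * (2 ^ m + 1) ≤ 8 * 7 * 9 :=
        Nat.mul_le_mul (Nat.mul_le_mul (by omega) (by omega)) (by omega)
      omega
    · rcases Nat.lt_or_ge m 5 with hm5 | hm5
      · have : m = 4 := by omega
        subst this
        rw [h]; norm_num
      · exfalso
        have h32 : 2 ^ 5 ≤ 2 ^ m := Nat.pow_le_pow_right (by norm_num) hm5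
        have : 32 * 31 * 33 ≤ 2 ^ m * (2 ^ m - 1) * (2 ^ m + 1) :=
          Nat.mul_le_mul (Nat.mul_le_mul (by omega) (by omega)) (by omega)
        omega

/-- The order filter from S4700, for a simple group with a Sylow `p`-subgroup of order `p`. -/
theorem s4700_filter {G : Type*} [Group G] [Finite G] [IsSimpleGroup G]
    (hG : ∃ x y : G, x * y ≠ y * x) (p : ℕ) [Fact p.Prime] (P : Sylow p G)
    (hP : Nat.card P = p) (n : ℕ) (hn : Nat.card (Sylow p G) = 1 + n * p) :
    2 * Nat.card G = p * (p - 1) * (p + 1) ∨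
      (∃ m : ℕ, p = 2 ^ m + 1 ∧ Nat.card G = 2 ^ m * (2 ^ m - 1) * (2 ^ m + 1)) ∨
      (∃ h u : ℕ, 0 < h ∧ 0 < u ∧ n * (u + 1) = h * u * p + u ^ 2 + u + h) := by
  have hp : p.Prime := Fact.out
  have hperf := Cfsg.Agent.Helper10.BrSieve.perfect_of_simple hG
  have hK : Cfsg.pPrimeCore p G = ⊥ := by
    rcases (Cfsg.pPrimeCore_normal p G).eq_bot_or_eq_top with h | h
    · exact h
    · exfalso
      have hc := Cfsg.Agent.Helper10.card_pPrimeCore_coprime (G := G) p
      rw [h, Subgroup.card_top] at hc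
      have hd : p ∣ Nat.card G := by
        have := Subgroup.card_subgroup_dvd_card (P : Subgroup G)
        rw [show Nat.card (P : Subgroup G) = p from hP] at this
        exact this
      have := Nat.Coprime.eq_one_of_dvd hc.symm hd
      exact hp.one_lt.ne' this
  have hcard : Nat.card (G ⧸ Cfsg.pPrimeCore p G) = Nat.card G := by
    have := Subgroup.card_eq_card_quotient_mul_card_subgroup (Cfsg.pPrimeCore p G)
    rw [this, hK, Subgroup.card_bot, mul_one]
  rcases Cfsg.Agent.S4700.result hperf p P hP n hn with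
    ⟨F, _, _, hF, h3, ⟨e⟩⟩ | ⟨m, F, _, _, hF, hpm, h3, ⟨e⟩⟩ | h
  · left
    have h1 := card_PSL2_mul (F := F)
    rw [hF, gcd_two_pred_prime hp h3, ← Nat.card_congr e.toEquiv, hcard] at h1
    exact h1
  · right; left
    refine ⟨m, hpm, ?_⟩
    have h1 := card_SL2 (F := F)
    rw [hF, ← Nat.card_congr e.toEquiv, hcard] at h1
    exact h1
  · right; right
    exact h

end Cfsg.Agent.Helper10.Ord83
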