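import Mathlib

/-!
# S2264 / S2265 (helper10): shared definitions

Element orders in `PSp_{2m}(q)` and `PΩ(q)` are at most `q^(m+1)/(q-1)`.
See `plans/S2264_plan.md`.
-/

set_option autoImplicit false

open Polynomial

namespace Cfsg.Agent.Helper10.EO

section defs
variable {F : Type*} [Field F]

/-- the monic reciprocal polynomial of `f` (meaningful when `f.coeff 0 ≠ 0`) -/
noncomputable def star (f : F[X]) : F[X] := C (f.coeff 0)⁻¹ * f.reverse

open Classical in
/-- the exponent attached to a monic irreducible `f ≠ X` over the field with `q` elements -/
noncomputable def expo (q : ℕ) (f : F[X]) : ℕ :=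
  if star f = f then q ^ (f.natDegree / 2) + 1 else q ^ f.natDegree - 1

end defs

end Cfsg.Agent.Helper10.EO
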