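import Mathlib
import Cfsg.Agent.Lib.Helper10.EODefs

/-!
# S2263 (helper10): shared definitions

Largest element order of `PGU_d(q)`.  See `plans/S2263_plan.md`.
-/

set_option autoImplicit false

open Polynomial

namespace Cfsg.Agent.Helper10.PU

/-- the largest element order of `PGU_d(q)`, `q = p ^ f` -/
def Bnd (p f d : ℕ) : ℕ :=
  if Odd d then (if 2 ≤ f then (p ^ f) ^ (d - 1) - 1 else (p ^ (d - 2) + 1) * p)
  else (if 2 < p ^ f then (p ^ f) ^ (d - 1) + 1 else 4 * (2 ^ (d - 3) + 1))

/-- `E q n = q ^ n - (-1) ^ n` -/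
def Efun (q n : ℕ) : ℕ := if Even n then q ^ n - 1 else q ^ n + 1

/-- `w q n = E q n / (q + 1)` (an exact division) -/
def wfun (q n : ℕ) : ℕ := Efun q n / (q + 1)

section defs
variable {F : Type*} [Field F]

/-- the `σ`-twisted monic reciprocal of `f` (meaningful when `f.coeff 0 ≠ 0`) -/
noncomputable def dagger (σ : F →+* F) (f : F[X]) : F[X] :=
  Cfsg.Agent.Helper10.EO.star (f.map σ)

end defs

end Cfsg.Agent.Helper10.PU
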