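import Mathlib
import Cfsg.Agent.Lib.Helper11.AutAlt

/-!
# Definitions for S2930 (3-minimal groups with `F*` alternating) - helper10

All combinatorial objects live on `Fin n`; `Alt n` is the alternating group as a type.
-/

set_option autoImplicit false

namespace Cfsg.Agent.Helper10.TM

open Equiv Equiv.Perm Cfsg.Agent.Helper11.AutAlt
open scoped Pointwise

variable {n : ℕ}

/-- the alternating group of degree `n`, as a type -/
abbrev Alt (n : ℕ) := ↥(alternatingGroup (Fin n))

/-- the orbit of `x` under a subgroup of the alternating group, as an explicit set -/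
def orb (S : Subgroup (Alt n)) (x : Fin n) : Set (Fin n) :=
  {y | ∃ s : Alt n, s ∈ S ∧ (s : Perm (Fin n)) x = y}

/-- the permutations preserving (in both directions) a relation on `Fin n` -/
def RStabP (r : Fin n → Fin n → Prop) : Subgroup (Perm (Fin n)) where
  carrier := {g | ∀ x y, r x y ↔ r (g x) (g y)}
  mul_mem' := by
    intro a b ha hb x y
    rw [hb x y, ha (b x) (b y)]
    rfl
  one_mem' := by
    intro x y
    rfl
  inv_mem' := by
    intro a ha x y
    have h := ha (a⁻¹ x) (a⁻¹ y)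
    have e1 : a (a⁻¹ x) = x := by simp
    have e2 : a (a⁻¹ y) = y := by simp
    rw [e1, e2] at h
    exact h.symm

theorem mem_RStabP {r : Fin n → Fin n → Prop} {g : Perm (Fin n)} :
    g ∈ RStabP r ↔ ∀ x y, r x y ↔ r (g x) (g y) := Iff.rfl

/-- the even permutations preserving a relation, as a subgroup of `Alt n` -/
def RStab (r : Fin n → Fin n → Prop) : Subgroup (Alt n) :=
  (RStabP r).subgroupOf (alternatingGroup (Fin n))

theorem mem_RStab {r : Fin n → Fin n → Prop} {g : Alt n} :
    g ∈ RStab r ↔ ∀ x y, r x y ↔ r ((g : Perm (Fin n)) x) ((g : Perm (Fin n)) y) := Iff.rfl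

/-- `y` lies in the `ζ`-cycle `{x, ζ x, ζ (ζ x)}` of `x` -/
def Rz (ζ : Perm (Fin n)) (x y : Fin n) : Prop := y = x ∨ y = ζ x ∨ y = ζ (ζ x)

/-- `y` lies in the `N`-orbit of `x` -/
def Rn (N : Subgroup (Alt n)) (x y : Fin n) : Prop := y ∈ orb N x

/-- the product of three three-cycles moving the `ζ`-cycle of `x` to that of `y` to that of `w` -/
def bb (ζ : Perm (Fin n)) (x y w : Fin n) : Perm (Fin n) :=
  c3 x y w * c3 (ζ x) (ζ y) (ζ w) * c3 (ζ (ζ x)) (ζ (ζ y)) (ζ (ζ w))

/-- the setwise stabilizer in `Alt n` of a set of points -/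
def SetStab (P : Set (Fin n)) : Subgroup (Alt n) := MulAction.stabilizer (Alt n) P

theorem mem_SetStab {P : Set (Fin n)} {g : Alt n} : g ∈ SetStab P ↔ g • P = P := Iff.rfl

/-- any two proper subgroups over `S` generate a proper subgroup -/
def Unq (S : Subgroup (Alt n)) : Prop :=
  ∀ H₁ H₂ : Subgroup (Alt n), S ≤ H₁ → S ≤ H₂ → H₁ ≠ ⊤ → H₂ ≠ ⊤ → H₁ ⊔ H₂ ≠ ⊤

end Cfsg.Agent.Helper10.TM
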