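import Mathlib
import Cfsg.Agent.Lib.Helper10.TMDefs
import Cfsg.Agent.Lib.Helper21.TMRZ
import Cfsg.Agent.Lib.Helper12.TMIMP3MEM
import Cfsg.Agent.Lib.Helper12.TMIMP3TRANS

/-!
# S2930, piece IMP3BLK : a non-trivial block of an overgroup of `RStabP (Rz ζ)` forces the
overgroup into `RStabP (Rz ζ)` (helper10)
-/

set_option autoImplicit false

namespace Cfsg.Agent.Helper10.TM

open Equiv Equiv.Perm Cfsg.Agent.Helper11.AutAlt
open scoped Pointwise

variable {n : ℕ}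


theorem imp3blk_c3_fst {a b c : Fin n} (hab : a ≠ b) (hac : a ≠ c) (hbc : b ≠ c) : c3 a b c a = b := by
  simp only [c3, Perm.mul_apply, swap_apply_def]
  grind

theorem imp3blk_c3_snd {a b c : Fin n} (hab : a ≠ b) (hac : a ≠ c) (hbc : b ≠ c) : c3 a b c b = c := by
  simp only [c3, Perm.mul_apply, swap_apply_def]
  grind

theorem imp3blk_c3_trd {a b c : Fin n} (hab : a ≠ b) (hac : a ≠ c) (hbc : b ≠ c) : c3 a b c c = a := by
  simp only [c3, Perm.mul_apply, swap_apply_def]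
  grind

theorem imp3blk_c3_of_ne {a b c z : Fin n} (ha : z ≠ a) (hb : z ≠ b) (hc : z ≠ c) :
    c3 a b c z = z := by
  simp only [c3, Perm.mul_apply, swap_apply_def]
  grind

theorem imp3blk_zeta3 {ζ : Perm (Fin n)} (hζ : ζ ^ 3 = 1) (x : Fin n) : ζ (ζ (ζ x)) = x := by
  have := congrArg (fun f : Perm (Fin n) => f x) hζ
  simpa [pow_succ] using this

/-- a group element mapping one point of a block into the block maps the whole block into it -/
theorem imp3blk_stab {K : Subgroup (Perm (Fin n))} {B : Set (Fin n)} (hBl : MulAction.IsBlock ↥K B)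
    {g : Perm (Fin n)} (hg : g ∈ K) {a : Fin n} (ha : a ∈ B) (hga : g a ∈ B) {b : Fin n}
    (hb : b ∈ B) : g b ∈ B := by
  have h := hBl.smul_eq_of_mem (g := (⟨g, hg⟩ : ↥K)) ha hga
  have h2 : (⟨g, hg⟩ : ↥K) • b ∈ (⟨g, hg⟩ : ↥K) • B := Set.smul_mem_smul_set hb
  rw [h] at h2
  exact h2


theorem imp3blk_ne1 {ζ : Perm (Fin n)} (hζ : ζ ^ 3 = 1) (hfp : ∀ x, ζ x ≠ x) (x : Fin n) :
    x ≠ ζ (ζ x) := by
  intro h
  have h3 := imp3blk_zeta3 hζ x
  rw [← h] at h3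
  exact hfp x h3

/-- step (a) : a non-trivial block is closed under `ζ` -/
theorem imp3blk_a (ζ : Perm (Fin n)) (hζ : ζ ^ 3 = 1) (hfp : ∀ x, ζ x ≠ x)
    (K : Subgroup (Perm (Fin n))) (hT : ∀ x, c3 x (ζ x) (ζ (ζ x)) ∈ K)
    (B : Set (Fin n)) (hBl : MulAction.IsBlock ↥K B) (h1 : ¬ B.Subsingleton) {x : Fin n}
    (hx : x ∈ B) : ζ x ∈ B := by
  rw [Set.not_subsingleton_iff] at h1
  obtain ⟨x', hx', hne⟩ := h1.exists_ne x
  have d1 : x ≠ ζ x := fun h => hfp x h.symm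
  have d2 : x ≠ ζ (ζ x) := imp3blk_ne1 hζ hfp x
  have d3 : ζ x ≠ ζ (ζ x) := fun h => hfp (ζ x) h.symm
  have ht := hT x
  by_cases c1 : x' = ζ x
  · rw [← c1]; exact hx'
  by_cases c2 : x' = ζ (ζ x)
  · have hg : c3 x (ζ x) (ζ (ζ x)) * c3 x (ζ x) (ζ (ζ x)) ∈ K := K.mul_mem ht ht
    have e1 : (c3 x (ζ x) (ζ (ζ x)) * c3 x (ζ x) (ζ (ζ x))) x = ζ (ζ x) := by
      rw [Perm.mul_apply, imp3blk_c3_fst d1 d2 d3, imp3blk_c3_snd d1 d2 d3]
    have e2 : (c3 x (ζ x) (ζ (ζ x)) * c3 x (ζ x) (ζ (ζ x))) (ζ (ζ x)) = ζ x := by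
      rw [Perm.mul_apply, imp3blk_c3_trd d1 d2 d3, imp3blk_c3_fst d1 d2 d3]
    have := imp3blk_stab hBl hg hx (by rw [e1, ← c2]; exact hx') (b := ζ (ζ x))
      (by rw [← c2]; exact hx')
    rw [e2] at this
    exact this
  · have e1 : c3 x (ζ x) (ζ (ζ x)) x' = x' := imp3blk_c3_of_ne hne c1 c2
    have := imp3blk_stab hBl ht hx' (by rw [e1]; exact hx') hx
    rw [imp3blk_c3_fst d1 d2 d3] at this
    exact this

theorem imp3blk_exists_not_mem (hn : 12 ≤ n) (s : Finset (Fin n)) (hs : s.card ≤ 9) :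
    ∃ v, v ∉ s := by
  by_contra hall
  push Not at hall
  have : s = Finset.univ := Finset.eq_univ_iff_forall.2 hall
  rw [this, Finset.card_univ, Fintype.card_fin] at hs
  omega

/-- step (b) : a block containing two different `ζ`-cycles is everything -/
theorem imp3blk_b (ζ : Perm (Fin n)) (hζ : ζ ^ 3 = 1) (hfp : ∀ x, ζ x ≠ x) (hn : 12 ≤ n)
    (K : Subgroup (Perm (Fin n))) (hT : ∀ x, c3 x (ζ x) (ζ (ζ x)) ∈ K)
    (hB : ∀ x y w, ¬ Rz ζ x y → ¬ Rz ζ x w → ¬ Rz ζ y w → bb ζ x y w ∈ K)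
    (B : Set (Fin n)) (hBl : MulAction.IsBlock ↥K B) (h1 : ¬ B.Subsingleton) {x y : Fin n}
    (hx : x ∈ B) (hy : y ∈ B) (hxy : ¬ Rz ζ x y) : B = Set.univ := by
  have hcl : ∀ {a w : Fin n}, a ∈ B → Rz ζ a w → w ∈ B := by
    intro a w ha hw
    rcases hw with rfl | rfl | rfl
    · exact ha
    · exact imp3blk_a ζ hζ hfp K hT B hBl h1 ha
    · exact imp3blk_a ζ hζ hfp K hT B hBl h1 (imp3blk_a ζ hζ hfp K hT B hBl h1 ha)
  rw [Set.eq_univ_iff_forall]
  intro w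
  by_cases hxw : Rz ζ x w
  · exact hcl hx hxw
  by_cases hyw : Rz ζ y w
  · exact hcl hy hyw
  classical
  obtain ⟨v, hv⟩ := imp3blk_exists_not_mem hn
    ({x, ζ x, ζ (ζ x), y, ζ y, ζ (ζ y), w, ζ w, ζ (ζ w)} : Finset (Fin n)) (by
      refine (Finset.card_insert_le _ _).trans ?_
      refine Nat.succ_le_succ ((Finset.card_insert_le _ _).trans ?_)
      refine Nat.succ_le_succ ((Finset.card_insert_le _ _).trans ?_)
      refine Nat.succ_le_succ ((Finset.card_insert_le _ _).trans ?_)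
      refine Nat.succ_le_succ ((Finset.card_insert_le _ _).trans ?_)
      refine Nat.succ_le_succ ((Finset.card_insert_le _ _).trans ?_)
      refine Nat.succ_le_succ ((Finset.card_insert_le _ _).trans ?_)
      refine Nat.succ_le_succ ((Finset.card_insert_le _ _).trans ?_)
      simp)
  simp only [Finset.mem_insert, Finset.mem_singleton, not_or] at hv
  obtain ⟨v1, v2, v3, v4, v5, v6, v7, v8, v9⟩ := hv
  have hxv : ¬ Rz ζ x v := by rintro (h | h | h) <;> contradiction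
  have hyv : ¬ Rz ζ y v := by rintro (h | h | h) <;> contradiction
  have hwv : ¬ Rz ζ w v := by rintro (h | h | h) <;> contradiction
  have hb := hB y w v hyw hyv hwv
  have e1 : bb ζ y w v x = x :=
    bb_apply_of_not ζ hζ y w v x (fun h => hxy (Rz_symm hζ h)) (fun h => hxw (Rz_symm hζ h))
      (fun h => hxv (Rz_symm hζ h))
  have e2 : bb ζ y w v y = w := bb_apply_self ζ hζ hfp y w v hyw hyv hwv
  have := imp3blk_stab hBl hb hx (by rw [e1]; exact hx) hy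
  rw [e2] at this
  exact this

/-- a non-trivial block is exactly the `ζ`-cycle of any of its points -/
theorem imp3blk_A (ζ : Perm (Fin n)) (hζ : ζ ^ 3 = 1) (hfp : ∀ x, ζ x ≠ x) (hn : 12 ≤ n)
    (K : Subgroup (Perm (Fin n))) (hT : ∀ x, c3 x (ζ x) (ζ (ζ x)) ∈ K)
    (hB : ∀ x y w, ¬ Rz ζ x y → ¬ Rz ζ x w → ¬ Rz ζ y w → bb ζ x y w ∈ K)
    (B : Set (Fin n)) (hBl : MulAction.IsBlock ↥K B) (htr : ¬ MulAction.IsTrivialBlock B)
    {x : Fin n} (hx : x ∈ B) (y : Fin n) : y ∈ B ↔ Rz ζ x y := by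
  have h1 : ¬ B.Subsingleton := fun h => htr (Or.inl h)
  have h2 : B ≠ Set.univ := fun h => htr (Or.inr h)
  constructor
  · intro hy
    by_contra hxy
    exact h2 (imp3blk_b ζ hζ hfp hn K hT hB B hBl h1 hx hy hxy)
  · intro hw
    rcases hw with rfl | rfl | rfl
    · exact hx
    · exact imp3blk_a ζ hζ hfp K hT B hBl h1 hx
    · exact imp3blk_a ζ hζ hfp K hT B hBl h1 (imp3blk_a ζ hζ hfp K hT B hBl h1 hx)


/-- step (c), one direction -/
theorem imp3blk_c (ζ : Perm (Fin n)) (hζ : ζ ^ 3 = 1) (hfp : ∀ x, ζ x ≠ x) (hn : 12 ≤ n)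
    (K : Subgroup (Perm (Fin n))) (hT : ∀ x, c3 x (ζ x) (ζ (ζ x)) ∈ K)
    (hB : ∀ x y w, ¬ Rz ζ x y → ¬ Rz ζ x w → ¬ Rz ζ y w → bb ζ x y w ∈ K)
    (B : Set (Fin n)) (hBl : MulAction.IsBlock ↥K B) (htr : ¬ MulAction.IsTrivialBlock B)
    {g : Perm (Fin n)} (hg : g ∈ K) {x y : Fin n} (hxy : Rz ζ x y) : Rz ζ (g x) (g y) := by
  have hpt : MulAction.IsPretransitive ↥K (Fin n) := imp3_trans ζ hζ hfp (by omega) K hT hB
  have hne : B.Nonempty := by
    rcases B.eq_empty_or_nonempty with h | h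
    · exact absurd (Or.inl (h ▸ Set.subsingleton_empty)) htr
    · exact h
  obtain ⟨x₀, hx₀⟩ := hne
  obtain ⟨k, hk⟩ := MulAction.exists_smul_eq ↥K x₀ x
  have hB1 : MulAction.IsBlock ↥K (k • B) := hBl.translate k
  have htr1 : ¬ MulAction.IsTrivialBlock (k • B) := by
    rw [MulAction.IsTrivialBlock.smul_iff]; exact htr
  have hx1 : x ∈ k • B := by rw [← hk]; exact Set.smul_mem_smul_set hx₀
  have hy1 : y ∈ k • B := (imp3blk_A ζ hζ hfp hn K hT hB _ hB1 htr1 hx1 y).2 hxy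
  set g' : ↥K := ⟨g, hg⟩ with hg'
  have hB2 : MulAction.IsBlock ↥K (g' • (k • B)) := hB1.translate g'
  have htr2 : ¬ MulAction.IsTrivialBlock (g' • (k • B)) := by
    rw [MulAction.IsTrivialBlock.smul_iff]; exact htr1
  have hx2 : g x ∈ g' • (k • B) := by
    have : g' • x ∈ g' • (k • B) := Set.smul_mem_smul_set hx1
    exact this
  have hy2 : g y ∈ g' • (k • B) := by
    have : g' • y ∈ g' • (k • B) := Set.smul_mem_smul_set hy1
    exact this
  exact (imp3blk_A ζ hζ hfp hn K hT hB _ hB2 htr2 hx2 (g y)).1 hy2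

/-- IMP3BLK -/
theorem imp3_blk (ζ : Perm (Fin n)) (hζ : ζ ^ 3 = 1) (hfp : ∀ x, ζ x ≠ x) (hn : 12 ≤ n)
    (K : Subgroup (Perm (Fin n))) (hT : ∀ x, c3 x (ζ x) (ζ (ζ x)) ∈ K)
    (hB : ∀ x y w, ¬ Rz ζ x y → ¬ Rz ζ x w → ¬ Rz ζ y w → bb ζ x y w ∈ K)
    (B : Set (Fin n)) (hBl : MulAction.IsBlock ↥K B) (h1 : ¬ B.Subsingleton) (h2 : B ≠ Set.univ) :
    K ≤ RStabP (Rz ζ) := by
  have htr : ¬ MulAction.IsTrivialBlock B := by
    rintro (h | h)
    · exact h1 h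
    · exact h2 h
  intro g hg
  rw [mem_RStabP]
  intro x y
  constructor
  · intro h
    exact imp3blk_c ζ hζ hfp hn K hT hB B hBl htr hg h
  · intro h
    have := imp3blk_c ζ hζ hfp hn K hT hB B hBl htr (K.inv_mem hg) h
    simpa using this

end Cfsg.Agent.Helper10.TM
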