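import Mathlib
import Cfsg.Agent.Lib.Helper10.TMDefs
import Cfsg.Agent.S2119

/-!
# S2930, piece AUTGEN : an automorphism of `Alt n` mapping three-cycles to three-cycles is a
conjugation (port of `S2119.exists_conj`, which uses `n ≠ 6` only through `map_threeCycle`).
-/

set_option autoImplicit false

namespace Cfsg.Agent.Helper10.TM

open Equiv Equiv.Perm Cfsg.Agent.Helper11.AutAlt Cfsg.Agent.S2119

variable {n : ℕ}

/-- every automorphism preserving three-cycles is a conjugation -/
theorem exists_conj_of_map3 (hn : 4 ≤ n) (φ : MulAut (Alt n))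
    (h3 : ∀ x : Alt n, (x : Perm (Fin n)).IsThreeCycle →
      ((φ x : Alt n) : Perm (Fin n)).IsThreeCycle) :
    ∃ σ : Perm (Fin n), MulAut.conjNormal σ = φ := by
  classical
  set a0 : Fin n := ⟨0, by omega⟩ with ha0
  set a1 : Fin n := ⟨1, by omega⟩ with ha1
  have h01 : a0 ≠ a1 := by
    intro h
    have := congrArg Fin.val h
    simp [ha0, ha1] at this
  -- the generators
  let ι := {i : Fin n // i ≠ a0 ∧ i ≠ a1}
  let aI : ι → ↥(alternatingGroup (Fin n)) := fun i =>
    ⟨c3 a0 a1 i, (c3_isThreeCycle h01 i.2.1.symm i.2.2.symm).mem_alternatingGroup⟩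
  let b : ι → Perm (Fin n) := fun i => ((φ (aI i) : ↥(alternatingGroup (Fin n))) : Perm (Fin n))
  have hb : ∀ i, (b i).IsThreeCycle := fun i =>
    h3 (aI i) (c3_isThreeCycle h01 i.2.1.symm i.2.2.symm)
  have hij : ∀ i j : ι, i ≠ j → (i : Fin n) ≠ j := fun i j h h' => h (Subtype.ext h')
  have h2 : ∀ i j, i ≠ j → b i * b j * (b i * b j) = 1 := by
    intro i j h
    have e : aI i * aI j * (aI i * aI j) = 1 := by
      apply Subtype.ext
      exact c3_mul_sq h01 i.2.1 i.2.2 j.2.1 j.2.2 (hij i j h)
    have := congrArg (fun u : ↥(alternatingGroup (Fin n)) => (u : Perm (Fin n)))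
      (congrArg φ e)
    simpa [b] using this
  have h1 : ∀ i j, i ≠ j → b i * b j ≠ 1 := by
    intro i j h hone
    have e : φ (aI i * aI j) = 1 := by
      apply Subtype.ext
      simpa [b] using hone
    have e' : aI i * aI j = 1 := by
      apply φ.injective
      rw [e, map_one]
    have := congrArg (fun u : ↥(alternatingGroup (Fin n)) => (u : Perm (Fin n))) e'
    exact c3_mul_ne_one h01 i.2.1 i.2.2 j.2.1 j.2.2 (hij i j h) this
  have hi2 : (⟨2, by omega⟩ : Fin n) ≠ a0 ∧ (⟨2, by omega⟩ : Fin n) ≠ a1 := by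
    constructor <;> intro h <;> have := congrArg Fin.val h <;> simp [ha0, ha1] at this
  have hi3 : (⟨3, by omega⟩ : Fin n) ≠ a0 ∧ (⟨3, by omega⟩ : Fin n) ≠ a1 := by
    constructor <;> intro h <;> have := congrArg Fin.val h <;> simp [ha0, ha1] at this
  let i₀ : ι := ⟨⟨2, by omega⟩, hi2⟩
  let i₁ : ι := ⟨⟨3, by omega⟩, hi3⟩
  have hi01 : i₀ ≠ i₁ := by
    intro h
    have := congrArg (fun u : ι => ((u : Fin n) : ℕ)) h
    simp [i₀, i₁] at this
  obtain ⟨p, q, hqp, hpq⟩ := exists_common_edge_family b hb h2 h1 i₀ i₁ hi01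
  have hbp : ∀ i, b i p ≠ p := fun i => by rw [hpq i]; exact hqp
  -- the permutation
  let f : Fin n → Fin n := fun w =>
    if h0 : w = a0 then p else if h1 : w = a1 then q else b ⟨w, h0, h1⟩ q
  have hr_p : ∀ i, b i q ≠ p := by
    intro i
    have := apply_apply_ne (hb i) (hbp i)
    rwa [hpq i] at this
  have hr_q : ∀ i, b i q ≠ q := by
    intro i
    have := apply_apply_ne' (hbp i)
    rwa [hpq i] at this
  have hbeq : ∀ i, b i = c3 p q (b i q) := by
    intro i
    have := eq_c3 (hb i) (hbp i)
    rwa [hpq i] at this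
  have hr_inj : ∀ i j, b i q = b j q → i = j := by
    intro i j h
    by_contra hne
    apply ne_of_sq (hb i) (h2 i j hne)
    rw [hbeq i, hbeq j, h]
  have hf : Function.Injective f := by
    intro w w' h
    simp only [f] at h
    by_cases h0 : w = a0 <;> by_cases h0' : w' = a0
    · rw [h0, h0']
    · by_cases h1' : w' = a1
      · simp only [h0, h0', h1', dite_true, dite_false] at h
        exact absurd h.symm hqp
      · simp only [h0, h0', h1', dite_true, dite_false] at h
        exact absurd h.symm (hr_p _)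
    · by_cases h1 : w = a1
      · simp only [h0, h0', h1, dite_true, dite_false] at h
        exact absurd h hqp
      · simp only [h0, h0', h1, dite_true, dite_false] at h
        exact absurd h (hr_p _)
    · by_cases h1 : w = a1 <;> by_cases h1' : w' = a1
      · rw [h1, h1']
      · simp only [h0, h0', h1, h1', dite_true, dite_false] at h
        exact absurd h.symm (hr_q _)
      · simp only [h0, h0', h1, h1', dite_true, dite_false] at h
        exact absurd h (hr_q _)
      · simp only [h0, h0', h1, h1', dite_false] at h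
        have := hr_inj _ _ h
        exact congrArg (fun u : ι => (u : Fin n)) this
  let σ : Perm (Fin n) := Equiv.ofBijective f (Finite.injective_iff_bijective.1 hf)
  have hσ0 : σ a0 = p := by
    show f a0 = p
    simp [f]
  have hσ1 : σ a1 = q := by
    show f a1 = q
    simp [f, Ne.symm h01]
  have hσi : ∀ i : ι, σ i = b i q := by
    intro i
    show f i = b i q
    simp [f, i.2.1, i.2.2]
  refine ⟨σ, ?_⟩
  -- the two automorphisms agree on the generators
  have hgen : Subgroup.closure (Set.range aI) = ⊤ := by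
    apply Subgroup.map_injective (alternatingGroup (Fin n)).subtype_injective
    rw [MonoidHom.map_closure, ← MonoidHom.range_eq_map, Subgroup.range_subtype]
    refine Eq.trans ?_ (closure_c3 h01)
    congr 1
    ext g
    simp only [Set.mem_image, Set.mem_range, Set.mem_setOf_eq]
    constructor
    · rintro ⟨_, ⟨i, rfl⟩, rfl⟩
      exact ⟨i, i.2.1, i.2.2, rfl⟩
    · rintro ⟨x, hx0, hx1, rfl⟩
      exact ⟨_, ⟨⟨x, hx0, hx1⟩, rfl⟩, rfl⟩
  apply MulEquiv.toMonoidHom_injective
  apply MonoidHom.eq_of_eqOn_dense hgen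
  rintro _ ⟨i, rfl⟩
  apply Subtype.ext
  show ((MulAut.conjNormal σ (aI i) : ↥(alternatingGroup (Fin n))) : Perm (Fin n)) = b i
  rw [MulAut.conjNormal_apply]
  show σ * c3 a0 a1 i * σ⁻¹ = b i
  rw [conj_c3, hσ0, hσ1, hσi, ← hbeq]

end Cfsg.Agent.Helper10.TM
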