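import Mathlib

/-!
# S2202, splitting step (helper10): `SL₂(F)` is perfect when `F` has an element `s ≠ 0` with `s² ≠ 1`
-/

set_option autoImplicit false

namespace Cfsg.Agent.Helper10.AIC

open Matrix
open scoped commutatorElement

variable {F : Type*} [Field F]

/-- upper unitriangular matrix -/
def perfX (t : F) : SpecialLinearGroup (Fin 2) F :=
  ⟨!![1, t; 0, 1], by simp [Matrix.det_fin_two]⟩

/-- lower unitriangular matrix -/
def perfY (t : F) : SpecialLinearGroup (Fin 2) F :=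
  ⟨!![1, 0; t, 1], by simp [Matrix.det_fin_two]⟩

/-- diagonal matrix -/
def perfH (s : F) (hs : s ≠ 0) : SpecialLinearGroup (Fin 2) F :=
  ⟨!![s, 0; 0, s⁻¹], by simp [Matrix.det_fin_two, hs]⟩

theorem perfX_coe (t : F) : (perfX t : Matrix (Fin 2) (Fin 2) F) = !![1, t; 0, 1] := rfl
theorem perfY_coe (t : F) : (perfY t : Matrix (Fin 2) (Fin 2) F) = !![1, 0; t, 1] := rfl
theorem perfH_coe (s : F) (hs : s ≠ 0) :
    (perfH s hs : Matrix (Fin 2) (Fin 2) F) = !![s, 0; 0, s⁻¹] := rfl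

theorem perf_sl_ext (A B : SpecialLinearGroup (Fin 2) F)
    (h00 : (A : Matrix (Fin 2) (Fin 2) F) 0 0 = (B : Matrix (Fin 2) (Fin 2) F) 0 0)
    (h01 : (A : Matrix (Fin 2) (Fin 2) F) 0 1 = (B : Matrix (Fin 2) (Fin 2) F) 0 1)
    (h10 : (A : Matrix (Fin 2) (Fin 2) F) 1 0 = (B : Matrix (Fin 2) (Fin 2) F) 1 0)
    (h11 : (A : Matrix (Fin 2) (Fin 2) F) 1 1 = (B : Matrix (Fin 2) (Fin 2) F) 1 1) : A = B := by
  apply Subtype.ext
  ext i j
  fin_cases i <;> fin_cases j <;> assumption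

theorem perf_comm_X (s : F) (hs : s ≠ 0) (b : F) :
    ⁅perfH s hs, perfX b⁆ = perfX ((s ^ 2 - 1) * b) := by
  have key : perfH s hs * perfX b = perfX ((s ^ 2 - 1) * b) * (perfX b * perfH s hs) := by
    apply perf_sl_ext <;>
      simp only [Matrix.SpecialLinearGroup.coe_mul, perfX_coe, perfH_coe] <;>
      simp [Matrix.mul_apply, Fin.sum_univ_two] <;> field_simp <;> ring
  calc ⁅perfH s hs, perfX b⁆ = (perfH s hs * perfX b) * (perfX b * perfH s hs)⁻¹ := by
        rw [commutatorElement_def]; group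
    _ = (perfX ((s ^ 2 - 1) * b) * (perfX b * perfH s hs)) * (perfX b * perfH s hs)⁻¹ := by rw [key]
    _ = perfX ((s ^ 2 - 1) * b) := by group

theorem perf_comm_Y (s : F) (hs : s ≠ 0) (b : F) :
    ⁅perfH s⁻¹ (inv_ne_zero hs), perfY b⁆ = perfY ((s ^ 2 - 1) * b) := by
  have key : perfH s⁻¹ (inv_ne_zero hs) * perfY b =
      perfY ((s ^ 2 - 1) * b) * (perfY b * perfH s⁻¹ (inv_ne_zero hs)) := by
    apply perf_sl_ext <;>
      simp only [Matrix.SpecialLinearGroup.coe_mul, perfY_coe, perfH_coe] <;>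
      simp [Matrix.mul_apply, Fin.sum_univ_two] <;> field_simp <;> ring
  calc ⁅perfH s⁻¹ (inv_ne_zero hs), perfY b⁆
      = (perfH s⁻¹ (inv_ne_zero hs) * perfY b) * (perfY b * perfH s⁻¹ (inv_ne_zero hs))⁻¹ := by
        rw [commutatorElement_def]; group
    _ = (perfY ((s ^ 2 - 1) * b) * (perfY b * perfH s⁻¹ (inv_ne_zero hs))) *
          (perfY b * perfH s⁻¹ (inv_ne_zero hs))⁻¹ := by rw [key]
    _ = perfY ((s ^ 2 - 1) * b) := by group

theorem perf_X_mem (s : F) (hs : s ≠ 0) (hs1 : s ^ 2 ≠ 1) (t : F) :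
    perfX t ∈ commutator (SpecialLinearGroup (Fin 2) F) := by
  have hne : s ^ 2 - 1 ≠ 0 := sub_ne_zero.mpr hs1
  have h := perf_comm_X s hs (t / (s ^ 2 - 1))
  rw [mul_div_cancel₀ _ hne] at h
  rw [← h, commutator_def]
  exact Subgroup.commutator_mem_commutator (Subgroup.mem_top _) (Subgroup.mem_top _)

theorem perf_Y_mem (s : F) (hs : s ≠ 0) (hs1 : s ^ 2 ≠ 1) (t : F) :
    perfY t ∈ commutator (SpecialLinearGroup (Fin 2) F) := by
  have hne : s ^ 2 - 1 ≠ 0 := sub_ne_zero.mpr hs1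
  have h := perf_comm_Y s hs (t / (s ^ 2 - 1))
  rw [mul_div_cancel₀ _ hne] at h
  rw [← h, commutator_def]
  exact Subgroup.commutator_mem_commutator (Subgroup.mem_top _) (Subgroup.mem_top _)

/-- Bruhat-type factorisation when the lower left entry is non-zero -/
theorem perf_factor (g : SpecialLinearGroup (Fin 2) F)
    (hc : (g : Matrix (Fin 2) (Fin 2) F) 1 0 ≠ 0) :
    g = perfX (((g : Matrix (Fin 2) (Fin 2) F) 0 0 - 1) / (g : Matrix (Fin 2) (Fin 2) F) 1 0) *
      perfY ((g : Matrix (Fin 2) (Fin 2) F) 1 0) *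
      perfX (((g : Matrix (Fin 2) (Fin 2) F) 1 1 - 1) / (g : Matrix (Fin 2) (Fin 2) F) 1 0) := by
  have hdet : (g : Matrix (Fin 2) (Fin 2) F) 0 0 * (g : Matrix (Fin 2) (Fin 2) F) 1 1 -
      (g : Matrix (Fin 2) (Fin 2) F) 0 1 * (g : Matrix (Fin 2) (Fin 2) F) 1 0 = 1 := by
    have := g.2
    rwa [Matrix.det_fin_two] at this
  apply perf_sl_ext
  · simp only [Matrix.SpecialLinearGroup.coe_mul, perfX_coe, perfY_coe]
    simp [Matrix.mul_apply, Fin.sum_univ_two]; field_simp; ring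
  · simp only [Matrix.SpecialLinearGroup.coe_mul, perfX_coe, perfY_coe]
    simp [Matrix.mul_apply, Fin.sum_univ_two]
    field_simp
    linear_combination (-1 : F) * hdet
  · simp only [Matrix.SpecialLinearGroup.coe_mul, perfX_coe, perfY_coe]
    simp [Matrix.mul_apply, Fin.sum_univ_two]
  · simp only [Matrix.SpecialLinearGroup.coe_mul, perfX_coe, perfY_coe]
    simp [Matrix.mul_apply, Fin.sum_univ_two]; field_simp; ring

/-- `SL₂(F)` is perfect as soon as `F` contains `s ≠ 0` with `s² ≠ 1` (e.g. `|F| ≥ 4`). -/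
theorem sl2_perfect (s : F) (hs : s ≠ 0) (hs1 : s ^ 2 ≠ 1) :
    commutator (SpecialLinearGroup (Fin 2) F) = ⊤ := by
  rw [eq_top_iff]
  intro g _
  have main : ∀ g : SpecialLinearGroup (Fin 2) F, (g : Matrix (Fin 2) (Fin 2) F) 1 0 ≠ 0 →
      g ∈ commutator (SpecialLinearGroup (Fin 2) F) := by
    intro g hc
    rw [perf_factor g hc]
    exact Subgroup.mul_mem _ (Subgroup.mul_mem _ (perf_X_mem s hs hs1 _) (perf_Y_mem s hs hs1 _))
      (perf_X_mem s hs hs1 _)
  by_cases hc : (g : Matrix (Fin 2) (Fin 2) F) 1 0 = 0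
  · have hdet : (g : Matrix (Fin 2) (Fin 2) F) 0 0 * (g : Matrix (Fin 2) (Fin 2) F) 1 1 -
        (g : Matrix (Fin 2) (Fin 2) F) 0 1 * (g : Matrix (Fin 2) (Fin 2) F) 1 0 = 1 := by
      have := g.2
      rwa [Matrix.det_fin_two] at this
    have ha : (g : Matrix (Fin 2) (Fin 2) F) 0 0 ≠ 0 := by
      intro h0
      rw [h0, hc] at hdet
      simp at hdet
    have h1 : ((perfY (1 : F) * g : SpecialLinearGroup (Fin 2) F) : Matrix (Fin 2) (Fin 2) F) 1 0
        ≠ 0 := by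
      simp only [Matrix.SpecialLinearGroup.coe_mul, perfY_coe]
      simp [Matrix.mul_apply, Fin.sum_univ_two, hc, ha]
    have h2 := main _ h1
    have h3 := perf_Y_mem s hs hs1 (1 : F)
    have : g = (perfY (1 : F))⁻¹ * (perfY (1 : F) * g) := by group
    rw [this]
    exact Subgroup.mul_mem _ (Subgroup.inv_mem _ h3) h2
  · exact main g hc

end Cfsg.Agent.Helper10.AIC
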