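import Mathlib

/-!
# S2202, splitting step (helper10): transfer kills central elements of perfect groups with abelian Sylow
-/

set_option autoImplicit false

namespace Cfsg.Agent.Helper10.AIC

open Subgroup

/-- In a perfect finite group with an abelian Sylow `p`-subgroup no central element has order `p`. -/
theorem central_orderOf_ne_prime {L : Type*} [Group L] [Finite L] (hperf : commutator L = ⊤)
    {p : ℕ} [Fact p.Prime] (P : Sylow p L) (hab : ∀ a b : (P : Subgroup L), a * b = b * a)
    (z : L) (hz : z ∈ Subgroup.center L) : orderOf z ≠ p := by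
  intro hzo
  letI : CommGroup (P : Subgroup L) := { (inferInstance : Group (P : Subgroup L)) with mul_comm := hab }
  have key : ∀ (k : ℕ) (g₀ : L), g₀⁻¹ * z ^ k * g₀ ∈ (P : Subgroup L) → g₀⁻¹ * z ^ k * g₀ = z ^ k := by
    intro k g₀ _
    have hc : z ^ k ∈ Subgroup.center L := Subgroup.pow_mem _ hz k
    rw [Subgroup.mem_center_iff] at hc
    rw [mul_assoc, ← hc g₀, ← mul_assoc, inv_mul_cancel, one_mul]
  have h1 := MonoidHom.transfer_eq_pow (MonoidHom.id (P : Subgroup L)) z key
  have h2 : MonoidHom.transfer (MonoidHom.id (P : Subgroup L)) z = 1 := by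
    have hk : commutator L ≤ (MonoidHom.transfer (MonoidHom.id (P : Subgroup L))).ker :=
      Abelianization.commutator_subset_ker _
    rw [hperf] at hk
    exact MonoidHom.mem_ker.mp (hk (Subgroup.mem_top z))
  rw [h2] at h1
  have h3 : z ^ (P : Subgroup L).index = 1 := by
    have := congrArg Subtype.val h1
    simpa using this.symm
  have h4 : p ∣ (P : Subgroup L).index := by
    have := orderOf_dvd_of_pow_eq_one h3
    rwa [hzo] at this
  exact P.not_dvd_index h4

end Cfsg.Agent.Helper10.AIC
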