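import Mathlib
import Cfsg.Agent.S0262
import Cfsg.Agent.Lib.Helper10.AICTransfer
import Cfsg.Agent.Lib.Helper10.AICPerf

/-!
# S2202, splitting step (helper10)

`N ≤ Z(G)` of odd order, `G ⧸ N ≃* PSL₂(F)` with `F` a finite field of characteristic 2 with at least
four elements: then `G ≃* SL₂(F) × A` with `A` abelian of odd order (`A ≃* N`).
-/

set_option autoImplicit false

namespace Cfsg.Agent.Helper10.AIC

open Matrix
open scoped commutatorElement

/-- in characteristic two, `SL₂` of a field is `PSL₂` -/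
theorem split_sl_equiv_psl {F : Type*} [Field F] (h2 : ∀ x : F, x + x = 0) :
    Nonempty (SpecialLinearGroup (Fin 2) F ≃* ProjectiveSpecialLinearGroup (Fin 2) F) := by
  have hbot : Subgroup.center (SpecialLinearGroup (Fin 2) F) = ⊥ := by
    rw [eq_bot_iff]
    intro A hA
    rw [Matrix.SpecialLinearGroup.mem_center_iff] at hA
    obtain ⟨r, hr, hrA⟩ := hA
    rw [Fintype.card_fin, sq] at hr
    have h1 : (r + 1) * (r + 1) = 0 := by
      have : (r + 1) * (r + 1) = r * r + 1 + (r + r) := by ring
      rw [this, hr, h2, h2, add_zero]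
    have h3 : r + 1 = 0 := by
      rcases mul_eq_zero.mp h1 with h | h <;> exact h
    have h4 : r = 1 := by
      have h5 := eq_neg_of_add_eq_zero_left h3
      have h6 : (-1 : F) = 1 := neg_eq_of_add_eq_zero_left (h2 1)
      rw [h5, h6]
    rw [Subgroup.mem_bot]
    apply Subtype.ext
    rw [← hrA, h4]
    simp
  exact ⟨(QuotientGroup.quotientBot (G := SpecialLinearGroup (Fin 2) F)).symm.trans
    (QuotientGroup.quotientMulEquivOfEq hbot.symm)⟩

/-- a finite field with at least four elements has `s ≠ 0` with `s² ≠ 1` -/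
theorem split_exists_s {F : Type*} [Field F] [Fintype F] (hF : 4 ≤ Fintype.card F) :
    ∃ s : F, s ≠ 0 ∧ s ^ 2 ≠ 1 := by
  classical
  by_contra hcon
  push_neg at hcon
  have hsub : (Finset.univ : Finset F) ⊆ {0, 1, -1} := by
    intro s _
    by_cases hs : s = 0
    · simp [hs]
    · have h1 := hcon s hs
      have h2 : (s - 1) * (s + 1) = 0 := by ring_nf; rw [h1]; ring
      rcases mul_eq_zero.mp h2 with h | h
      · have : s = 1 := sub_eq_zero.mp h
        simp [this]
      · have : s = -1 := eq_neg_of_add_eq_zero_left h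
        simp [this]
  have := Finset.card_le_card hsub
  have h3 : ({0, 1, -1} : Finset F).card ≤ 3 := Finset.card_le_three
  rw [Finset.card_univ] at this
  omega

/-- The abstract splitting: `π : G →* S` surjective with central kernel of odd order onto a perfect
group `S` all of whose Sylow `p`-subgroups for odd `p` are cyclic. -/
theorem split_abstract {G : Type*} [Group G] [Finite G] {S : Type*} [Group S]
    (π : G →* S) (hπ : Function.Surjective π) (hker : π.ker ≤ Subgroup.center G)
    (hodd : Odd (Nat.card π.ker)) (hperf : commutator S = ⊤)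
    (hcyc : ∀ (p : ℕ) [Fact p.Prime], p ≠ 2 → ∀ R : Sylow p S, IsCyclic (R : Subgroup S)) :
    Nonempty (G ≃* S × π.ker) := by
  classical
  set N : Subgroup G := π.ker with hNdef
  set L : Subgroup G := commutator G with hLdef
  -- (2) the image of L is everything
  have hLmap : L.map π = ⊤ := by
    rw [hLdef, commutator_def, Subgroup.map_commutator, Subgroup.map_top_of_surjective π hπ,
      ← commutator_def, hperf]
  -- (3) G = L N
  have hLN : ∀ g : G, ∃ l ∈ L, ∃ n ∈ N, g = l * n := by
    intro g
    have : π g ∈ L.map π := by rw [hLmap]; exact Subgroup.mem_top _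
    obtain ⟨l, hl, hlg⟩ := Subgroup.mem_map.mp this
    refine ⟨l, hl, l⁻¹ * g, ?_, by group⟩
    rw [hNdef, MonoidHom.mem_ker, map_mul, map_inv, hlg, inv_mul_cancel]
  have hNc : ∀ n ∈ N, ∀ g : G, g * n = n * g := by
    intro n hn g
    have := hker hn
    rw [Subgroup.mem_center_iff] at this
    exact this g
  -- (4) L is perfect
  have hLperf : commutator L = ⊤ := by
    have h1 : ⁅L, L⁆ = L := by
      apply le_antisymm
      · exact Subgroup.commutator_le_left L L
      · rw [hLdef, commutator_def, Subgroup.commutator_le]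
        intro a _ b _
        obtain ⟨l1, hl1, n1, hn1, rfl⟩ := hLN a
        obtain ⟨l2, hl2, n2, hn2, rfl⟩ := hLN b
        have : ⁅l1 * n1, l2 * n2⁆ = ⁅l1, l2⁆ := by
          rw [commutatorElement_def, commutatorElement_def]
          have k1 : ∀ g : G, n1 * g * n1⁻¹ = g := fun g => by
            rw [← hNc n1 hn1 g]; group
          have k2 : ∀ g : G, n2 * g * n2⁻¹ = g := fun g => by
            rw [← hNc n2 hn2 g]; group
          calc l1 * n1 * (l2 * n2) * (l1 * n1)⁻¹ * (l2 * n2)⁻¹
              = l1 * (n1 * (l2 * n2) * n1⁻¹) * l1⁻¹ * (l2 * n2)⁻¹ := by group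
            _ = l1 * (l2 * n2) * l1⁻¹ * (l2 * n2)⁻¹ := by rw [k1]
            _ = l1 * l2 * (n2 * l1⁻¹ * n2⁻¹) * l2⁻¹ := by group
            _ = l1 * l2 * l1⁻¹ * l2⁻¹ := by rw [k2]
        rw [this]
        exact Subgroup.commutator_mem_commutator hl1 hl2
    have h2 := Subgroup.map_subtype_commutator L
    rw [h1] at h2
    rw [eq_top_iff]
    intro x _
    have hx : (x : G) ∈ Subgroup.map L.subtype (commutator L) := by rw [h2]; exact x.2
    obtain ⟨y, hy, hyx⟩ := Subgroup.mem_map.mp hx
    have : y = x := Subtype.ext hyx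
    rwa [← this]
  -- (5) L ⊓ N = ⊥
  have hLNbot : L ⊓ N = ⊥ := by
    rw [eq_bot_iff]
    intro z hz
    rw [Subgroup.mem_bot]
    by_contra hz1
    have hzL : z ∈ L := hz.1
    have hzN : z ∈ N := hz.2
    have ho : orderOf z ≠ 1 := fun h => hz1 (orderOf_eq_one_iff.mp h)
    have ho0 : orderOf z ≠ 0 := (orderOf_pos z).ne'
    set p := (orderOf z).minFac with hp
    have hpp : p.Prime := Nat.minFac_prime ho
    haveI : Fact p.Prime := ⟨hpp⟩
    have hpd : p ∣ orderOf z := Nat.minFac_dvd _
    set z' := z ^ (orderOf z / p) with hz'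
    have hz'o : orderOf z' = p := orderOf_pow_orderOf_div ho0 hpd
    have hz'L : z' ∈ L := Subgroup.pow_mem _ hzL _
    have hz'N : z' ∈ N := Subgroup.pow_mem _ hzN _
    have hp2 : p ≠ 2 := by
      intro h2
      have h3 : orderOf (⟨z', hz'N⟩ : N) = p := by
        rw [← hz'o]
        exact (Subgroup.orderOf_mk z' hz'N)
      have h4 : p ∣ Nat.card N := by
        rw [← h3]
        exact orderOf_dvd_natCard _
      rw [h2] at h4
      exact (Nat.not_even_iff_odd.mpr hodd) (even_iff_two_dvd.mpr h4)
    -- a Sylow p-subgroup of L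
    obtain ⟨P⟩ : Nonempty (Sylow p L) := inferInstance
    -- it is abelian
    let f : (P : Subgroup L) →* S := π.comp (L.subtype.comp (P : Subgroup L).subtype)
    have hfr : IsPGroup p f.range := by
      have hP : IsPGroup p (P : Subgroup L) := P.isPGroup'
      intro ⟨y, hy⟩
      obtain ⟨x, rfl⟩ := hy
      obtain ⟨k, hk⟩ := hP x
      refine ⟨k, ?_⟩
      apply Subtype.ext
      simp only [Subgroup.coe_pow, Subgroup.coe_one]
      rw [← map_pow, hk, map_one]
    obtain ⟨R, hR⟩ := hfr.exists_le_sylow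
    haveI : IsCyclic (R : Subgroup S) := hcyc p hp2 R
    haveI : IsCyclic f.range :=
      isCyclic_of_injective (Subgroup.inclusion hR) (Subgroup.inclusion_injective hR)
    have hkerf : f.rangeRestrict.ker ≤ Subgroup.center (P : Subgroup L) := by
      intro x hx
      rw [MonoidHom.mem_ker] at hx
      have hx1 : π ((x : L) : G) = 1 := by
        have := congrArg Subtype.val hx
        simpa [f] using this
      have hxN : ((x : L) : G) ∈ N := MonoidHom.mem_ker.mpr hx1
      rw [Subgroup.mem_center_iff]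
      intro y
      apply Subtype.ext
      apply Subtype.ext
      simp only [Subgroup.coe_mul]
      exact hNc _ hxN _
    have hab : ∀ a b : (P : Subgroup L), a * b = b * a :=
      commutative_of_cyclic_center_quotient f.rangeRestrict hkerf
    -- the central element of order p
    have hzc : (⟨z', hz'L⟩ : L) ∈ Subgroup.center L := by
      rw [Subgroup.mem_center_iff]
      intro y
      apply Subtype.ext
      simp only [Subgroup.coe_mul]
      exact hNc _ hz'N _
    have hzo : orderOf (⟨z', hz'L⟩ : L) = p := by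
      rw [← hz'o]
      exact Subgroup.orderOf_mk z' hz'L
    exact central_orderOf_ne_prime hLperf P hab _ hzc hzo
  -- (7) L ≃* S
  let πL : L →* S := π.comp L.subtype
  have hπLinj : Function.Injective πL := by
    rw [injective_iff_map_eq_one]
    intro x hx
    have hxN : (x : G) ∈ N := MonoidHom.mem_ker.mpr hx
    have : (x : G) ∈ L ⊓ N := ⟨x.2, hxN⟩
    rw [hLNbot, Subgroup.mem_bot] at this
    exact Subtype.ext this
  have hπLsurj : Function.Surjective πL := by
    intro s
    have : s ∈ L.map π := by rw [hLmap]; exact Subgroup.mem_top _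
    obtain ⟨l, hl, hls⟩ := Subgroup.mem_map.mp this
    exact ⟨⟨l, hl⟩, hls⟩
  let eL : L ≃* S := MulEquiv.ofBijective πL ⟨hπLinj, hπLsurj⟩
  -- (6) G ≃* L × N
  let φ : L × N →* G :=
    { toFun := fun x => (x.1 : G) * (x.2 : G)
      map_one' := by simp
      map_mul' := by
        intro x y
        simp only [Prod.fst_mul, Prod.snd_mul, Subgroup.coe_mul]
        have := hNc (x.2 : G) x.2.2 (y.1 : G)
        calc (x.1 : G) * (y.1 : G) * ((x.2 : G) * (y.2 : G))
            = (x.1 : G) * ((y.1 : G) * (x.2 : G)) * (y.2 : G) := by group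
          _ = (x.1 : G) * ((x.2 : G) * (y.1 : G)) * (y.2 : G) := by rw [this]
          _ = (x.1 : G) * (x.2 : G) * ((y.1 : G) * (y.2 : G)) := by group }
  have hφinj : Function.Injective φ := by
    rw [injective_iff_map_eq_one]
    intro x hx
    have hx' : (x.1 : G) * (x.2 : G) = 1 := hx
    have h1 : (x.1 : G) = ((x.2 : G))⁻¹ := eq_inv_of_mul_eq_one_left hx'
    have h2 : (x.1 : G) ∈ L ⊓ N := ⟨x.1.2, by rw [h1]; exact Subgroup.inv_mem _ x.2.2⟩
    rw [hLNbot, Subgroup.mem_bot] at h2
    have h3 : (x.2 : G) = 1 := by rw [h2, one_mul] at hx'; exact hx'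
    exact Prod.ext (Subtype.ext h2) (Subtype.ext h3)
  have hφsurj : Function.Surjective φ := by
    intro g
    obtain ⟨l, hl, n, hn, rfl⟩ := hLN g
    exact ⟨(⟨l, hl⟩, ⟨n, hn⟩), rfl⟩
  let eφ : L × N ≃* G := MulEquiv.ofBijective φ ⟨hφinj, hφsurj⟩
  exact ⟨eφ.symm.trans (MulEquiv.prodCongr eL (MulEquiv.refl N))⟩

/-- **Splitting.** `N ≤ Z(G)` of odd order with `G ⧸ N ≃* PSL₂(F)`, `F` finite of characteristic two
with at least four elements: `G ≃* SL₂(F) × A` with `A` abelian of odd order. -/
theorem split {G : Type*} [Group G] [Finite G] (N : Subgroup G) [N.Normal]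
    (hN : N ≤ Subgroup.center G) (hodd : Odd (Nat.card N))
    {F : Type} [Field F] [Fintype F] [CharP F 2] (hF : 4 ≤ Fintype.card F)
    (e : G ⧸ N ≃* ProjectiveSpecialLinearGroup (Fin 2) F) :
    ∃ (A : Type) (_ : CommGroup A) (_ : Finite A), Odd (Nat.card A) ∧
      Nonempty (G ≃* SpecialLinearGroup (Fin 2) F × A) := by
  classical
  haveI : Fact (Nat.Prime 2) := ⟨Nat.prime_two⟩
  obtain ⟨e1⟩ := split_sl_equiv_psl (F := F) (fun x => CharTwo.add_self_eq_zero x)
  let e2 : G ⧸ N ≃* SpecialLinearGroup (Fin 2) F := e.trans e1.symm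
  let π : G →* SpecialLinearGroup (Fin 2) F := e2.toMonoidHom.comp (QuotientGroup.mk' N)
  have hπ : Function.Surjective π := by
    intro s
    obtain ⟨g, hg⟩ := QuotientGroup.mk'_surjective N (e2.symm s)
    refine ⟨g, ?_⟩
    show e2 (QuotientGroup.mk' N g) = s
    rw [hg, MulEquiv.apply_symm_apply]
  have hkerπ : π.ker = N := by
    ext g
    rw [MonoidHom.mem_ker]
    show e2 (QuotientGroup.mk' N g) = 1 ↔ g ∈ N
    rw [MulEquiv.map_eq_one_iff, QuotientGroup.mk'_apply, QuotientGroup.eq_one_iff]
  obtain ⟨s, hs0, hs1⟩ := split_exists_s hF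
  have hperf := sl2_perfect s hs0 hs1
  have hcyc : ∀ (p : ℕ) [Fact p.Prime], p ≠ 2 →
      ∀ R : Sylow p (SpecialLinearGroup (Fin 2) F),
        IsCyclic (R : Subgroup (SpecialLinearGroup (Fin 2) F)) := by
    intro p _ hp2 R
    exact Cfsg.Agent.S0262.result 2 p hp2 hp2 R
  obtain ⟨E⟩ := split_abstract π hπ (by rw [hkerπ]; exact hN) (by rw [hkerπ]; exact hodd) hperf hcyc
  letI : CommGroup N :=
    { (inferInstance : Group N) with
      mul_comm := by
        intro a b
        have := hN a.2
        rw [Subgroup.mem_center_iff] at this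
        exact Subtype.ext (this b).symm }
  refine ⟨Shrink.{0} N, inferInstance, inferInstance, ?_, ?_⟩
  · rw [Nat.card_congr (equivShrink.{0} N).symm]
    exact hodd
  · have eN : π.ker ≃* Shrink.{0} N :=
      (MulEquiv.subgroupCongr hkerπ).trans (Shrink.mulEquiv.{0} (α := N)).symm
    exact ⟨E.trans (MulEquiv.prodCongr (MulEquiv.refl _) eN)⟩

/-- **Splitting, homomorphism form.** `φ : G →* PSL₂(F)` surjective with central kernel of odd order. -/
theorem split_hom {G : Type*} [Group G] [Finite G]
    {F : Type} [Field F] [Fintype F] [CharP F 2] (hF : 4 ≤ Fintype.card F)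
    (φ : G →* ProjectiveSpecialLinearGroup (Fin 2) F) (hφ : Function.Surjective φ)
    (hcen : ∀ n ∈ φ.ker, ∀ g : G, g * n = n * g) (hodd : Odd (Nat.card φ.ker)) :
    ∃ (A : Type) (_ : CommGroup A) (_ : Finite A), Odd (Nat.card A) ∧
      Nonempty (G ≃* SpecialLinearGroup (Fin 2) F × A) := by
  have hN : φ.ker ≤ Subgroup.center G := by
    intro n hn
    rw [Subgroup.mem_center_iff]
    exact hcen n hn
  exact split φ.ker hN hodd hF (QuotientGroup.quotientKerEquivOfSurjective φ hφ)

end Cfsg.Agent.Helper10.AIC
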