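import Mathlib

/-!
# Products of two non-central classes in `SL_d`, `d ≥ 3`: both trace zero and trace nonzero occur

For non-central `A B : SL_n(F)` (any field, `3 ≤ card n`) some conjugate `H B H⁻¹` has
`tr (A * H B H⁻¹) = 0` and some other has `tr (A * H B H⁻¹) ≠ 0`.  The proof conjugates by a rank-one
unipotent element `1 + u φᵀ`.
-/

open Matrix

namespace Cfsg.Agent.Helper10.AH

variable {F : Type*} [Field F] {n : Type*} [Fintype n] [DecidableEq n]

omit [DecidableEq n] in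
/-- trace of a product with a rank one matrix -/
theorem trace_mul_vecMulVec (M : Matrix n n F) (u φ : n → F) :
    (M * vecMulVec u φ).trace = φ ⬝ᵥ (M *ᵥ u) := by
  rw [mul_vecMulVec, trace_vecMulVec, dotProduct_comm]

theorem trace_formula (A B : Matrix n n F) (u φ : n → F) :
    (A * (1 + vecMulVec u φ) * B * (1 - vecMulVec u φ)).trace =
      (A * B).trace + φ ⬝ᵥ (B *ᵥ (A *ᵥ u)) - φ ⬝ᵥ (A *ᵥ (B *ᵥ u))
        - (φ ⬝ᵥ (B *ᵥ u)) * (φ ⬝ᵥ (A *ᵥ u)) := by
  have e1 : A * (1 + vecMulVec u φ) * B * (1 - vecMulVec u φ) =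
      A * B + A * vecMulVec u φ * B - A * B * vecMulVec u φ
        - A * vecMulVec u φ * B * vecMulVec u φ := by
    noncomm_ring
  rw [e1, trace_sub, trace_sub, trace_add]
  have t1 : (A * vecMulVec u φ * B).trace = φ ⬝ᵥ (B *ᵥ (A *ᵥ u)) := by
    rw [trace_mul_comm, ← Matrix.mul_assoc, trace_mul_vecMulVec, mulVec_mulVec]
  have t2 : (A * B * vecMulVec u φ).trace = φ ⬝ᵥ (A *ᵥ (B *ᵥ u)) := by
    rw [trace_mul_vecMulVec, mulVec_mulVec]
  have t3 : (A * vecMulVec u φ * B * vecMulVec u φ).trace =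
      (φ ⬝ᵥ (B *ᵥ u)) * (φ ⬝ᵥ (A *ᵥ u)) := by
    have : A * vecMulVec u φ * B * vecMulVec u φ =
        (φ ⬝ᵥ (B *ᵥ u)) • (A * vecMulVec u φ) := by
      rw [Matrix.mul_assoc (A * vecMulVec u φ), mul_vecMulVec B, Matrix.mul_assoc A,
        vecMulVec_mul_vecMulVec, ← Matrix.mul_smul]
      congr 1
      ext i j
      simp [vecMulVec_apply]; ring
    rw [this, trace_smul, trace_mul_vecMulVec, smul_eq_mul]
  rw [t1, t2, t3]

omit [DecidableEq n] in
theorem exists_dot {ι : Type*} (v : ι → (n → F)) (hli : LinearIndependent F v) (c : ι → F) :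
    ∃ φ : n → F, ∀ i, φ ⬝ᵥ v i = c i := by
  classical
  let f0 : Submodule.span F (Set.range v) →ₗ[F] F :=
    (Finsupp.linearCombination F c) ∘ₗ hli.repr
  obtain ⟨g, hg⟩ := LinearMap.exists_extend f0
  refine ⟨fun k => g (fun j => if k = j then 1 else 0), fun i => ?_⟩
  have hi : v i ∈ Submodule.span F (Set.range v) := Submodule.subset_span ⟨i, rfl⟩
  have h1 : g (v i) = c i := by
    have := LinearMap.congr_fun hg ⟨v i, hi⟩
    simp only [LinearMap.coe_comp, Function.comp_apply, Submodule.coe_subtype] at this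
    rw [this]
    simp only [f0, LinearMap.coe_comp, Function.comp_apply]
    rw [hli.repr_eq_single i ⟨v i, hi⟩ rfl]
    simp
  rw [← h1, LinearMap.pi_apply_eq_sum_univ g (v i)]
  simp only [dotProduct, smul_eq_mul]
  exact Finset.sum_congr rfl (fun k _ => mul_comm _ _)

theorem main_matrix (A B : Matrix n n F) (u : n → F)
    (hli : LinearIndependent F ![u, A *ᵥ u, B *ᵥ u]) :
    (∃ φ : n → F, φ ⬝ᵥ u = 0 ∧
      (A * (1 + vecMulVec u φ) * B * (1 - vecMulVec u φ)).trace = 0) ∧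
    (∃ φ : n → F, φ ⬝ᵥ u = 0 ∧
      (A * (1 + vecMulVec u φ) * B * (1 - vecMulVec u φ)).trace ≠ 0) := by
  obtain ⟨φ1, h1⟩ := exists_dot _ hli ![0, 0, 1]
  obtain ⟨φ2, h2⟩ := exists_dot _ hli ![0, 1, 0]
  have h1u : φ1 ⬝ᵥ u = 0 := by simpa using h1 0
  have h1a : φ1 ⬝ᵥ (A *ᵥ u) = 0 := by simpa using h1 1
  have h1b : φ1 ⬝ᵥ (B *ᵥ u) = 1 := by simpa using h1 2
  have h2u : φ2 ⬝ᵥ u = 0 := by simpa using h2 0
  have h2a : φ2 ⬝ᵥ (A *ᵥ u) = 1 := by simpa using h2 1
  have h2b : φ2 ⬝ᵥ (B *ᵥ u) = 0 := by simpa using h2 2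
  set p0 := (A * B).trace with hp0
  set L1 := φ1 ⬝ᵥ (B *ᵥ (A *ᵥ u)) - φ1 ⬝ᵥ (A *ᵥ (B *ᵥ u)) with hL1
  set L2 := φ2 ⬝ᵥ (B *ᵥ (A *ᵥ u)) - φ2 ⬝ᵥ (A *ᵥ (B *ᵥ u)) with hL2
  have key : ∀ s t : F, (s • φ1 + t • φ2) ⬝ᵥ u = 0 ∧
      (A * (1 + vecMulVec u (s • φ1 + t • φ2)) * B * (1 - vecMulVec u (s • φ1 + t • φ2))).trace
        = p0 + s * L1 + t * L2 - s * t := by
    intro s t
    refine ⟨by simp [add_dotProduct, smul_dotProduct, h1u, h2u], ?_⟩
    rw [trace_formula]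
    simp only [add_dotProduct, smul_dotProduct, smul_eq_mul, h1a, h1b, h2a, h2b, hL1, hL2]
    ring
  constructor
  · by_cases hp : p0 = 0
    · exact ⟨_, (key 0 0).1, by rw [(key 0 0).2, hp]; ring⟩
    by_cases hl1 : L1 = 0
    · by_cases hl2 : L2 = 0
      · exact ⟨_, (key 1 p0).1, by rw [(key 1 p0).2, hl1, hl2]; ring⟩
      · exact ⟨_, (key 0 (-p0 / L2)).1, by rw [(key 0 (-p0 / L2)).2]; field_simp; ring⟩
    · exact ⟨_, (key (-p0 / L1) 0).1, by rw [(key (-p0 / L1) 0).2]; field_simp; ring⟩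
  · by_cases hp : p0 = 0
    · by_cases hl1 : L1 = 0
      · by_cases hl2 : L2 = 0
        · exact ⟨_, (key 1 1).1, by rw [(key 1 1).2, hp, hl1, hl2]; norm_num⟩
        · exact ⟨_, (key 0 1).1, by rw [(key 0 1).2, hp]; simpa using hl2⟩
      · exact ⟨_, (key 1 0).1, by rw [(key 1 0).2, hp]; simpa using hl1⟩
    · exact ⟨_, (key 0 0).1, by rw [(key 0 0).2]; simpa using hp⟩

theorem det_one_add_vecMulVec (u φ : n → F) (h : φ ⬝ᵥ u = 0) :
    (1 + vecMulVec u φ).det = 1 := by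
  rw [vecMulVec_eq Unit, det_one_add_replicateCol_mul_replicateRow, h, add_zero]

/-- the unipotent element `1 + u φᵀ` -/
noncomputable def uni (u φ : n → F) (h : φ ⬝ᵥ u = 0) : Matrix.SpecialLinearGroup n F :=
  ⟨1 + vecMulVec u φ, det_one_add_vecMulVec u φ h⟩

theorem uni_coe (u φ : n → F) (h : φ ⬝ᵥ u = 0) :
    (uni u φ h).1 = 1 + vecMulVec u φ := rfl

theorem uni_inv_coe (u φ : n → F) (h : φ ⬝ᵥ u = 0) :
    ((uni u φ h)⁻¹ : Matrix.SpecialLinearGroup n F).1 = 1 - vecMulVec u φ := by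
  have h' : (-φ) ⬝ᵥ u = 0 := by simp [h]
  have e2 : vecMulVec u (-φ) = - vecMulVec u φ := by
    ext i j; simp [vecMulVec_apply]
  have : (uni u φ h)⁻¹ = uni u (-φ) h' := by
    rw [inv_eq_iff_mul_eq_one]
    apply Subtype.val_injective
    change (uni u φ h).1 * (uni u (-φ) h').1 = 1
    rw [uni_coe, uni_coe]
    have e : vecMulVec u φ * vecMulVec u (-φ) = 0 := by
      rw [vecMulVec_mul_vecMulVec, h, zero_smul]
      ext i j; simp [vecMulVec_apply]
    rw [add_mul, mul_add, mul_add, e, e2]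
    simp
  rw [this, uni_coe, e2, sub_eq_add_neg]

theorem exists_indep_of_not_center (A : Matrix.SpecialLinearGroup n F)
    (hA : A ∉ Subgroup.center (Matrix.SpecialLinearGroup n F)) :
    ∃ u : n → F, LinearIndependent F ![u, A.1 *ᵥ u] := by
  by_contra hcon
  rw [not_exists] at hcon
  apply hA
  have hcon' : ∀ v : n → F, ¬ LinearIndependent F ![v, (Matrix.toLin' A.1) v] := by
    intro v
    simpa [Matrix.toLin'_apply] using hcon v
  obtain ⟨a, ha⟩ := LinearMap.exists_eq_smul_id_of_forall_notLinearIndependent hcon'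
  have hA1 : A.1 = a • (1 : Matrix n n F) := by
    apply (Matrix.toLin' (R := F) (m := n) (n := n)).injective
    rw [ha, map_smul, Matrix.toLin'_one]
    rfl
  rw [Matrix.SpecialLinearGroup.mem_center_iff]
  refine ⟨a, ?_, ?_⟩
  · have hdet := A.2
    rw [hA1, Matrix.det_smul, Matrix.det_one, mul_one] at hdet
    exact hdet
  · rw [hA1]
    ext i j
    simp [Matrix.scalar_apply, Matrix.one_apply, Matrix.diagonal_apply]

omit [DecidableEq n] in
theorem exists_not_mem_span_pair (hcard : 3 ≤ Fintype.card n) (u v : n → F) :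
    ∃ x : n → F, x ∉ Submodule.span F (Set.range ![u, v]) := by
  by_contra hcon
  rw [not_exists] at hcon
  have htop : Submodule.span F (Set.range ![u, v]) = ⊤ := by
    rw [Submodule.eq_top_iff']
    intro x
    exact not_not.mp (hcon x)
  have h1 : (Set.range ![u, v]).finrank F ≤ Fintype.card (Fin 2) := finrank_range_le_card _
  rw [Set.finrank, htop, finrank_top, Module.finrank_fintype_fun_eq_card] at h1
  simp at h1
  omega

theorem exists_conj_indep (hcard : 3 ≤ Fintype.card n)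
    (A B : Matrix.SpecialLinearGroup n F)
    (hA : A ∉ Subgroup.center (Matrix.SpecialLinearGroup n F))
    (hB : B ∉ Subgroup.center (Matrix.SpecialLinearGroup n F)) :
    ∃ (g : Matrix.SpecialLinearGroup n F) (u : n → F),
      LinearIndependent F ![u, A.1 *ᵥ u, (g * B * g⁻¹).1 *ᵥ u] := by
  obtain ⟨u, hu⟩ := exists_indep_of_not_center A hA
  obtain ⟨w, hw⟩ := exists_indep_of_not_center B hB
  obtain ⟨x, hx⟩ := exists_not_mem_span_pair hcard u (A.1 *ᵥ u)
  have hu0 : u ≠ 0 := hu.ne_zero 0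
  have hw0 : w ≠ 0 := hw.ne_zero 0
  have hBw0 : B.1 *ᵥ w ≠ 0 := hw.ne_zero 1
  have hx0 : x ≠ 0 := by
    rintro rfl
    exact hx (Submodule.zero_mem _)
  have hne1 : Projectivization.mk F w hw0 ≠ Projectivization.mk F (B.1 *ᵥ w) hBw0 := by
    intro heq
    rw [Projectivization.mk_eq_mk_iff] at heq
    obtain ⟨a, ha⟩ := heq
    have e : (a : F) • (B.1 *ᵥ w) = w := by rw [← Units.smul_def]; exact ha
    have := (LinearIndependent.pair_iff.mp hw) 1 (-(a : F)) (by
      rw [one_smul, neg_smul, e, add_neg_cancel])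
    exact one_ne_zero this.1
  have hne2 : Projectivization.mk F u hu0 ≠ Projectivization.mk F x hx0 := by
    intro heq
    rw [Projectivization.mk_eq_mk_iff] at heq
    obtain ⟨a, ha⟩ := heq
    apply hx
    have : x = (a⁻¹ : Fˣ) • u := by rw [← ha, smul_smul, inv_mul_cancel, one_smul]
    rw [this]
    exact Submodule.smul_mem _ _ (Submodule.subset_span ⟨0, rfl⟩)
  have h2t : MulAction.IsMultiplyPretransitive (Matrix.SpecialLinearGroup n F)
      (Projectivization F (n → F)) 2 := inferInstance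
  rw [MulAction.is_two_pretransitive_iff] at h2t
  obtain ⟨g, hg1, hg2⟩ := h2t hne1 hne2
  rw [Projectivization.smul_mk, Projectivization.mk_eq_mk_iff] at hg1 hg2
  obtain ⟨a, ha⟩ := hg1
  obtain ⟨c, hc⟩ := hg2
  rw [Matrix.SpecialLinearGroup.smul_def, Matrix.smul_eq_mulVec] at ha hc
  refine ⟨g, u, ?_⟩
  have hBu : (g * B * g⁻¹).1 *ᵥ u = ((a⁻¹ : Fˣ) : F) • ((c : F) • x) := by
    have hu' : u = ((a⁻¹ : Fˣ) : F) • (g.1 *ᵥ w) := by
      rw [← ha, Units.smul_def, smul_smul, ← Units.val_mul, inv_mul_cancel, Units.val_one,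
        one_smul]
    conv_lhs => rw [hu']
    rw [Matrix.mulVec_smul, Matrix.mulVec_mulVec]
    congr 1
    rw [← Matrix.SpecialLinearGroup.coe_mul, inv_mul_cancel_right,
      Matrix.SpecialLinearGroup.coe_mul, ← Matrix.mulVec_mulVec, ← hc, Units.smul_def]
  rw [hBu]
  have hnot : ((a⁻¹ : Fˣ) : F) • ((c : F) • x) ∉
      Submodule.span F (Set.range ![u, A.1 *ᵥ u]) := by
    intro hmem
    apply hx
    have : x = ((c⁻¹ : Fˣ) : F) • (((a : Fˣ) : F) • (((a⁻¹ : Fˣ) : F) • ((c : F) • x))) := by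
      simp [smul_smul]
    rw [this]
    exact Submodule.smul_mem _ _ (Submodule.smul_mem _ _ hmem)
  have h3 : LinearIndependent F
      (Fin.cons (((a⁻¹ : Fˣ) : F) • ((c : F) • x)) ![u, A.1 *ᵥ u] : Fin 3 → (n → F)) :=
    linearIndependent_finCons.mpr ⟨hu, hnot⟩
  have h4 := h3.comp ![1, 2, 0] (by decide)
  convert h4 using 1
  funext i
  fin_cases i <;> rfl

/-- **Key lemma.** For non-central `A B ∈ SL_n(F)`, `3 ≤ card n`, conjugates of `B` can be chosen
so that the product with `A` has trace zero, resp. trace nonzero. -/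
theorem exists_trace (hcard : 3 ≤ Fintype.card n)
    (A B : Matrix.SpecialLinearGroup n F)
    (hA : A ∉ Subgroup.center (Matrix.SpecialLinearGroup n F))
    (hB : B ∉ Subgroup.center (Matrix.SpecialLinearGroup n F)) :
    (∃ H : Matrix.SpecialLinearGroup n F, (A * (H * B * H⁻¹)).1.trace = 0) ∧
    (∃ H : Matrix.SpecialLinearGroup n F, (A * (H * B * H⁻¹)).1.trace ≠ 0) := by
  obtain ⟨g, u, hli⟩ := exists_conj_indep hcard A B hA hB
  obtain ⟨⟨φ, hφ, h0⟩, ⟨ψ, hψ, h1⟩⟩ := main_matrix A.1 (g * B * g⁻¹).1 u hli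
  have conv : ∀ (χ : n → F) (hχ : χ ⬝ᵥ u = 0),
      (A * ((uni u χ hχ * g) * B * (uni u χ hχ * g)⁻¹)).1 =
        A.1 * (1 + vecMulVec u χ) * (g * B * g⁻¹).1 * (1 - vecMulVec u χ) := by
    intro χ hχ
    have e : (uni u χ hχ * g) * B * (uni u χ hχ * g)⁻¹ =
        uni u χ hχ * (g * B * g⁻¹) * (uni u χ hχ)⁻¹ := by
      group
    rw [e]
    simp only [Matrix.SpecialLinearGroup.coe_mul]
    rw [uni_inv_coe, uni_coe]
    simp only [Matrix.mul_assoc]
  refine ⟨⟨uni u φ hφ * g, ?_⟩, ⟨uni u ψ hψ * g, ?_⟩⟩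
  · rw [conv φ hφ]; exact h0
  · rw [conv ψ hψ]; exact h1

end Cfsg.Agent.Helper10.AH
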