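import Mathlib
import Cfsg.Agent.Lib.Helper10.BG13S1
import Cfsg.Agent.Lib.Helper18.BG13P4

/-!
# BG 13.7, the swap step: a complement of `M_σ` inside `N_M(Q)` over a given subgroup (helper10)
-/

set_option autoImplicit false
set_option linter.unusedVariables false
set_option linter.style.haveILetI false

namespace Cfsg.Agent.Helper10.BG13S

open Cfsg Subgroup
open scoped commutatorElement
open Cfsg.Agent.Helper15 (IsSylowIn)
open Cfsg.Agent.Helper4.BG144
open Cfsg.Agent.Helper4.BGSig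

universe u

variable {G : Type u} [Group G] [Finite G]

/-- for `K` normal in `M` and `N ≤ M`, `|N : N ∩ K|` divides `|M : K|` -/
theorem relIndex_dvd_relIndex_of_normal {K N M : Subgroup G} (hKM : K ≤ M)
    (hMK : M ≤ normalizer (K : Set G)) (hNM : N ≤ M) : K.relIndex N ∣ K.relIndex M := by
  haveI hn : (K.subgroupOf M).Normal :=
    (Subgroup.normal_subgroupOf_iff_le_normalizer hKM).mpr hMK
  have h1 := Subgroup.relIndex_dvd_index_of_normal (K.subgroupOf M) (N.subgroupOf M)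
  rwa [Subgroup.relIndex_subgroupOf hNM] at h1

/-- a complement of `M_σ` in `M` inside `N_G(Q)` containing a given subgroup `Y` of `N_M(Q)` of
order prime to `|M_σ|`, `Q` a Sylow subgroup of `M_σ` -/
theorem exists_compl_normalizer_ge (hG : IsMinSimpleOddOrder G) (h1350 : H1350 G)
    {M Q Y : Subgroup G} {q : ℕ} [Fact q.Prime] (hM : IsCoatom M)
    (hQ : IsSylowIn q Q (sigmaCore M)) (hYM : Y ≤ M) (hYQ : Y ≤ normalizer (Q : Set G))
    (hYcop : (Nat.card Y).Coprime (Nat.card (sigmaCore M))) :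
    ∃ E' : Subgroup G, IsComplIn E' (sigmaCore M) M ∧ E' ≤ normalizer (Q : Set G) ∧ Y ≤ E' := by
  have hhall := (h1350 M hM).1
  set Nq : Subgroup G := M ⊓ normalizer (Q : Set G) with hNq
  set N0 : Subgroup G := sigmaCore M ⊓ Nq with hN0
  have hNqM : Nq ≤ M := inf_le_left
  have hsolv : Group.IsSolvable ↥Nq :=
    hG.2.2.2 Nq (fun hT => hM.1 (top_le_iff.mp (hT ▸ hNqM)))
  have hrel : N0.relIndex Nq ∣ (sigmaCore M).relIndex M := by
    rw [hN0, Subgroup.inf_relIndex_right]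
    exact relIndex_dvd_relIndex_of_normal (sigmaCore_le M) (le_normalizer_sigmaCore M) hNqM
  have hcop : (Nat.card ↥N0).Coprime (N0.relIndex Nq) := by
    refine Nat.Coprime.coprime_dvd_left (Subgroup.card_dvd_of_le (inf_le_left : N0 ≤ sigmaCore M)) ?_
    exact Nat.Coprime.coprime_dvd_right hrel
      (Cfsg.Agent.Helper22.BG13.coprime_of_isPiHallOf hhall)
  have hYN0 : (Nat.card ↥Y).Coprime (Nat.card ↥N0) :=
    Nat.Coprime.coprime_dvd_right (Subgroup.card_dvd_of_le (inf_le_left : N0 ≤ sigmaCore M)) hYcop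
  obtain ⟨E', hE', hYE'⟩ := Cfsg.Agent.Helper18.BG13P.exists_isComplIn_ge hsolv
    (inf_le_right : N0 ≤ Nq) hcop (le_inf hYM hYQ) hYN0
  obtain ⟨hE'Nq, -, hinf, hfac⟩ := hE'
  refine ⟨E', ⟨hE'Nq.trans hNqM, sigmaCore_le M, ?_, ?_⟩, hE'Nq.trans inf_le_right, hYE'⟩
  · rw [eq_bot_iff, ← hinf]
    exact fun x hx => ⟨hx.1, hx.2, hE'Nq hx.1⟩
  · intro m hm
    obtain ⟨k, hk, n, hn, rfl⟩ := Cfsg.Agent.Helper22.BG13.frattini_factor (sigmaCore_le M)
      (le_normalizer_sigmaCore M) hQ m hm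
    obtain ⟨e, he, b, hb, rfl⟩ := hfac n hn
    refine ⟨e, he, e⁻¹ * k * e * b, ?_, by group⟩
    have heM : e ∈ M := hNqM (hE'Nq he)
    have h1 : e⁻¹ * k * e⁻¹⁻¹ ∈ sigmaCore M :=
      (Subgroup.mem_normalizer_iff.mp (le_normalizer_sigmaCore M (M.inv_mem heM)) k).mp hk
    rw [inv_inv] at h1
    exact (sigmaCore M).mul_mem h1 hb.1

end Cfsg.Agent.Helper10.BG13S
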