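import Mathlib
import Cfsg.Agent.Lib.Helper10.BG13S2

/-!
# BG 13.7, the swap step: `r ∈ τ₁(M)` (helper10)
-/

set_option autoImplicit false
set_option linter.unusedVariables false
set_option linter.style.haveILetI false

namespace Cfsg.Agent.Helper10.BG13S

open Cfsg Subgroup
open scoped commutatorElement
open Cfsg.Agent.Helper15 (IsSylowIn)
open Cfsg.Agent.Helper4.BG144
open Cfsg.Agent.Helper4.BGSig
open Cfsg.Agent.Helper18.BG13P (H1415)

universe u

variable {G : Type u} [Group G] [Finite G]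

variable {M L S : Subgroup G} {q : ℕ} [Fact q.Prime]

/-- a complement of `M_σ` inside `N_G(S)` has `[E', E'] ≤ C_G(S)` -/
theorem commutator_compl_le0 (c : Ctx M L S q) (h : Hyps0 G) {E' : Subgroup G}
    (hE' : IsComplIn E' (sigmaCore M) M) (hE'N : E' ≤ normalizer (S : Set G)) :
    ⁅E', E'⁆ ≤ centralizer (S : Set G) := by
  have hq : q.Prime := Fact.out
  have hhall := (h.h1350 M c.hM).1
  have hcop : (Nat.card E').Coprime (Nat.card (sigmaCore M)) := complIn_coprime_of_hall hE' hhall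
  have hqσ : q ∣ Nat.card (sigmaCore M) :=
    c.q_dvd.trans (Subgroup.card_dvd_of_le (S_le_sigmaCore0 c h))
  apply commutator_le_centralizer_of_rank_two (q_odd0 c h) c.hS.isPGroup (rank_S0 c h) hE'N
    (solvable_of_le0 c h hE'.1)
    (Odd.of_dvd_nat h.hG.1 (Subgroup.card_subgroup_dvd_card E'))
  exact Nat.Coprime.coprime_dvd_right hqσ hcop

/-- a subgroup `R` of prime order of a complement `E' ≤ N_G(S)` of `M_σ` which does not
centralise `S` has order in `τ₁(M)` -/
theorem mem_tau1_of_not_le_centralizer (c : Ctx M L S q) (h : Hyps0 G) (h1415 : H1415 G)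
    {E' R : Subgroup G} (hE' : IsComplIn E' (sigmaCore M) M)
    (hE'N : E' ≤ normalizer (S : Set G)) (hRE : R ≤ E') (hRc : (Nat.card R).Prime)
    (hnc : ¬ R ≤ centralizer (S : Set G)) : Nat.card R ∈ tau1 M := by
  set r := Nat.card R with hr
  haveI : Fact r.Prime := ⟨hRc⟩
  have hRM : R ≤ M := hRE.trans hE'.1
  have hrM : r ∣ Nat.card M := Subgroup.card_dvd_of_le hRM
  have hR1 : R ≠ ⊥ := by
    intro hb
    rw [hr, hb, Subgroup.card_bot] at hRc
    exact Nat.not_prime_one hRc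
  have hRp : IsPGroup r R := IsPGroup.of_card (n := 1) (by rw [pow_one])
  have hrσ : r ∉ sigma M := by
    intro hrσ
    have h1 : R ≤ sigmaCore M :=
      Cfsg.Agent.Helper22.BG13.le_sigmaCore_of_isPiNum h.h1350 c.hM hRM
        (Cfsg.Agent.Helper22.BG13.isPiNum_of_isPGroup hrσ hRp)
    apply hR1
    rw [eq_bot_iff, ← hE'.2.2.1]
    exact le_inf hRE h1
  have hr2 : PRankLE r 2 M := by
    by_contra hr2
    exact hrσ (Cfsg.Agent.Helper23.BG10.alpha_subset_sigma h.hG (Ctx.uniq h.hG) c.hM ⟨hRc, hr2⟩)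
  have hr1 : PRankLE r 1 M := by
    by_contra hr1
    exact tau2_empty0 c h r ⟨hRc, hrσ, hr2, hr1⟩
  refine ⟨hRc, hrσ, hrM, ?_, hr1⟩
  intro hd
  have hτ3 : r ∈ tau3 M := ⟨hRc, hrσ, hd, hr1⟩
  obtain ⟨E3, hRE3, hE3⟩ := exists_isPiHallOf_ge (solvable_of_le0 c h hE'.1) (tau3 M) hRE
    (by
      intro p hp hpd
      rw [← hr] at hpd
      rw [(Nat.prime_dvd_prime_iff_eq hp hRc).mp hpd]
      exact hτ3)
  have h3 := ((h1415 M c.hM E' hE').2.2 E3 hE3).2.1
  exact hnc ((hRE3.trans h3).trans (commutator_compl_le0 c h hE' hE'N))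

end Cfsg.Agent.Helper10.BG13S
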