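import Mathlib
import Cfsg.Agent.Lib.Helper10.BG13S3

/-!
# BG 13.7, the swap step: an invariant Sylow subgroup of `M_β` (helper10)
-/

set_option autoImplicit false
set_option linter.unusedVariables false
set_option linter.style.haveILetI false

namespace Cfsg.Agent.Helper10.BG13S

open Cfsg Subgroup
open scoped commutatorElement
open Cfsg.Agent.Helper15 (IsSylowIn)
open Cfsg.Agent.Helper4.BG144
open Cfsg.Agent.Helper4.BGSig

universe u

variable {G : Type u} [Group G] [Finite G]

variable {M L S : Subgroup G} {q : ℕ} [Fact q.Prime]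

/-- the Uniqueness Theorem in helper22's form -/
theorem hyp1403 (hG : IsMinSimpleOddOrder G) : Cfsg.Agent.Helper22.BG13.Hyp1403 G :=
  fun K hK h1 h2 => Cfsg.Agent.S1403.result hG K hK h1 h2

/-- an `S E'`-invariant Sylow `t`-subgroup of `M_β`, `t ∈ β(M)`; it is a Sylow subgroup of `G`
not contained in `L` -/
theorem exists_beta_sylow (c : Ctx M L S q) (h : Hyps0 G) {E' : Subgroup G}
    (hE' : IsComplIn E' (sigmaCore M) M) (hE'N : E' ≤ normalizer (S : Set G)) :
    ∃ (t : ℕ) (T : Subgroup G), t ∈ beta M ∧ IsSylowIn t T ⊤ ∧ T ≤ betaCore M ∧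
      S ≤ normalizer (T : Set G) ∧ E' ≤ normalizer (T : Set G) ∧ ¬ T ≤ L := by
  have hq : q.Prime := Fact.out
  have hhall := (h.h1350 M c.hM).1
  have hβ1 : Nat.card (betaCore M) ≠ 1 := by
    intro h1
    apply betaCore_not_le0 c h
    rw [Subgroup.card_eq_one.mp h1]
    exact bot_le
  obtain ⟨t, ht, htd⟩ := Nat.exists_prime_and_dvd hβ1
  haveI : Fact t.Prime := ⟨ht⟩
  have htβ : t ∈ beta M := mem_beta_of_dvd_card_betaCore ht htd
  set B : Subgroup G := S ⊔ E' with hB
  have hBM : B ≤ M := sup_le c.hSM hE'.1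
  have hBK : B ≤ normalizer (betaCore M : Set G) := hBM.trans (le_normalizer_betaCore M)
  have hβσ := betaCore_le_sigmaCore0 h c.hM
  have hcopE : (Nat.card E').Coprime (Nat.card (betaCore M)) :=
    Nat.Coprime.coprime_dvd_right (Subgroup.card_dvd_of_le hβσ) (complIn_coprime_of_hall hE' hhall)
  have hcopS : (Nat.card S).Coprime (Nat.card (betaCore M)) := by
    obtain ⟨k, hk⟩ := c.hS.isPGroup.exists_card_eq
    rw [hk]
    apply Nat.Coprime.pow_left
    rw [Nat.Prime.coprime_iff_not_dvd hq]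
    exact fun hd => not_mem_beta0 c h (mem_beta_of_dvd_card_betaCore hq hd)
  have hcop : (Nat.card B).Coprime (Nat.card (betaCore M)) :=
    Nat.Coprime.coprime_dvd_left (Cfsg.Agent.Helper7.card_sup_dvd_mul_of_le_normalizer hE'N)
      (Nat.Coprime.mul_left hcopS hcopE)
  obtain ⟨P, hP⟩ := Cfsg.Agent.Helper1.exists_invariant_sylow (K := betaCore M) (p := t) B hBK
    hcop (Or.inr (solvable_of_le0 c h (betaCore_le M)))
  set T : Subgroup G := (P : Subgroup ↥(betaCore M)).map (betaCore M).subtype with hT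
  have hTβ : IsSylowIn t T (betaCore M) := Cfsg.Agent.Helper15.isSylowIn_map_subtype P
  have hβhall := betaCore_hall0 h c.hM
  have hTM : IsSylowIn t T M := by
    apply Cfsg.Agent.Helper15.isSylowIn_of_not_dvd_relIndex hTβ.isPGroup
      (hTβ.le.trans (betaCore_le M))
    rw [← relIndex_mul_relIndex T (betaCore M) M hTβ.le (betaCore_le M)]
    intro hd
    rcases (Nat.Prime.dvd_mul ht).mp hd with hd | hd
    · exact hTβ.not_dvd_relIndex hd
    · exact hβhall.2.2 t ht htβ hd
  have htσ : t ∈ sigma M := beta_subset_sigma0 h c.hM htβ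
  have hTtop : IsSylowIn t T ⊤ := Cfsg.Agent.Helper22.BG13.isSylowIn_top_of_mem_sigma htσ hTM
  refine ⟨t, T, htβ, hTtop, hTβ.le, le_sup_left.trans hP, le_sup_right.trans hP, ?_⟩
  intro hTL
  have hU := Cfsg.Agent.Helper22.BG13.inUniqueMaximal_of_sylow_of_rank h.hG (hyp1403 h.hG) c.hM
    htβ.1.2 hTM
  exact c.hne (Cfsg.Agent.Helper22.BG13.eq_of_inUniqueMaximal_le hU c.hM hTM.le c.hL hTL)

end Cfsg.Agent.Helper10.BG13S
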