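import Mathlib
import Cfsg.Agent.Lib.Helper10.BG13S4
import Cfsg.Agent.S1406
import Cfsg.Agent.S1409

/-!
# BG 13.7, the swap step: cyclic centralisers in `M_α` (helper10)
-/

set_option autoImplicit false
set_option linter.unusedVariables false
set_option linter.style.haveILetI false

namespace Cfsg.Agent.Helper10.BG13S

open Cfsg Subgroup
open scoped commutatorElement
open Cfsg.Agent.Helper15 (IsSylowIn)
open Cfsg.Agent.Helper4.BG144
open Cfsg.Agent.Helper4.BGSig

universe u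

variable {G : Type u} [Group G] [Finite G]

/-- `C_M(P)` is not a uniqueness subgroup for `P` of order `p ∈ τ₁(M)` -/
theorem not_inUniqueMaximal_of_tau1 (hG : IsMinSimpleOddOrder G) {M P : Subgroup G} {p : ℕ}
    (hM : IsCoatom M) (hp : p ∈ tau1 M) (hPM : P ≤ M) (hPc : Nat.card P = p) :
    ¬ InUniqueMaximal (M ⊓ centralizer (P : Set G)) := by
  intro hU
  have hpp : p.Prime := hp.1
  haveI : Fact p.Prime := ⟨hpp⟩
  have hP1 : P ≠ ⊥ := by
    intro hbot
    rw [hbot, Subgroup.card_bot] at hPc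
    exact hpp.one_lt.ne hPc
  have hPtop : P ≠ ⊤ := fun hT => hM.1 (top_le_iff.mp (hT ▸ hPM))
  obtain ⟨H, hH, hNH⟩ := exists_coatom_ge (normalizer_ne_top' hG hP1 hPtop)
  obtain ⟨H', -, huniq⟩ := hU
  have h1 := huniq H ⟨hH, inf_le_right.trans ((centralizer_le_normalizer _).trans hNH)⟩
  have h2 := huniq M ⟨hM, inf_le_left⟩
  have hN : normalizer (P : Set G) ≤ M := by
    rw [h2, ← h1]; exact hNH
  exact (Cfsg.Agent.S1409.result hG M hM p hp.2.1 P hPc hN).1.2 hp.2.2.2.2

/-- for `P` of order `p ∈ τ₁(M)`, the centraliser of `P` in a `t`-subgroup of `M_α` is cyclic -/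
theorem isCyclic_inf_centralizer_tau1 (hG : IsMinSimpleOddOrder G) {M P T : Subgroup G}
    {p t : ℕ} [Fact t.Prime] (hM : IsCoatom M) (hp : p ∈ tau1 M) (hPM : P ≤ M)
    (hPc : Nat.card P = p) (hT : IsPGroup t T) (hTα : T ≤ alphaCore M) :
    IsCyclic ↥(T ⊓ centralizer (P : Set G)) := by
  by_contra hnc
  have ht : t.Prime := Fact.out
  have hpp : p.Prime := hp.1
  set K : Subgroup G := T ⊓ centralizer (P : Set G) with hK
  have hKt : IsPGroup t K := hT.to_le inf_le_left
  have hK1 : K ≠ ⊥ := by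
    intro hb
    apply hnc
    rw [hb]
    exact isCyclic_of_subsingleton
  have htG : t ∣ Nat.card G := by
    obtain ⟨k, hk⟩ := hKt.exists_card_eq
    rcases Nat.eq_zero_or_pos k with hk0 | hk0
    · rw [hk0, pow_zero] at hk
      exact absurd (Subgroup.card_eq_one.mp hk) hK1
    · exact (hk ▸ dvd_pow_self t hk0.ne').trans (Subgroup.card_subgroup_dvd_card K)
  have ht2 : t ≠ 2 := Cfsg.Agent.Helper14.BGTrans.prime_ne_two_of_dvd hG htG
  obtain ⟨A, hAK, -, hAe, hAc⟩ := Cfsg.Agent.Helper14.BGUniq.exists_normal_elemAb_sq ht2 hKt hnc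
  have hle : A ≤ alphaCore M ⊓ centralizer (P : Set G) :=
    hAK.trans (inf_le_inf_right _ hTα)
  have hr : ¬ RankLE 1 ↥(alphaCore M ⊓ centralizer (P : Set G)) := by
    apply Cfsg.Agent.Helper14.BGUniq.not_rankLE_of_lt hle hAe
    rw [hAc, pow_one]
    calc t = t ^ 1 := (pow_one t).symm
      _ < t ^ 2 := Nat.pow_lt_pow_right ht.one_lt (by norm_num)
  have hU := Cfsg.Agent.S1406.result hG M hM P hPM (by
    intro r hr hrd hrα
    rw [hPc] at hrd
    rw [(Nat.prime_dvd_prime_iff_eq hr hpp).mp hrd] at hrα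
    exact hp.2.1 (Cfsg.Agent.Helper23.BG10.alpha_subset_sigma hG (Ctx.uniq hG) hM hrα)) hr
  exact not_inUniqueMaximal_of_tau1 hG hM hp hPM hPc hU

end Cfsg.Agent.Helper10.BG13S
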