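import Mathlib
import Cfsg.Agent.Lib.Helper10.BG13S5
import Cfsg.Agent.Lib.Helper22.BG13D

/-!
# BG 13.7, the swap step: the embedding gives a `Ctx` (helper10)
-/

set_option autoImplicit false
set_option linter.unusedVariables false
set_option linter.style.haveILetI false

namespace Cfsg.Agent.Helper10.BG13S

open Cfsg Subgroup
open scoped commutatorElement
open Cfsg.Agent.Helper15 (IsSylowIn)
open Cfsg.Agent.Helper4.BG144
open Cfsg.Agent.Helper4.BGSig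
open Cfsg.Agent.Helper22.BG13 (Hyp1404 Hyp1413 Hyp1416)

universe u

variable {G : Type u} [Group G] [Finite G]

/-- a Sylow `q`-subgroup of `M_σ ∩ H` is a Sylow `q`-subgroup of `M ∩ H`, `q ∈ σ(M)` -/
theorem isSylowIn_inf_of_sigmaCore (h1350 : H1350 G) {M H Q : Subgroup G} {q : ℕ}
    [Fact q.Prime] (hM : IsCoatom M) (hqM : q ∈ sigma M)
    (hQ : IsSylowIn q Q (sigmaCore M ⊓ H)) : IsSylowIn q Q (M ⊓ H) := by
  refine ⟨hQ.le.trans (inf_le_inf_right _ (sigmaCore_le M)), hQ.isPGroup, ?_⟩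
  intro T' hT' hQT' hT'MH
  apply hQ.eq_of_le hT' hQT'
  refine le_inf ?_ (hT'MH.trans inf_le_right)
  exact Cfsg.Agent.Helper22.BG13.le_sigmaCore_of_isPiNum h1350 hM (hT'MH.trans inf_le_left)
    (Cfsg.Agent.Helper22.BG13.isPiNum_of_isPGroup hqM hT')

/-- the embedding theorem (BG 13.2) gives the set-up of the sigma-partition argument: if
`q ∈ σ(M) ∩ σ(H)`, `Q` is a Sylow `q`-subgroup of `M_σ ∩ H` and `N_G(X) ≤ H` for some
`1 ≠ X ≤ Q`, then `Q` is a Sylow subgroup of `G` with `N_G(Q) ≤ M ∩ H` -/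
theorem ctx_of_embedding (hG : IsMinSimpleOddOrder G) (h1350 : H1350 G) (h1404 : Hyp1404 G)
    (h1413 : Hyp1413 G) (h1416 : Hyp1416 G) {M H Q X : Subgroup G} {q : ℕ} [Fact q.Prime]
    (hM : IsCoatom M) (hH : IsCoatom H) (hne : M ≠ H) (hqM : q ∈ sigma M) (hqH : q ∈ sigma H)
    (hQ : IsSylowIn q Q (sigmaCore M ⊓ H)) (hX1 : X ≠ ⊥) (hXQ : X ≤ Q)
    (hNX : normalizer (X : Set G) ≤ H) : Ctx M H Q q := by
  have hQ' := isSylowIn_inf_of_sigmaCore h1350 hM hqM hQ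
  have hQH : IsSylowIn q Q H :=
    Cfsg.Agent.Helper22.BG13.isSylowIn_of_normalizer_le h1404 h1413 hM hqM hX1 hNX hQ' hXQ
  have hNM : normalizer (Q : Set G) ≤ M :=
    Cfsg.Agent.Helper22.BG13.normalizer_le_of_normalizer_le hG h1404 h1416 hM hqM hX1 hNX hQ' hXQ
  have hQtop : IsSylowIn q Q ⊤ := Cfsg.Agent.Helper22.BG13.isSylowIn_top_of_mem_sigma hqH hQH
  have hNH : normalizer (Q : Set G) ≤ H :=
    Cfsg.Agent.Helper22.BG13.normalizer_le_of_mem_sigma hqH hQH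
  exact ⟨hM, hH, hne, hQtop, fun hb => hX1 (le_bot_iff.mp (hb ▸ hXQ)), hNM, hNH⟩

end Cfsg.Agent.Helper10.BG13S
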