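import Mathlib
import Cfsg.Agent.Lib.Helper10.BG13S6
import Cfsg.Agent.Lib.Helper18.BG13Q2
import Cfsg.Agent.S0025

/-!
# BG 13.7, the swap step (helper10)

`swap`: from a bad triple `(M, E, P, R)` with `q ∈ σ(M) ∩ σ(H)` and `N_G(Q₀) ≤ H` (the outcome of
step (B) in helper18's proof of BG 13.7) we get `r ∈ τ₁(M)` and a `t`-subgroup `T₁` of
`C_{M_σ}(R)`, `t ∈ β(M)`, normalised but not centralised by `P`.
-/

set_option autoImplicit false
set_option linter.unusedVariables false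
set_option linter.style.haveILetI false

namespace Cfsg.Agent.Helper10.BG13S

open Cfsg Subgroup
open scoped commutatorElement
open Cfsg.Agent.Helper15 (IsSylowIn)
open Cfsg.Agent.Helper4.BG144
open Cfsg.Agent.Helper4.BGSig

universe u

variable {G : Type u} [Group G] [Finite G]

/-- the reduced bundle from helper18's bundle -/
theorem hyps0_of_hyps (h : Cfsg.Agent.Helper18.BG13Q.Hyps G) : Hyps0 G :=
  ⟨h.hG, h.h1350, h.h1414, h.h1417, h.h1422⟩

omit [Finite G] in
/-- an element commuting with a non-identity element of a subgroup of prime order centralises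
that subgroup -/
theorem mem_centralizer_of_commute_of_prime {R : Subgroup G} (hR : (Nat.card R).Prime) {e u : G}
    (he : e ∈ R) (he1 : e ≠ 1) (heu : e * u = u * e) : u ∈ centralizer (R : Set G) := by
  haveI : Fact (Nat.card R).Prime := ⟨hR⟩
  have hgen : zpowers (⟨e, he⟩ : R) = ⊤ :=
    zpowers_eq_top_of_prime_card (p := Nat.card R) rfl (by
      intro h1; exact he1 (congrArg Subtype.val h1))
  rw [Subgroup.mem_centralizer_iff]
  intro y hy
  have hy' : (⟨y, hy⟩ : R) ∈ zpowers (⟨e, he⟩ : R) := by rw [hgen]; trivial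
  obtain ⟨k, hk⟩ := Subgroup.mem_zpowers_iff.mp hy'
  have hyk : y = e ^ k := by
    have := congrArg Subtype.val hk
    simpa using this.symm
  rw [hyk]
  exact ((Commute.zpow_left (show Commute e u from heu) k).eq)

/-- **the swap step of BG 13.7** -/
theorem swap (h : Cfsg.Agent.Helper18.BG13Q.Hyps G) {M E H P R Q₀ : Subgroup G} {p r q : ℕ}
    [Fact q.Prime] (hM : IsCoatom M) (hH : IsCoatom H) (hE : IsComplIn E (sigmaCore M) M)
    (hp : p ∈ tau1 M) (hPE : P ≤ E) (hPc : Nat.card P = p) (hRE : R ≤ E)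
    (hRc : Nat.card R = r) (hr : r.Prime) (hRP : R ≤ centralizer (P : Set G))
    (hNP : normalizer (P : Set G) ≤ H) (hpH : p ∈ sigma H)
    (hY : sigmaCore M ⊓ H ≤ centralizer (P : Set G))
    (hqM : q ∈ sigma M) (hqH : q ∈ sigma H) (hQ₀ : IsPGroup q Q₀) (hQ₀1 : Q₀ ≠ ⊥)
    (hQ₀M : Q₀ ≤ sigmaCore M) (hRQ₀ : R ≤ normalizer (Q₀ : Set G)) (hcomm : ⁅Q₀, R⁆ = Q₀)
    (hfpf : Q₀ ⊓ centralizer (R : Set G) = ⊥) (hN : normalizer (Q₀ : Set G) ≤ H) :
    r ∈ tau1 M ∧ ∃ (t : ℕ) (T₁ : Subgroup G), t ∈ beta M ∧ IsPGroup t T₁ ∧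
      T₁ ≤ sigmaCore M ⊓ centralizer (R : Set G) ∧ P ≤ normalizer (T₁ : Set G) ∧
      ⁅T₁, P⁆ ≠ ⊥ := by
  have h0 := hyps0_of_hyps h
  have hG := h.hG
  have hq : q.Prime := Fact.out
  have hpp : p.Prime := hp.1
  have hhall := (h0.h1350 M hM).1
  have hne : M ≠ H := by
    rintro rfl
    exact hp.2.1 hpH
  have hPM : P ≤ M := hPE.trans hE.1
  have hRM : R ≤ M := hRE.trans hE.1
  have hPH : P ≤ H := le_normalizer.trans hNP
  have hRH : R ≤ H := (hRP.trans (centralizer_le_normalizer _)).trans hNP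
  have hPR : P ≤ centralizer (R : Set G) := Subgroup.le_centralizer_iff.mp hRP
  have hQ₀H : Q₀ ≤ H := le_normalizer.trans hN
  have hcopE : (Nat.card E).Coprime (Nat.card (sigmaCore M)) := complIn_coprime_of_hall hE hhall
  -- an `R`-invariant Sylow `q`-subgroup `Q` of `Y = M_σ ∩ H` over `Q₀`
  set Y : Subgroup G := sigmaCore M ⊓ H with hYdef
  have hQ₀Y : Q₀ ≤ Y := le_inf hQ₀M hQ₀H
  have hRY : R ≤ normalizer (Y : Set G) :=
    Cfsg.Agent.Helper18.BG13P.le_normalizer_inf_of_le (hRM.trans (le_normalizer_sigmaCore M))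
      (hRH.trans le_normalizer)
  have hcopRY : (Nat.card R).Coprime (Nat.card Y) :=
    Nat.Coprime.coprime_dvd_left (Subgroup.card_dvd_of_le hRE)
      (Nat.Coprime.coprime_dvd_right (Subgroup.card_dvd_of_le inf_le_left) hcopE)
  have hYM : Y ≤ M := inf_le_left.trans (sigmaCore_le M)
  have hYsolv : Group.IsSolvable ↥Y := hG.2.2.2 Y (fun hT => hM.1 (top_le_iff.mp (hT ▸ hYM)))
  obtain ⟨Qs, hQ₀Q, hRQ⟩ := Cfsg.Agent.S0025.result R Y hRY hcopRY (Or.inr hYsolv) q Q₀ hQ₀Y hQ₀ hRQ₀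
  set Q : Subgroup G := (Qs : Subgroup ↥Y).map Y.subtype with hQdef
  have hQ : IsSylowIn q Q Y := Cfsg.Agent.Helper15.isSylowIn_map_subtype Qs
  have c : Ctx M H Q q :=
    ctx_of_embedding hG h0.h1350 h.h1404 h.h1413 h.h1416 hM hH hne hqM hqH hQ hQ₀1 hQ₀Q hN
  have hQP : Q ≤ centralizer (P : Set G) := hQ.le.trans hY
  have hPQ : P ≤ centralizer (Q : Set G) := Subgroup.le_centralizer_iff.mp hQP
  -- `R` does not centralise `Q`
  have hnc : ¬ R ≤ centralizer (Q : Set G) := by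
    intro hRC
    apply hQ₀1
    rw [← hcomm, Subgroup.commutator_eq_bot_iff_le_centralizer]
    exact hQ₀Q.trans (Subgroup.le_centralizer_iff.mp hRC)
  -- the complement `E'`
  have hPRM : P ⊔ R ≤ M := sup_le hPM hRM
  have hPRQ : P ⊔ R ≤ normalizer (Q : Set G) :=
    sup_le (hPQ.trans (centralizer_le_normalizer _)) hRQ
  have hPRcop : (Nat.card ↥(P ⊔ R)).Coprime (Nat.card (sigmaCore M)) :=
    Nat.Coprime.coprime_dvd_left (Subgroup.card_dvd_of_le (sup_le hPE hRE)) hcopE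
  obtain ⟨E', hE', hE'N, hPRE'⟩ := exists_compl_normalizer_ge hG h0.h1350 hM
    (sylow_sigmaCore0 c h0) hPRM hPRQ hPRcop
  have hPE' : P ≤ E' := le_sup_left.trans hPRE'
  have hRE' : R ≤ E' := le_sup_right.trans hPRE'
  -- `r ∈ τ₁(M)`
  have hrτ : r ∈ tau1 M := by
    have := mem_tau1_of_not_le_centralizer c h0 h.h1415 hE' hE'N hRE' (by rw [hRc]; exact hr) hnc
    rwa [hRc] at this
  refine ⟨hrτ, ?_⟩
  -- the Sylow subgroup `T` of `M_β`
  obtain ⟨t, T, htβ, hTtop, hTβ, hQT, hE'T, hTH⟩ := exists_beta_sylow c h0 hE' hE'N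
  have ht : t.Prime := htβ.1.1
  haveI : Fact t.Prime := ⟨ht⟩
  have hTt : IsPGroup t T := hTtop.isPGroup
  have hTα : T ≤ alphaCore M :=
    hTβ.trans (Cfsg.Agent.Helper14.BGTrans.le_piCoreOf (alpha M) (betaCore_le M)
      (le_normalizer_betaCore M) (fun p hp hd => (mem_beta_of_dvd_card_betaCore hp hd).1))
  have hTσ : T ≤ sigmaCore M := hTβ.trans (betaCore_le_sigmaCore0 h0 hM)
  have hcP : IsCyclic ↥(T ⊓ centralizer (P : Set G)) :=
    isCyclic_inf_centralizer_tau1 hG hM hp hPM hPc hTt hTα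
  have hcR : IsCyclic ↥(T ⊓ centralizer (R : Set G)) :=
    isCyclic_inf_centralizer_tau1 hG hM hrτ hRM hRc hTt hTα
  have hCQ₀ : centralizer (Q₀ : Set G) ≤ H := (centralizer_le_normalizer _).trans hN
  have hchain : T ⊓ centralizer (Q₀ : Set G) ≤ T ⊓ centralizer (P : Set G) :=
    le_inf inf_le_left ((le_inf (inf_le_left.trans hTσ) (inf_le_right.trans hCQ₀)).trans hY)
  have hcQ₀ : IsCyclic ↥(T ⊓ centralizer (Q₀ : Set G)) :=
    Cfsg.Agent.Helper18.BG13P.isCyclic_of_le_aux hchain hcP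
  have hCP : centralizer (P : Set G) ≤ H := (centralizer_le_normalizer _).trans hNP
  have hchain2 : T ⊓ centralizer (P : Set G) ≤ centralizer (Q₀ : Set G) := by
    have h1 : T ⊓ centralizer (P : Set G) ≤ betaCore M ⊓ H :=
      le_inf (inf_le_left.trans hTβ) (inf_le_right.trans hCP)
    exact (h1.trans (betaCore_inf_le_centralizer0 c h0)).trans (Subgroup.centralizer_le hQ₀Q)
  -- the key step: `P` does not centralise `T ∩ C(R)`
  have hkey : ¬ T ⊓ centralizer (R : Set G) ≤ centralizer (P : Set G) := by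
    intro hle
    apply hTH
    refine le_trans ?_ hCQ₀
    have hRprime : (Nat.card R).Prime := by rw [hRc]; exact hr
    have hcop : (Nat.card ↥T).Coprime (Nat.card ↥(Q₀ ⊔ R)) := by
      have h1 : Nat.card ↥(Q₀ ⊔ R) ∣ Nat.card Q₀ * Nat.card R :=
        Cfsg.Agent.Helper7.card_sup_dvd_mul_of_le_normalizer hRQ₀
      refine Nat.Coprime.coprime_dvd_right h1 ?_
      obtain ⟨k, hk⟩ := hTt.exists_card_eq
      rw [hk]
      apply Nat.Coprime.pow_left
      rw [Nat.Prime.coprime_iff_not_dvd ht]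
      intro hd
      rcases (Nat.Prime.dvd_mul ht).mp hd with hd | hd
      · obtain ⟨j, hj⟩ := hQ₀.exists_card_eq
        rw [hj] at hd
        have htq : t = q := (Nat.prime_dvd_prime_iff_eq ht hq).mp (ht.dvd_of_dvd_pow hd)
        exact not_mem_beta0 c h0 (htq ▸ htβ)
      · rw [hRc] at hd
        have htr : t = r := (Nat.prime_dvd_prime_iff_eq ht hr).mp hd
        exact hrτ.2.1 (htr ▸ beta_subset_sigma0 h0 hM htβ)
    exact Cfsg.Agent.Helper18.BG13Q.lemmaX (p := t) Q₀ R hQ₀.isNilpotent hRQ₀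
      (by
        intro e he he1 u hu heu
        have h1 : u ∈ Q₀ ⊓ centralizer (R : Set G) :=
          ⟨hu, mem_centralizer_of_commute_of_prime hRprime he he1 heu⟩
        rw [hfpf, Subgroup.mem_bot] at h1
        exact h1)
      (Nat.card ↥T) T rfl hTt (hQ₀Q.trans hQT) (hRE'.trans hE'T) hcop hcQ₀ hcR
      (fun c hc _ => hchain2 ⟨hc.1, hle hc⟩)
  refine ⟨t, T ⊓ centralizer (R : Set G), htβ, hTt.to_le inf_le_left,
    le_inf (inf_le_left.trans hTσ) inf_le_right, ?_, ?_⟩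
  · exact Cfsg.Agent.Helper18.BG13P.le_normalizer_inf_of_le (hPE'.trans hE'T)
      ((hPR.trans (centralizer_le_normalizer _)).trans
        (Cfsg.Agent.Helper14.BGTrans.normalizer_le_normalizer_centralizer R))
  · intro hb
    exact hkey (Subgroup.commutator_eq_bot_iff_le_centralizer.mp hb)

end Cfsg.Agent.Helper10.BG13S
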