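import Mathlib
import Cfsg.Agent.S1404
import Cfsg.Agent.S1409
import Cfsg.Agent.S1425
import Cfsg.Agent.Lib.Helper18.BG13P4
import Cfsg.Agent.Lib.Helper23.CyclicAutFix
import Cfsg.Agent.Lib.Helper4.BG144C

/-!
# BG 14.2 (S1431) in the world `κ(M) ⊆ τ₁(M)`: the four clauses from the reductions (helper10)

`s1431_of_reductions`: the four conjuncts of the frozen statement S1431 for a cyclic Hall
`κ(M)`-subgroup `K ≠ 1`, given Theorem A for the subgroups of prime order of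
`K* = C_{M_σ}(K)` and `N_M(X) = K K*` for the subgroups `X` of prime order of `K`.
-/

set_option autoImplicit false
set_option linter.unusedVariables false
set_option linter.style.haveILetI false

namespace Cfsg.Agent.Helper10.BG142E

open Cfsg Subgroup
open Cfsg.Agent.Helper15 (IsSylowIn map_conj_mono map_conj_inv_map_conj map_conj_map_conj_inv
  card_map_conj mem_normalizer_of_map_conj_eq map_conj_eq_of_mem_normalizer)
open Cfsg.Agent.Helper4.BG144

universe u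

variable {G : Type u} [Group G] [Finite G]

/-- a nontrivial subgroup has a subgroup of prime order -/
theorem exists_le_card_prime {Z : Subgroup G} (hZ1 : Z ≠ ⊥) :
    ∃ (q : ℕ) (Y₀ : Subgroup G), q.Prime ∧ Y₀ ≤ Z ∧ Nat.card Y₀ = q := by
  have hc : Nat.card Z ≠ 1 := fun h => hZ1 (Subgroup.card_eq_one.mp h)
  obtain ⟨q, hq, hqd⟩ := Nat.exists_prime_and_dvd hc
  haveI : Fact q.Prime := ⟨hq⟩
  obtain ⟨x, hx⟩ := exists_prime_orderOf_dvd_card' q hqd
  refine ⟨q, zpowers (x : G), hq, ?_, ?_⟩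
  · rw [Subgroup.zpowers_le]; exact x.2
  · rw [Nat.card_zpowers, Subgroup.orderOf_coe, hx]

omit [Finite G] in
theorem ne_bot_of_card_prime {X : Subgroup G} (h : (Nat.card X).Prime) : X ≠ ⊥ := by
  intro hb
  rw [hb, Subgroup.card_bot] at h
  exact Nat.not_prime_one h

/-- a subgroup of prime order `q` of `M_σ` has `q ∈ σ(M)` -/
theorem mem_sigma_of_le_sigmaCore {M Y₀ : Subgroup G} {q : ℕ} (hq : q.Prime)
    (hY₀ : Y₀ ≤ sigmaCore M) (hc : Nat.card Y₀ = q) : q ∈ sigma M :=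
  Cfsg.Agent.Helper14.BGTrans.card_piCoreOf (sigma M) M q hq
    (hc ▸ Subgroup.card_dvd_of_le hY₀)

/-- if `C_G(Y₀) ≤ M` for `Y₀ ≤ M` of prime order `q ∈ σ(M)`, every `g` with `Y₀^g ≤ M` lies in
`M` -/
theorem mem_of_map_conj_le (hG : IsMinSimpleOddOrder G) {M Y₀ : Subgroup G} (hM : IsCoatom M)
    {q : ℕ} (hq : q.Prime) (hqσ : q ∈ sigma M) (hc : Nat.card Y₀ = q) (hY₀M : Y₀ ≤ M)
    (hC : centralizer (Y₀ : Set G) ≤ M) {g : G}
    (hg : Y₀.map (MulAut.conj g).toMonoidHom ≤ M) : g ∈ M := by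
  haveI : Fact q.Prime := ⟨hq⟩
  have hp : IsPGroup q Y₀ := IsPGroup.of_card (n := 1) (by rw [hc, pow_one])
  have h1 : Y₀ ≠ ⊥ := ne_bot_of_card_prime (hc ▸ hq)
  obtain ⟨m, hm, c, hc', rfl⟩ := (Cfsg.Agent.S1404.result hG M hM q hqσ Y₀ hp h1 hY₀M).1 g hg
  exact M.mul_mem hm (hC hc')

/-- all Sylow `p`-subgroups cyclic gives `p`-rank at most one -/
theorem pRankLE_one_of_forall_sylow_cyclic {H : Type u} [Group H] [Finite H] {p : ℕ}
    [Fact p.Prime] (h : ∀ P : Sylow p H, IsCyclic P) : PRankLE p 1 H := by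
  intro B hBc hBe
  have hp : p.Prime := Fact.out
  have hBp : IsPGroup p B := by
    intro b
    exact ⟨1, by rw [pow_one]; exact Subtype.ext (by simpa using hBe b b.2)⟩
  obtain ⟨P, hBP⟩ := hBp.exists_le_sylow
  haveI := h P
  have hcyc : IsCyclic B := by
    have : IsCyclic ((B.subgroupOf (P : Subgroup H))) := Subgroup.isCyclic _
    exact isCyclic_of_surjective (Subgroup.subgroupOfEquivOfLe hBP).toMonoidHom
      (Subgroup.subgroupOfEquivOfLe hBP).surjective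
  rw [pow_one]
  exact Cfsg.Agent.Helper18.BG13P.card_le_of_isCyclic_of_pow_eq_one hcyc hp.pos hBe

/-- **S1431 from the reductions** (world `κ(M) ⊆ τ₁(M)`, `K` cyclic) -/
theorem s1431_of_reductions (hG : IsMinSimpleOddOrder G) {M K : Subgroup G} (hM : IsCoatom M)
    (hK : IsPiHallOf (kappa M) K M) (hK1 : K ≠ ⊥) (hKc : IsCyclic K)
    (hA1 : ∀ Y₀ : Subgroup G, Y₀ ≤ sigmaCore M ⊓ centralizer (K : Set G) →
      (Nat.card Y₀).Prime → centralizer (Y₀ : Set G) ≤ M)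
    (hA2 : ∀ p : ℕ, p.Prime → p ∣ Nat.card ↥(sigmaCore M ⊓ centralizer (K : Set G)) →
      ∀ S : Sylow p ↥(sigmaCore M),
        InUniqueMaximal ((S : Subgroup ↥(sigmaCore M)).map (sigmaCore M).subtype))
    (hN : ∀ X : Subgroup G, X ≤ K → (Nat.card X).Prime →
      M ⊓ normalizer (X : Set G) = K ⊔ (sigmaCore M ⊓ centralizer (K : Set G))) :
    (∀ g : G, g ∉ M → (sigmaCore M ⊓ centralizer (K : Set G)) ⊓
        M.map (MulAut.conj g).toMonoidHom = ⊥) ∧
      (∀ g ∈ M, g ∉ K ⊔ (sigmaCore M ⊓ centralizer (K : Set G)) →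
        K ⊓ K.map (MulAut.conj g).toMonoidHom = ⊥) ∧
      (∀ (p : ℕ), p.Prime → p ∣ Nat.card ↥(sigmaCore M ⊓ centralizer (K : Set G)) →
        ∀ S : Sylow p ↥(sigmaCore M),
        InUniqueMaximal ((S : Subgroup ↥(sigmaCore M)).map (sigmaCore M).subtype) ∧
        (S : Subgroup ↥(sigmaCore M)).map (sigmaCore M).subtype ≤ M ∧
        ¬ (S : Subgroup ↥(sigmaCore M)).map (sigmaCore M).subtype ≤
          (sigmaCore M ⊓ centralizer (K : Set G))) ∧
      ∀ Y : Subgroup G, (∀ p : ℕ, p.Prime → p ∣ Nat.card Y → p ∈ sigma M) →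
        Y ⊓ (sigmaCore M ⊓ centralizer (K : Set G)) ≠ ⊥ → Y ≤ sigmaCore M := by
  set Ks : Subgroup G := sigmaCore M ⊓ centralizer (K : Set G) with hKs
  have hKsσ : Ks ≤ sigmaCore M := inf_le_left
  have hKsM : Ks ≤ M := hKsσ.trans (sigmaCore_le M)
  refine ⟨?_, ?_, ?_, ?_⟩
  · -- clause 1
    intro g hg
    by_contra hne
    obtain ⟨q, Y₀, hq, hY₀Z, hY₀c⟩ := exists_le_card_prime hne
    have hY₀Ks : Y₀ ≤ Ks := hY₀Z.trans inf_le_left
    have hqσ : q ∈ sigma M := mem_sigma_of_le_sigmaCore hq (hY₀Ks.trans hKsσ) hY₀c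
    have hC := hA1 Y₀ hY₀Ks (hY₀c ▸ hq)
    have h1 : Y₀.map (MulAut.conj g⁻¹).toMonoidHom ≤ M := by
      have := map_conj_mono (hY₀Z.trans inf_le_right) g⁻¹
      rwa [map_conj_inv_map_conj] at this
    have h2 := mem_of_map_conj_le hG hM hq hqσ hY₀c (hY₀Ks.trans hKsM) hC h1
    exact hg (by simpa using M.inv_mem h2)
  · -- clause 2
    intro g hgM hg
    by_contra hne
    obtain ⟨p, X, hp, hXZ, hXc⟩ := exists_le_card_prime hne
    have hXK : X ≤ K := hXZ.trans inf_le_left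
    have hXKg : X ≤ K.map (MulAut.conj g).toMonoidHom := hXZ.trans inf_le_right
    have hXgKg : X.map (MulAut.conj g).toMonoidHom ≤ K.map (MulAut.conj g).toMonoidHom :=
      map_conj_mono hXK g
    have hcyc : IsCyclic ↥(K.map (MulAut.conj g).toMonoidHom) :=
      Cfsg.Agent.Helper18.BG13P.isCyclic_map_conj hKc g
    have heq : X.map (MulAut.conj g).toMonoidHom = X :=
      Cfsg.Agent.Helper23.subgroup_eq_of_card_eq_of_le_cyclic _ hcyc hXgKg hXKg
        (card_map_conj X g)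
    have hgN : g ∈ normalizer (X : Set G) := mem_normalizer_of_map_conj_eq heq
    have : g ∈ M ⊓ normalizer (X : Set G) := ⟨hgM, hgN⟩
    rw [hN X hXK (hXc ▸ hp)] at this
    exact hg this
  · -- clause 3
    intro p hp hpd S
    refine ⟨hA2 p hp hpd S, (Subgroup.map_subtype_le _).trans (sigmaCore_le M), ?_⟩
    intro hSK
    obtain ⟨p₁, X, hp₁, hXK, hXc⟩ := exists_le_card_prime hK1
    haveI : Fact p₁.Prime := ⟨hp₁⟩
    have hκ : p₁ ∈ kappa M := hK.2.1 p₁ hp₁ (hXc ▸ Subgroup.card_dvd_of_le hXK)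
    have hr1 : PRankLE p₁ 1 M := pRankLE_one_of_forall_sylow_cyclic (fun P => (hκ.2.2.2 P).1)
    have hX1 : X ≠ ⊥ := ne_bot_of_card_prime (hXc ▸ hp₁)
    have hXM : X ≤ M := hXK.trans hK.1
    have hXtop : X ≠ ⊤ := fun hT => hM.1 (top_le_iff.mp (hT ▸ hXM))
    have hNX : ¬ normalizer (X : Set G) ≤ M := fun hle =>
      (Cfsg.Agent.S1409.result hG M hM p₁ hκ.2.2.1 X hXc hle).1.2 hr1
    obtain ⟨H, hH, hNH⟩ := exists_coatom_ge (normalizer_ne_top' hG hX1 hXtop)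
    have hHM : H ≠ M := fun h => hNX (h ▸ hNH)
    have hKsH : Ks ≤ H :=
      ((inf_le_right.trans (Subgroup.centralizer_le hXK)).trans
        (centralizer_le_normalizer _)).trans hNH
    obtain ⟨L, -, hu⟩ := hA2 p hp hpd S
    have h1 := hu H ⟨hH, hSK.trans hKsH⟩
    have h2 := hu M ⟨hM, hSK.trans hKsM⟩
    exact hHM (h1.trans h2.symm)
  · -- clause 4
    intro Y hY hne
    have hY1 : Y ≠ ⊥ := fun hb => hne (by rw [hb, bot_inf_eq])
    obtain ⟨g, hg⟩ := Cfsg.Agent.S1425.result hG M hM Y hY1 hY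
    obtain ⟨q, Y₀, hq, hY₀Z, hY₀c⟩ := exists_le_card_prime hne
    have hY₀Ks : Y₀ ≤ Ks := hY₀Z.trans inf_le_right
    have hqσ : q ∈ sigma M := mem_sigma_of_le_sigmaCore hq (hY₀Ks.trans hKsσ) hY₀c
    have hC := hA1 Y₀ hY₀Ks (hY₀c ▸ hq)
    have h1 : Y₀.map (MulAut.conj g).toMonoidHom ≤ M :=
      ((map_conj_mono (hY₀Z.trans inf_le_left) g).trans hg).trans (sigmaCore_le M)
    have hgM := mem_of_map_conj_le hG hM hq hqσ hY₀c (hY₀Ks.trans hKsM) hC h1
    have h2 := map_conj_mono hg g⁻¹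
    rw [map_conj_inv_map_conj,
      map_conj_eq_of_mem_normalizer (le_normalizer_sigmaCore M (M.inv_mem hgM))] at h2
    exact h2

end Cfsg.Agent.Helper10.BG142E
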