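import Mathlib
import Cfsg.Agent.Lib.Helper3.BSWDefs
import Cfsg.Agent.Lib.Helper14.BSWTICOUNT

/-! S3282 piece FROBCOUNT: a counting argument in a group `N` with a normal subgroup `Q`. -/

set_option autoImplicit false
set_option linter.unusedSectionVars false

namespace Cfsg.Agent.Helper3.BSW

universe u

namespace FROBCOUNT

variable {N : Type u} [Group N] [Finite N]

/-- the predicate "`y ≠ 1` is conjugate into `E`" -/
def PE (E : Subgroup N) (y : N) : Prop := y ≠ 1 ∧ ∃ h : N, h * y * h⁻¹ ∈ E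

theorem PE_conj (E : Subgroup N) (g x : N) (hx : PE E x) : PE E (g * x * g⁻¹) := by
  obtain ⟨h1, h, hh⟩ := hx
  refine ⟨?_, h * g⁻¹, ?_⟩
  · intro h'
    apply h1
    have e : x = g⁻¹ * (g * x * g⁻¹) * g := by group
    rw [e, h']; group
  · have e : h * g⁻¹ * (g * x * g⁻¹) * (h * g⁻¹)⁻¹ = h * x * h⁻¹ := by group
    rw [e]; exact hh

theorem PE_of_mem (E : Subgroup N) (x : N) (hx : x ∈ E) (h1 : x ≠ 1) : PE E x :=
  ⟨h1, 1, by simpa using hx⟩

/-- the elements conjugate into `E#` are outside `Q` -/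
theorem not_mem_of_PE (Q : Subgroup N) [Q.Normal] (E : Subgroup N) (hEQ : E ⊓ Q = ⊥) {y : N}
    (hy : PE E y) : y ∉ Q := by
  obtain ⟨h1, h, hh⟩ := hy
  intro hyQ
  have h2 : h * y * h⁻¹ ∈ Q := (inferInstance : Q.Normal).conj_mem y hyQ h
  have h3 : h * y * h⁻¹ ∈ E ⊓ Q := ⟨hh, h2⟩
  rw [hEQ, Subgroup.mem_bot] at h3
  apply h1
  have e : y = h⁻¹ * (h * y * h⁻¹) * h := by group
  rw [e, h3]; group

/-- the counting identity for one centralizer -/
theorem count_eq (E : Subgroup N) (hE : SelfCent E)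
    (hNE : Subgroup.normalizer (E : Set N) = E) :
    Nat.card N * (Nat.card E - 1) = Nat.card E * Nat.card {y : N // PE E y} := by
  have h := ti_count_eq (A := E) hE (PE E) (PE_of_mem E)
    (fun y hy => by
      obtain ⟨h1, h, hh⟩ := hy
      exact ⟨h, hh, h1⟩)
    (PE_conj E)
  rw [hNE] at h
  exact h

/-- centralizer of a conjugate -/
theorem centralizer_conj (x h : N) :
    Subgroup.centralizer ({h * x * h⁻¹} : Set N) =
      (Subgroup.centralizer ({x} : Set N)).map (MulAut.conj h).toMonoidHom := by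
  ext c
  rw [Subgroup.mem_centralizer_singleton_iff, Subgroup.mem_map]
  constructor
  · intro hc
    refine ⟨h⁻¹ * c * h, ?_, ?_⟩
    · rw [Subgroup.mem_centralizer_singleton_iff]
      calc h⁻¹ * c * h * x = h⁻¹ * (c * (h * x * h⁻¹)) * h := by group
        _ = h⁻¹ * ((h * x * h⁻¹) * c) * h := by rw [hc]
        _ = x * (h⁻¹ * c * h) := by group
    · simp [MulAut.conj_apply, mul_assoc]
  · rintro ⟨d, hd, rfl⟩
    rw [Subgroup.mem_centralizer_singleton_iff] at hd
    simp only [MulEquiv.coe_toMonoidHom, MulAut.conj_apply]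
    calc h * d * h⁻¹ * (h * x * h⁻¹) = h * (d * x) * h⁻¹ := by group
      _ = h * (x * d) * h⁻¹ := by rw [hd]
      _ = h * x * h⁻¹ * (h * d * h⁻¹) := by group

end FROBCOUNT

open FROBCOUNT in
/-- PIECE FROBCOUNT -/
theorem frob_count {N : Type u} [Group N] [Finite N] (Q : Subgroup N) [Q.Normal] (hQ : Q ≠ ⊤)
    (hE : ∀ g : N, g ∉ Q → SelfCent (Subgroup.centralizer ({g} : Set N)) ∧
      Subgroup.centralizer ({g} : Set N) ⊓ Q = ⊥ ∧
      Subgroup.normalizer ((Subgroup.centralizer ({g} : Set N) : Subgroup N) : Set N) =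
        Subgroup.centralizer ({g} : Set N) ∧
      3 ≤ Nat.card (Subgroup.centralizer ({g} : Set N))) :
    ∃ g : N, g ∉ Q ∧ Nat.card (Subgroup.centralizer ({g} : Set N)) * Nat.card Q = Nat.card N := by
  classical
  -- an element outside `Q`
  obtain ⟨g0, hg0⟩ : ∃ g : N, g ∉ Q := by
    by_contra h
    push Not at h
    exact hQ (Subgroup.eq_top_iff' Q |>.2 h)
  obtain ⟨hSC, hEQ, hNE, h3⟩ := hE g0 hg0
  set E : Subgroup N := Subgroup.centralizer ({g0} : Set N) with hEdef
  have hcount := count_eq E hSC hNE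
  -- the complement of `Q`
  have hcompl : Nat.card {y : N // y ∉ Q} + Nat.card Q = Nat.card N := by
    have := Nat.card_congr (Equiv.sumCompl (fun y : N => y ∈ Q))
    rw [Nat.card_sum] at this
    have h2 : Nat.card {y : N // y ∈ Q} = Nat.card Q := rfl
    omega
  have hQpos : 0 < Nat.card Q := Nat.card_pos
  by_cases hall : ∀ x : N, x ∉ Q → PE E x
  · -- one orbit covers everything
    refine ⟨g0, hg0, ?_⟩
    have hcard : Nat.card {y : N // PE E y} = Nat.card {y : N // y ∉ Q} := by
      apply Nat.card_congr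
      refine Equiv.subtypeEquivRight ?_
      intro y
      exact ⟨fun hy => not_mem_of_PE Q E hEQ hy, hall y⟩
    rw [hcard] at hcount
    have hE1 : 1 ≤ Nat.card E := by omega
    obtain ⟨e, he⟩ : ∃ e, Nat.card E = e + 1 := ⟨Nat.card E - 1, by omega⟩
    rw [he] at hcount ⊢
    simp only [Nat.add_sub_cancel] at hcount
    nlinarith
  · exfalso
    push Not at hall
    obtain ⟨g1, hg1, hnP⟩ := hall
    obtain ⟨hSC', hEQ', hNE', h3'⟩ := hE g1 hg1
    set E' : Subgroup N := Subgroup.centralizer ({g1} : Set N) with hE'def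
    have hcount' := count_eq E' hSC' hNE'
    -- the two sets are disjoint
    have hdisj : ∀ y : N, PE E y → PE E' y → False := by
      intro y hy hy'
      obtain ⟨hy1, h, hh⟩ := hy
      obtain ⟨-, h', hh'⟩ := hy'
      have hne : ∀ c : N, c * y * c⁻¹ ≠ 1 := by
        intro c hc
        apply hy1
        have e : y = c⁻¹ * (c * y * c⁻¹) * c := by group
        rw [e, hc]; group
      have e1 : Subgroup.centralizer ({h * y * h⁻¹} : Set N) = E := hSC _ hh (hne h)
      have e2 : Subgroup.centralizer ({h' * y * h'⁻¹} : Set N) = E' := hSC' _ hh' (hne h')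
      rw [centralizer_conj] at e1 e2
      -- `g1 ∈ E'`
      have hg1E' : g1 ∈ E' := by
        rw [hE'def, Subgroup.mem_centralizer_singleton_iff]
      rw [← e2, Subgroup.mem_map] at hg1E'
      obtain ⟨d, hd, hdg⟩ := hg1E'
      simp only [MulEquiv.coe_toMonoidHom, MulAut.conj_apply] at hdg
      -- `h d h⁻¹ ∈ E`
      have hdE : h * d * h⁻¹ ∈ E := by
        rw [← e1, Subgroup.mem_map]
        exact ⟨d, hd, by simp [MulAut.conj_apply]⟩
      apply hnP
      refine ⟨?_, h * h'⁻¹, ?_⟩
      · intro h1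
        apply hg1
        rw [h1]; exact Q.one_mem
      · have e : h * h'⁻¹ * g1 * (h * h'⁻¹)⁻¹ = h * d * h⁻¹ := by
          rw [← hdg]; group
        rw [e]; exact hdE
    -- injection of the sum into the complement of `Q`
    let f : {y : N // PE E y} ⊕ {y : N // PE E' y} → {y : N // y ∉ Q} := fun z =>
      match z with
      | Sum.inl y => ⟨y.1, not_mem_of_PE Q E hEQ y.2⟩
      | Sum.inr y => ⟨y.1, not_mem_of_PE Q E' hEQ' y.2⟩
    have hf : Function.Injective f := by
      rintro (⟨y, hy⟩ | ⟨y, hy⟩) (⟨z, hz⟩ | ⟨z, hz⟩) hyz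
      · have : y = z := congrArg Subtype.val hyz
        subst this; rfl
      · have : y = z := congrArg Subtype.val hyz
        subst this
        exact (hdisj y hy hz).elim
      · have : y = z := congrArg Subtype.val hyz
        subst this
        exact (hdisj y hz hy).elim
      · have : y = z := congrArg Subtype.val hyz
        subst this; rfl
    have hle := Nat.card_le_card_of_injective f hf
    rw [Nat.card_sum] at hle
    obtain ⟨e, he⟩ : ∃ e, Nat.card E = e + 3 := ⟨Nat.card E - 3, by omega⟩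
    obtain ⟨e', he'⟩ : ∃ e', Nat.card E' = e' + 3 := ⟨Nat.card E' - 3, by omega⟩
    rw [he] at hcount
    rw [he'] at hcount'
    have hc1 : Nat.card N * (e + 2) = (e + 3) * Nat.card {y : N // PE E y} := by
      have : e + 3 - 1 = e + 2 := by omega
      rw [this] at hcount; exact hcount
    have hc2 : Nat.card N * (e' + 2) = (e' + 3) * Nat.card {y : N // PE E' y} := by
      have : e' + 3 - 1 = e' + 2 := by omega
      rw [this] at hcount'; exact hcount'
    have hNpos : 0 < Nat.card N := Nat.card_pos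
    -- `3 c ≥ 2 n` for both
    have hb1 : 2 * Nat.card N ≤ 3 * Nat.card {y : N // PE E y} := by nlinarith
    have hb2 : 2 * Nat.card N ≤ 3 * Nat.card {y : N // PE E' y} := by nlinarith
    omega

end Cfsg.Agent.Helper3.BSW
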