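import Mathlib
import Cfsg.Agent.Lib.Helper3.BSWArithDefs
import Cfsg.Agent.Lib.Helper24.BSWPN

/-! S3282 piece J0A: the vector `b j0` in type A with `b j0 X0 = 1`. -/

set_option autoImplicit false
set_option linter.unusedSectionVars false
set_option linter.unusedVariables false

namespace Cfsg.Agent.Helper3.BSW

variable {ι J : Type*} [Fintype ι] [Fintype J] [DecidableEq ι] [DecidableEq J]

namespace J0A

theorem ind_self (X : ι) : ind X X = 1 := by simp [ind]

theorem ind_ne {X i : ι} (h : i ≠ X) : ind X i = 0 := by simp [ind, h]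

theorem sum_ind_mul (X : ι) (f : ι → ℤ) : ∑ i, ind X i * f i = f X := by
  simp [ind, Finset.sum_ite_eq']

theorem sum_ind_sq (X : ι) : ∑ i, ind X i ^ 2 = 1 := by
  have : ∀ i, ind X i ^ 2 = ind X i * ind X i := fun i => by ring
  simp only [this]
  rw [sum_ind_mul, ind_self]

theorem sum_ind_ind {X Y : ι} (h : X ≠ Y) : ∑ i, ind X i * ind Y i = 0 := by
  rw [sum_ind_mul]
  exact ind_ne h

/-- a vector supported on two points `A`, `B`: its weighted sum -/
theorem sum_two (v f : ι → ℤ) {A B : ι} (hAB : A ≠ B) (h0 : ∀ i, i ≠ A → i ≠ B → v i = 0) :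
    ∑ i, v i * f i = v A * f A + v B * f B := by
  have h1 : ∀ i, v i * f i = ind A i * (v A * f A) + ind B i * (v B * f B) := by
    intro i
    by_cases hA : i = A
    · subst hA
      rw [ind_self, ind_ne hAB]; ring
    · by_cases hB : i = B
      · subst hB
        rw [ind_self, ind_ne hA]; ring
      · rw [h0 i hA hB, ind_ne hA, ind_ne hB]; ring
  rw [Finset.sum_congr rfl (fun i _ => h1 i)]
  rw [Finset.sum_add_distrib, ← Finset.sum_mul, ← Finset.sum_mul]
  have e : ∀ X : ι, ∑ i, ind X i = 1 := by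
    intro X
    have := sum_ind_mul X (fun _ => (1 : ℤ))
    simpa using this
  rw [e, e]; ring

end J0A

variable {k g : ℕ} {o : ι} {inv : J → J} {j0 : J} {sgn : J → ℤ} {b : J → ι → ℤ} {deg a1 : ι → ℤ}

open J0A in
/-- PIECE J0A -/
theorem j0_shape_A (H : ArithHyp k g o inv j0 sgn b deg a1) {X Y : J → ι}
    (D : PairData o inv j0 b deg X Y) (X0 : ι) (hX : ∀ j, j ≠ j0 → X j = X0) (hne : ∃ j, j ≠ j0)
    (ha : b j0 X0 = 1) :
    ∃ (Z1 Z2 : ι) (ζ : ℤ), (ζ = 1 ∨ ζ = -1) ∧ Shape o inv j0 b deg X0 Y Z1 Z2 1 ζ := by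
  obtain ⟨j1, hj1⟩ := hne
  have hX0o : X0 ≠ o := by rw [← hX j1 hj1]; exact D.Xo j1 hj1
  have hYX0 : ∀ j, j ≠ j0 → Y j ≠ X0 := by
    intro j hj h
    exact D.XY j hj (by rw [hX j hj, h])
  -- `b j0` vanishes at the `Y j`
  have hbY : ∀ j, j ≠ j0 → b j0 (Y j) = 0 := by
    intro j hj
    rcases pn_type H D hj with h | h
    · exact h.2
    · rw [hX j hj, ha] at h
      omega
  -- the vector `v`
  set v : ι → ℤ := fun i => b j0 i - ind o i - ind X0 i with hv
  have hgram : ∑ i, b j0 i * b j0 i = 4 := by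
    have := H.gram j0 j0
    rw [this]
    have : j0 = inv j0 := ((H.inv_fix j0).2 rfl).symm
    simp [← this]
  have hnorm : ∑ i, v i ^ 2 = 2 := by
    have e : ∀ i, v i ^ 2 = b j0 i * b j0 i - 2 * (ind o i * b j0 i) - 2 * (ind X0 i * b j0 i)
        + ind o i ^ 2 + ind X0 i ^ 2 + 2 * (ind o i * ind X0 i) := by
      intro i; simp only [hv]; ring
    simp only [e]
    rw [Finset.sum_add_distrib, Finset.sum_add_distrib, Finset.sum_add_distrib,
      Finset.sum_sub_distrib, Finset.sum_sub_distrib, ← Finset.mul_sum, ← Finset.mul_sum,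
      ← Finset.mul_sum, sum_ind_mul, sum_ind_mul, sum_ind_sq, sum_ind_sq,
      sum_ind_ind hX0o.symm, hgram, H.b_o, ha]
    norm_num
  obtain ⟨A, B, hAB, hA, hB, h0⟩ := supp_two v hnorm
  -- values of `v` at the known points
  have hvo : v o = 0 := by
    simp only [hv]
    rw [H.b_o, ind_self, ind_ne hX0o.symm]; ring
  have hvX0 : v X0 = 0 := by
    simp only [hv]
    rw [ha, ind_self, ind_ne hX0o]; ring
  have hvY : ∀ j, j ≠ j0 → v (Y j) = 0 := by
    intro j hj
    simp only [hv]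
    rw [hbY j hj, ind_ne (D.Yo j hj), ind_ne (hYX0 j hj)]; ring
  have hne_of : ∀ C : ι, (v C = 1 ∨ v C = -1) → C ≠ o ∧ C ≠ X0 ∧ ∀ j, j ≠ j0 → Y j ≠ C := by
    intro C hC
    refine ⟨?_, ?_, ?_⟩
    · rintro rfl; rw [hvo] at hC; omega
    · rintro rfl; rw [hvX0] at hC; omega
    · intro j hj h
      rw [← h, hvY j hj] at hC; omega
  obtain ⟨hAo, hAX, hAY⟩ := hne_of A hA
  obtain ⟨hBo, hBX, hBY⟩ := hne_of B hB
  -- `b j0` in terms of `v`
  have hb0 : ∀ i, b j0 i = ind o i + ind X0 i + v i := by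
    intro i; simp only [hv]; ring
  -- the degree equation
  have hdeg : 1 + deg X0 + (v A * deg A + v B * deg B) = 0 := by
    have h1 := H.deg_sum j0
    have e : ∀ i, b j0 i * deg i = ind o i * deg i + ind X0 i * deg i + v i * deg i := by
      intro i; rw [hb0 i]; ring
    simp only [e] at h1
    rw [Finset.sum_add_distrib, Finset.sum_add_distrib, sum_ind_mul, sum_ind_mul,
      sum_two v deg hAB h0, H.deg_o] at h1
    exact h1
  have hdA := H.deg_pos A
  have hdB := H.deg_pos B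
  have hdX := H.deg_pos X0
  -- the common fields
  have mk : ∀ (Z1 Z2 : ι) (ζ : ℤ), Z1 ≠ Z2 → (Z1 = A ∨ Z1 = B) → (Z2 = A ∨ Z2 = B) →
      (∀ i, v i = - ind Z1 i - ζ * ind Z2 i) → (deg X0 - deg Z1 - ζ * deg Z2 = -1) →
      Shape o inv j0 b deg X0 Y Z1 Z2 1 ζ := by
    intro Z1 Z2 ζ h12 hZ1 hZ2 hvZ hdz
    have hZ1' : Z1 ≠ o ∧ Z1 ≠ X0 ∧ ∀ j, j ≠ j0 → Y j ≠ Z1 := by
      rcases hZ1 with rfl | rfl
      · exact ⟨hAo, hAX, hAY⟩
      · exact ⟨hBo, hBX, hBY⟩
    have hZ2' : Z2 ≠ o ∧ Z2 ≠ X0 ∧ ∀ j, j ≠ j0 → Y j ≠ Z2 := by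
      rcases hZ2 with rfl | rfl
      · exact ⟨hAo, hAX, hAY⟩
      · exact ⟨hBo, hBX, hBY⟩
    refine
      { Po := hX0o
        So := D.Yo
        SP := hYX0
        Z1o := hZ1'.1
        Z2o := hZ2'.1
        Z1P := hZ1'.2.1
        Z2P := hZ2'.2.1
        Z12 := h12
        SZ1 := hZ1'.2.2
        SZ2 := hZ2'.2.2
        Sinj := ?_
        Sinv := D.Yinv
        bj := ?_
        bj0 := ?_
        degS := ?_
        degZ := ?_ }
    · intro j j' hj hj' hYY
      exact D.inj j j' hj hj' (by rw [hX j hj, hX j' hj']) hYY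
    · intro j hj i
      rw [D.bj j hj i, hX j hj]; ring
    · intro i
      rw [hb0 i, hvZ i]; ring
    · intro j hj
      rw [D.degXY j hj, hX j hj]
    · linarith
  -- the sign cases
  rcases hA with hA | hA <;> rcases hB with hB | hB
  · exfalso
    rw [hA, hB] at hdeg
    linarith
  · -- `A` positive, `B` negative: `Z1 = B`, `Z2 = A`, `ζ = -1`
    refine ⟨B, A, -1, Or.inr rfl, mk B A (-1) hAB.symm (Or.inr rfl) (Or.inl rfl) ?_ ?_⟩
    · intro i
      by_cases hiA : i = A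
      · subst hiA; rw [hA, ind_self, ind_ne hAB]; ring
      · by_cases hiB : i = B
        · subst hiB; rw [hB, ind_self, ind_ne hiA]; ring
        · rw [h0 i hiA hiB, ind_ne hiA, ind_ne hiB]; ring
    · rw [hA, hB] at hdeg; linarith
  · -- `A` negative, `B` positive: `Z1 = A`, `Z2 = B`, `ζ = -1`
    refine ⟨A, B, -1, Or.inr rfl, mk A B (-1) hAB (Or.inl rfl) (Or.inr rfl) ?_ ?_⟩
    · intro i
      by_cases hiA : i = A
      · subst hiA; rw [hA, ind_self, ind_ne hAB]; ring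
      · by_cases hiB : i = B
        · subst hiB; rw [hB, ind_self, ind_ne hiA]; ring
        · rw [h0 i hiA hiB, ind_ne hiA, ind_ne hiB]; ring
    · rw [hA, hB] at hdeg; linarith
  · -- both negative: `ζ = 1`
    refine ⟨A, B, 1, Or.inl rfl, mk A B 1 hAB (Or.inl rfl) (Or.inr rfl) ?_ ?_⟩
    · intro i
      by_cases hiA : i = A
      · subst hiA; rw [hA, ind_self, ind_ne hAB]; ring
      · by_cases hiB : i = B
        · subst hiB; rw [hB, ind_self, ind_ne hiA]; ring
        · rw [h0 i hiA hiB, ind_ne hiA, ind_ne hiB]; ring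
    · rw [hA, hB] at hdeg; linarith

end Cfsg.Agent.Helper3.BSW
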