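import Mathlib
import Cfsg.Agent.Lib.Helper3.BSWDefs

/-! S3282 piece SYLCONJ. -/

set_option autoImplicit false

namespace Cfsg.Agent.Helper3.BSW

universe u

section Generic

variable {G : Type u} [Group G] [Finite G]

namespace SYLCONJ

theorem factorization_card_of_not_dvd_index (l : ℕ) (A : Subgroup G) (hA : ¬ l ∣ A.index) :
    (Nat.card A).factorization l = (Nat.card G).factorization l := by
  have h1 := A.card_mul_index
  rw [← h1, Nat.factorization_mul Nat.card_pos.ne' Subgroup.index_ne_zero_of_finite]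
  simp [Nat.factorization_eq_zero_of_not_dvd hA]

end SYLCONJ

/-- PIECE SYLCONJ -/
theorem conj_mem_of_sylow {A : Subgroup G} {l : ℕ} (hl : l.Prime) (hcop : ¬ l ∣ A.index) {x : G}
    (hx : ∃ j : ℕ, orderOf x = l ^ j) : ∃ g : G, g * x * g⁻¹ ∈ A := by
  haveI : Fact l.Prime := ⟨hl⟩
  obtain ⟨j, hj⟩ := hx
  -- a Sylow subgroup of `A`, mapped into `G`
  obtain ⟨PA⟩ : Nonempty (Sylow l A) := inferInstance
  have hcard : Nat.card ((PA : Subgroup A).map A.subtype) = l ^ (Nat.card G).factorization l := by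
    rw [Subgroup.card_subtype, PA.card_eq_multiplicity,
      SYLCONJ.factorization_card_of_not_dvd_index l A hcop]
  let Q : Sylow l G := Sylow.ofCard ((PA : Subgroup A).map A.subtype) hcard
  have hQA : (Q : Subgroup G) ≤ A := by
    change (PA : Subgroup A).map A.subtype ≤ A
    exact Subgroup.map_subtype_le _
  -- `x` lies in a Sylow subgroup
  have hxp : IsPGroup l (Subgroup.zpowers x) := by
    apply IsPGroup.of_card (n := j)
    rw [Nat.card_zpowers, hj]
  obtain ⟨P, hP⟩ := hxp.exists_le_sylow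
  obtain ⟨g, hg⟩ := MulAction.exists_smul_eq G P Q
  refine ⟨g, hQA ?_⟩
  rw [← hg]
  have hxP : x ∈ (P : Subgroup G) := hP (Subgroup.mem_zpowers x)
  rw [Sylow.coe_subgroup_smul, Subgroup.mem_pointwise_smul_iff_inv_smul_mem]
  simpa [MulAut.smul_def, mul_assoc] using hxP

end Generic

end Cfsg.Agent.Helper3.BSW
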