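import Mathlib
import Cfsg.Agent.Lib.Helper3.BSWDefs
import Cfsg.Agent.Lib.Helper19.BSWFPF

/-! S3282 piece SYLTI: the Sylow `p`-subgroups are TI (maximal intersection argument). -/

set_option autoImplicit false

namespace Cfsg.Agent.Helper3.BSW

universe u

section Generic

variable {G : Type u} [Group G] [Finite G]

set_option linter.unusedSectionVars false

namespace SYLTI

/-- elements of a Sylow subgroup have prime power order -/
theorem ppow_of_mem {p : ℕ} [Fact p.Prime] (S : Sylow p G) {x : G} (hx : x ∈ (S : Subgroup G)) :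
    ∃ j : ℕ, orderOf x = p ^ j := by
  obtain ⟨k, hk⟩ := (IsPGroup.iff_orderOf.1 S.2) ⟨x, hx⟩
  exact ⟨k, by rw [← hk, Subgroup.orderOf_mk]⟩

/-- normalizers grow in a Sylow subgroup -/
theorem exists_normalizer_not_mem {p : ℕ} [Fact p.Prime] (S : Sylow p G) (T : Subgroup G)
    (hTS : T ≤ S) (hne : T ≠ (S : Subgroup G)) :
    ∃ n : G, n ∈ (S : Subgroup G) ∧ n ∈ Subgroup.normalizer (T : Set G) ∧ n ∉ T := by
  have hnil : Group.IsNilpotent (S : Subgroup G) := S.2.isNilpotent
  have hnc : NormalizerCondition (S : Subgroup G) := Group.normalizerCondition_of_isNilpotent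
  have hlt : T.subgroupOf (S : Subgroup G) < ⊤ := by
    rw [lt_top_iff_ne_top]
    intro h
    rw [Subgroup.subgroupOf_eq_top] at h
    exact hne (le_antisymm hTS h)
  have h2 := hnc _ hlt
  obtain ⟨x, hxN, hxT⟩ := SetLike.exists_of_lt h2
  refine ⟨(x : G), x.2, ?_, ?_⟩
  · rw [← Subgroup.subgroupOf_normalizer_eq hTS] at hxN
    exact hxN
  · intro h
    exact hxT h

/-- a subgroup of odd order has no element of order two -/
theorem no_invol_of_odd {N : Subgroup G} (hN : Odd (Nat.card N)) {v : G} (hv : orderOf v = 2)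
    (hvN : v ∈ N) : False := by
  have h1 : orderOf (⟨v, hvN⟩ : N) ∣ Nat.card N := orderOf_dvd_natCard _
  rw [Subgroup.orderOf_mk, hv] at h1
  rcases hN with ⟨k, hk⟩
  omega

end SYLTI

open SYLTI in
/-- PIECE SYLTI -/
theorem sylow_ti {p : ℕ} [Fact p.Prime]
    (hR0 : ∀ x : G, x ≠ 1 → (∃ j : ℕ, orderOf x = p ^ j) →
      Odd (Nat.card (Subgroup.centralizer ({x} : Set G))) ∧ ¬ IsConj x x⁻¹)
    (hcl : ∀ N : Subgroup G, Odd (Nat.card N) → ∃ P : Subgroup G, P ≤ N ∧ IsPGroup p P ∧
      N ≤ Subgroup.normalizer (P : Set G) ∧ ∀ x ∈ N, (∃ j : ℕ, orderOf x = p ^ j) → x ∈ P)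
    (S1 S2 : Sylow p G) (hne : (S1 : Subgroup G) ⊓ (S2 : Subgroup G) ≠ ⊥) : S1 = S2 := by
  classical
  by_contra hS
  let bad : Set (Sylow p G × Sylow p G) :=
    {q | q.1 ≠ q.2 ∧ (q.1 : Subgroup G) ⊓ (q.2 : Subgroup G) ≠ ⊥}
  have hbad : bad.Nonempty := ⟨(S1, S2), hS, hne⟩
  obtain ⟨⟨A, B⟩, hAB, hmax⟩ := Set.exists_max_image bad
    (fun q => Nat.card ((q.1 : Subgroup G) ⊓ (q.2 : Subgroup G) : Subgroup G))
    (Set.toFinite _) hbad
  obtain ⟨hABne, hTne⟩ := hAB
  simp only at hABne hTne hmax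
  set T : Subgroup G := (A : Subgroup G) ⊓ (B : Subgroup G) with hT
  have hTA : T ≤ (A : Subgroup G) := inf_le_left
  have hTB : T ≤ (B : Subgroup G) := inf_le_right
  set N : Subgroup G := Subgroup.normalizer (T : Set G) with hN
  -- `N` has odd order
  have hNodd : Odd (Nat.card N) := by
    by_contra hodd
    have heven : 2 ∣ Nat.card N := by
      rcases Nat.even_or_odd (Nat.card N) with h | h
      · exact h.two_dvd
      · exact absurd h hodd
    have : Fact (Nat.Prime 2) := ⟨Nat.prime_two⟩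
    obtain ⟨v', hv'⟩ := exists_prime_orderOf_dvd_card' (G := N) 2 heven
    set v : G := (v' : G) with hvdef
    have hv : orderOf v = 2 := by rw [hvdef, Subgroup.orderOf_coe]; exact hv'
    have hvN : v ∈ Subgroup.normalizer (T : Set G) := v'.2
    have hvv : v * v = 1 := by
      have := pow_orderOf_eq_one v
      rw [hv, pow_two] at this
      exact this
    have hconjT : ∀ a ∈ T, v * a * v⁻¹ ∈ T := by
      intro a ha
      exact (Subgroup.mem_normalizer_iff.1 hvN a).1 ha
    by_cases hfix : ∃ a ∈ T, a ≠ 1 ∧ v * a * v⁻¹ = a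
    · obtain ⟨a, haT, ha1, hva⟩ := hfix
      have hodd' := (hR0 a ha1 (ppow_of_mem A (hTA haT))).1
      refine no_invol_of_odd hodd' hv ?_
      rw [Subgroup.mem_centralizer_singleton_iff]
      have : v * a = a * v := by
        calc v * a = v * a * v⁻¹ * v := by group
          _ = a * v := by rw [hva]
      exact this
    · have hfix' : ∀ a ∈ T, v * a * v⁻¹ = a → a = 1 := by
        intro a ha hva
        by_contra ha1
        exact hfix ⟨a, ha, ha1, hva⟩
      have hinv := (fpf_invol (A := T) hvv hconjT hfix').1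
      obtain ⟨a, ha1⟩ := (Subgroup.ne_bot_iff_exists_ne_one.1 hTne)
      have haT' : (a : G) ∈ T := a.2
      have ha1' : (a : G) ≠ 1 := fun h => ha1 (Subtype.ext h)
      have hnc := (hR0 (a : G) ha1' (ppow_of_mem A (hTA haT'))).2
      exact hnc (isConj_iff.2 ⟨v, hinv (a : G) haT'⟩)
  obtain ⟨P, hPN, hPp, -, hPall⟩ := hcl N hNodd
  have hTN : T ≤ N := Subgroup.le_normalizer
  have hTP : T ≤ P := fun a ha => hPall a (hTN ha) (ppow_of_mem A (hTA ha))
  obtain ⟨S3, hS3⟩ := hPp.exists_le_sylow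
  -- the key step
  have key : ∀ S : Sylow p G, T ≤ (S : Subgroup G) → T ≠ (S : Subgroup G) →
      Nat.card ((S3 : Subgroup G) ⊓ (S : Subgroup G) : Subgroup G) ≤ Nat.card T → False := by
    intro S hTS hTneS hle
    obtain ⟨n, hnS, hnN, hnT⟩ := exists_normalizer_not_mem S T hTS hTneS
    have hnP : n ∈ P := hPall n hnN (ppow_of_mem S hnS)
    have hlt : T < (S3 : Subgroup G) ⊓ (S : Subgroup G) := by
      refine lt_of_le_of_ne (le_inf (hTP.trans hS3) hTS) ?_
      intro h
      apply hnT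
      rw [h]
      exact ⟨hS3 hnP, hnS⟩
    have hcard : Nat.card T < Nat.card ((S3 : Subgroup G) ⊓ (S : Subgroup G) : Subgroup G) := by
      have hss : (T : Set G) ⊂ (((S3 : Subgroup G) ⊓ (S : Subgroup G) : Subgroup G) : Set G) :=
        SetLike.coe_ssubset_coe.2 hlt
      exact Set.Finite.card_lt_card (Set.toFinite _) hss
    omega
  have hTneA : T ≠ (A : Subgroup G) := by
    intro h
    apply hABne
    have hle : (A : Subgroup G) ≤ (B : Subgroup G) := by rw [← h]; exact hTB
    exact Sylow.ext (A.3 B.2 hle).symm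
  have hTneB : T ≠ (B : Subgroup G) := by
    intro h
    apply hABne
    have hle : (B : Subgroup G) ≤ (A : Subgroup G) := by rw [← h]; exact hTA
    exact Sylow.ext (B.3 A.2 hle)
  have hS3A : S3 = A := by
    by_contra hne3
    refine key A hTA hTneA (hmax (S3, A) ⟨hne3, ?_⟩)
    intro h
    apply hTne
    rw [eq_bot_iff, ← h]
    exact le_inf (hTP.trans hS3) hTA
  have hS3B : S3 = B := by
    by_contra hne3
    refine key B hTB hTneB (hmax (S3, B) ⟨hne3, ?_⟩)
    intro h
    apply hTne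
    rw [eq_bot_iff, ← h]
    exact le_inf (hTP.trans hS3) hTB
  exact hABne (hS3A.symm.trans hS3B)

end Generic

end Cfsg.Agent.Helper3.BSW
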