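import Mathlib
import Cfsg.Agent.Lib.Helper3.BcgloBasic
import Cfsg.Agent.Lib.Helper3.BcgloAux
import Cfsg.Agent.Lib.Helper25.FusionAlperin
import Cfsg.Agent.Lib.Helper25.FusionTransport
import Cfsg.Agent.Lib.Helper14.Ambient

/-!
# Piece UP of S5110 (helper10 for helper3): `P` is properly contained in `N_S^{O_p(Aut_F(P))}(P)`
-/

set_option autoImplicit false

namespace Cfsg.Agent.Helper10.BcgloUP

open Cfsg Cfsg.FusionSystem Cfsg.Agent.Helper25 Cfsg.Agent.Helper3.Bcglo

variable {Ω : Type*} [Group Ω] {S : Subgroup Ω}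

/-- `Inn(P) ≤ O_p(Aut_F(P))` -/
theorem inn_le_OpAut {p : ℕ} (hS : IsPGroup p S) (F : FusionSystem S)
    {P : Subgroup Ω} (hP : P ≤ S) : Inn P ≤ OpAut F p P := by
  intro γ hγ
  have hγA : γ ∈ F.autGroup P := autInducedBy_le_autGroup F hP (inn_le_autInducedBy hP hγ)
  have hInnp : IsPGroup p ((Inn P).subgroupOf (F.autGroup P)) :=
    isPGroup_subgroupOf _ ((isPGroup_autInducedBy hS P).to_le (inn_le_autInducedBy hP))
  have h1 : (Inn P).subgroupOf (F.autGroup P) ≤ pCore p ↥(F.autGroup P) :=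
    Cfsg.Agent.Helper14.le_pCore (inn_subgroupOf_normal P (F.autGroup P)) hInnp
  exact ⟨⟨γ, hγA⟩, h1 (Subgroup.mem_subgroupOf.mpr hγ), rfl⟩

/-- transport of `O_p(Aut_F(Q))` along an isomorphism of the system -/
theorem OpAut_congr {p : ℕ} (F : FusionSystem S) {P Q : Subgroup Ω} (e : Q ≃* P)
    (he : P.subtype.comp e.toMonoidHom ∈ F.Hom Q) {δ : MulAut Q} (hδ : δ ∈ OpAut F p Q) :
    MulAut.congr e δ ∈ OpAut F p P := by
  have hmap := autGroup_map_congr F e he
  let E : ↥(F.autGroup Q) ≃* ↥(F.autGroup P) :=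
    ((MulAut.congr e).subgroupMap (F.autGroup Q)).trans (MulEquiv.subgroupCongr hmap)
  have hcore := Cfsg.Agent.Helper14.pCore_map_equiv (p := p) E
  obtain ⟨d, hd, rfl⟩ := hδ
  refine ⟨E d, ?_, rfl⟩
  rw [← hcore]
  exact ⟨d, hd, rfl⟩

/-- PIECE UP -/
theorem lt_NK_OpAut [Finite S] {p : ℕ} [Fact p.Prime] {F : FusionSystem S} {P : Subgroup Ω}
    (h : Ctx F p P) (hA : GoalA F P) :
    P ≤ NK S (OpAut F p P) P.subtype ∧ P ≠ NK S (OpAut F p P) P.subtype := by
  have hP := h.hP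
  have hle : P ≤ NK S (OpAut F p P) P.subtype := by
    intro g hg
    rw [mem_NK]
    exact ⟨hP hg, MulAut.conj (⟨g, hg⟩ : P), inn_le_OpAut h.hS F hP ⟨⟨g, hg⟩, rfl⟩, fun x => rfl⟩
  refine ⟨hle, ?_⟩
  suffices hex : ∃ g ∈ NK S (OpAut F p P) P.subtype, g ∉ P by
    obtain ⟨g, hg, hgP⟩ := hex
    intro heq
    rw [← heq] at hg
    exact hgP hg
  have hFC := isFullyCentralized_of_goalA hP hA
  by_cases hcen : centralizerIn S P ≤ P
  · have hcentric := isCentric_of_fullyCentralized F hFC hcen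
    obtain ⟨Q, hQ, hn⟩ := h.hstar hcentric
    rw [SetLike.not_le_iff_exists] at hn
    obtain ⟨δ, ⟨hδS, hδO⟩, hδI⟩ := hn
    obtain ⟨g, hgS, hgδ⟩ := (mem_autInducedBy_iff δ).mp hδS
    have hQS : Q ≤ S := isConj_le_right F hQ
    have hgN : g ∈ normalizerIn S Q := by
      refine ⟨hgS, ?_⟩
      apply mem_normalizer_of_forall
      · intro y hy
        rw [← hgδ ⟨y, hy⟩]
        exact (δ ⟨y, hy⟩).2
      · intro y hy
        have h1 := hgδ (δ⁻¹ ⟨y, hy⟩)
        rw [MulAut.apply_inv_self] at h1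
        set w : Q := δ⁻¹ ⟨y, hy⟩ with hw
        have h3 : y = g * (w : Ω) * g⁻¹ := h1
        have h2 : g⁻¹ * y * g = (w : Ω) := by
          calc g⁻¹ * y * g = g⁻¹ * (g * (w : Ω) * g⁻¹) * g := by rw [← h3]
            _ = (w : Ω) := by group
        rw [h2]
        exact w.2
    obtain ⟨σ, hσ, hσN, hσimg⟩ := hA Q hQ
    have hQN : Q ≤ normalizerIn S Q := le_normalizerIn hQS
    have hσinj := F.injective_of_mem hσ
    -- σ maps Q into P
    have hσQ : ∀ x : Q, σ ⟨x, hQN x.2⟩ ∈ P := by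
      intro x
      rw [← hσimg, mem_map_subgroupOf]
      exact ⟨x, hQN x.2, x.2, rfl⟩
    -- the isomorphism e : Q ≃* P
    let e₀ : Q →* P := (σ.comp (Subgroup.inclusion hQN)).codRestrict P hσQ
    have he₀inj : Function.Injective e₀ := by
      intro a b hab
      have h1 : σ (Subgroup.inclusion hQN a) = σ (Subgroup.inclusion hQN b) :=
        congrArg Subtype.val hab
      exact Subgroup.inclusion_injective hQN (hσinj h1)
    have he₀surj : Function.Surjective e₀ := by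
      intro y
      have hy : (y : Ω) ∈ (Q.subgroupOf (normalizerIn S Q)).map σ := by rw [hσimg]; exact y.2
      rw [mem_map_subgroupOf] at hy
      obtain ⟨x, hxN, hxQ, hxy⟩ := hy
      exact ⟨⟨x, hxQ⟩, Subtype.ext hxy⟩
    let e : Q ≃* P := MulEquiv.ofBijective e₀ ⟨he₀inj, he₀surj⟩
    have hev : ∀ x : Q, ((e x : P) : Ω) = σ ⟨x, hQN x.2⟩ := fun x => rfl
    have he : P.subtype.comp e.toMonoidHom ∈ F.Hom Q := by
      have h2 := restrict_mem F hQN hσ
      have h3 : P.subtype.comp e.toMonoidHom = σ.comp (Subgroup.inclusion hQN) := by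
        ext x
        rfl
      rw [h3]
      exact h2
    -- the element
    set g' : Ω := σ ⟨g, hgN⟩ with hg'
    have hg'N : g' ∈ normalizerIn S P := hσN _
    have hκ : MulAut.congr e δ ∈ OpAut F p P := OpAut_congr F e he hδO
    have hconj : ∀ x : P, g' * (x : Ω) * g'⁻¹ = ((MulAut.congr e δ x : P) : Ω) := by
      intro x
      obtain ⟨z, rfl⟩ := e.surjective x
      have e1 : MulAut.congr e δ (e z) = e (δ z) := by
        simp [MulAut.congr]
      rw [e1, hev, hev, hg', ← map_inv, ← map_mul, ← map_mul]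
      congr 1
      apply Subtype.ext
      exact (hgδ z).symm
    refine ⟨g', ⟨hg'N.1, MulAut.congr e δ, hκ, fun x => hconj x⟩, ?_⟩
    -- g' ∉ P
    intro hg'P
    apply hδI
    -- δ is conjugation by e.symm ⟨g', _⟩
    refine ⟨e.symm ⟨g', hg'P⟩, ?_⟩
    ext z
    rw [MulAut.conj_apply]
    apply congrArg Subtype.val
    apply e.injective
    rw [map_mul, map_mul, map_inv, MulEquiv.apply_symm_apply]
    apply Subtype.ext
    have := hconj (e z)
    have e1 : MulAut.congr e δ (e z) = e (δ z) := by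
      simp [MulAut.congr]
    rw [e1] at this
    exact this
  · rw [SetLike.not_le_iff_exists] at hcen
    obtain ⟨g, hgC, hgP⟩ := hcen
    rw [mem_centralizerIn] at hgC
    refine ⟨g, ⟨hgC.1, 1, Subgroup.one_mem _, fun x => ?_⟩, hgP⟩
    have := hgC.2 x x.2
    show g * (x : Ω) * g⁻¹ = (x : Ω)
    rw [← this]
    group

end Cfsg.Agent.Helper10.BcgloUP
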