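import Mathlib
import Cfsg.Prelude.Def_Local
import Cfsg.Agent.Lib.Helper10.Cores
import Cfsg.Agent.Lib.Helper7.Bender

set_option autoImplicit false

/-! Bender's theorem on primitive pairs: auxiliary lemmas inside one group. -/

namespace Cfsg.Agent.Helper10.BenderPair

open Cfsg Subgroup Cfsg.Agent.Helper7

universe u

variable {H : Type u} [Group H]

/-- two subgroups normalizing each other and meeting trivially commute -/
theorem commute_of_normalize_disjoint (A B : Subgroup H) (hAB : A ≤ normalizer (B : Set H))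
    (hBA : B ≤ normalizer (A : Set H)) (hd : A ⊓ B = ⊥) :
    ∀ a ∈ A, ∀ b ∈ B, a * b = b * a := by
  intro a ha b hb
  have h1 : a * b * a⁻¹ * b⁻¹ ∈ A := by
    have h2 : b * a⁻¹ * b⁻¹ ∈ A := by
      have := (Subgroup.mem_normalizer_iff.mp (hBA hb) a⁻¹).mp (A.inv_mem ha)
      exact this
    have : a * b * a⁻¹ * b⁻¹ = a * (b * a⁻¹ * b⁻¹) := by group
    rw [this]; exact A.mul_mem ha h2
  have h2 : a * b * a⁻¹ * b⁻¹ ∈ B := by
    have h3 : a * b * a⁻¹ ∈ B := (Subgroup.mem_normalizer_iff.mp (hAB ha) b).mp hb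
    exact B.mul_mem h3 (B.inv_mem hb)
  have h3 : a * b * a⁻¹ * b⁻¹ ∈ A ⊓ B := ⟨h1, h2⟩
  rw [hd, Subgroup.mem_bot] at h3
  calc a * b = (a * b * a⁻¹ * b⁻¹) * (b * a) := by group
    _ = b * a := by rw [h3, one_mul]

theorem commute_of_normalize_coprime (A B : Subgroup H) (hAB : A ≤ normalizer (B : Set H))
    (hBA : B ≤ normalizer (A : Set H)) (hc : (Nat.card A).Coprime (Nat.card B)) :
    ∀ a ∈ A, ∀ b ∈ B, a * b = b * a :=
  commute_of_normalize_disjoint A B hAB hBA (Subgroup.disjoint_of_coprime_natCard hc).eq_bot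

/-- the join of the `O_r(H)` for the primes `r ≠ q` -/
def KK (q : ℕ) (H : Type u) [Group H] : Subgroup H :=
  sSup {N : Subgroup H | ∃ r : ℕ, r.Prime ∧ r ≠ q ∧ N = Cfsg.pCore r H}

theorem KK_normal_card [Finite H] (q : ℕ) [hq : Fact q.Prime] :
    (KK q H).Normal ∧ (Nat.card (KK q H)).Coprime q := by
  apply card_sSup_normal_of (fun n => n.Coprime q) (Nat.coprime_one_left q)
    (fun _ _ ha hb => Nat.Coprime.mul_left ha hb)
    (fun _ _ hab hb => Nat.Coprime.coprime_dvd_left hab hb)
  rintro N ⟨r, hr, hrq, rfl⟩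
  have : Fact r.Prime := ⟨hr⟩
  refine ⟨Cfsg.Agent.Helper10.pCore_normal r, ?_⟩
  obtain ⟨k, hk⟩ := IsPGroup.iff_card.mp (Cfsg.Agent.Helper10.pCore_isPGroup (G := H) r)
  show (Nat.card (Cfsg.pCore r H)).Coprime q
  rw [hk]
  exact Nat.Coprime.pow_left k ((Nat.coprime_primes hr hq.out).mpr hrq)

theorem pCore_le_KK {q r : ℕ} (hr : r.Prime) (hrq : r ≠ q) : Cfsg.pCore r H ≤ KK q H :=
  le_sSup ⟨r, hr, hrq, rfl⟩

theorem KK_le_fittingSubgroup [Finite H] (q : ℕ) : KK q H ≤ Cfsg.fittingSubgroup H := by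
  apply sSup_le
  rintro N ⟨r, hr, hrq, rfl⟩
  have : Fact r.Prime := ⟨hr⟩
  exact pCore_le_fittingSubgroup r

theorem fittingSubgroup_le_sup [Finite H] (q : ℕ) :
    Cfsg.fittingSubgroup H ≤ Cfsg.pCore q H ⊔ KK q H := by
  rw [fittingSubgroup_eq_iSup_pCore]
  apply iSup_le
  intro r
  by_cases h : (r : ℕ) = q
  · rw [h]; exact le_sup_left
  · exact (pCore_le_KK r.2 h).trans le_sup_right

/-- an element centralizing `KK p` and `KK q` for `p ≠ q` centralizes the Fitting subgroup -/
theorem mem_centralizer_fitting [Finite H] {p q : ℕ} (hpq : p ≠ q) {z : H}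
    (hp : z ∈ centralizer (KK p H : Set H)) (hq : z ∈ centralizer (KK q H : Set H)) :
    z ∈ centralizer (Cfsg.fittingSubgroup H : Set H) := by
  have h1 : Cfsg.fittingSubgroup H ≤ centralizer ({z} : Set H) := by
    rw [fittingSubgroup_eq_iSup_pCore]
    apply iSup_le
    intro r d hd
    rw [Subgroup.mem_centralizer_iff]
    intro y hy
    rw [Set.mem_singleton_iff] at hy
    subst hy
    by_cases h : (r : ℕ) = p
    · have hrq : (r : ℕ) ≠ q := by rw [h]; exact hpq
      exact (Subgroup.mem_centralizer_iff.mp hq d (pCore_le_KK r.2 hrq hd)).symm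
    · exact (Subgroup.mem_centralizer_iff.mp hp d (pCore_le_KK r.2 h hd)).symm
  rw [Subgroup.mem_centralizer_iff]
  intro d hd
  have := Subgroup.mem_centralizer_iff.mp (h1 hd) z (Set.mem_singleton z)
  exact this.symm

section main

variable [Finite H]

/-- The key step of Bender's theorem, inside `H = M₁`. -/
theorem le_pCore_of_pair (hlayer : Cfsg.layer H = ⊥) (X : Subgroup H)
    (hFX : Cfsg.fittingSubgroup H ≤ X) {p q : ℕ} [hp : Fact p.Prime] [hq : Fact q.Prime]
    (hpq : p ≠ q)
    (P₂ : Subgroup H) (hP₂ : IsPGroup p P₂) (hXP₂ : X ≤ normalizer (P₂ : Set H))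
    (hN : normalizer (P₂ : Set H) ≤ X)
    (T : Subgroup H) (hT : IsPGroup q T) (hXT : X ≤ normalizer (T : Set H)) :
    T ≤ Cfsg.pCore q H := by
  have hKq := KK_normal_card (H := H) q
  have hKp := KK_normal_card (H := H) p
  have hKqn : (KK q H).Normal := hKq.1
  have hKpn : (KK p H).Normal := hKp.1
  have hOpn : (Cfsg.pCore p H).Normal := Cfsg.Agent.Helper10.pCore_normal p
  have hCF : centralizer (Cfsg.fittingSubgroup H : Set H) ≤ Cfsg.fittingSubgroup H :=
    centralizer_fittingSubgroup_le_iff.mpr hlayer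
  -- `T` centralizes `KK q`, `P₂` centralizes `KK p`
  have hTc : T ≤ centralizer (KK q H : Set H) := by
    intro t ht
    rw [Subgroup.mem_centralizer_iff]
    intro d hd
    have := commute_of_normalize_coprime T (KK q H)
      (by rw [Subgroup.normalizer_eq_top]; exact le_top)
      (((KK_le_fittingSubgroup q).trans hFX).trans hXT)
      (by
        obtain ⟨k, hk⟩ := IsPGroup.iff_card.mp hT
        rw [hk]; exact (Nat.Coprime.pow_right k hKq.2).symm) t ht d hd
    exact this.symm
  have hPc : P₂ ≤ centralizer (KK p H : Set H) := by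
    intro t ht
    rw [Subgroup.mem_centralizer_iff]
    intro d hd
    have := commute_of_normalize_coprime P₂ (KK p H)
      (by rw [Subgroup.normalizer_eq_top]; exact le_top)
      (((KK_le_fittingSubgroup p).trans hFX).trans hXP₂)
      (by
        obtain ⟨k, hk⟩ := IsPGroup.iff_card.mp hP₂
        rw [hk]; exact (Nat.Coprime.pow_right k hKp.2).symm) t ht d hd
    exact this.symm
  set L : Subgroup H := centralizer (KK q H : Set H) with hL
  set Lp : Subgroup H := centralizer (KK p H : Set H) with hLp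
  have hLn : L.Normal := Subgroup.normal_centralizer
  have hLpn : Lp.Normal := Subgroup.normal_centralizer
  have hOpL : ∀ l ∈ L, ∀ a ∈ Cfsg.pCore p H, l * a = a * l := by
    intro l hl a ha
    exact (Subgroup.mem_centralizer_iff.mp hl a (pCore_le_KK hp.out hpq ha)).symm
  set N := Nat.card (Cfsg.pCore p H) with hNdef
  -- the key commutator computation
  have key : ∀ l ∈ L, ∀ x ∈ P₂, ∃ z ∈ Cfsg.pCore p H, l * x * l⁻¹ = z * x := by
    intro l hl x hx
    set z := l * x * l⁻¹ * x⁻¹ with hz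
    have hzL : z ∈ L := by
      have h1 : x * l⁻¹ * x⁻¹ ∈ L := hLn.conj_mem _ (L.inv_mem hl) x
      have : z = l * (x * l⁻¹ * x⁻¹) := by rw [hz]; group
      rw [this]; exact L.mul_mem hl h1
    have hzLp : z ∈ Lp := by
      have h1 : l * x * l⁻¹ ∈ Lp := hLpn.conj_mem _ (hPc hx) l
      exact Lp.mul_mem h1 (Lp.inv_mem (hPc hx))
    have hzF : z ∈ Cfsg.fittingSubgroup H := hCF (mem_centralizer_fitting hpq hzLp hzL)
    have hzsup := fittingSubgroup_le_sup p hzF
    rw [← SetLike.mem_coe, Subgroup.mul_normal] at hzsup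
    obtain ⟨a, ha, b, hb, hab⟩ := Set.mem_mul.mp hzsup
    -- `b` commutes with `a` and with `x`
    have hba : a * b = b * a := by
      have h1 : (Nat.card (Cfsg.pCore p H)).Coprime (Nat.card (KK p H)) := by
        obtain ⟨k, hk⟩ := IsPGroup.iff_card.mp (Cfsg.Agent.Helper10.pCore_isPGroup (G := H) p)
        rw [hk]; exact (Nat.Coprime.pow_right k hKp.2).symm
      exact commute_of_normalize_coprime (Cfsg.pCore p H) (KK p H)
        (by rw [Subgroup.normalizer_eq_top]; exact le_top)
        (by rw [Subgroup.normalizer_eq_top]; exact le_top) h1 a ha b hb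
    have hbx : x * b = b * x := (Subgroup.mem_centralizer_iff.mp (hPc hx) b hb).symm
    -- `a * x` is a `p`-element
    have hax : a * x ∈ Cfsg.pCore p H ⊔ P₂ :=
      Subgroup.mul_mem _ (le_sup_left (a := Cfsg.pCore p H) ha) (le_sup_right (b := P₂) hx)
    have hpg : IsPGroup p ↥(Cfsg.pCore p H ⊔ P₂ : Subgroup H) :=
      IsPGroup.to_sup_of_normal_left (Cfsg.Agent.Helper10.pCore_isPGroup p) hP₂
    obtain ⟨k₁, hk₁⟩ := hpg ⟨a * x, hax⟩
    have hk₁' : (a * x) ^ (p ^ k₁) = 1 := by
      have := congrArg Subtype.val hk₁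
      simpa using this
    obtain ⟨k₂, hk₂⟩ := hP₂ ⟨x, hx⟩
    have hk₂' : x ^ (p ^ k₂) = 1 := by
      have := congrArg Subtype.val hk₂
      simpa using this
    have hconj : (l * x * l⁻¹) ^ (p ^ k₂) = 1 := by
      rw [conj_pow, hk₂']; group
    have hzx : l * x * l⁻¹ = b * (a * x) := by
      have : l * x * l⁻¹ = z * x := by rw [hz]; group
      rw [this, ← hab, hba, mul_assoc]
    have hcomm : Commute b (a * x) := by
      show b * (a * x) = a * x * b
      rw [← mul_assoc, ← hba, mul_assoc, ← hbx, mul_assoc]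
    have hb1 : b ^ (p ^ (k₁ + k₂)) = 1 := by
      have h1 : (b * (a * x)) ^ (p ^ (k₁ + k₂)) = 1 := by
        rw [← hzx, pow_add, mul_comm, pow_mul, hconj, one_pow]
      rw [hcomm.mul_pow] at h1
      have h2 : (a * x) ^ (p ^ (k₁ + k₂)) = 1 := by
        rw [pow_add, pow_mul, hk₁', one_pow]
      rwa [h2, mul_one] at h1
    have hb' : b = 1 := by
      have h1 : orderOf b ∣ p ^ (k₁ + k₂) := orderOf_dvd_of_pow_eq_one hb1
      have h2 : orderOf b ∣ Nat.card (KK p H) := by
        have := orderOf_dvd_natCard (⟨b, hb⟩ : KK p H)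
        rwa [Subgroup.orderOf_mk] at this
      have h3 : orderOf b ∣ Nat.gcd (p ^ (k₁ + k₂)) (Nat.card (KK p H)) := Nat.dvd_gcd h1 h2
      have h4 : Nat.gcd (p ^ (k₁ + k₂)) (Nat.card (KK p H)) = 1 :=
        (Nat.Coprime.pow_right _ hKp.2).symm
      rw [h4, Nat.dvd_one] at h3
      exact orderOf_eq_one_iff.mp h3
    refine ⟨a, ha, ?_⟩
    rw [hzx, hb', one_mul]
  -- powers
  have keypow : ∀ l ∈ L, ∀ x ∈ P₂, l ^ N * x = x * l ^ N := by
    intro l hl x hx
    obtain ⟨z, hz, hzx⟩ := key l hl x hx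
    have hlz : l * z = z * l := hOpL l hl z hz
    have hind : ∀ n : ℕ, l ^ n * x * (l ^ n)⁻¹ = z ^ n * x := by
      intro n
      induction n with
      | zero => simp
      | succ n ih =>
        have hlzn : l * z ^ n = z ^ n * l := by
          have : Commute l (z ^ n) := (show Commute l z from hlz).pow_right n
          exact this
        calc l ^ (n + 1) * x * (l ^ (n + 1))⁻¹ = l * (l ^ n * x * (l ^ n)⁻¹) * l⁻¹ := by
              rw [pow_succ']; group
          _ = l * (z ^ n * x) * l⁻¹ := by rw [ih]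
          _ = (l * z ^ n) * x * l⁻¹ := by group
          _ = z ^ n * (l * x * l⁻¹) := by rw [hlzn]; group
          _ = z ^ n * (z * x) := by rw [hzx]
          _ = z ^ (n + 1) * x := by rw [pow_succ]; group
    have hzN : z ^ N = 1 := by
      have h1 : (⟨z, hz⟩ : ↥(Cfsg.pCore p H)) ^ N = 1 := pow_card_eq_one'
      have h2 := congrArg Subtype.val h1
      rwa [Subgroup.coe_pow, Subgroup.coe_one] at h2
    have := hind N
    rw [hzN, one_mul] at this
    calc l ^ N * x = (l ^ N * x * (l ^ N)⁻¹) * l ^ N := by group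
      _ = x * l ^ N := by rw [this]
  set A : Subgroup H := Subgroup.closure {y : H | ∃ l ∈ L, y = l ^ N} with hA
  have hAc : A ≤ centralizer (P₂ : Set H) := by
    rw [hA, Subgroup.closure_le]
    rintro _ ⟨l, hl, rfl⟩
    rw [SetLike.mem_coe, Subgroup.mem_centralizer_iff]
    intro x hx
    exact (keypow l hl x hx).symm
  have hAX : A ≤ X := (hAc.trans (Subgroup.centralizer_le_normalizer _)).trans hN
  have hAn : A.Normal := by
    constructor
    intro y hy g
    have h1 : A.map (MulAut.conj g).toMonoidHom ≤ A := by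
      rw [hA, MonoidHom.map_closure, Subgroup.closure_le]
      rintro _ ⟨_, ⟨l, hl, rfl⟩, rfl⟩
      apply Subgroup.subset_closure
      refine ⟨g * l * g⁻¹, hLn.conj_mem l hl g, ?_⟩
      show g * l ^ N * g⁻¹ = (g * l * g⁻¹) ^ N
      rw [conj_pow]
    exact h1 ⟨y, hy, rfl⟩
  have hTA : T ≤ A := by
    intro t ht
    have htL : t ∈ L := hTc ht
    have h1 : t ^ N ∈ A := Subgroup.subset_closure ⟨t, htL, rfl⟩
    have hcop : N.Coprime (orderOf t) := by
      obtain ⟨k, hk⟩ := IsPGroup.iff_card.mp (Cfsg.Agent.Helper10.pCore_isPGroup (G := H) p)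
      obtain ⟨j, hj⟩ := hT ⟨t, ht⟩
      have hj' : t ^ (q ^ j) = 1 := by
        have := congrArg Subtype.val hj
        simpa using this
      have h2 : orderOf t ∣ q ^ j := orderOf_dvd_of_pow_eq_one hj'
      rw [hNdef, hk]
      apply Nat.Coprime.coprime_dvd_right h2
      exact Nat.Coprime.pow k j ((Nat.coprime_primes hp.out hq.out).mpr hpq)
    obtain ⟨m, hm⟩ := exists_pow_eq_self_of_coprime hcop
    rw [← hm]
    exact A.pow_mem h1 m
  have hsn : T.IsSubnormal := by
    apply Subgroup.IsSubnormal.step T A hTA hAn.isSubnormal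
    exact (Subgroup.normal_subgroupOf_iff_le_normalizer hTA).mpr (hAX.trans hXT)
  exact subnormal_isPGroup_le_pCore q T hsn hT

/-- a nontrivial `p`-subgroup normalized by an overgroup of the Fitting subgroup forces
`O_p ≠ 1` (no components). -/
theorem pCore_ne_bot_of_pair (hlayer : Cfsg.layer H = ⊥) (X : Subgroup H)
    (hFX : Cfsg.fittingSubgroup H ≤ X) {p : ℕ} [hp : Fact p.Prime]
    (P₁ : Subgroup H) (hP₁ : IsPGroup p P₁) (hXP₁ : X ≤ normalizer (P₁ : Set H))
    (hne : P₁ ≠ ⊥) : Cfsg.pCore p H ≠ ⊥ := by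
  intro hbot
  apply hne
  have hKp := KK_normal_card (H := H) p
  have hKpn : (KK p H).Normal := hKp.1
  have hCF : centralizer (Cfsg.fittingSubgroup H : Set H) ≤ Cfsg.fittingSubgroup H :=
    centralizer_fittingSubgroup_le_iff.mpr hlayer
  have hFK : Cfsg.fittingSubgroup H ≤ KK p H := by
    have := fittingSubgroup_le_sup (H := H) p
    rwa [hbot, bot_sup_eq] at this
  rw [eq_bot_iff]
  intro x hx
  have hxc : x ∈ centralizer (Cfsg.fittingSubgroup H : Set H) := by
    rw [Subgroup.mem_centralizer_iff]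
    intro d hd
    have := commute_of_normalize_coprime P₁ (KK p H)
      (by rw [Subgroup.normalizer_eq_top]; exact le_top)
      (((KK_le_fittingSubgroup p).trans hFX).trans hXP₁)
      (by
        obtain ⟨k, hk⟩ := IsPGroup.iff_card.mp hP₁
        rw [hk]; exact (Nat.Coprime.pow_right k hKp.2).symm) x hx d (hFK hd)
    exact this.symm
  have hxF := hCF hxc
  obtain ⟨k, hk⟩ := hP₁ ⟨x, hx⟩
  have hk' : x ^ (p ^ k) = 1 := by
    have := congrArg Subtype.val hk
    simpa using this
  have := mem_pCore_of_mem_fittingSubgroup p hxF ⟨k, hk'⟩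
  rwa [hbot] at this

end main

end Cfsg.Agent.Helper10.BenderPair
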