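import Mathlib
import Cfsg.Prelude.Def_Local
import Cfsg.Agent.Lib.Helper10.BenderPair

set_option autoImplicit false

/-! Bender's theorem on primitive pairs: components, and the assembly. -/

namespace Cfsg.Agent.Helper10.BenderPair

open Cfsg Subgroup Cfsg.Agent.Helper7

universe u v

section comp

variable {H : Type u} [Group H] [Finite H]

/-- A component of a group `X` embedded in `H` over `F*(H)` maps into the layer of `H`. -/
theorem map_component_le_layer {X : Type v} [Group X] [Finite X] (j : X →* H)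
    (hj : Function.Injective j)
    (hF : Cfsg.generalizedFittingSubgroup H ≤ j.range) (K : Subgroup X)
    (hK : Cfsg.IsComponent K) : K.map j ≤ Cfsg.layer H := by
  set E' : Subgroup X := (Cfsg.layer H).comap j with hE'
  set F' : Subgroup X := (Cfsg.fittingSubgroup H).comap j with hF'
  have hE'n : E'.Normal := Subgroup.Normal.comap inferInstance j
  have hF'n : F'.Normal := Subgroup.Normal.comap inferInstance j
  rcases component_le_or_commutator_eq_bot' K E' hK hE'n.isSubnormal with h | h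
  · exact Subgroup.map_le_iff_le_comap.mpr h
  · exfalso
    have hsolv : Group.IsSolvable ↥F' := by
      have hnil : Group.IsNilpotent ↥(Cfsg.fittingSubgroup H) := fittingSubgroup_isNilpotent
      have hs : Group.IsSolvable ↥(Cfsg.fittingSubgroup H) := inferInstance
      let φ : ↥F' →* ↥(Cfsg.fittingSubgroup H) :=
        (j.comp F'.subtype).codRestrict (Cfsg.fittingSubgroup H) (fun x => x.2)
      have hφ : Function.Injective φ := by
        intro a b hab
        have := congrArg Subtype.val hab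
        exact Subtype.ext (hj this)
      exact Group.isSolvable_of_isSolvable_injective hφ
    have h2 : ⁅K, F'⁆ = ⊥ := component_commutator_solvable_eq_bot K F' hK hsolv
      (by rw [Subgroup.normalizer_eq_top]; exact le_top)
    have hKc : K.map j ≤ centralizer (Cfsg.generalizedFittingSubgroup H : Set H) := by
      rw [Subgroup.le_centralizer_iff]
      unfold Cfsg.generalizedFittingSubgroup
      apply sup_le
      · intro e he
        obtain ⟨e', rfl⟩ := hF (layer_le_generalizedFittingSubgroup he)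
        rw [Subgroup.mem_centralizer_iff]
        rintro _ ⟨k, hk, rfl⟩
        have h3 := Subgroup.commutator_eq_bot_iff_le_centralizer.mp h hk
        have h4 := Subgroup.mem_centralizer_iff.mp h3 e' (show e' ∈ E' from he)
        rw [← map_mul, ← map_mul, h4]
      · intro e he
        obtain ⟨e', rfl⟩ := hF (fittingSubgroup_le_generalizedFittingSubgroup he)
        rw [Subgroup.mem_centralizer_iff]
        rintro _ ⟨k, hk, rfl⟩
        have h3 := Subgroup.commutator_eq_bot_iff_le_centralizer.mp h2 hk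
        have h4 := Subgroup.mem_centralizer_iff.mp h3 e' (show e' ∈ F' from he)
        rw [← map_mul, ← map_mul, h4]
    have hKF : K.map j ≤ Cfsg.generalizedFittingSubgroup H :=
      hKc.trans centralizer_generalizedFittingSubgroup_le
    have hcomm : ∀ a b : ↥K, a * b = b * a := by
      intro a b
      have ha : j a ∈ centralizer (Cfsg.generalizedFittingSubgroup H : Set H) :=
        hKc ⟨a, a.2, rfl⟩
      have hb : j b ∈ Cfsg.generalizedFittingSubgroup H := hKF ⟨b, b.2, rfl⟩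
      have h5 := Subgroup.mem_centralizer_iff.mp ha (j b) hb
      apply Subtype.ext
      apply hj
      rw [Subgroup.coe_mul, Subgroup.coe_mul, map_mul, map_mul, h5]
    have : Group.IsSolvable ↥K := Group.isSolvable_of_comm (fun a b => hcomm a b)
    exact not_isSolvable_of_component hK this

end comp

end Cfsg.Agent.Helper10.BenderPair

namespace Cfsg.Agent.Helper10.BenderPair

open Cfsg Subgroup Cfsg.Agent.Helper7

universe w

section transl

variable {G : Type w} [Group G]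

theorem subgroupOf_le_normalizer_subgroupOf (M X A : Subgroup G)
    (h : X ≤ normalizer (A : Set G)) :
    X.subgroupOf M ≤ normalizer ((A.subgroupOf M : Subgroup ↥M) : Set ↥M) := by
  intro x hx
  rw [Subgroup.mem_normalizer_iff]
  intro y
  rw [Subgroup.mem_subgroupOf, Subgroup.mem_subgroupOf]
  exact Subgroup.mem_normalizer_iff.mp (h (Subgroup.mem_subgroupOf.mp hx)) y

theorem normalizer_subgroupOf_le (M A : Subgroup G) (hA : A ≤ M) :
    normalizer ((A.subgroupOf M : Subgroup ↥M) : Set ↥M) ≤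
      (normalizer (A : Set G)).subgroupOf M := by
  intro x hx
  rw [Subgroup.mem_subgroupOf, Subgroup.mem_normalizer_iff]
  intro y
  have hx' := Subgroup.mem_normalizer_iff.mp hx
  constructor
  · intro hy
    have := (hx' ⟨y, hA hy⟩).mp (Subgroup.mem_subgroupOf.mpr hy)
    exact Subgroup.mem_subgroupOf.mp this
  · intro hy
    have hyM : y ∈ M := by
      have h1 : (x : G) * y * (x : G)⁻¹ ∈ M := hA hy
      have h2 : y = (x : G)⁻¹ * ((x : G) * y * (x : G)⁻¹) * (x : G) := by group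
      rw [h2]
      exact M.mul_mem (M.mul_mem (M.inv_mem x.2) h1) x.2
    have := (hx' ⟨y, hyM⟩).mpr (Subgroup.mem_subgroupOf.mpr hy)
    exact Subgroup.mem_subgroupOf.mp this

/-- the image in `G` of a normal subgroup of `M` is normalized by `M` -/
theorem le_normalizer_map_subtype (M : Subgroup G) (N : Subgroup ↥M) [hN : N.Normal] :
    M ≤ normalizer ((N.map M.subtype : Subgroup G) : Set G) := by
  intro g hg
  rw [Subgroup.mem_normalizer_iff]
  intro h
  constructor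
  · rintro ⟨n, hn, rfl⟩
    exact ⟨⟨g, hg⟩ * n * ⟨g, hg⟩⁻¹, hN.conj_mem n hn ⟨g, hg⟩, rfl⟩
  · rintro ⟨n, hn, hne⟩
    refine ⟨⟨g, hg⟩⁻¹ * n * ⟨g, hg⟩, ?_, ?_⟩
    · have := hN.conj_mem n hn ⟨g, hg⟩⁻¹
      simpa using this
    · show (g : G)⁻¹ * (n : G) * g = h
      have : (n : G) = g * h * g⁻¹ := hne
      rw [this]; group

end transl

section assembly

variable {G : Type w} [Group G] [Finite G]

/-- `O_r(M)` inside `G` -/
def oR (r : ℕ) (M : Subgroup G) : Subgroup G := (Cfsg.pCore r ↥M).map M.subtype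

/-- `F*(M)` inside `G` -/
def fS (M : Subgroup G) : Subgroup G := (Cfsg.generalizedFittingSubgroup ↥M).map M.subtype

/-- `E(M)` inside `G` -/
def eL (M : Subgroup G) : Subgroup G := (Cfsg.layer ↥M).map M.subtype

theorem oR_le (r : ℕ) (M : Subgroup G) : oR r M ≤ M := by
  rintro _ ⟨x, -, rfl⟩; exact x.2

theorem oR_le_fS (r : ℕ) [Fact r.Prime] (M : Subgroup G) : oR r M ≤ fS M :=
  Subgroup.map_mono ((pCore_le_fittingSubgroup r).trans fittingSubgroup_le_generalizedFittingSubgroup)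

theorem le_normalizer_oR (r : ℕ) (M : Subgroup G) : M ≤ normalizer ((oR r M : Subgroup G) : Set G) := by
  have : (Cfsg.pCore r ↥M).Normal := Cfsg.Agent.Helper10.pCore_normal r
  exact le_normalizer_map_subtype M _

theorem isPGroup_oR (r : ℕ) [Fact r.Prime] (M : Subgroup G) : IsPGroup r ↥(oR r M) :=
  (Cfsg.Agent.Helper10.pCore_isPGroup r).map M.subtype

theorem oR_eq_bot_iff (r : ℕ) (M : Subgroup G) : oR r M = ⊥ ↔ Cfsg.pCore r ↥M = ⊥ :=
  Subgroup.map_eq_bot_iff_of_injective _ M.subtype_injective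

theorem mem_oR_iff (r : ℕ) (M : Subgroup G) (x : ↥M) : (x : G) ∈ oR r M ↔ x ∈ Cfsg.pCore r ↥M := by
  constructor
  · rintro ⟨y, hy, hxy⟩
    have : y = x := Subtype.ext hxy
    rwa [← this]
  · intro h; exact ⟨x, h, rfl⟩

/-- primitive pairs: no nontrivial subgroup of the intersection is normalized by both -/
theorem false_of_both_normalize {M₁ M₂ : Subgroup G} (hne : M₁ ≠ M₂)
    (hP : ∀ A : Subgroup G, A ≠ ⊥ → A ≤ M₁ ⊓ M₂ →
      (M₁ ≤ normalizer (A : Set G) → M₂ ⊓ normalizer (A : Set G) = M₁ ⊓ M₂) ∧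
      (M₂ ≤ normalizer (A : Set G) → M₁ ⊓ normalizer (A : Set G) = M₁ ⊓ M₂))
    (A : Subgroup G) (hA : A ≠ ⊥) (hAX : A ≤ M₁ ⊓ M₂) (h1 : M₁ ≤ normalizer (A : Set G))
    (h2 : M₂ ≤ normalizer (A : Set G)) : False := by
  obtain ⟨ha, hb⟩ := hP A hA hAX
  have e1 := ha h1
  have e2 := hb h2
  rw [inf_eq_left.mpr h2] at e1
  rw [inf_eq_left.mpr h1] at e2
  apply hne
  apply le_antisymm
  · rw [e2]; exact inf_le_right
  · rw [e1]; exact inf_le_left

theorem eL_le_eL (M₁ M₂ : Subgroup G) (h₁ : fS M₁ ≤ M₂) (h₂ : fS M₂ ≤ M₁) : eL M₁ ≤ eL M₂ := by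
  unfold eL
  rw [Subgroup.map_le_iff_le_comap]
  unfold Cfsg.layer
  apply sSup_le
  intro K hK
  change Cfsg.IsComponent K at hK
  set X₁ : Subgroup ↥M₁ := (M₁ ⊓ M₂).subgroupOf M₁ with hX₁
  have hKX : K ≤ X₁ := by
    intro x hx
    rw [hX₁, Subgroup.mem_subgroupOf]
    refine ⟨x.2, h₁ ?_⟩
    exact ⟨x, layer_le_generalizedFittingSubgroup (component_le_layer hK hx), rfl⟩
  have hKx : Cfsg.IsComponent (K.subgroupOf X₁) := isComponent_subgroupOf hKX hK
  let j : ↥X₁ →* ↥M₂ := ((M₁.subtype).comp X₁.subtype).codRestrict M₂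
    (fun x => (Subgroup.mem_subgroupOf.mp x.2).2)
  have hj : Function.Injective j := by
    intro a b hab
    have := congrArg Subtype.val hab
    exact Subtype.ext (Subtype.ext this)
  have hrange : Cfsg.generalizedFittingSubgroup ↥M₂ ≤ j.range := by
    intro y hy
    have hy1 : (y : G) ∈ M₁ := h₂ ⟨y, hy, rfl⟩
    refine ⟨⟨⟨y, hy1⟩, ?_⟩, ?_⟩
    · rw [hX₁, Subgroup.mem_subgroupOf]; exact ⟨hy1, y.2⟩
    · exact Subtype.ext rfl
  have hmain := map_component_le_layer j hj hrange _ hKx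
  intro x hx
  rw [Subgroup.mem_comap]
  have hx2 : (x : G) ∈ M₂ := (Subgroup.mem_subgroupOf.mp (hKX hx)).2
  refine ⟨⟨x, hx2⟩, ?_, rfl⟩
  apply hmain
  exact ⟨⟨x, hKX hx⟩, Subgroup.mem_subgroupOf.mpr hx, Subtype.ext rfl⟩

/-- In a primitive pair with `F*(M_i) ≤ M_j` neither group has a component. -/
theorem layer_eq_bot_of_pair {M₁ M₂ : Subgroup G} (hne : M₁ ≠ M₂)
    (hP : ∀ A : Subgroup G, A ≠ ⊥ → A ≤ M₁ ⊓ M₂ →
      (M₁ ≤ normalizer (A : Set G) → M₂ ⊓ normalizer (A : Set G) = M₁ ⊓ M₂) ∧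
      (M₂ ≤ normalizer (A : Set G) → M₁ ⊓ normalizer (A : Set G) = M₁ ⊓ M₂))
    (h₁ : fS M₁ ≤ M₂) (h₂ : fS M₂ ≤ M₁) :
    Cfsg.layer ↥M₁ = ⊥ ∧ Cfsg.layer ↥M₂ = ⊥ := by
  have e : eL M₁ = eL M₂ := le_antisymm (eL_le_eL M₁ M₂ h₁ h₂) (eL_le_eL M₂ M₁ h₂ h₁)
  have hE : eL M₁ = ⊥ := by
    by_contra hE
    apply false_of_both_normalize hne hP (eL M₁) hE
    · apply le_inf
      · rintro _ ⟨x, -, rfl⟩; exact x.2
      · rw [e]; rintro _ ⟨x, -, rfl⟩; exact x.2
    · exact le_normalizer_map_subtype M₁ _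
    · rw [e]; exact le_normalizer_map_subtype M₂ _
  refine ⟨(Subgroup.map_eq_bot_iff_of_injective _ M₁.subtype_injective).mp hE, ?_⟩
  rw [e] at hE
  exact (Subgroup.map_eq_bot_iff_of_injective _ M₂.subtype_injective).mp hE

/-- one-sided step: `O_q(M₂) ≤ O_q(M₁)` -/
theorem oR_le_oR {M₁ M₂ : Subgroup G}
    (hP2 : ∀ A : Subgroup G, A ≠ ⊥ → A ≤ M₁ ⊓ M₂ →
      (M₂ ≤ normalizer (A : Set G) → M₁ ⊓ normalizer (A : Set G) = M₁ ⊓ M₂))
    (hl₁ : Cfsg.layer ↥M₁ = ⊥) (h₁ : fS M₁ ≤ M₂) (h₂ : fS M₂ ≤ M₁)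
    {p q : ℕ} [hp : Fact p.Prime] [hq : Fact q.Prime] (hpq : p ≠ q) (hp2 : oR p M₂ ≠ ⊥) :
    oR q M₂ ≤ oR q M₁ := by
  have hP₂M₁ : oR p M₂ ≤ M₁ := (oR_le_fS p M₂).trans h₂
  have hTM₁ : oR q M₂ ≤ M₁ := (oR_le_fS q M₂).trans h₂
  have hP₂X : oR p M₂ ≤ M₁ ⊓ M₂ := le_inf hP₂M₁ (oR_le p M₂)
  have hXn : ∀ r : ℕ, M₁ ⊓ M₂ ≤ normalizer ((oR r M₂ : Subgroup G) : Set G) :=
    fun r => inf_le_right.trans (le_normalizer_oR r M₂)
  have hN := hP2 (oR p M₂) hp2 hP₂X (le_normalizer_oR p M₂)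
  have key := le_pCore_of_pair (H := ↥M₁) hl₁ ((M₁ ⊓ M₂).subgroupOf M₁)
    (by
      intro y hy
      rw [Subgroup.mem_subgroupOf]
      refine ⟨y.2, h₁ ⟨y, fittingSubgroup_le_generalizedFittingSubgroup hy, rfl⟩⟩)
    hpq ((oR p M₂).subgroupOf M₁)
    ((isPGroup_oR p M₂).comap_subtype)
    (subgroupOf_le_normalizer_subgroupOf M₁ _ _ (hXn p))
    (by
      refine (normalizer_subgroupOf_le M₁ _ hP₂M₁).trans ?_
      intro x hx
      rw [Subgroup.mem_subgroupOf] at hx ⊢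
      rw [← hN]
      exact ⟨x.2, hx⟩)
    ((oR q M₂).subgroupOf M₁)
    ((isPGroup_oR q M₂).comap_subtype)
    (subgroupOf_le_normalizer_subgroupOf M₁ _ _ (hXn q))
  intro h hh
  have h1 : (⟨h, hTM₁ hh⟩ : ↥M₁) ∈ (oR q M₂).subgroupOf M₁ := Subgroup.mem_subgroupOf.mpr hh
  exact (mem_oR_iff q M₁ ⟨h, hTM₁ hh⟩).mpr (key h1)

/-- the primes of `F(M₁)` divide `F(M₂)` -/
theorem oR_ne_bot_of_oR_ne_bot {M₁ M₂ : Subgroup G}
    (hl₂ : Cfsg.layer ↥M₂ = ⊥) (h₁ : fS M₁ ≤ M₂) (h₂ : fS M₂ ≤ M₁)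
    {p : ℕ} [hp : Fact p.Prime] (hp1 : oR p M₁ ≠ ⊥) : oR p M₂ ≠ ⊥ := by
  have hP₁M₂ : oR p M₁ ≤ M₂ := (oR_le_fS p M₁).trans h₁
  have key := pCore_ne_bot_of_pair (H := ↥M₂) hl₂ ((M₁ ⊓ M₂).subgroupOf M₂)
    (by
      intro y hy
      rw [Subgroup.mem_subgroupOf]
      refine ⟨h₂ ⟨y, fittingSubgroup_le_generalizedFittingSubgroup hy, rfl⟩, y.2⟩)
    ((oR p M₁).subgroupOf M₂)
    ((isPGroup_oR p M₁).comap_subtype)
    (subgroupOf_le_normalizer_subgroupOf M₂ _ _ (inf_le_left.trans (le_normalizer_oR p M₁)))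
    (by
      intro hbot
      apply hp1
      rw [eq_bot_iff]
      intro h hh
      have h1 : (⟨h, hP₁M₂ hh⟩ : ↥M₂) ∈ (oR p M₁).subgroupOf M₂ := Subgroup.mem_subgroupOf.mpr hh
      rw [hbot, Subgroup.mem_bot] at h1
      rw [Subgroup.mem_bot]
      exact congrArg Subtype.val h1)
  intro hbot
  exact key ((oR_eq_bot_iff p M₂).mp hbot)

end assembly

end Cfsg.Agent.Helper10.BenderPair
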