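import Mathlib
import Cfsg.Prelude.Def_ConjugacyFunctors
import Cfsg.Prelude.Def_PLocal
import Cfsg.Agent.Lib.Helper10.KWeak

set_option autoImplicit false

/-! The K-sequence of a `p`-group `P` relative to a subgroup `T` and a normal class-two subgroup
`A ≤ T` with `[T, A] ≤ Z(A)`, under two hypotheses on subgroups of `P`:

* `HU`: a subgroup acting quadratically on `A / Z(A)` and on `Z(A)` lies in `T`;
* `HL`: a class-two subgroup `B` normalized by `A`, with `Z(B) ≤ T`, that passes the test of the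
  lower-star family against every `B`-invariant subgroup `A₁ ≤ A` with `[B, A₁'] = 1`, lies in `T`.

Then all terms of the K-sequence (of nonnegative index) lie in `T`. -/

namespace Cfsg.Agent.Helper10

open Cfsg
open scoped commutatorElement

section core2

variable {P : Type*} [Group P] (A T : Subgroup P) [hAn : A.Normal]

variable (hA2 : ⁅A, A⁆ ≤ Subgroup.centralizer (A : Set P)) (hA3 : ⁅T, A⁆ ≤ zOf A)
  (HU : ∀ X : Subgroup P, ⁅⁅A, X⁆, X⁆ ≤ zOf A → ⁅⁅zOf A, X⁆, X⁆ = ⊥ → X ≤ T)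
  (HL : ∀ B : Subgroup P, ⁅B, B⁆ ≤ Subgroup.centralizer (B : Set P) → ⁅A, B⁆ ≤ B → zOf B ≤ T →
    (∀ A₁ : Subgroup P, A₁ ≤ A → B ≤ Subgroup.normalizer (A₁ : Set P) → ⁅B, ⁅A₁, A₁⁆⁆ = ⊥ →
      ⁅B, A₁⁆ ≤ zOf B) → B ≤ T)

include hA2 hA3 HU in
theorem ks_A_mem_lower (Q : Subgroup P) : A ∈ kLowerStarFamily Q := by
  haveI hZn : (zOf A).Normal := zOf_normal_of_normal A
  refine ⟨hA2, ?_, ?_⟩
  · rw [Subgroup.normalizer_eq_top_iff.mpr hAn]; exact le_top
  · intro A₁ hA₁ _ hAN hc1 hc2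
    have hA₁T : A₁ ≤ T := by
      apply HU A₁
      · have h1 : ⁅A, A₁⁆ ≤ A ⊓ A₁ :=
          le_inf (Subgroup.commutator_le_left A _)
            (Subgroup.le_normalizer_iff_commutator_le_right.mp hAN)
        refine le_inf ?_ ?_
        · exact (Subgroup.commutator_mono (h1.trans inf_le_left) le_rfl).trans
            (Subgroup.commutator_le_left A _)
        · have h3 : ⁅⁅A, A₁⁆, A₁⁆ ≤ ⁅A₁, A₁⁆ :=
            Subgroup.commutator_mono (h1.trans inf_le_right) le_rfl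
          have h4 : ⁅A₁, A₁⁆ ≤ Subgroup.centralizer (A : Set P) := by
            rw [← Subgroup.commutator_eq_bot_iff_le_centralizer, Subgroup.commutator_comm]
            exact hc1
          exact h3.trans h4
      · exact hc2
    rw [Subgroup.commutator_comm]
    exact (Subgroup.commutator_mono hA₁T le_rfl).trans hA3

include HU in
theorem ks_upper_le (Q : Subgroup P) (hAQ : A ≤ Q) (B : Subgroup P)
    (hB : B ∈ kUpperStarFamily Q) : B ≤ T := by
  have h1 : ⁅A, B⁆ ≤ zOf B := by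
    rw [Subgroup.commutator_comm]
    exact (Subgroup.commutator_mono le_rfl hAQ).trans hB.2
  have h2 : ⁅⁅A, B⁆, B⁆ = ⊥ := by
    rw [eq_bot_iff, ← zOf_comm_bot B]
    exact Subgroup.commutator_mono h1 le_rfl
  apply HU B
  · rw [h2]; exact bot_le
  · rw [eq_bot_iff, ← h2]
    exact Subgroup.commutator_mono (Subgroup.commutator_mono inf_le_left le_rfl) le_rfl

include hA2 hA3 HU HL in
theorem ks_lower_le (Q : Subgroup P) (hAQ : A ≤ Q) (B : Subgroup P)
    (hB : B ∈ kLowerStarFamily Q) : B ≤ T := by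
  haveI hZn : (zOf A).Normal := zOf_normal_of_normal A
  obtain ⟨hB2, hQB, htest⟩ := hB
  have hAB : ⁅A, B⁆ ≤ B := Subgroup.le_normalizer_iff_commutator_le_right.mp (hAQ.trans hQB)
  -- `Z(B) ≤ T`
  have hZBT : zOf B ≤ T := by
    have h1 : ⁅A, zOf B⁆ ≤ B := (Subgroup.commutator_mono le_rfl inf_le_left).trans hAB
    have h2 : ⁅⁅A, zOf B⁆, zOf B⁆ = ⊥ := by
      rw [eq_bot_iff]
      have : ⁅B, zOf B⁆ = ⊥ := by
        rw [Subgroup.commutator_comm]; exact zOf_comm_bot B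
      rw [← this]
      exact Subgroup.commutator_mono h1 le_rfl
    apply HU (zOf B)
    · rw [h2]; exact bot_le
    · rw [eq_bot_iff, ← h2]
      exact Subgroup.commutator_mono (Subgroup.commutator_mono inf_le_left le_rfl) le_rfl
  apply HL B hB2 hAB hZBT
  intro A₁ hA₁A hBN hc1
  apply htest A₁
  · show ⁅A₁, A₁⁆ ≤ Subgroup.centralizer (A₁ : Set P)
    exact (Subgroup.commutator_mono hA₁A hA₁A).trans
      (hA2.trans (Subgroup.centralizer_le (by exact_mod_cast hA₁A)))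
  · exact hA₁A.trans hAQ
  · exact hBN
  · exact hc1
  · rw [eq_bot_iff]
    have h1 : ⁅zOf B, A₁⁆ ≤ zOf A := (Subgroup.commutator_mono hZBT hA₁A).trans hA3
    have h2 : ⁅zOf A, A₁⁆ ≤ ⁅zOf A, A⁆ := Subgroup.commutator_mono le_rfl hA₁A
    rw [zOf_comm_bot A] at h2
    exact (Subgroup.commutator_mono h1 le_rfl).trans h2

include hA2 hA3 in
theorem ks_A_mem_upper (Q : Subgroup P) (hQT : Q ≤ T) : A ∈ kUpperStarFamily Q := by
  refine ⟨hA2, ?_⟩
  rw [Subgroup.commutator_comm]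
  exact (Subgroup.commutator_mono hQT le_rfl).trans hA3

include hA2 hA3 HU HL in
theorem ks_bounds : ∀ n : ℕ, (A ≤ kSeqEven P n ∧ kSeqEven P n ≤ T) ∧
    (A ≤ kSeqOdd P (n + 1) ∧ kSeqOdd P (n + 1) ≤ T) := by
  have stepE : ∀ n, A ≤ kSeqOdd P n → (A ≤ kSeqEven P n ∧ kSeqEven P n ≤ T) := by
    intro n h
    refine ⟨le_sSup (ks_A_mem_lower A T hA2 hA3 HU _), sSup_le ?_⟩
    intro B hB
    exact ks_lower_le A T hA2 hA3 HU HL _ h B hB
  have stepO : ∀ n, (A ≤ kSeqEven P n ∧ kSeqEven P n ≤ T) →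
      (A ≤ kSeqOdd P (n + 1) ∧ kSeqOdd P (n + 1) ≤ T) := by
    intro n h
    rw [kSeqOdd_succ_eq_kSeqEven]
    refine ⟨le_sSup (ks_A_mem_upper A T hA2 hA3 _ h.2), sSup_le ?_⟩
    intro B hB
    exact ks_upper_le A T HU _ h.1 B hB
  intro n
  induction n with
  | zero =>
    have h0 := stepE 0 (by rw [kSeqOdd_zero]; exact le_top)
    exact ⟨h0, stepO 0 h0⟩
  | succ n ih =>
    have h1 := stepE (n + 1) ih.2.1
    exact ⟨h1, stepO (n + 1) h1⟩

include hA2 hA3 HU HL in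
theorem ks_restrict :
    (kInfLower ↥T).map T.subtype = kInfLower P ∧ (kInfUpper ↥T).map T.subtype = kInfUpper P :=
  kInf_restrict T (fun n => ⟨(ks_bounds A T hA2 hA3 HU HL n).1.2,
    (ks_bounds A T hA2 hA3 HU HL n).2.2⟩)

end core2

end Cfsg.Agent.Helper10
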