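import Mathlib
import Cfsg.Prelude.Def_ConjugacyFunctors
import Cfsg.Prelude.Def_PLocal
import Cfsg.Agent.Lib.Helper10.Cores
import Cfsg.Agent.Lib.Helper10.SecFusion
import Cfsg.Agent.Lib.Helper9.PCoreSub

set_option autoImplicit false

/-! General lemmas on coprime action and `O_p` used for the normality of the K-infinity
subgroups in stable groups. -/

namespace Cfsg.Agent.Helper10

open Cfsg
open scoped commutatorElement

section gen

variable {G : Type*} [Group G] [Finite G] {p : ℕ} [hp : Fact p.Prime]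

/-- an element of order prime to `p` acting quadratically on a `p`-subgroup centralizes it -/
theorem commutator_eq_bot_of_coprime_quad (P : Subgroup G) (hP : IsPGroup p P) (y : G)
    (hy : y ∈ Subgroup.normalizer (P : Set G)) (hcop : (orderOf y).Coprime p)
    (hq : ⁅⁅P, Subgroup.zpowers y⁆, Subgroup.zpowers y⁆ = ⊥) :
    ⁅P, Subgroup.zpowers y⁆ = ⊥ := by
  rw [Subgroup.commutator_eq_bot_iff_le_centralizer]
  intro a ha
  have hcP : ⁅a, y⁆ ∈ P := by
    rw [commutatorElement_def]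
    have h1 : y * a⁻¹ * y⁻¹ ∈ P := (Subgroup.mem_normalizer_iff.mp hy a⁻¹).mp (P.inv_mem ha)
    have : a * y * a⁻¹ * y⁻¹ = a * (y * a⁻¹ * y⁻¹) := by group
    rw [this]
    exact P.mul_mem ha h1
  have hcc : ⁅a, y⁆ ∈ ⁅P, Subgroup.zpowers y⁆ :=
    Subgroup.commutator_mem_commutator ha (Subgroup.mem_zpowers y)
  have hcy : Commute ⁅a, y⁆ y := by
    have h1 : ⁅⁅a, y⁆, y⁆ ∈ ⁅⁅P, Subgroup.zpowers y⁆, Subgroup.zpowers y⁆ :=
      Subgroup.commutator_mem_commutator hcc (Subgroup.mem_zpowers y)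
    rw [hq, Subgroup.mem_bot] at h1
    exact commutatorElement_eq_one_iff_commute.mp h1
  have hconj : a * y * a⁻¹ = ⁅a, y⁆ * y := by
    rw [commutatorElement_def]; group
  have hpow : ⁅a, y⁆ ^ orderOf y = 1 := by
    have h1 : (a * y * a⁻¹) ^ orderOf y = 1 := by
      rw [conj_pow, pow_orderOf_eq_one]; group
    rw [hconj, hcy.mul_pow, pow_orderOf_eq_one, mul_one] at h1
    exact h1
  obtain ⟨k, hk⟩ := hP ⟨⁅a, y⁆, hcP⟩
  have hk' : ⁅a, y⁆ ^ p ^ k = 1 := by
    have := congrArg Subtype.val hk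
    simpa using this
  have h1 : orderOf ⁅a, y⁆ ∣ orderOf y := orderOf_dvd_of_pow_eq_one hpow
  have h2 : orderOf ⁅a, y⁆ ∣ p ^ k := orderOf_dvd_of_pow_eq_one hk'
  have h3 : orderOf ⁅a, y⁆ = 1 :=
    Nat.eq_one_of_dvd_coprimes (Nat.Coprime.pow_right k hcop) h1 h2
  have h4 : ⁅a, y⁆ = 1 := orderOf_eq_one_iff.mp h3
  have hay : Commute a y := commutatorElement_eq_one_iff_commute.mp h4
  rw [Subgroup.mem_centralizer_iff]
  intro h hh
  obtain ⟨m, rfl⟩ := Subgroup.mem_zpowers_iff.mp hh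
  exact ((hay.zpow_right m).eq).symm

/-- a subgroup all of whose elements of order prime to `p` are trivial is a `p`-group -/
theorem isPGroup_of_coprime_eq_one (K : Subgroup G)
    (h : ∀ y ∈ K, (orderOf y).Coprime p → y = 1) : IsPGroup p K := by
  rintro ⟨g, hg⟩
  have hn : orderOf g ≠ 0 := (orderOf_pos g).ne'
  obtain ⟨k, m, hm, hnm⟩ := Nat.exists_eq_pow_mul_and_not_dvd hn p hp.out.ne_one
  refine ⟨k, Subtype.ext ?_⟩
  show g ^ p ^ k = 1
  apply h _ (K.pow_mem hg _)
  have h1 : (g ^ p ^ k) ^ m = 1 := by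
    rw [← pow_mul, ← hnm, pow_orderOf_eq_one]
  have h2 : orderOf (g ^ p ^ k) ∣ m := orderOf_dvd_of_pow_eq_one h1
  have h3 : m.Coprime p := ((Nat.Prime.coprime_iff_not_dvd hp.out).mpr hm).symm
  exact Nat.Coprime.coprime_dvd_left h2 h3

/-- in a group with `C(O_p) ≤ O_p`, the centralizer of a normal subgroup `A ≤ O_p` with
`C_{O_p}(A) ≤ A` lies in `O_p` -/
theorem centralizer_le_pCore_of_critical
    (hcon : Subgroup.centralizer ((pCore p G : Subgroup G) : Set G) ≤ pCore p G)
    (A : Subgroup G) [hAn : A.Normal] (hAT : A ≤ pCore p G)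
    (hA4 : pCore p G ⊓ Subgroup.centralizer (A : Set G) ≤ A) :
    Subgroup.centralizer (A : Set G) ≤ pCore p G := by
  set T := pCore p G with hT
  haveI hTn : T.Normal := pCore_normal p
  have hTp : IsPGroup p T := pCore_isPGroup p
  haveI hCn : (Subgroup.centralizer (A : Set G)).Normal := Subgroup.normal_centralizer
  apply le_pCore' hCn
  apply isPGroup_of_coprime_eq_one
  intro y hy hcop
  have hz : Subgroup.zpowers y ≤ Subgroup.centralizer (A : Set G) := Subgroup.zpowers_le.mpr hy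
  have hAy : ⁅A, Subgroup.zpowers y⁆ = ⊥ := by
    rw [Subgroup.commutator_comm, Subgroup.commutator_eq_bot_iff_le_centralizer]
    exact hz
  have h1 : ⁅⁅T, A⁆, Subgroup.zpowers y⁆ = ⊥ := by
    rw [eq_bot_iff, ← hAy]
    exact Subgroup.commutator_mono (Subgroup.commutator_le_right T A) le_rfl
  have h2 : ⁅⁅A, Subgroup.zpowers y⁆, T⁆ = ⊥ := by
    rw [hAy, Subgroup.commutator_bot_left]
  have h3 : ⁅⁅Subgroup.zpowers y, T⁆, A⁆ = ⊥ :=
    Subgroup.commutator_commutator_eq_bot_of_rotate h1 h2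
  have h4 : ⁅T, Subgroup.zpowers y⁆ ≤ A := by
    apply le_trans _ hA4
    refine le_inf (Subgroup.commutator_le_left T _) ?_
    rw [Subgroup.commutator_comm, ← Subgroup.commutator_eq_bot_iff_le_centralizer]
    exact h3
  have h5 : ⁅⁅T, Subgroup.zpowers y⁆, Subgroup.zpowers y⁆ = ⊥ := by
    rw [eq_bot_iff, ← hAy]
    exact Subgroup.commutator_mono h4 le_rfl
  have hyN : y ∈ Subgroup.normalizer (T : Set G) := by
    rw [Subgroup.normalizer_eq_top_iff.mpr hTn]; exact Subgroup.mem_top y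
  have h6 := commutator_eq_bot_of_coprime_quad T hTp y hyN hcop h5
  have h7 : y ∈ T := by
    apply hcon
    have : Subgroup.zpowers y ≤ Subgroup.centralizer (T : Set G) := by
      rw [← Subgroup.commutator_eq_bot_iff_le_centralizer, Subgroup.commutator_comm]
      exact h6
    exact this (Subgroup.mem_zpowers y)
  obtain ⟨k, hk⟩ := hTp ⟨y, h7⟩
  have hk' : y ^ p ^ k = 1 := by
    have := congrArg Subtype.val hk
    simpa using this
  have h8 : orderOf y ∣ p ^ k := orderOf_dvd_of_pow_eq_one hk'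
  have h9 : orderOf y = 1 :=
    Nat.eq_one_of_dvd_coprimes (Nat.Coprime.pow_right k hcop) dvd_rfl h8
  exact orderOf_eq_one_iff.mp h9

/-- a `p`-subgroup normal in a subgroup normal in a normal subgroup lies in `O_p` -/
theorem pGroup_le_pCore_of_chain (Q K N : Subgroup G) [hN : N.Normal] (hQK : Q ≤ K) (hKN : K ≤ N)
    (hNK : N ≤ Subgroup.normalizer (K : Set G)) (hKQ : K ≤ Subgroup.normalizer (Q : Set G))
    (hQ : IsPGroup p Q) : Q ≤ pCore p G := by
  apply Cfsg.Agent.Helper9.subnormal_pGroup_le_pCore p Q _ hQ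
  have h1 : N.IsSubnormal := hN.isSubnormal
  have h2 : K.IsSubnormal :=
    Subgroup.IsSubnormal.step K N hKN h1 ((Subgroup.normal_subgroupOf_iff_le_normalizer hKN).mpr hNK)
  exact Subgroup.IsSubnormal.step Q K hQK h2
    ((Subgroup.normal_subgroupOf_iff_le_normalizer hQK).mpr hKQ)

end gen

end Cfsg.Agent.Helper10
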