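import Mathlib
import Cfsg.Agent.Lib.Helper10.KStab2

set_option autoImplicit false

/-! Groups that are central-by-`p`-group, and two consequences in the quotient by `O_p`. -/

namespace Cfsg.Agent.Helper10

open Cfsg
open scoped commutatorElement

section nil

variable {K : Type*} [Group K] [Finite K] {p : ℕ} [hp : Fact p.Prime]

/-- a finite group that is a `p`-group modulo its centre and has trivial `O_p` has no
nontrivial `p`-elements -/
theorem eq_one_of_pElement_of_central_pow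
    (hZ : ∀ x : K, ∃ k : ℕ, x ^ p ^ k ∈ Subgroup.center K) (hcore : pCore p K = ⊥)
    (u : K) (hu : ∃ k : ℕ, u ^ p ^ k = 1) : u = 1 := by
  have hquot : IsPGroup p (K ⧸ Subgroup.center K) := by
    intro x
    obtain ⟨x, rfl⟩ := QuotientGroup.mk_surjective x
    obtain ⟨k, hk⟩ := hZ x
    refine ⟨k, ?_⟩
    rw [← QuotientGroup.mk_pow]
    exact (QuotientGroup.eq_one_iff _).mpr hk
  haveI : Group.IsNilpotent (K ⧸ Subgroup.center K) := hquot.isNilpotent
  have hnil : Group.IsNilpotent K :=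
    Subgroup.isNilpotent_of_ker_le_center (QuotientGroup.mk' (Subgroup.center K))
      (by rw [QuotientGroup.ker_mk'])
  have hall := (Group.isNilpotent_of_finite_tfae (G := K)).out 0 3
  have hsyl : ∀ P : Sylow p K, (P : Subgroup K) = ⊥ := by
    intro P
    have hn : (P : Subgroup K).Normal := (hall.mp hnil) p hp P
    have : (P : Subgroup K) ≤ pCore p K := le_pCore' hn P.isPGroup'
    rw [hcore] at this
    exact le_bot_iff.mp this
  obtain ⟨k, hk⟩ := hu
  have hzp : IsPGroup p (Subgroup.zpowers u) := by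
    rintro ⟨g, hg⟩
    obtain ⟨n, rfl⟩ := Subgroup.mem_zpowers_iff.mp hg
    refine ⟨k, Subtype.ext ?_⟩
    show (u ^ n) ^ p ^ k = 1
    rw [← zpow_natCast, ← zpow_mul, mul_comm, zpow_mul, zpow_natCast, hk, one_zpow]
  obtain ⟨Q, hQ⟩ := hzp.exists_le_sylow
  have : u ∈ (Q : Subgroup K) := hQ (Subgroup.mem_zpowers u)
  rw [hsyl Q, Subgroup.mem_bot] at this
  exact this

end nil

section quot

variable {G : Type*} [Group G] [Finite G] {p : ℕ} [hp : Fact p.Prime]

/-- the `p`-core of a subgroup `K ≤ N ⊴ G` normalized by `N` is trivial when `O_p(G) = 1` -/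
theorem pCore_subgroup_eq_bot_of_chain (hG : pCore p G = ⊥) (K N : Subgroup G) [hN : N.Normal]
    (hKN : K ≤ N) (hNK : N ≤ Subgroup.normalizer (K : Set G)) : pCore p ↥K = ⊥ := by
  have hn : (pCore p ↥K).Normal := pCore_normal p
  have h1 : (pCore p ↥K).map K.subtype ≤ pCore p G := by
    apply pGroup_le_pCore_of_chain _ K N (Subgroup.map_subtype_le _) hKN hNK ?_
      ((pCore_isPGroup (G := ↥K) p).map _)
    have h2 := Subgroup.le_normalizer_map (f := K.subtype) (H := pCore p ↥K)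
    rw [Subgroup.normalizer_eq_top_iff.mpr hn, ← MonoidHom.range_eq_map,
      Subgroup.range_subtype] at h2
    exact h2
  rw [hG] at h1
  exact (Subgroup.map_eq_bot_iff_of_injective _ K.subtype_injective).mp (le_bot_iff.mp h1)

/-- Let `L` and `C` be normal subgroups of `G` with `[C, L] ≤ O_p(G)` such that every element
of `L` has a `p`-power in `C`. Then every `p`-element of `L` lies in `O_p(G)`. -/
theorem pElement_mem_pCore_of_central_mod (L C : Subgroup G) [hL : L.Normal]
    (hCL : ⁅C, L⁆ ≤ pCore p G) (hpow : ∀ x ∈ L, ∃ k : ℕ, x ^ p ^ k ∈ C)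
    (b : G) (hbL : b ∈ L) (hb : ∃ k : ℕ, b ^ p ^ k = 1) : b ∈ pCore p G := by
  have hTn : (pCore p G).Normal := pCore_normal p
  set π := QuotientGroup.mk' (pCore p G) with hπ
  have hπs : Function.Surjective π := QuotientGroup.mk'_surjective _
  have hG' : pCore p (G ⧸ pCore p G) = ⊥ := pCore_quotient_pCore p G
  set K : Subgroup (G ⧸ pCore p G) := L.map π with hK
  have hKn : K.Normal := Subgroup.Normal.map hL π hπs
  have hcoreK : pCore p ↥K = ⊥ :=
    pCore_subgroup_eq_bot_of_chain hG' K K le_rfl Subgroup.le_normalizer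
  have hZ : ∀ x : ↥K, ∃ k : ℕ, x ^ p ^ k ∈ Subgroup.center ↥K := by
    rintro ⟨_, ⟨x, hx, rfl⟩⟩
    obtain ⟨k, hk⟩ := hpow x hx
    refine ⟨k, ?_⟩
    rw [Subgroup.mem_center_iff]
    rintro ⟨_, ⟨l, hl, rfl⟩⟩
    apply Subtype.ext
    show π l * (π x) ^ p ^ k = (π x) ^ p ^ k * π l
    rw [← map_pow, ← map_mul, ← map_mul]
    have h1 : ⁅x ^ p ^ k, l⁆ ∈ pCore p G := hCL (Subgroup.commutator_mem_commutator hk hl)
    have h2 : π ⁅x ^ p ^ k, l⁆ = 1 := (QuotientGroup.eq_one_iff _).mpr h1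
    rw [map_commutatorElement, commutatorElement_eq_one_iff_mul_comm] at h2
    rw [map_mul, map_mul]
    exact h2.symm
  obtain ⟨k, hk⟩ := hb
  have h3 := eq_one_of_pElement_of_central_pow hZ hcoreK
    (⟨π b, Subgroup.mem_map_of_mem π hbL⟩ : ↥K) ⟨k, by
      apply Subtype.ext
      show (π b) ^ p ^ k = 1
      rw [← map_pow, hk, map_one]⟩
  have h4 : π b = 1 := congrArg Subtype.val h3
  exact (QuotientGroup.eq_one_iff _).mp h4

/-- Let `C ⊴ G`, `B` a `p`-subgroup and `Y ≤ C` a subgroup normalized by `C` and `B` with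
`[Y, B] ≤ O_p(G)`, such that every element of `[C, B]` has a `p`-power in `Y`. Then
`[C, B] ≤ O_p(G)`. -/
theorem commutator_le_pCore_of_central_mod (C B Y : Subgroup G) [hC : C.Normal]
    (hBp : IsPGroup p B) (hYC : Y ≤ C)
    (hCY : C ≤ Subgroup.normalizer (Y : Set G)) (hBY : B ≤ Subgroup.normalizer (Y : Set G))
    (hYB : ⁅Y, B⁆ ≤ pCore p G) (hpow : ∀ x ∈ ⁅C, B⁆, ∃ k : ℕ, x ^ p ^ k ∈ Y) :
    ⁅C, B⁆ ≤ pCore p G := by
  have hTn : (pCore p G).Normal := pCore_normal p
  set π := QuotientGroup.mk' (pCore p G) with hπ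
  have hπs : Function.Surjective π := QuotientGroup.mk'_surjective _
  have hG' : pCore p (G ⧸ pCore p G) = ⊥ := pCore_quotient_pCore p G
  set X := ⁅C, B⁆ with hX
  have hXC : X ≤ C := Subgroup.commutator_le_left C B
  have hCX : C ≤ Subgroup.normalizer (X : Set G) := Subgroup.normalizer_commutator_ge_left C B
  -- the elements centralizing `Y` modulo `O_p(G)`
  set Cen : Subgroup G :=
    (Subgroup.centralizer ((Y.map π : Subgroup (G ⧸ pCore p G)) : Set (G ⧸ pCore p G))).comap π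
    with hCen
  have hmemCen : ∀ g : G, g ∈ Cen ↔ ∀ y ∈ Y, π y * π g = π g * π y := by
    intro g
    rw [hCen, Subgroup.mem_comap, Subgroup.mem_centralizer_iff]
    constructor
    · intro h y hy
      exact h (π y) (Subgroup.mem_map_of_mem π hy)
    · rintro h _ ⟨y, hy, rfl⟩
      exact h y hy
  have hBCen : B ≤ Cen := by
    intro b hb
    rw [hmemCen]
    intro y hy
    have h1 : ⁅y, b⁆ ∈ pCore p G := hYB (Subgroup.commutator_mem_commutator hy hb)
    have h2 : π ⁅y, b⁆ = 1 := (QuotientGroup.eq_one_iff _).mpr h1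
    rw [map_commutatorElement, commutatorElement_eq_one_iff_mul_comm] at h2
    exact h2
  have hCCen : ∀ c ∈ C, ∀ g ∈ Cen, c * g * c⁻¹ ∈ Cen := by
    intro c hc g hg
    rw [hmemCen] at hg ⊢
    intro y hy
    have hy' : c⁻¹ * y * c ∈ Y := by
      have := (Subgroup.mem_normalizer_iff.mp (Subgroup.inv_mem _ (hCY hc)) y).mp hy
      simpa using this
    have h1 := hg _ hy'
    have e1 : π y = π c * π (c⁻¹ * y * c) * (π c)⁻¹ := by
      rw [← map_inv, ← map_mul, ← map_mul]; congr 1; group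
    have e2 : π (c * g * c⁻¹) = π c * π g * (π c)⁻¹ := by
      rw [map_mul, map_mul, map_inv]
    rw [e1, e2]
    calc π c * π (c⁻¹ * y * c) * (π c)⁻¹ * (π c * π g * (π c)⁻¹)
        = π c * (π (c⁻¹ * y * c) * π g) * (π c)⁻¹ := by group
      _ = π c * (π g * π (c⁻¹ * y * c)) * (π c)⁻¹ := by rw [h1]
      _ = π c * π g * (π c)⁻¹ * (π c * π (c⁻¹ * y * c) * (π c)⁻¹) := by group
  have hXCen : X ≤ Cen := by
    rw [hX, Subgroup.commutator_le]
    intro c hc b hb
    rw [commutatorElement_def]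
    exact Cen.mul_mem (hCCen c hc b (hBCen hb)) (Cen.inv_mem (hBCen hb))
  -- the image of `X`
  set K : Subgroup (G ⧸ pCore p G) := X.map π with hK
  set Cb : Subgroup (G ⧸ pCore p G) := C.map π with hCb
  have hCbn : Cb.Normal := Subgroup.Normal.map hC π hπs
  have hKCb : K ≤ Cb := Subgroup.map_mono hXC
  have hCbK : Cb ≤ Subgroup.normalizer (K : Set (G ⧸ pCore p G)) := by
    refine le_trans (Subgroup.map_mono hCX) ?_
    exact Subgroup.le_normalizer_map π
  have hcoreK : pCore p ↥K = ⊥ := pCore_subgroup_eq_bot_of_chain hG' K Cb hKCb hCbK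
  have hZ : ∀ x : ↥K, ∃ k : ℕ, x ^ p ^ k ∈ Subgroup.center ↥K := by
    rintro ⟨_, ⟨x, hx, rfl⟩⟩
    obtain ⟨k, hk⟩ := hpow x hx
    refine ⟨k, ?_⟩
    rw [Subgroup.mem_center_iff]
    rintro ⟨_, ⟨l, hl, rfl⟩⟩
    apply Subtype.ext
    show π l * (π x) ^ p ^ k = (π x) ^ p ^ k * π l
    rw [← map_pow]
    exact ((hmemCen l).mp (hXCen hl) _ hk).symm
  have hKp : ∀ u ∈ K, (∃ k : ℕ, u ^ p ^ k = 1) → u = 1 := by
    intro u hu ⟨k, hk⟩
    have h3 := eq_one_of_pElement_of_central_pow hZ hcoreK (⟨u, hu⟩ : ↥K) ⟨k, by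
      apply Subtype.ext
      show u ^ p ^ k = 1
      exact hk⟩
    exact congrArg Subtype.val h3
  -- every element of `K` lies in the image of `Y`
  have hKY : ∀ x ∈ X, ∀ b ∈ B, π x * π b = π b * π x := by
    intro x hx b hb
    obtain ⟨k, hk⟩ := hpow x hx
    -- the order of `π x` is prime to `p`
    have hcop : (p ^ k).Coprime (orderOf (π x)) := by
      apply Nat.Coprime.pow_left
      rw [Nat.Prime.coprime_iff_not_dvd hp.out]
      intro hdvd
      obtain ⟨m, hm⟩ := hdvd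
      have h1 : ((π x) ^ m) ^ p ^ 1 = 1 := by
        rw [pow_one, ← pow_mul, mul_comm, ← hm, pow_orderOf_eq_one]
      have h2 : (π x) ^ m = 1 :=
        hKp _ (K.pow_mem (Subgroup.mem_map_of_mem π hx) m) ⟨1, h1⟩
      have h3 : orderOf (π x) ∣ m := orderOf_dvd_of_pow_eq_one h2
      have h4 : 0 < orderOf (π x) := orderOf_pos _
      have h5 : 0 < m := by
        rcases Nat.eq_zero_or_pos m with h | h
        · rw [h, mul_zero] at hm; omega
        · exact h
      have h6 : orderOf (π x) ≤ m := Nat.le_of_dvd h5 h3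
      have h7 : 2 ≤ p := hp.out.two_le
      nlinarith
    obtain ⟨m, hm⟩ := exists_pow_eq_self_of_coprime hcop
    have h1 := (hmemCen b).mp (hBCen hb) _ hk
    rw [map_pow] at h1
    have h2 : Commute ((π x) ^ p ^ k) (π b) := h1
    have h3 : Commute (((π x) ^ p ^ k) ^ m) (π b) := h2.pow_left m
    rw [hm] at h3
    exact h3.eq
  rw [hX, Subgroup.commutator_le]
  intro c hc b hb
  have hx : ⁅c, b⁆ ∈ X := Subgroup.commutator_mem_commutator hc hb
  obtain ⟨j, hj⟩ := hBp ⟨b, hb⟩
  have hj' : b ^ p ^ j = 1 := by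
    have := congrArg Subtype.val hj
    simpa using this
  have hconj : π c * π b * (π c)⁻¹ = π ⁅c, b⁆ * π b := by
    rw [map_commutatorElement, commutatorElement_def]; group
  have hcomm : Commute (π ⁅c, b⁆) (π b) := hKY _ hx b hb
  have h1 : (π c * π b * (π c)⁻¹) ^ p ^ j = 1 := by
    rw [conj_pow, ← map_pow, hj', map_one]; group
  rw [hconj, hcomm.mul_pow, ← map_pow π b, hj', map_one, mul_one] at h1
  have h2 : π ⁅c, b⁆ = 1 := hKp _ (Subgroup.mem_map_of_mem π hx) ⟨j, h1⟩
  exact (QuotientGroup.eq_one_iff _).mp h2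

end quot

end Cfsg.Agent.Helper10
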