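import Mathlib
import Cfsg.Agent.Lib.Helper10.KStab1
import Cfsg.Agent.Lib.Helper10.KStab3
import Cfsg.Agent.Lib.Helper1.CommutatorBasic

set_option autoImplicit false

/-! Ambient stability and the hypotheses `HU` of `KStab1` for a group with `C(O_p) ≤ O_p`. -/

namespace Cfsg.Agent.Helper10

open Cfsg
open scoped commutatorElement

/-- Ambient form of `p`-stability for all sections `M / D₀` of `G` acting on normal `p`-sections
`D / D₀`: the quadratically acting `p`-elements of `M` lie in a normal subgroup `R` of `M` whose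
elements of order prime to `p` centralize `D / D₀`. -/
def AmbStab (p : ℕ) (G : Type*) [Group G] : Prop :=
  ∀ (M D D₀ : Subgroup G), D₀ ≤ D → D ≤ M → M ≤ Subgroup.normalizer (D : Set G) →
    M ≤ Subgroup.normalizer (D₀ : Set G) → IsPGroup p D →
    ∃ R : Subgroup G, R ≤ M ∧ M ≤ Subgroup.normalizer (R : Set G) ∧
      (∀ y ∈ R, (orderOf y).Coprime p → ⁅D, Subgroup.zpowers y⁆ ≤ D₀) ∧
      (∀ g ∈ M, (∃ k : ℕ, g ^ p ^ k = 1) →
        ⁅⁅D, Subgroup.zpowers g⁆, Subgroup.zpowers g⁆ ≤ D₀ → g ∈ R)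

section small

variable {G : Type*} [Group G]

theorem normalizer_inf_le (X Y : Subgroup G) :
    Subgroup.normalizer (X : Set G) ⊓ Subgroup.normalizer (Y : Set G) ≤
      Subgroup.normalizer ((X ⊓ Y : Subgroup G) : Set G) := by
  intro g hg
  have h1 := Subgroup.mem_normalizer_iff.mp hg.1
  have h2 := Subgroup.mem_normalizer_iff.mp hg.2
  rw [Subgroup.mem_normalizer_iff]
  intro h
  rw [Subgroup.mem_inf, Subgroup.mem_inf, ← h1 h, ← h2 h]

theorem conj_mem_commNormSubgroup {N Q : Subgroup G} {g u : G}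
    (hN : g ∈ Subgroup.normalizer (N : Set G)) (hQ : g ∈ Subgroup.normalizer (Q : Set G))
    (hu : u ∈ commNormSubgroup N Q) : g * u * g⁻¹ ∈ commNormSubgroup N Q := by
  obtain ⟨hu1, hu2⟩ := hu
  refine ⟨Subgroup.mul_mem _ (Subgroup.mul_mem _ hN hu1) (Subgroup.inv_mem _ hN), ?_⟩
  intro q hq
  have hq' : g⁻¹ * q * g ∈ Q := by
    have := (Subgroup.mem_normalizer_iff.mp (Subgroup.inv_mem _ hQ) q).mp hq
    simpa using this
  have h1 := hu2 _ hq'
  have h2 := (Subgroup.mem_normalizer_iff.mp hN _).mp h1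
  have e : ⁅g * u * g⁻¹, q⁆ = g * ⁅u, g⁻¹ * q * g⁆ * g⁻¹ := by
    simp only [commutatorElement_def]; group
  rw [e]
  exact h2

theorem mem_normalizer_commNormSubgroup {N Q : Subgroup G} {g : G}
    (hN : g ∈ Subgroup.normalizer (N : Set G)) (hQ : g ∈ Subgroup.normalizer (Q : Set G)) :
    g ∈ Subgroup.normalizer ((commNormSubgroup N Q : Subgroup G) : Set G) := by
  rw [Subgroup.mem_normalizer_iff]
  intro u
  constructor
  · exact conj_mem_commNormSubgroup hN hQ
  · intro h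
    have := conj_mem_commNormSubgroup (Subgroup.inv_mem _ hN) (Subgroup.inv_mem _ hQ) h
    simpa [mul_assoc] using this

theorem eq_one_of_pow_eq_one_of_coprime {p : ℕ} {y : G} {k : ℕ} (hk : y ^ p ^ k = 1)
    (hcop : (orderOf y).Coprime p) : y = 1 := by
  have h8 : orderOf y ∣ p ^ k := orderOf_dvd_of_pow_eq_one hk
  have h9 : orderOf y = 1 :=
    Nat.eq_one_of_dvd_coprimes (Nat.Coprime.pow_right k hcop) dvd_rfl h8
  exact orderOf_eq_one_iff.mp h9

theorem eq_one_of_mem_pGroup_of_coprime {p : ℕ} {T : Subgroup G} (hT : IsPGroup p T) {y : G}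
    (hy : y ∈ T) (hcop : (orderOf y).Coprime p) : y = 1 := by
  obtain ⟨k, hk⟩ := hT ⟨y, hy⟩
  have hk' : y ^ p ^ k = 1 := by
    have := congrArg Subtype.val hk
    simpa using this
  exact eq_one_of_pow_eq_one_of_coprime hk' hcop

theorem pElement_of_mem_pGroup {p : ℕ} {B : Subgroup G} (hB : IsPGroup p B) {g : G}
    (hg : g ∈ B) : ∃ k : ℕ, g ^ p ^ k = 1 := by
  obtain ⟨k, hk⟩ := hB ⟨g, hg⟩
  refine ⟨k, ?_⟩
  have := congrArg Subtype.val hk
  simpa using this

theorem zpowers_le_of_mem {H : Subgroup G} {g : G} (hg : g ∈ H) : Subgroup.zpowers g ≤ H :=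
  Subgroup.zpowers_le.mpr hg

theorem mem_centralizer_of_commutator_zpowers_eq_bot {D : Subgroup G} {y : G}
    (h : ⁅D, Subgroup.zpowers y⁆ = ⊥) : y ∈ Subgroup.centralizer (D : Set G) := by
  rw [Subgroup.commutator_comm, Subgroup.commutator_eq_bot_iff_le_centralizer] at h
  exact h (Subgroup.mem_zpowers y)

end small

section HU

variable {G : Type*} [Group G] [Finite G] {p : ℕ} [hp : Fact p.Prime]

theorem stab_HU (hcon : Subgroup.centralizer ((pCore p G : Subgroup G) : Set G) ≤ pCore p G)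
    (hst : AmbStab p G) (A : Subgroup G) [hAn : A.Normal] (hAT : A ≤ pCore p G)
    (hA4 : pCore p G ⊓ Subgroup.centralizer (A : Set G) ≤ zOf A)
    (X : Subgroup G) (hXp : IsPGroup p X) (h1 : ⁅⁅A, X⁆, X⁆ ≤ zOf A)
    (h2 : ⁅⁅zOf A, X⁆, X⁆ = ⊥) : X ≤ pCore p G := by
  have hTp : IsPGroup p (pCore p G) := pCore_isPGroup p
  have hAp : IsPGroup p A := hTp.to_le hAT
  have hZn : (zOf A).Normal := zOf_normal_of_normal A
  have hNA : Subgroup.normalizer (A : Set G) = ⊤ := Subgroup.normalizer_eq_top_iff.mpr hAn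
  have hNZ : Subgroup.normalizer ((zOf A : Subgroup G) : Set G) = ⊤ :=
    Subgroup.normalizer_eq_top_iff.mpr hZn
  have hNbot : Subgroup.normalizer (((⊥ : Subgroup G) : Subgroup G) : Set G) = ⊤ :=
    Subgroup.normalizer_eq_top_iff.mpr inferInstance
  obtain ⟨R₁, -, hR₁n, hR₁c, hR₁q⟩ := hst ⊤ (zOf A) ⊥ bot_le le_top (by rw [hNZ])
    (by rw [hNbot]) (hAp.to_le inf_le_left)
  obtain ⟨R₂, -, hR₂n, hR₂c, hR₂q⟩ := hst ⊤ A (zOf A) inf_le_left le_top (by rw [hNA])
    (by rw [hNZ]) hAp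
  have hRn : (R₁ ⊓ R₂).Normal := by
    rw [← Subgroup.normalizer_eq_top_iff, eq_top_iff]
    exact (le_inf hR₁n hR₂n).trans (normalizer_inf_le R₁ R₂)
  have hRp : IsPGroup p (R₁ ⊓ R₂ : Subgroup G) := by
    apply isPGroup_of_coprime_eq_one
    intro y hy hcop
    have e1 : ⁅zOf A, Subgroup.zpowers y⁆ = ⊥ := le_bot_iff.mp (hR₁c y hy.1 hcop)
    have e2 : ⁅A, Subgroup.zpowers y⁆ ≤ zOf A := hR₂c y hy.2 hcop
    have e3 : ⁅⁅A, Subgroup.zpowers y⁆, Subgroup.zpowers y⁆ = ⊥ := by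
      rw [eq_bot_iff, ← e1]
      exact Subgroup.commutator_mono e2 le_rfl
    have e4 := commutator_eq_bot_of_coprime_quad A hAp y (by rw [hNA]; exact Subgroup.mem_top y)
      hcop e3
    have e5 : y ∈ pCore p G :=
      centralizer_le_pCore_of_critical hcon A hAT (hA4.trans inf_le_left)
        (mem_centralizer_of_commutator_zpowers_eq_bot e4)
    exact eq_one_of_mem_pGroup_of_coprime hTp e5 hcop
  refine le_trans ?_ (le_pCore' hRn hRp)
  intro g hg
  have hz : Subgroup.zpowers g ≤ X := zpowers_le_of_mem hg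
  have hgp := pElement_of_mem_pGroup hXp hg
  refine ⟨hR₁q g (Subgroup.mem_top g) hgp ?_, hR₂q g (Subgroup.mem_top g) hgp ?_⟩
  · rw [← h2]
    exact Subgroup.commutator_mono (Subgroup.commutator_mono le_rfl hz) hz
  · exact (Subgroup.commutator_mono (Subgroup.commutator_mono le_rfl hz) hz).trans h1

end HU

end Cfsg.Agent.Helper10
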