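import Mathlib
import Cfsg.Agent.Lib.Helper10.KStab4
import Cfsg.Agent.Lib.Helper4.QdFree
import Cfsg.Agent.Lib.Helper4.ZJCore

set_option autoImplicit false

/-! Ambient stability `AmbStab` from stability of all sections, in particular for groups not
involving `Qd(p)`. -/

namespace Cfsg.Agent.Helper10

open Cfsg
open scoped commutatorElement

section amb

variable {G : Type*} [Group G] [Finite G] {p : ℕ} [hp : Fact p.Prime]

theorem le_normalizer_map_subtype_normal {M : Subgroup G} (N : Subgroup ↥M) [hN : N.Normal] :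
    M ≤ Subgroup.normalizer ((N.map M.subtype : Subgroup G) : Set G) := by
  intro m hm
  have h1 : (⟨m, hm⟩ : ↥M) ∈ Subgroup.normalizer (N : Set ↥M) := by
    rw [Subgroup.normalizer_eq_top_iff.mpr hN]; trivial
  have := Subgroup.le_normalizer_map M.subtype (H := N) ⟨⟨m, hm⟩, h1, rfl⟩
  exact this

/-- The quadratic-element form of stability in every section gives the ambient form. -/
theorem ambStab_of_sections
    (h : ∀ (M N : Subgroup G) (hN : (N.subgroupOf M).Normal),
      Cfsg.Agent.Helper4.ZJ.Stab p (↥M ⧸ N.subgroupOf M)) : AmbStab p G := by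
  intro M D D₀ hD₀D hDM hMD hMD₀ hDp
  have hN : (D₀.subgroupOf M).Normal := Subgroup.normal_subgroupOf_of_le_normalizer hMD₀
  have hst := h M D₀ hN
  set φ : ↥M →* ↥M ⧸ D₀.subgroupOf M := QuotientGroup.mk' (D₀.subgroupOf M) with hφ
  have hφs : Function.Surjective φ := QuotientGroup.mk'_surjective _
  have hker : φ.ker = D₀.subgroupOf M := QuotientGroup.ker_mk' _
  set V : Subgroup (↥M ⧸ D₀.subgroupOf M) := (D.subgroupOf M).map φ with hV
  have hDMn : (D.subgroupOf M).Normal := Subgroup.normal_subgroupOf_of_le_normalizer hMD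
  haveI hVn : V.Normal := Subgroup.Normal.map hDMn φ hφs
  have hDMp : IsPGroup p ↥(D.subgroupOf M) := by
    have h0 : IsPGroup p ↥((D.subgroupOf M).map M.subtype) := by
      rw [Subgroup.map_subgroupOf_eq_of_le hDM]; exact hDp
    intro x
    obtain ⟨k, hk⟩ := h0 ⟨M.subtype x.1, ⟨x.1, x.2, rfl⟩⟩
    refine ⟨k, ?_⟩
    have h1 := congrArg Subtype.val hk
    simp only [Subgroup.coe_pow, Subgroup.coe_one] at h1
    apply Subtype.ext
    apply Subtype.ext
    simpa using h1
  have hVp : IsPGroup p V := hDMp.map φ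
  set C := Subgroup.centralizer (V : Set (↥M ⧸ D₀.subgroupOf M)) with hC
  set ψ : (↥M ⧸ D₀.subgroupOf M) →* (↥M ⧸ D₀.subgroupOf M) ⧸ C := QuotientGroup.mk' C with hψ
  set R' : Subgroup ↥M := (pCore p ((↥M ⧸ D₀.subgroupOf M) ⧸ C)).comap (ψ.comp φ) with hR'
  haveI hR'n : R'.Normal := by
    haveI : (pCore p ((↥M ⧸ D₀.subgroupOf M) ⧸ C)).Normal := pCore_normal p
    exact Subgroup.Normal.comap inferInstance _
  refine ⟨R'.map M.subtype, Subgroup.map_subtype_le _, le_normalizer_map_subtype_normal R', ?_, ?_⟩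
  · rintro y ⟨y', hy', rfl⟩ hcop
    have h1 : ψ (φ y') ∈ pCore p ((↥M ⧸ D₀.subgroupOf M) ⧸ C) := hy'
    have h2 : (orderOf (ψ (φ y'))).Coprime p := by
      have h3 : orderOf (ψ (φ y')) ∣ orderOf (M.subtype y') := by
        rw [orderOf_injective M.subtype M.subtype_injective]
        exact (orderOf_map_dvd ψ _).trans (orderOf_map_dvd φ _)
      exact Nat.Coprime.coprime_dvd_left h3 hcop
    have h4 : ψ (φ y') = 1 := eq_one_of_mem_pGroup_of_coprime (pCore_isPGroup p) h1 h2
    have h5 : φ y' ∈ C := by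
      have : φ y' ∈ ψ.ker := h4
      rwa [hψ, QuotientGroup.ker_mk'] at this
    rw [Subgroup.commutator_le]
    intro d hd z hz
    obtain ⟨k, rfl⟩ := Subgroup.mem_zpowers_iff.mp hz
    have hdM : d ∈ M := hDM hd
    have h6 : φ ⟨d, hdM⟩ ∈ V := ⟨⟨d, hdM⟩, hd, rfl⟩
    have h7 : φ (y' ^ k) ∈ C := by
      rw [map_zpow]; exact Subgroup.zpow_mem _ h5 k
    have h8 : φ ⁅(⟨d, hdM⟩ : ↥M), y' ^ k⁆ = 1 := by
      rw [map_commutatorElement, commutatorElement_eq_one_iff_commute]
      exact (Subgroup.mem_centralizer_iff.mp h7 _ h6)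
    have h9 : ⁅(⟨d, hdM⟩ : ↥M), y' ^ k⁆ ∈ D₀.subgroupOf M := by
      rw [← hker]; exact h8
    have h10 := Subgroup.mem_subgroupOf.mp h9
    have h11 : ((⁅(⟨d, hdM⟩ : ↥M), y' ^ k⁆ : ↥M) : G) = ⁅d, (M.subtype y') ^ k⁆ := by
      simp [commutatorElement_def]
    rw [h11] at h10
    exact h10
  · intro g hg hgp hq
    set g' : ↥M := ⟨g, hg⟩ with hg'
    have hzp : (Subgroup.zpowers g').map M.subtype = Subgroup.zpowers g := by
      rw [MonoidHom.map_zpowers]; rfl
    have hDm : (D.subgroupOf M).map M.subtype = D := Subgroup.map_subgroupOf_eq_of_le hDM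
    have h1 : ⁅⁅D.subgroupOf M, Subgroup.zpowers g'⁆, Subgroup.zpowers g'⁆ ≤ D₀.subgroupOf M := by
      rw [← Subgroup.map_le_map_iff_of_injective M.subtype_injective, Subgroup.map_commutator,
        Subgroup.map_commutator, hzp, hDm, Subgroup.map_subgroupOf_eq_of_le (hD₀D.trans hDM)]
      exact hq
    have h2 : ⁅⁅V, Subgroup.zpowers (φ g')⁆, Subgroup.zpowers (φ g')⁆ = ⊥ := by
      rw [hV, ← MonoidHom.map_zpowers, ← Subgroup.map_commutator, ← Subgroup.map_commutator,
        eq_bot_iff]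
      rw [Subgroup.map_le_iff_le_comap]
      intro x hx
      rw [Subgroup.mem_comap, Subgroup.mem_bot]
      have hx' : x ∈ φ.ker := by rw [hker]; exact h1 hx
      exact hx'
    have h3 : ∃ k : ℕ, (φ g') ^ p ^ k = 1 := by
      obtain ⟨k, hk⟩ := hgp
      refine ⟨k, ?_⟩
      rw [← map_pow]
      have : g' ^ p ^ k = 1 := Subtype.ext (by simpa using hk)
      rw [this, map_one]
    have h4 := hst V hVp (φ g') h3 h2
    exact ⟨g', h4, rfl⟩

theorem ambStab_of_qdfree (hp2 : p ≠ 2) (h : Cfsg.Agent.Helper4.QDF.QdFree p G) :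
    AmbStab p G := by
  apply ambStab_of_sections
  intro M N hN
  exact Cfsg.Agent.Helper4.QDF.stab_of_qdfree hp2 ((h.subgroup M).quotient _)

end amb

end Cfsg.Agent.Helper10
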