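import Mathlib
import Cfsg.Agent.Lib.Helper10.KStab8
import Cfsg.Agent.Lib.Helper10.Frobenius5
import Cfsg.Agent.Lib.Helper10.SylowAux
import Cfsg.Agent.Lib.Helper4.SL2Free
import Cfsg.Agent.S1978

set_option autoImplicit false

/-! Normal `p`-complements in `N(W)` when the `p'`-elements of `N(W)` centralize `W`. -/

namespace Cfsg.Agent.Helper10

open Cfsg
open scoped commutatorElement

section amb

variable {G : Type*} [Group G] [Finite G] {p : ℕ} [hp : Fact p.Prime]

theorem ambStab_of_sl2free (hp2 : p ≠ 2) (h : Cfsg.Agent.Helper4.SLF.SL2Free p G) :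
    AmbStab p G := by
  apply ambStab_of_sections
  intro M N hN
  exact Cfsg.Agent.Helper4.SLF.stab_of_sl2free hp2 ((h.subgroup M).quotient _)

/-- If the elements of order prime to `p` of `N(W)` centralize the `p`-subgroup `W ≤ S`, and
`C_S(W) ≤ W`, then `N(W)` has a normal `p`-complement. -/
theorem npc_normalizer_of_pprime_centralize (S : Sylow p G) (W : Subgroup G)
    (hSN : (S : Subgroup G) ≤ Subgroup.normalizer (W : Set G))
    (hself : (S : Subgroup G) ⊓ Subgroup.centralizer (W : Set G) ≤ W)
    (h : ∀ g ∈ Subgroup.normalizer (W : Set G), (orderOf g).Coprime p →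
      g ∈ Subgroup.centralizer (W : Set G)) :
    NPC p ↥(Subgroup.normalizer (W : Set G)) := by
  set N := Subgroup.normalizer (W : Set G) with hN
  set C := Subgroup.centralizer (W : Set G) with hC
  have hCN : C ≤ N := by
    intro c hc
    rw [hN, Subgroup.mem_normalizer_iff]
    intro w
    constructor
    · intro hw
      have := Subgroup.mem_centralizer_iff.mp hc w hw
      have e : c * w * c⁻¹ = w := by rw [← this]; group
      rw [e]; exact hw
    · intro hw
      have h1 := Subgroup.mem_centralizer_iff.mp hc _ hw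
      have e : w = c * w * c⁻¹ := by
        have : c * w * c⁻¹ * c = c * (c * w * c⁻¹) := h1
        have h2 : c * w = c * (c * w * c⁻¹) := by simpa using this
        exact mul_left_cancel h2
      rw [e]; exact hw
  have hNC : N ≤ Subgroup.normalizer (C : Set G) := by
    intro n hn
    rw [Subgroup.mem_normalizer_iff]
    have key : ∀ m ∈ N, ∀ c ∈ C, m * c * m⁻¹ ∈ C := by
      intro m hm c hc
      rw [hC, Subgroup.mem_centralizer_iff]
      intro w hw
      have hw' : m⁻¹ * w * m ∈ W := by
        have := (Subgroup.mem_normalizer_iff.mp (Subgroup.inv_mem _ hm) w).mp hw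
        simpa using this
      have h1 := Subgroup.mem_centralizer_iff.mp hc _ hw'
      calc w * (m * c * m⁻¹) = m * ((m⁻¹ * w * m) * c) * m⁻¹ := by group
        _ = m * (c * (m⁻¹ * w * m)) * m⁻¹ := by rw [h1]
        _ = m * c * m⁻¹ * w := by group
    intro c
    constructor
    · exact key n hn c
    · intro hc
      have := key n⁻¹ (Subgroup.inv_mem _ hn) _ hc
      simpa [mul_assoc] using this
  apply npc_of_normal_subgroup_npc C N hCN hNC
  · -- the index is a power of `p`
    haveI hCn : (C.subgroupOf N).Normal := Subgroup.normal_subgroupOf_of_le_normalizer hNC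
    have hpg : IsPGroup p (↥N ⧸ C.subgroupOf N) := by
      intro x
      obtain ⟨g, rfl⟩ := QuotientGroup.mk_surjective x
      obtain ⟨e, he⟩ := exists_pow_coprime_order (p := p) (g : G)
      refine ⟨e, ?_⟩
      rw [← QuotientGroup.mk_pow, QuotientGroup.eq_one_iff, Subgroup.mem_subgroupOf]
      have h1 : ((g ^ p ^ e : ↥N) : G) = (g : G) ^ p ^ e := by simp
      rw [h1]
      exact h _ (Subgroup.pow_mem _ g.2 _) he
    obtain ⟨j, hj⟩ := IsPGroup.iff_card.mp hpg
    refine ⟨j, ?_⟩
    rw [← hj]
    show (C.subgroupOf N).index = _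
    rw [Subgroup.index_eq_card]
  · -- `C` has a central Sylow `p`-subgroup
    have Q : Sylow p ↥C := default
    apply npc_of_central_sylow Q
    intro x hx c
    -- the image of `Q` in `G` is a `p`-subgroup of `N`, inside a conjugate of `S`
    have hQp : IsPGroup p ((Q : Subgroup ↥C).map C.subtype) := Q.2.map _
    obtain ⟨n, hn, hle⟩ := pSubgroup_conj_into_sylow_in_subgroup S N hSN _ hQp
      ((Subgroup.map_subtype_le _).trans hCN)
    have hxW : (x : G) ∈ W := by
      have hxm : (x : G) ∈ (Q : Subgroup ↥C).map C.subtype := ⟨x, hx, rfl⟩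
      have h1 : n⁻¹ * (x : G) * n ∈ (S : Subgroup G) := hle _ hxm
      have h2 : n⁻¹ * (x : G) * n ∈ C := by
        have h3 := (Subgroup.mem_normalizer_iff.mp (hNC (Subgroup.inv_mem _ hn)) (x : G)).mp x.2
        simpa using h3
      have h4 : n⁻¹ * (x : G) * n ∈ W := hself ⟨h1, h2⟩
      have h5 := (Subgroup.mem_normalizer_iff.mp hn _).mp h4
      have e : n * (n⁻¹ * (x : G) * n) * n⁻¹ = x := by group
      rwa [e] at h5
    apply Subtype.ext
    rw [Subgroup.coe_mul, Subgroup.coe_mul]
    exact (Subgroup.mem_centralizer_iff.mp c.2 _ hxW)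

end amb

end Cfsg.Agent.Helper10
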