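import Mathlib
import Cfsg.Agent.Lib.Helper10.KStab4

set_option autoImplicit false

/-! The subgroup `A₁` of elements of `A` whose commutators with `A` are centralized by `B`. -/

namespace Cfsg.Agent.Helper10

open Cfsg
open scoped commutatorElement

section critSub

variable {G : Type*} [Group G]

/-- the elements of `A` all of whose commutators with `A` are centralized by `B` -/
def critSub (A B : Subgroup G) : Subgroup G :=
  A ⊓ commNormSubgroup (⁅A, A⁆ ⊓ Subgroup.centralizer (B : Set G)) A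

variable (A B : Subgroup G)

theorem critSub_le : critSub A B ≤ A := inf_le_left

theorem commutator_critSub_le : ⁅critSub A B, A⁆ ≤ ⁅A, A⁆ ⊓ Subgroup.centralizer (B : Set G) :=
  (le_commNormSubgroup_iff.mp (inf_le_right : critSub A B ≤ _)).2

theorem commutator_critSub_self_le :
    ⁅critSub A B, critSub A B⁆ ≤ Subgroup.centralizer (B : Set G) :=
  (Subgroup.commutator_mono le_rfl (critSub_le A B)).trans
    ((commutator_critSub_le A B).trans inf_le_right)

variable {A B}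

theorem le_centralizer_w0 (hA2 : ⁅A, A⁆ ≤ Subgroup.centralizer (A : Set G)) :
    A ≤ Subgroup.centralizer
      ((⁅A, A⁆ ⊓ Subgroup.centralizer (B : Set G) : Subgroup G) : Set G) := by
  intro a ha
  rw [Subgroup.mem_centralizer_iff]
  intro w hw
  exact (Subgroup.mem_centralizer_iff.mp (hA2 hw.1) a ha).symm

theorem mem_normalizer_critSub {g : G} (hA : g ∈ Subgroup.normalizer (A : Set G))
    (hW : g ∈ Subgroup.normalizer
      ((⁅A, A⁆ ⊓ Subgroup.centralizer (B : Set G) : Subgroup G) : Set G)) :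
    g ∈ Subgroup.normalizer ((critSub A B : Subgroup G) : Set G) :=
  normalizer_inf_le _ _ ⟨hA, mem_normalizer_commNormSubgroup hW hA⟩

theorem zOf_le_critSub (hA2 : ⁅A, A⁆ ≤ Subgroup.centralizer (A : Set G)) :
    zOf A ≤ critSub A B := by
  intro z hz
  refine ⟨hz.1, Subgroup.centralizer_le_normalizer _ (le_centralizer_w0 hA2 hz.1), ?_⟩
  intro q hq
  have : ⁅z, q⁆ = 1 := by
    rw [commutatorElement_eq_one_iff_mul_comm]
    exact (Subgroup.mem_centralizer_iff.mp hz.2 q hq).symm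
  rw [this]
  exact Subgroup.one_mem _

theorem inf_zOf_le_critSub [hAn : A.Normal] (hA2 : ⁅A, A⁆ ≤ Subgroup.centralizer (A : Set G))
    (hAB : ⁅A, B⁆ ≤ B) : A ⊓ zOf B ≤ critSub A B := by
  rintro z ⟨hzA, hzB, hzC⟩
  refine ⟨hzA, Subgroup.centralizer_le_normalizer _ (le_centralizer_w0 hA2 hzA), ?_⟩
  intro a ha
  have h1 : ⁅z, a⁆ ∈ ⁅A, A⁆ := Subgroup.commutator_mem_commutator hzA ha
  refine ⟨h1, ?_⟩
  show ⁅z, a⁆ ∈ Subgroup.centralizer (B : Set G)
  rw [Subgroup.mem_centralizer_iff]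
  intro k hk
  -- `k ⁅z,a⁆ k⁻¹ = ⁅z, k a k⁻¹⁆ = ⁅z, e a⁆` with `e = ⁅k, a⁆ ∈ A ⊓ B`
  have hzk : k * z * k⁻¹ = z := by
    have := Subgroup.mem_centralizer_iff.mp hzC k hk
    calc k * z * k⁻¹ = (z * k) * k⁻¹ := by rw [this]
      _ = z := by group
  have heB : ⁅k, a⁆ ∈ B := by
    have : ⁅a, k⁆ ∈ B := hAB (Subgroup.commutator_mem_commutator ha hk)
    rw [← commutatorElement_inv]
    exact B.inv_mem this
  have heA : ⁅k, a⁆ ∈ A := by
    rw [commutatorElement_def]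
    have h2 : k * a * k⁻¹ ∈ A := hAn.conj_mem a ha k
    exact A.mul_mem h2 (A.inv_mem ha)
  have hze : z * ⁅k, a⁆ = ⁅k, a⁆ * z := (Subgroup.mem_centralizer_iff.mp hzC _ heB).symm
  have hce : ⁅k, a⁆ * ⁅z, a⁆ = ⁅z, a⁆ * ⁅k, a⁆ :=
    Subgroup.mem_centralizer_iff.mp (hA2 h1) _ heA
  have hconj : k * ⁅z, a⁆ * k⁻¹ = ⁅z, a⁆ := by
    have e1 : k * ⁅z, a⁆ * k⁻¹ = ⁅k * z * k⁻¹, k * a * k⁻¹⁆ := by
      simp only [commutatorElement_def]; group
    have e2 : k * a * k⁻¹ = ⁅k, a⁆ * a := by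
      rw [commutatorElement_def]; group
    have e3 : ⁅z, ⁅k, a⁆ * a⁆ = ⁅z, ⁅k, a⁆⁆ * (⁅k, a⁆ * ⁅z, a⁆ * ⁅k, a⁆⁻¹) := by
      simp only [commutatorElement_def]; group
    have e4 : ⁅z, ⁅k, a⁆⁆ = 1 := by
      rw [commutatorElement_eq_one_iff_mul_comm]; exact hze
    rw [e1, hzk, e2, e3, e4, one_mul, hce]
    group
  calc k * ⁅z, a⁆ = (k * ⁅z, a⁆ * k⁻¹) * k := by group
    _ = ⁅z, a⁆ * k := by rw [hconj]

end critSub

end Cfsg.Agent.Helper10
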