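import Mathlib
import Cfsg.Agent.Lib.Helper10.KStab5
import Cfsg.Agent.Lib.Helper10.FourStep

set_option autoImplicit false

/-! The hypothesis `HL` of `KStab1` for a group with `C(O_p) ≤ O_p` and ambient stability. -/

namespace Cfsg.Agent.Helper10

open Cfsg
open scoped commutatorElement

section HL

variable {G : Type*} [Group G] [Finite G] {p : ℕ} [hp : Fact p.Prime]

/-- the subgroup generated by the elements of `C` of order prime to `p` -/
def pPrimeGen (p : ℕ) (C : Subgroup G) : Subgroup G :=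
  Subgroup.closure {y : G | y ∈ C ∧ (orderOf y).Coprime p}

omit [Finite G] hp in
theorem pPrimeGen_le (C : Subgroup G) : pPrimeGen p C ≤ C := by
  unfold pPrimeGen
  rw [Subgroup.closure_le]
  intro y hy
  exact hy.1

omit [Finite G] hp in
theorem normalizer_le_normalizer_pPrimeGen (C : Subgroup G) :
    Subgroup.normalizer (C : Set G) ≤ Subgroup.normalizer ((pPrimeGen p C : Subgroup G) : Set G) := by
  unfold pPrimeGen
  rw [Subgroup.le_normalizer_closure_iff]
  intro h hh g hg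
  apply Subgroup.subset_closure
  refine ⟨(Subgroup.mem_normalizer_iff.mp hh g).mp hg.1, ?_⟩
  have : orderOf (h * g * h⁻¹) = orderOf g := by
    have := orderOf_injective (MulAut.conj h).toMonoidHom (MulAut.conj h).injective g
    simpa using this
  rw [this]
  exact hg.2

theorem exists_pow_mem_pPrimeGen (C : Subgroup G) {x : G} (hx : x ∈ C) :
    ∃ k : ℕ, x ^ p ^ k ∈ pPrimeGen p C := by
  obtain ⟨k, hk⟩ := exists_pow_coprime_order (p := p) x
  exact ⟨k, Subgroup.subset_closure ⟨C.pow_mem hx _, hk⟩⟩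

omit [Finite G] hp in
theorem pPrimeGen_le_centralizer (C D : Subgroup G)
    (h : ∀ y ∈ C, (orderOf y).Coprime p → ⁅D, Subgroup.zpowers y⁆ = ⊥) :
    pPrimeGen p C ≤ Subgroup.centralizer (D : Set G) := by
  unfold pPrimeGen
  rw [Subgroup.closure_le]
  intro y hy
  exact mem_centralizer_of_commutator_zpowers_eq_bot (h y hy.1 hy.2)

theorem stab_HL (hcon : Subgroup.centralizer ((pCore p G : Subgroup G) : Set G) ≤ pCore p G)
    (hst : AmbStab p G) (A : Subgroup G) [hAn : A.Normal] (hAT : A ≤ pCore p G)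
    (hA2 : ⁅A, A⁆ ≤ Subgroup.centralizer (A : Set G)) (hA3 : ⁅pCore p G, A⁆ ≤ zOf A)
    (hA4 : pCore p G ⊓ Subgroup.centralizer (A : Set G) ≤ zOf A)
    (B : Subgroup G) (hBp : IsPGroup p B)
    (hB2 : ⁅B, B⁆ ≤ Subgroup.centralizer (B : Set G)) (hAB : ⁅A, B⁆ ≤ B)
    (hZB : zOf B ≤ pCore p G)
    (htest : ∀ A₁ : Subgroup G, A₁ ≤ A → B ≤ Subgroup.normalizer (A₁ : Set G) →
      ⁅B, ⁅A₁, A₁⁆⁆ = ⊥ → ⁅B, A₁⁆ ≤ zOf B) : B ≤ pCore p G := by
  set T := pCore p G with hT
  have hTn : T.Normal := pCore_normal p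
  have hTp : IsPGroup p T := pCore_isPGroup p
  have hAp : IsPGroup p A := hTp.to_le hAT
  have hZn : (zOf A).Normal := zOf_normal_of_normal A
  have hNA : Subgroup.normalizer (A : Set G) = ⊤ := Subgroup.normalizer_eq_top_iff.mpr hAn
  have hNT : Subgroup.normalizer (T : Set G) = ⊤ := Subgroup.normalizer_eq_top_iff.mpr hTn
  have hNZ : Subgroup.normalizer ((zOf A : Subgroup G) : Set G) = ⊤ :=
    Subgroup.normalizer_eq_top_iff.mpr hZn
  have hNbot : Subgroup.normalizer (((⊥ : Subgroup G) : Subgroup G) : Set G) = ⊤ :=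
    Subgroup.normalizer_eq_top_iff.mpr inferInstance
  have hCAT : Subgroup.centralizer (A : Set G) ≤ T :=
    centralizer_le_pCore_of_critical hcon A hAT (hA4.trans inf_le_left)
  have hBBz : ⁅zOf B, B⁆ = ⊥ := zOf_comm_bot B
  -- quadratic action on `Z(A)`
  have hZq : ⁅⁅zOf A, B⁆, B⁆ = ⊥ := by
    have h1 : ⁅B, zOf A⁆ ≤ zOf B := by
      apply htest (zOf A) inf_le_left (by rw [hNZ]; exact le_top)
      rw [zOf_self_comm_bot, Subgroup.commutator_bot_right]
    rw [eq_bot_iff, ← hBBz]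
    refine Subgroup.commutator_mono ?_ le_rfl
    rw [Subgroup.commutator_comm]; exact h1
  -- the subgroup `A₁`
  set W₀ : Subgroup G := ⁅A, A⁆ ⊓ Subgroup.centralizer (B : Set G) with hW₀
  set A₁ := critSub A B with hA₁
  have hA₁A : A₁ ≤ A := critSub_le A B
  have hZA₁ : zOf A ≤ A₁ := zOf_le_critSub hA2
  have hAAn : (⁅A, A⁆ : Subgroup G).Normal := Subgroup.commutator_normal A A
  have hAAz : ⁅A, A⁆ ≤ zOf A := le_inf (Subgroup.commutator_le_left A A) hA2
  have hBW₀ : B ≤ Subgroup.normalizer (W₀ : Set G) := by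
    refine le_trans (le_inf ?_ ?_) (normalizer_inf_le _ _)
    · rw [Subgroup.normalizer_eq_top_iff.mpr hAAn]; exact le_top
    · exact Subgroup.le_normalizer.trans (normalizer_le_normalizer_centralizer_kseq B)
  have hBA₁ : B ≤ Subgroup.normalizer (A₁ : Set G) := fun b hb =>
    mem_normalizer_critSub (by rw [hNA]; exact Subgroup.mem_top b) (hBW₀ hb)
  have hBA₁z : ⁅B, A₁⁆ ≤ zOf B := by
    apply htest A₁ hA₁A hBA₁
    rw [Subgroup.commutator_comm, Subgroup.commutator_eq_bot_iff_le_centralizer]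
    exact commutator_critSub_self_le A B
  have hA₁q : ⁅⁅A₁, B⁆, B⁆ = ⊥ := by
    rw [eq_bot_iff, ← hBBz]
    refine Subgroup.commutator_mono ?_ le_rfl
    rw [Subgroup.commutator_comm]; exact hBA₁z
  have hABB : ⁅⁅A, B⁆, B⁆ ≤ A₁ := by
    refine le_trans ?_ (inf_zOf_le_critSub hA2 hAB)
    have h1 : ⁅A, B⁆ ≤ A ⊓ B := le_inf (Subgroup.commutator_le_left A B) hAB
    refine le_inf ?_ ?_
    · exact (Subgroup.commutator_mono (h1.trans inf_le_left) le_rfl).trans
        (Subgroup.commutator_le_left A B)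
    · exact (Subgroup.commutator_mono (h1.trans inf_le_right) le_rfl).trans
        (le_inf (Subgroup.commutator_le_self B) hB2)
  -- `C₂ = C(Z(A))`
  set C₂ := Subgroup.centralizer ((zOf A : Subgroup G) : Set G) with hC₂
  have hC₂n : C₂.Normal := Subgroup.normal_centralizer
  have hC₂A₁ : C₂ ≤ Subgroup.normalizer (A₁ : Set G) := by
    intro c hc
    apply mem_normalizer_critSub (by rw [hNA]; exact Subgroup.mem_top c)
    apply Subgroup.centralizer_le_normalizer
    exact Subgroup.centralizer_le (by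
      intro w hw
      exact hAAz hw.1) hc
  have hTA₁ : T ≤ Subgroup.normalizer (A₁ : Set G) := by
    rw [Subgroup.le_normalizer_iff_commutator_le_right]
    exact (Subgroup.commutator_mono le_rfl hA₁A).trans (hA3.trans hZA₁)
  -- `R₁`
  obtain ⟨R₁, -, hR₁n, hR₁c, hR₁q⟩ := hst ⊤ (zOf A) ⊥ bot_le le_top (by rw [hNZ])
    (by rw [hNbot]) (hAp.to_le inf_le_left)
  have hR₁n' : R₁.Normal := by
    rw [← Subgroup.normalizer_eq_top_iff, eq_top_iff]; exact hR₁n
  have hBR₁ : B ≤ R₁ := by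
    intro g hg
    have hz : Subgroup.zpowers g ≤ B := zpowers_le_of_mem hg
    apply hR₁q g (Subgroup.mem_top g) (pElement_of_mem_pGroup hBp hg)
    rw [← hZq]
    exact Subgroup.commutator_mono (Subgroup.commutator_mono le_rfl hz) hz
  have hR₁C₂ : ∀ y ∈ R₁, (orderOf y).Coprime p → y ∈ C₂ := by
    intro y hy hcop
    exact mem_centralizer_of_commutator_zpowers_eq_bot (le_bot_iff.mp (hR₁c y hy hcop))
  -- `M'`
  set M' := C₂ ⊔ B ⊔ T with hM'
  have hC₂M : C₂ ≤ M' := le_sup_left.trans le_sup_left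
  have hBM : B ≤ M' := le_sup_right.trans le_sup_left
  have hTM : T ≤ M' := le_sup_right
  have hMA₁ : M' ≤ Subgroup.normalizer (A₁ : Set G) := sup_le (sup_le hC₂A₁ hBA₁) hTA₁
  have hA₁p : IsPGroup p A₁ := hAp.to_le hA₁A
  obtain ⟨R', hR'M, hR'n, hR'c, hR'q⟩ := hst M' A₁ ⊥ bot_le ((hA₁A.trans hAT).trans hTM) hMA₁
    (by rw [hNbot]; exact le_top) hA₁p
  have hBR' : B ≤ R' := by
    intro g hg
    have hz : Subgroup.zpowers g ≤ B := zpowers_le_of_mem hg
    apply hR'q g (hBM hg) (pElement_of_mem_pGroup hBp hg)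
    rw [← hA₁q]
    exact Subgroup.commutator_mono (Subgroup.commutator_mono le_rfl hz) hz
  set C₃ := R' ⊓ C₂ with hC₃
  have hMC₃ : M' ≤ Subgroup.normalizer (C₃ : Set G) := by
    refine le_trans (le_inf hR'n ?_) (normalizer_inf_le _ _)
    rw [Subgroup.normalizer_eq_top_iff.mpr hC₂n]; exact le_top
  set Y₃ := pPrimeGen p C₃ with hY₃
  have hY₃C₃ : Y₃ ≤ C₃ := pPrimeGen_le C₃
  have hY₃C₂ : Y₃ ≤ C₂ := hY₃C₃.trans inf_le_right
  have hMY₃ : M' ≤ Subgroup.normalizer (Y₃ : Set G) :=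
    hMC₃.trans (normalizer_le_normalizer_pPrimeGen C₃)
  have hY₃A₁ : Y₃ ≤ Subgroup.centralizer (A₁ : Set G) := by
    apply pPrimeGen_le_centralizer
    intro y hy hcop
    exact le_bot_iff.mp (hR'c y hy.1 hcop)
  have hA₁Y₃ : A₁ ≤ Subgroup.centralizer (Y₃ : Set G) := by
    rw [← Subgroup.commutator_eq_bot_iff_le_centralizer, Subgroup.commutator_comm,
      Subgroup.commutator_eq_bot_iff_le_centralizer]
    exact hY₃A₁
  -- `D` and `D₀`
  set D := ⁅A, Y₃⁆ with hD
  have hDA : D ≤ A := Subgroup.commutator_le_left A Y₃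
  set D₀ := D ⊓ Subgroup.centralizer (Y₃ : Set G) with hD₀
  have hMD : M' ≤ Subgroup.normalizer (D : Set G) := by
    refine le_trans (le_inf ?_ hMY₃)
      (Cfsg.Agent.Helper1.normalizer_inf_normalizer_le_normalizer_commutator A Y₃)
    rw [hNA]; exact le_top
  have hMD₀ : M' ≤ Subgroup.normalizer (D₀ : Set G) := by
    refine le_trans (le_inf hMD ?_) (normalizer_inf_le _ _)
    exact hMY₃.trans (normalizer_le_normalizer_centralizer_kseq Y₃)
  have hDp : IsPGroup p D := hAp.to_le hDA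
  obtain ⟨R'', hR''M, hR''n, hR''c, hR''q⟩ := hst M' D D₀ inf_le_left
    ((hDA.trans hAT).trans hTM) hMD hMD₀ hDp
  have hBR'' : B ≤ R'' := by
    intro g hg
    have hz : Subgroup.zpowers g ≤ B := zpowers_le_of_mem hg
    apply hR''q g (hBM hg) (pElement_of_mem_pGroup hBp hg)
    have hgD : Subgroup.zpowers g ≤ Subgroup.normalizer (D : Set G) := (hz.trans hBM).trans hMD
    have h1 : ⁅D, Subgroup.zpowers g⁆ ≤ D :=
      Subgroup.le_normalizer_iff_commutator_le_left.mp hgD
    refine le_inf ?_ ?_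
    · exact (Subgroup.commutator_mono h1 le_rfl).trans h1
    · refine le_trans ?_ hA₁Y₃
      refine le_trans ?_ hABB
      exact Subgroup.commutator_mono (Subgroup.commutator_mono hDA hz) hz
  -- `P₃`
  set P₃ := R'' ⊓ Y₃ with hP₃
  have hP₃p : IsPGroup p P₃ := by
    apply isPGroup_of_coprime_eq_one
    intro y hy hcop
    have hyY : Subgroup.zpowers y ≤ Y₃ := zpowers_le_of_mem hy.2
    have hyM : y ∈ M' := hR''M hy.1
    have e1 : ⁅D, Subgroup.zpowers y⁆ ≤ D₀ := hR''c y hy.1 hcop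
    have e2 : ⁅⁅D, Subgroup.zpowers y⁆, Subgroup.zpowers y⁆ = ⊥ := by
      rw [Subgroup.commutator_eq_bot_iff_le_centralizer]
      exact (e1.trans inf_le_right).trans (Subgroup.centralizer_le (by exact_mod_cast hyY))
    have e3 := commutator_eq_bot_of_coprime_quad D hDp y (hMD hyM) hcop e2
    have e4 : ⁅⁅A, Subgroup.zpowers y⁆, Subgroup.zpowers y⁆ = ⊥ := by
      rw [eq_bot_iff, ← e3]
      exact Subgroup.commutator_mono (Subgroup.commutator_mono le_rfl hyY) le_rfl
    have e5 := commutator_eq_bot_of_coprime_quad A hAp y (by rw [hNA]; exact Subgroup.mem_top y)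
      hcop e4
    have e6 : y ∈ T := hCAT (mem_centralizer_of_commutator_zpowers_eq_bot e5)
    exact eq_one_of_mem_pGroup_of_coprime hTp e6 hcop
  have hMP₃ : M' ≤ Subgroup.normalizer (P₃ : Set G) :=
    le_trans (le_inf hR''n hMY₃) (normalizer_inf_le _ _)
  have hP₃T : P₃ ≤ T :=
    pGroup_le_pCore_of_chain P₃ P₃ C₂ le_rfl (inf_le_right.trans hY₃C₂) (hC₂M.trans hMP₃)
      Subgroup.le_normalizer hP₃p
  have hY₃B : ⁅Y₃, B⁆ ≤ T := by
    refine le_trans (le_inf ?_ ?_) hP₃T
    · have h1 : ⁅Y₃, R''⁆ ≤ R'' :=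
        Subgroup.le_normalizer_iff_commutator_le_right.mp ((hY₃C₂.trans hC₂M).trans hR''n)
      exact (Subgroup.commutator_mono le_rfl hBR'').trans h1
    · exact Subgroup.le_normalizer_iff_commutator_le_left.mp (hBM.trans hMY₃)
  -- `[C₂, B] ≤ T`
  have hC₂B : ⁅C₂, B⁆ ≤ T := by
    apply commutator_le_pCore_of_central_mod C₂ B Y₃ hBp hY₃C₂ (hC₂M.trans hMY₃)
      (hBM.trans hMY₃) hY₃B
    intro x hx
    apply exists_pow_mem_pPrimeGen C₃
    refine ⟨?_, Subgroup.commutator_le_left C₂ B hx⟩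
    have h1 : ⁅C₂, R'⁆ ≤ R' :=
      Subgroup.le_normalizer_iff_commutator_le_right.mp (hC₂M.trans hR'n)
    exact h1 (Subgroup.commutator_mono le_rfl hBR' hx)
  -- the normal closure of `B`
  set L := Subgroup.normalClosure (B : Set G) with hL
  have hLn : L.Normal := Subgroup.normalClosure_normal
  have hLR₁ : L ≤ R₁ := by
    exact Subgroup.normalClosure_le_normal hBR₁
  have hC₂L : ⁅C₂, L⁆ ≤ T := by
    -- the elements commuting with `C₂` modulo `T` form a normal subgroup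
    have hcn : (commNormSubgroup T C₂).Normal := commNormSubgroup_normal T C₂
    have hBc : B ≤ commNormSubgroup T C₂ := by
      rw [le_commNormSubgroup_iff]
      refine ⟨by rw [hNT]; exact le_top, ?_⟩
      rw [Subgroup.commutator_comm]; exact hC₂B
    have hLc : L ≤ commNormSubgroup T C₂ := Subgroup.normalClosure_le_normal hBc
    rw [Subgroup.commutator_comm]
    exact (le_commNormSubgroup_iff.mp hLc).2
  intro b hb
  apply pElement_mem_pCore_of_central_mod L C₂ hC₂L ?_ b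
    (Subgroup.subset_normalClosure hb) (pElement_of_mem_pGroup hBp hb)
  intro x hx
  obtain ⟨k, hk⟩ := exists_pow_coprime_order (p := p) x
  exact ⟨k, hR₁C₂ _ (R₁.pow_mem (hLR₁ hx) _) hk⟩

end HL

end Cfsg.Agent.Helper10
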