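import Mathlib
import Cfsg.Prelude.Def_Local
import Cfsg.Prelude.Def_ConjugacyFunctors
import Cfsg.Agent.Lib.Helper10.BenderPair2
import Cfsg.Agent.Lib.Helper10.KStab11
import Cfsg.Agent.Lib.Helper10.KStab10
import Cfsg.Agent.Lib.Helper10.SecInduced
import Cfsg.Agent.Lib.Helper4.SL2FreeApps

set_option autoImplicit false

/-! Primitive pairs of characteristic `p`: one of the two groups has non-abelian Sylow
`2`-subgroups. -/

namespace Cfsg.Agent.Helper10.BenderPair

open Cfsg Subgroup Cfsg.Agent.Helper7 Cfsg.Agent.Helper10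

universe w

section general

variable {G : Type w} [Group G] [Finite G] {p : ℕ} [hp : Fact p.Prime]

/-- the normalizer of a `p`-subgroup normalizes the value of an induced functor -/
theorem normalizer_le_normalizer_indW {W : ∀ (Q : Type w) [Group Q], Subgroup Q}
    (hW : IsCharPFunctor.{w} p W) (T : Subgroup G) (hT : IsPGroup p T) :
    normalizer (T : Set G) ≤ normalizer ((inducedFunctor (G := G) W T : Subgroup G) : Set G) := by
  intro g hg
  rw [Subgroup.mem_normalizer_iff_map_conj_eq]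
  have h1 := indW_map hW (MulAut.conj g).toMonoidHom T hT (MulAut.conj g).injective.injOn
  have h2 : T.map (MulAut.conj g).toMonoidHom = T := Subgroup.mem_normalizer_iff_map_conj_eq.mp hg
  rw [h2] at h1
  exact h1.symm

/-- a group with `C(O_p) ≤ O_p = 1` is trivial -/
theorem eq_bot_of_pCore_eq_bot (M : Subgroup G)
    (hc : centralizer ((Cfsg.pCore p ↥M : Subgroup ↥M) : Set ↥M) ≤ Cfsg.pCore p ↥M)
    (h : Cfsg.pCore p ↥M = ⊥) : M = ⊥ := by
  rw [h] at hc
  rw [eq_bot_iff]
  intro x hx
  have h1 : (⟨x, hx⟩ : ↥M) ∈ centralizer (((⊥ : Subgroup ↥M) : Subgroup ↥M) : Set ↥M) := by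
    rw [Subgroup.mem_centralizer_iff]
    intro y hy
    rw [SetLike.mem_coe, Subgroup.mem_bot] at hy
    rw [hy]; simp
  have h2 := hc h1
  rw [Subgroup.mem_bot] at h2
  rw [Subgroup.mem_bot]
  exact congrArg Subtype.val h2

/-- In a group of characteristic `p` without `SL₂(p)`-sections (`p` odd), the lower K-infinity
subgroup of any `p`-subgroup `S ≥ O_p(M)` of `M`, computed in `G`, is that of `O_p(M)`. -/
theorem indW_eq_of_sl2free (hp2 : p ≠ 2) (M : Subgroup G)
    (hc : centralizer ((Cfsg.pCore p ↥M : Subgroup ↥M) : Set ↥M) ≤ Cfsg.pCore p ↥M)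
    (hfree : Cfsg.Agent.Helper4.SLF.SL2Free p ↥M) (S : Subgroup G) (hS : IsPGroup p S)
    (hSM : S ≤ M) (hQS : oR p M ≤ S) :
    inducedFunctor (G := G) kInfLower S = inducedFunctor (G := G) kInfLower (oR p M) := by
  have hst : AmbStab p ↥M := ambStab_of_sl2free hp2 hfree
  have hWL := isCharPFunctor_kInfLower.{w} p
  have hS₁ : IsPGroup p ↥(S.subgroupOf M) := hS.comap_subtype
  have hle : Cfsg.pCore p ↥M ≤ S.subgroupOf M := by
    intro x hx
    rw [Subgroup.mem_subgroupOf]
    exact hQS ⟨x, hx, rfl⟩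
  have key := (kinf_eq_of_stab hc hst (S.subgroupOf M) hS₁ hle).1
  have h1 := indW_map hWL M.subtype (S.subgroupOf M) hS₁ (M.subtype_injective.injOn)
  have h2 := indW_map hWL M.subtype (Cfsg.pCore p ↥M) (Cfsg.Agent.Helper10.pCore_isPGroup p)
    (M.subtype_injective.injOn)
  rw [Subgroup.map_subgroupOf_eq_of_le hSM] at h1
  rw [h1, key, ← h2]
  rfl

end general

end Cfsg.Agent.Helper10.BenderPair
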