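import Mathlib
import Cfsg.Prelude.Def_EvenTechniques
import Cfsg.Agent.Lib.Helper10.BenderUniq2
import Cfsg.Agent.S3752

set_option autoImplicit false

/-! Bender's uniqueness theorem, symmetric case, for maximal subgroups with the Bender property
(no simplicity of the ambient group needed). -/

namespace Cfsg.Agent.Helper10.BenderUniq

open Cfsg Subgroup Cfsg.Agent.Helper7 Cfsg.Agent.Helper10.BenderPair

universe u

theorem bender_symmetric {G : Type u} [Group G] [Finite G] (M N : Subgroup G)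
    (hM : IsCoatom M) (hN : IsCoatom N) (hBM : IsBenderMax M) (hBN : IsBenderMax N) (hne : M ≠ N)
    (hMN : Cfsg.leadsTo M N) (hNM : Cfsg.leadsTo N M) :
    ∃ p : ℕ, p.Prime ∧ IsPGroup p ↥(Cfsg.generalizedFittingSubgroup ↥M) ∧
      IsPGroup p ↥(Cfsg.generalizedFittingSubgroup ↥N) := by
  obtain ⟨Q, hQ1, hQF, hQN⟩ := hMN
  obtain ⟨Q', hQ'1, hQ'F, hQ'M⟩ := hNM
  set SM := (sW M Q).map M.subtype with hSMdef
  set SN := (sW N Q').map N.subtype with hSNdef
  have hSMM : SM ≤ M := map_sW_le_self M Q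
  have hSMN : SM ≤ N := map_sW_le M Q N hQF hQN
  have hSM : BenderHyp (SM.subgroupOf M) := by
    rw [hSMdef, subgroupOf_map_sW]; exact benderHyp_sW M Q hQF
  have hSNN : SN ≤ N := map_sW_le_self N Q'
  have hSNM : SN ≤ M := map_sW_le N Q' M hQ'F hQ'M
  have hSN : BenderHyp (SN.subgroupOf N) := by
    rw [hSNdef, subgroupOf_map_sW]; exact benderHyp_sW N Q' hQ'F
  have hπ1 : ∀ q : ℕ, q.Prime → q ∣ Nat.card ↥(Cfsg.fittingSubgroup ↥N) →
      q ∣ Nat.card ↥(Cfsg.fittingSubgroup ↥M) := by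
    intro q hq hqd
    have hqf : Fact q.Prime := ⟨hq⟩
    exact dvd_fitting_of_dvd M N SM SN hSMM hSMN hSM hSNM hSN q hqd
  have hπ2 : ∀ q : ℕ, q.Prime → q ∣ Nat.card ↥(Cfsg.fittingSubgroup ↥M) →
      q ∣ Nat.card ↥(Cfsg.fittingSubgroup ↥N) := by
    intro q hq hqd
    have hqf : Fact q.Prime := ⟨hq⟩
    exact dvd_fitting_of_dvd N M SN SM hSNN hSNM hSN hSMN hSM q hqd
  have hFM : Nat.card ↥(Cfsg.fittingSubgroup ↥M) ≠ 1 := by
    intro h
    have h2 : Cfsg.fittingSubgroup ↥M = ⊥ := Subgroup.card_eq_one.mp h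
    apply hQ1
    rw [eq_bot_iff]
    refine hQF.trans ?_
    rw [h2, Subgroup.map_bot]
  obtain ⟨p, hp, hpd⟩ := Nat.exists_prime_and_dvd hFM
  have hpf : Fact p.Prime := ⟨hp⟩
  -- no nontrivial subgroup is normalized by both
  have hboth : ∀ A : Subgroup G, A ≠ ⊥ → A ≤ M → M ≤ Subgroup.normalizer (A : Set G) →
      N ≤ Subgroup.normalizer (A : Set G) → False := by
    intro A hA hAM h1 h2
    have h3 : N ≤ M := h2.trans (hBM A hA hAM h1)
    rcases eq_or_lt_of_le h3 with h4 | h4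
    · exact hne h4.symm
    · exact hM.1 (hN.2 M h4)
  by_cases htwo : ∃ q₂ : ℕ, q₂.Prime ∧ q₂ ≠ p ∧ q₂ ∣ Nat.card ↥(Cfsg.fittingSubgroup ↥M)
  · obtain ⟨q₂, hq₂, hq₂p, hq₂d⟩ := htwo
    have hFN_le : fS N ≤ M :=
      fS_le_of_two M N SM SN hBM hSMM hSMN hSM hSNM hSN hπ1 p q₂ hp hq₂ hq₂p.symm hpd hq₂d
    have hFM_le : fS M ≤ N :=
      fS_le_of_two N M SN SM hBN hSNN hSNM hSN hSMN hSM hπ2 p q₂ hp hq₂ hq₂p.symm
        (hπ2 p hp hpd) (hπ2 q₂ hq₂ hq₂d)
    have hP : ∀ A : Subgroup G, A ≠ ⊥ → A ≤ M ⊓ N →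
        (M ≤ Subgroup.normalizer (A : Set G) → N ⊓ Subgroup.normalizer (A : Set G) = M ⊓ N) ∧
        (N ≤ Subgroup.normalizer (A : Set G) → M ⊓ Subgroup.normalizer (A : Set G) = M ⊓ N) := by
      intro A hA hAX
      constructor
      · intro h
        have hle := hBM A hA (hAX.trans inf_le_left) h
        exact le_antisymm (le_inf (inf_le_right.trans hle) inf_le_left)
          (le_inf inf_le_right (inf_le_left.trans h))
      · intro h
        have hle := hBN A hA (hAX.trans inf_le_right) h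
        exact le_antisymm (le_inf inf_le_left (inf_le_right.trans hle))
          (le_inf inf_le_left (inf_le_right.trans h))
    obtain ⟨r, hr, h1, h2, -⟩ := Cfsg.Agent.S3752.result M N hne hP hFM_le hFN_le
    have hrf : Fact r.Prime := ⟨hr⟩
    exact ⟨r, hr, isPGroup_fstar_of_centralizer_le r h1, isPGroup_fstar_of_centralizer_le r h2⟩
  · push Not at htwo
    have hM1 : ∀ r : ℕ, r.Prime → r ≠ p → Cfsg.pCore r ↥M = ⊥ := by
      intro r hr hrp
      have hrf : Fact r.Prime := ⟨hr⟩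
      by_contra hcon
      exact htwo r hr hrp (dvd_card_fitting_of_pCore_ne_bot r hcon)
    have hN1 : ∀ r : ℕ, r.Prime → r ≠ p → Cfsg.pCore r ↥N = ⊥ := by
      intro r hr hrp
      have hrf : Fact r.Prime := ⟨hr⟩
      by_contra hcon
      exact htwo r hr hrp (hπ1 r hr (dvd_card_fitting_of_pCore_ne_bot r hcon))
    have hmapF : ∀ (A : Subgroup G), (∀ r : ℕ, r.Prime → r ≠ p → Cfsg.pCore r ↥A = ⊥) →
        (Cfsg.fittingSubgroup ↥A).map A.subtype ≤ oR p A := by
      intro A hA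
      unfold oR
      apply Subgroup.map_mono
      rw [fittingSubgroup_eq_iSup_pCore]
      apply iSup_le
      intro r
      by_cases hrp : (r : ℕ) = p
      · rw [hrp]
      · rw [hA r r.2 hrp]; exact bot_le
    have hEMN : eL M ≤ N := by
      rintro _ ⟨e, he, rfl⟩
      exact hSMN (Subgroup.mem_subgroupOf.mp (hSM.layer_le he))
    have hENM : eL N ≤ M := by
      rintro _ ⟨e, he, rfl⟩
      exact hSNM (Subgroup.mem_subgroupOf.mp (hSN.layer_le he))
    have hc1 : eL M ≤ Subgroup.centralizer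
        (((Cfsg.fittingSubgroup ↥N).map N.subtype : Subgroup G) : Set G) :=
      (eL_le_centralizer_oR M N SM SN hSMM hSMN hSM hSNM hSN p).trans
        (Subgroup.centralizer_le (hmapF N hN1))
    have hc2 : eL N ≤ Subgroup.centralizer
        (((Cfsg.fittingSubgroup ↥M).map M.subtype : Subgroup G) : Set G) :=
      (eL_le_centralizer_oR N M SN SM hSNN hSNM hSN hSMN hSM p).trans
        (Subgroup.centralizer_le (hmapF M hM1))
    have e : eL M = eL N :=
      le_antisymm (eL_le_eL' M N hEMN hENM hc1) (eL_le_eL' N M hENM hEMN hc2)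
    have hE : eL M = ⊥ := by
      by_contra hE
      apply hboth (eL M) hE (Subgroup.map_subtype_le _)
      · exact le_normalizer_map_subtype M _
      · rw [e]; exact le_normalizer_map_subtype N _
    have hlM : Cfsg.layer ↥M = ⊥ :=
      (Subgroup.map_eq_bot_iff_of_injective _ M.subtype_injective).mp hE
    have hlN : Cfsg.layer ↥N = ⊥ := by
      rw [e] at hE
      exact (Subgroup.map_eq_bot_iff_of_injective _ N.subtype_injective).mp hE
    exact ⟨p, hp, isPGroup_fstar_of_unique p hlM hM1, isPGroup_fstar_of_unique p hlN hN1⟩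


end Cfsg.Agent.Helper10.BenderUniq
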