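import Mathlib

set_option autoImplicit false

namespace Cfsg.Agent.Helper10.CAOdd

open Subgroup
open scoped Pointwise

universe u

/-- the CA property: centralizers of nonidentity elements are abelian. -/
def CA (G : Type u) [Group G] : Prop :=
  ∀ x : G, x ≠ 1 → ∀ a ∈ Subgroup.centralizer ({x} : Set G),
    ∀ b ∈ Subgroup.centralizer ({x} : Set G), a * b = b * a

variable {G : Type u} [Group G]

theorem cent_le (hCA : CA G) {x y : G} (hx : x ≠ 1) (hyx : y ∈ centralizer ({x} : Set G)) :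
    centralizer ({x} : Set G) ≤ centralizer ({y} : Set G) := by
  intro a ha
  rw [mem_centralizer_singleton_iff]
  exact hCA x hx a ha y hyx

theorem cent_eq (hCA : CA G) {x y : G} (hx : x ≠ 1) (hy : y ≠ 1)
    (hyx : y ∈ centralizer ({x} : Set G)) :
    centralizer ({y} : Set G) = centralizer ({x} : Set G) := by
  apply le_antisymm
  · apply cent_le hCA hy
    rw [mem_centralizer_singleton_iff] at hyx ⊢
    exact hyx.symm
  · exact cent_le hCA hx hyx

theorem self_mem_cent (x : G) : x ∈ centralizer ({x} : Set G) := by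
  rw [mem_centralizer_singleton_iff]

theorem mem_cent_conj {h y a : G} :
    a ∈ centralizer ({h * y * h⁻¹} : Set G) ↔ h⁻¹ * a * h ∈ centralizer ({y} : Set G) := by
  rw [mem_centralizer_singleton_iff, mem_centralizer_singleton_iff]
  constructor
  · intro e
    calc h⁻¹ * a * h * y = h⁻¹ * (a * (h * y * h⁻¹)) * h := by group
      _ = h⁻¹ * ((h * y * h⁻¹) * a) * h := by rw [e]
      _ = y * (h⁻¹ * a * h) := by group
  · intro e
    calc a * (h * y * h⁻¹) = h * (h⁻¹ * a * h * y) * h⁻¹ := by group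
      _ = h * (y * (h⁻¹ * a * h)) * h⁻¹ := by rw [e]
      _ = h * y * h⁻¹ * a := by group

theorem conj_mem_cent_conj {h y a : G} (ha : a ∈ centralizer ({y} : Set G)) :
    h * a * h⁻¹ ∈ centralizer ({h * y * h⁻¹} : Set G) := by
  have e : h⁻¹ * (h * a * h⁻¹) * h = a := by group
  rw [mem_cent_conj, e]
  exact ha

theorem conj_ne_one {h y : G} (hy : y ≠ 1) : h * y * h⁻¹ ≠ 1 := by
  intro e
  apply hy
  have : y = h⁻¹ * (h * y * h⁻¹) * h := by group
  rw [this, e]
  group

theorem card_cent_conj (h x : G) :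
    Nat.card (centralizer ({h * x * h⁻¹} : Set G)) = Nat.card (centralizer ({x} : Set G)) := by
  apply Nat.card_congr
  refine ⟨fun a => ⟨h⁻¹ * a.1 * h, mem_cent_conj.1 a.2⟩,
    fun b => ⟨h * b.1 * h⁻¹, conj_mem_cent_conj b.2⟩, ?_, ?_⟩
  · intro a
    apply Subtype.ext
    show h * (h⁻¹ * a.1 * h) * h⁻¹ = a.1
    group
  · intro b
    apply Subtype.ext
    show h⁻¹ * (h * b.1 * h⁻¹) * h = b.1
    group

theorem mem_normalizer_of_conj (hCA : CA G) {x y g : G} (hx : x ≠ 1) (hy : y ≠ 1)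
    (hyx : y ∈ centralizer ({x} : Set G)) (hgy : g * y * g⁻¹ ∈ centralizer ({x} : Set G)) :
    g ∈ normalizer ((centralizer ({x} : Set G) : Subgroup G) : Set G) := by
  have h1 : centralizer ({y} : Set G) = centralizer ({x} : Set G) := cent_eq hCA hx hy hyx
  have h2 : centralizer ({g * y * g⁻¹} : Set G) = centralizer ({x} : Set G) :=
    cent_eq hCA hx (conj_ne_one hy) hgy
  rw [mem_normalizer_iff]
  intro a
  have e : g⁻¹ * (g * a * g⁻¹) * g = a := by group
  constructor
  · intro ha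
    rw [← h2, mem_cent_conj, e, h1]
    exact ha
  · intro ha
    rw [← h2, mem_cent_conj, e, h1] at ha
    exact ha

theorem exists_sylow_le [Finite G] (hCA : CA G) {x : G} (hx : x ≠ 1) {p : ℕ} [Fact p.Prime]
    (hp : p ∣ Nat.card (centralizer ({x} : Set G))) :
    ∃ P : Sylow p G, (P : Subgroup G) ≤ centralizer ({x} : Set G) := by
  obtain ⟨y, hy⟩ := exists_prime_orderOf_dvd_card' p hp
  have hy1 : (y : G) ≠ 1 := by
    intro e
    have : y = 1 := Subtype.ext e
    rw [this, orderOf_one] at hy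
    exact (Fact.out : p.Prime).one_lt.ne hy
  have hpg : IsPGroup p (zpowers (y : G)) := by
    apply IsPGroup.of_card (n := 1)
    rw [Nat.card_zpowers, Subgroup.orderOf_coe, hy, pow_one]
  obtain ⟨P, hP⟩ := hpg.exists_le_sylow
  have hyP : (y : G) ∈ (P : Subgroup G) := hP (mem_zpowers _)
  have : Nontrivial (P : Subgroup G) :=
    ⟨⟨⟨y, hyP⟩, 1, fun e => hy1 (congrArg Subtype.val e)⟩⟩
  have := (P.isPGroup').center_nontrivial
  obtain ⟨z, hz⟩ := exists_ne (1 : center (P : Subgroup G))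
  have hz1 : ((z : (P : Subgroup G)) : G) ≠ 1 := by
    intro e
    apply hz
    apply Subtype.ext
    apply Subtype.ext
    exact e
  have hzc : ∀ w ∈ (P : Subgroup G), w * ((z : (P : Subgroup G)) : G) = ((z : (P : Subgroup G)) : G) * w := by
    intro w hw
    have := Subgroup.mem_center_iff.1 z.2 ⟨w, hw⟩
    exact congrArg Subtype.val this
  have hzy : ((z : (P : Subgroup G)) : G) ∈ centralizer ({(y : G)} : Set G) := by
    rw [mem_centralizer_singleton_iff]
    exact (hzc _ hyP).symm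
  have hyx : centralizer ({(y : G)} : Set G) = centralizer ({x} : Set G) :=
    cent_eq hCA hx hy1 y.2
  rw [hyx] at hzy
  have hzx : centralizer ({((z : (P : Subgroup G)) : G)} : Set G) = centralizer ({x} : Set G) :=
    cent_eq hCA hx hz1 hzy
  refine ⟨P, ?_⟩
  intro w hw
  rw [← hzx, mem_centralizer_singleton_iff]
  exact hzc w hw

theorem exists_conj_cent [Finite G] (hCA : CA G) {x x' : G} (hx : x ≠ 1) (hx' : x' ≠ 1) {p : ℕ}
    (hp : p.Prime) (h1 : p ∣ Nat.card (centralizer ({x} : Set G)))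
    (h2 : p ∣ Nat.card (centralizer ({x'} : Set G))) :
    ∃ h : G, centralizer ({x'} : Set G) = centralizer ({h * x * h⁻¹} : Set G) := by
  have : Fact p.Prime := ⟨hp⟩
  obtain ⟨P, hP⟩ := exists_sylow_le hCA hx h1
  obtain ⟨P', hP'⟩ := exists_sylow_le hCA hx' h2
  obtain ⟨h, rfl⟩ := MulAction.exists_smul_eq G P P'
  have hpG : p ∣ Nat.card G := h1.trans (Subgroup.card_subgroup_dvd_card _)
  obtain ⟨y, hy⟩ := Subgroup.ne_bot_iff_exists_ne_one.1 (P.ne_bot_of_dvd_card hpG)
  have hy1 : (y : G) ≠ 1 := fun e => hy (Subtype.ext e)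
  have hyx : (y : G) ∈ centralizer ({x} : Set G) := hP y.2
  have hyP' : h * (y : G) * h⁻¹ ∈ ((h • P : Sylow p G) : Subgroup G) := by
    rw [Sylow.coe_subgroup_smul]
    have := Subgroup.smul_mem_pointwise_smul (y : G) (MulAut.conj h) (P : Subgroup G) y.2
    simpa [MulAut.smul_def] using this
  have hyx' : h * (y : G) * h⁻¹ ∈ centralizer ({x'} : Set G) := hP' hyP'
  refine ⟨h, ?_⟩
  rw [← cent_eq hCA hx' (conj_ne_one hy1) hyx']
  exact cent_eq hCA (conj_ne_one hx) (conj_ne_one hy1) (conj_mem_cent_conj hyx)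

end Cfsg.Agent.Helper10.CAOdd
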