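import Mathlib
import Cfsg.Agent.Lib.Helper10.CAOdd1
import Cfsg.Agent.S1526

set_option autoImplicit false

namespace Cfsg.Agent.Helper10.CAOdd

open Subgroup
open scoped Pointwise

universe u

variable {G : Type u} [Group G]

theorem CA.subgroup (hCA : CA G) (K : Subgroup G) : CA K := by
  intro x hx a ha b hb
  apply Subtype.ext
  have hx' : (x : G) ≠ 1 := fun e => hx (Subtype.ext e)
  rw [mem_centralizer_singleton_iff] at ha hb
  apply hCA x hx' a _ b _
  · rw [mem_centralizer_singleton_iff]; exact congrArg Subtype.val ha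
  · rw [mem_centralizer_singleton_iff]; exact congrArg Subtype.val hb

theorem card_cent_ne_one {x : G} (hx : x ≠ 1) : Nat.card (centralizer ({x} : Set G)) ≠ 1 := by
  intro h1
  have := (Nat.card_eq_one_iff_unique.1 h1).1
  exact hx (congrArg Subtype.val
    (Subsingleton.elim (⟨x, self_mem_cent x⟩ : centralizer ({x} : Set G)) 1))

theorem cent_ne_top (hCA : CA G) (hnab : ¬ ∀ a b : G, a * b = b * a) {x : G} (hx : x ≠ 1) :
    centralizer ({x} : Set G) ≠ ⊤ := by
  intro e
  apply hnab
  intro a b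
  exact hCA x hx a (e ▸ mem_top a) b (e ▸ mem_top b)

theorem solvable_of_abelian_normal [Finite G] (hCA : CA G)
    (IH : ∀ K : Subgroup G, K ≠ ⊤ → Group.IsSolvable K)
    (N : Subgroup G) [hNn : N.Normal] (hN : N ≠ ⊥) (hab : ∀ a ∈ N, ∀ b ∈ N, a * b = b * a) :
    Group.IsSolvable G := by
  by_cases hG : ∀ a b : G, a * b = b * a
  · exact Group.isSolvable_of_comm hG
  obtain ⟨v, hv⟩ := ne_bot_iff_exists_ne_one.1 hN
  have hv1 : (v : G) ≠ 1 := fun e => hv (Subtype.ext e)
  have hNA : N ≤ centralizer ({(v : G)} : Set G) := by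
    intro a ha
    rw [mem_centralizer_singleton_iff]
    exact hab a ha v v.2
  have hAn : (centralizer ({(v : G)} : Set G)).Normal := by
    rw [← normalizer_eq_top_iff, eq_top_iff]
    intro g _
    exact mem_normalizer_of_conj hCA hv1 hv1 (self_mem_cent _) (hNA (hNn.conj_mem v v.2 g))
  have hAt : centralizer ({(v : G)} : Set G) ≠ ⊤ := cent_ne_top hCA hG hv1
  have hcop : (Nat.card (centralizer ({(v : G)} : Set G))).Coprime
      (centralizer ({(v : G)} : Set G)).index := by
    by_contra hnc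
    obtain ⟨p, hp, hp1, hp2⟩ := Nat.Prime.not_coprime_iff_dvd.1 hnc
    have : Fact p.Prime := ⟨hp⟩
    obtain ⟨P, hP⟩ := exists_sylow_le hCA hv1 hp1
    exact P.not_dvd_index (hp2.trans (index_dvd_of_le hP))
  obtain ⟨K, hK⟩ := exists_right_complement'_of_coprime hcop
  have hKt : K ≠ ⊤ := by
    intro e
    rw [e, isComplement'_top_right] at hK
    have := self_mem_cent (v : G)
    rw [hK, mem_bot] at this
    exact hv1 this
  have : Group.IsSolvable K := IH K hKt
  have : Group.IsSolvable (centralizer ({(v : G)} : Set G)) :=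
    Group.isSolvable_of_comm (fun a b => Subtype.ext (hCA v hv1 a a.2 b b.2))
  have : Group.IsSolvable (G ⧸ centralizer ({(v : G)} : Set G)) := by
    apply Group.isSolvable_of_surjective
      (f := (QuotientGroup.mk' (centralizer ({(v : G)} : Set G))).comp K.subtype)
    intro q
    obtain ⟨g, rfl⟩ := QuotientGroup.mk'_surjective _ q
    obtain ⟨⟨a, k⟩, hak⟩ := hK.2 g
    refine ⟨k, ?_⟩
    simp only [] at hak
    rw [← hak]
    simp only [MonoidHom.comp_apply, Subgroup.subtype_apply, map_mul]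
    rw [show (QuotientGroup.mk' (centralizer ({(v : G)} : Set G))) (a : G) = 1 from
      (QuotientGroup.eq_one_iff (a : G)).2 a.2, one_mul]
  exact Group.isSolvable_of_ker_le_range (centralizer ({(v : G)} : Set G)).subtype
    (QuotientGroup.mk' (centralizer ({(v : G)} : Set G)))
    (by rw [QuotientGroup.ker_mk', Subgroup.range_subtype])

theorem exists_abelian_normal [Finite G]
    (IH : ∀ K : Subgroup G, K ≠ ⊤ → Group.IsSolvable K)
    (N₀ : Subgroup G) (hn0 : N₀.Normal) (h0 : N₀ ≠ ⊥) (h1 : N₀ ≠ ⊤) :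
    ∃ N : Subgroup G, N.Normal ∧ N ≠ ⊥ ∧ ∀ a ∈ N, ∀ b ∈ N, a * b = b * a := by
  obtain ⟨N, ⟨hNn, hNb, hNt⟩, hmin⟩ :=
    WellFounded.has_min (measure (fun N : Subgroup G => Nat.card N)).wf
      {N : Subgroup G | N.Normal ∧ N ≠ ⊥ ∧ N ≠ ⊤} ⟨N₀, hn0, h0, h1⟩
  have : Group.IsSolvable N := IH N hNt
  have : Nontrivial N := (Subgroup.nontrivial_iff_ne_bot N).2 hNb
  have hlt := Group.IsSolvable.commutator_lt_top_of_nontrivial N
  have hle : ⁅N, N⁆ ≤ N := Subgroup.commutator_le_left N N
  have hne : ⁅N, N⁆ ≠ N := by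
    intro e
    have e2 : Subgroup.map N.subtype (_root_.commutator N) = Subgroup.map N.subtype ⊤ := by
      rw [map_subtype_commutator, e, ← MonoidHom.range_eq_map, Subgroup.range_subtype]
    exact hlt.ne (Subgroup.map_injective N.subtype_injective e2)
  have hbot : ⁅N, N⁆ = ⊥ := by
    by_contra hb
    have hmem : ⁅N, N⁆ ∈ {N : Subgroup G | N.Normal ∧ N ≠ ⊥ ∧ N ≠ ⊤} := by
      refine ⟨Subgroup.commutator_normal N N, hb, ?_⟩
      intro e
      apply hNt
      rw [eq_top_iff, ← e]
      exact hle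
    have := hmin _ hmem
    apply hne
    apply Subgroup.eq_of_le_of_card_ge hle
    exact not_lt.1 this
  refine ⟨N, hNn, hNb, ?_⟩
  intro a ha b hb
  have := commutator_eq_bot_iff_le_centralizer.1 hbot ha
  rw [mem_centralizer_iff] at this
  exact (this b hb).symm

theorem cent_lt_normalizer [Finite G] (hCA : CA G) (hnab : ¬ ∀ a b : G, a * b = b * a)
    (hsimp : ∀ N : Subgroup G, N.Normal → N = ⊥ ∨ N = ⊤) {x : G} (hx : x ≠ 1) :
    centralizer ({x} : Set G) <
      normalizer ((centralizer ({x} : Set G) : Subgroup G) : Set G) := by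
  apply lt_of_le_of_ne le_normalizer
  intro heq
  obtain ⟨p, hp, hpd⟩ := Nat.exists_prime_and_dvd (card_cent_ne_one hx)
  have : Fact p.Prime := ⟨hp⟩
  obtain ⟨P, hP⟩ := exists_sylow_le hCA hx hpd
  have hpG : p ∣ Nat.card G := hpd.trans (card_subgroup_dvd_card _)
  have hPb := P.ne_bot_of_dvd_card hpG
  obtain ⟨y, hy⟩ := ne_bot_iff_exists_ne_one.1 hPb
  have hy1 : (y : G) ≠ 1 := fun e => hy (Subtype.ext e)
  have hNC : normalizer ((P : Subgroup G) : Set G) ≤ centralizer ((P : Subgroup G) : Set G) := by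
    intro g hg
    have hgy : g * y * g⁻¹ ∈ (P : Subgroup G) := (mem_normalizer_iff.1 hg y).1 y.2
    have hgN : g ∈ normalizer ((centralizer ({x} : Set G) : Subgroup G) : Set G) :=
      mem_normalizer_of_conj hCA hx hy1 (hP y.2) (hP hgy)
    rw [← heq] at hgN
    rw [mem_centralizer_iff]
    intro w hw
    exact hCA x hx w (hP hw) g hgN
  have hc := MonoidHom.ker_transferSylow_isComplement' P hNC
  rcases hsimp (MonoidHom.transferSylow P hNC).ker (MonoidHom.normal_ker _) with hk | hk
  · rw [hk, isComplement'_bot_left] at hc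
    apply cent_ne_top hCA hnab hx
    rw [eq_top_iff, ← hc]
    exact hP
  · rw [hk, isComplement'_top_left] at hc
    exact hPb hc

theorem simple_false [Finite G] (hodd : Odd (Nat.card G)) (hCA : CA G)
    (hnab : ¬ ∀ a b : G, a * b = b * a)
    (hsimp : ∀ N : Subgroup G, N.Normal → N = ⊥ ∨ N = ⊤) : False := by
  classical
  obtain ⟨x₀, hx₀⟩ : ∃ x : G, x ≠ 1 := by
    by_contra hne
    push Not at hne
    exact hnab (fun a b => by rw [hne a, hne b])
  let S : Set ℕ := {n | ∃ x : G, x ≠ 1 ∧ Nat.card (centralizer ({x} : Set G)) = n}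
  have hSfin : S.Finite := (Set.finite_Iic (Nat.card G)).subset (by
    rintro n ⟨x, _, rfl⟩
    exact Nat.le_of_dvd Nat.card_pos (card_subgroup_dvd_card _))
  let _ : Fintype S := hSfin.fintype
  let rep : S → G := fun i => Classical.choose i.2
  have hrep1 : ∀ i : S, rep i ≠ 1 := fun i => (Classical.choose_spec i.2).1
  have hrepc : ∀ i : S, Nat.card (centralizer ({rep i} : Set G)) = i.1 :=
    fun i => (Classical.choose_spec i.2).2
  refine Cfsg.Agent.S1526.result hodd (ι := S) ?_
    (fun i => normalizer ((centralizer ({rep i} : Set G) : Subgroup G) : Set G))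
    (fun i => centralizer ({rep i} : Set G)) ?_ ?_ ?_ ?_ ?_ ?_ ?_
  · by_contra hlt
    have hsub : Subsingleton S := Fintype.card_le_one_iff_subsingleton.1 (by omega)
    have hall : ∀ y : G, y ≠ 1 → Nat.card (centralizer ({y} : Set G)) =
        Nat.card (centralizer ({x₀} : Set G)) := by
      intro y hy
      have := Subsingleton.elim (⟨_, y, hy, rfl⟩ : S) ⟨_, x₀, hx₀, rfl⟩
      exact congrArg Subtype.val this
    apply cent_ne_top hCA hnab hx₀
    rw [← index_eq_one, Nat.eq_one_iff_not_exists_prime_dvd]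
    intro p hp hpd
    have : Fact p.Prime := ⟨hp⟩
    have hpG : p ∣ Nat.card G := hpd.trans (index_dvd_card _)
    obtain ⟨y, hy⟩ := exists_prime_orderOf_dvd_card' p hpG
    have hy1 : y ≠ 1 := by
      rintro rfl
      rw [orderOf_one] at hy
      exact hp.one_lt.ne hy
    have hpy : p ∣ Nat.card (centralizer ({y} : Set G)) := by
      rw [← hy]
      exact Subgroup.orderOf_dvd_natCard _ (self_mem_cent y)
    rw [hall y hy1] at hpy
    obtain ⟨P, hP⟩ := exists_sylow_le hCA hx₀ hpy
    exact P.not_dvd_index (hpd.trans (index_dvd_of_le hP))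
  · intro i
    exact cent_lt_normalizer hCA hnab hsimp (hrep1 i)
  · intro i e
    have := self_mem_cent (rep i)
    rw [e, mem_bot] at this
    exact hrep1 i this
  · intro i x hx h hh
    exact (mem_normalizer_iff.1 hx h).1 hh
  · intro i h hh h1
    rw [cent_eq hCA (hrep1 i) h1 hh]
    exact inf_le_right
  · intro i j hij
    by_contra hnc
    obtain ⟨p, hp, hp1, hp2⟩ := Nat.Prime.not_coprime_iff_dvd.1 hnc
    obtain ⟨h, hh⟩ := exists_conj_cent hCA (hrep1 i) (hrep1 j) hp hp1 hp2
    apply hij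
    apply Subtype.ext
    rw [← hrepc i, ← hrepc j, hh, card_cent_conj]
  · intro i
    refine ⟨?_, rfl⟩
    intro g hg y hy hgy
    by_contra hy1
    exact hg (mem_normalizer_of_conj hCA (hrep1 i) hy1 hy hgy)
  · intro g hg
    obtain ⟨p, hp, hpd⟩ := Nat.exists_prime_and_dvd (card_cent_ne_one hg)
    have hpd' : p ∣ Nat.card (centralizer
        ({rep ⟨_, g, hg, rfl⟩} : Set G)) := by
      rw [hrepc ⟨_, g, hg, rfl⟩]
      exact hpd
    obtain ⟨h, hh⟩ := exists_conj_cent hCA hg (hrep1 ⟨_, g, hg, rfl⟩) hp hpd hpd'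
    refine ⟨⟨_, g, hg, rfl⟩, h, ?_⟩
    show h * g * h⁻¹ ∈ centralizer ({rep ⟨_, g, hg, rfl⟩} : Set G)
    rw [hh]
    exact self_mem_cent _

theorem main : ∀ (n : ℕ) (G : Type u) [Group G] [Finite G], Nat.card G = n →
    Odd (Nat.card G) → CA G → Group.IsSolvable G := by
  intro n
  induction n using Nat.strong_induction_on with
  | _ n ih =>
    intro G _ _ hn hodd hCA
    have IH : ∀ K : Subgroup G, K ≠ ⊤ → Group.IsSolvable K := by
      intro K hK
      apply ih (Nat.card K) _ K rfl _ (hCA.subgroup K)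
      · rw [← hn]
        exact lt_of_le_of_ne (Subgroup.card_le_card_group K)
          (fun e => hK ((Subgroup.card_eq_iff_eq_top K).1 e))
      · exact Odd.of_dvd_nat hodd (card_subgroup_dvd_card K)
    by_cases hab : ∀ a b : G, a * b = b * a
    · exact Group.isSolvable_of_comm hab
    by_cases hs : ∃ N : Subgroup G, N.Normal ∧ N ≠ ⊥ ∧ N ≠ ⊤
    · obtain ⟨N₀, hn0, h0, h1⟩ := hs
      obtain ⟨N, hNn, hNb, hNab⟩ := exists_abelian_normal IH N₀ hn0 h0 h1
      exact solvable_of_abelian_normal hCA IH N hNb hNab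
    · exfalso
      apply simple_false hodd hCA hab
      intro N hN
      by_contra hcon
      push Not at hcon
      exact hs ⟨N, hN, hcon.1, hcon.2⟩

end Cfsg.Agent.Helper10.CAOdd
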