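import Mathlib

/-!
Class sizes: transfer of element counts between two groups with the same
multiset of class sizes (used for the Cossey--Hawkes--Mann nilpotency criterion).
-/

namespace Cfsg.Agent.Helper10.CHM

open Subgroup

variable {X : Type*} [Group X]

/-- size of the conjugacy class of `x` -/
noncomputable def cs (x : X) : ℕ := Nat.card (ConjClasses.mk x).carrier

theorem cs_eq_index (x : X) : cs x = (centralizer ({x} : Set X)).index := by
  unfold cs
  rw [← ConjAct.orbit_eq_carrier_conjClasses, Nat.card_coe_set_eq, ← MulAction.index_stabilizer,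
    Subgroup.centralizer_eq_comap_stabilizer]
  exact (Subgroup.index_comap_of_surjective (MulAction.stabilizer (ConjAct X) x)
    (f := ConjAct.toConjAct.toMonoidHom) ConjAct.toConjAct.surjective).symm

/-- the elements with class size `k` are the disjoint union of the classes of size `k` -/
noncomputable def fiberEquiv (k : ℕ) :
    {x : X // cs x = k} ≃
      Σ C : {C : ConjClasses X // Nat.card C.carrier = k}, (C.1.carrier) where
  toFun x := ⟨⟨ConjClasses.mk x.1, x.2⟩, ⟨x.1, ConjClasses.mem_carrier_mk⟩⟩
  invFun y := ⟨y.2.1, by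
    have h : ConjClasses.mk y.2.1 = y.1.1 := ConjClasses.mem_carrier_iff_mk_eq.mp y.2.2
    unfold cs
    rw [h]
    exact y.1.2⟩
  left_inv x := rfl
  right_inv y := by
    obtain ⟨⟨C, hC⟩, ⟨x, hx⟩⟩ := y
    have h : ConjClasses.mk x = C := ConjClasses.mem_carrier_iff_mk_eq.mp hx
    subst h
    rfl

theorem card_fiber [Finite X] (k : ℕ) :
    Nat.card {x : X // cs x = k} = Nat.card {C : ConjClasses X // Nat.card C.carrier = k} * k := by
  classical
  letI : Fintype {C : ConjClasses X // Nat.card C.carrier = k} := Fintype.ofFinite _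
  rw [Nat.card_congr (fiberEquiv k), Nat.card_sigma]
  rw [Finset.sum_congr rfl (fun C _ => C.2)]
  rw [Finset.sum_const, smul_eq_mul, Finset.card_univ, Nat.card_eq_fintype_card]

/-- two finite groups with the same class-size statistics admit a class-size preserving
bijection -/
theorem exists_equiv {G H : Type*} [Group G] [Finite G] [Group H] [Finite H]
    (h : ∀ k : ℕ, Nat.card {C : ConjClasses G // Nat.card C.carrier = k} =
      Nat.card {C : ConjClasses H // Nat.card C.carrier = k}) :
    ∃ e : G ≃ H, ∀ x, cs (e x) = cs x := by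
  have hk : ∀ k : ℕ, Nonempty ({x : G // cs x = k} ≃ {y : H // cs y = k}) := by
    intro k
    rw [← Finite.card_eq, card_fiber, card_fiber, h k]
  exact ⟨Equiv.ofFiberEquiv (fun k => (hk k).some), fun x => Equiv.ofFiberEquiv_map _ x⟩

end Cfsg.Agent.Helper10.CHM
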