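import Mathlib
import Cfsg.Agent.Lib.Helper10.CHM1

/-!
Sylow counting inside centralizers; the key double count for the
Cossey--Hawkes--Mann nilpotency criterion.
-/

set_option linter.unusedSectionVars false

namespace Cfsg.Agent.Helper10.CHM

open Subgroup

variable {X : Type*} [Group X] [Finite X] (p : ℕ) [Fact p.Prime]

theorem card_eq_card_mul_relIndex {H K : Subgroup X} (h : H ≤ K) :
    Nat.card K = Nat.card H * H.relIndex K := by
  have h1 := Subgroup.card_mul_index (H.subgroupOf K)
  rw [← h1, Subgroup.relIndex]
  congr 1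
  exact Nat.card_congr (Subgroup.subgroupOfEquivOfLe h).toEquiv

theorem factorization_card_of_not_dvd_index (K : Subgroup X) (hK : ¬ p ∣ K.index) :
    (Nat.card K).factorization p = (Nat.card X).factorization p := by
  have h1 := Subgroup.card_mul_index K
  rw [← h1, Nat.factorization_mul Nat.card_pos.ne' Subgroup.index_ne_zero_of_finite]
  simp [Nat.factorization_eq_zero_of_not_dvd hK]

/-- the Sylow `p`-subgroups of `X` inside a subgroup `K` of index prime to `p` are the
Sylow `p`-subgroups of `K` -/
noncomputable def sylowEquivOfLe (K : Subgroup X) (hK : ¬ p ∣ K.index) :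
    {Q : Sylow p X // (Q : Subgroup X) ≤ K} ≃ Sylow p K where
  toFun Q := Q.1.subtype Q.2
  invFun R := ⟨Sylow.ofCard ((R : Subgroup K).map K.subtype) (by
      rw [Subgroup.card_subtype, Sylow.card_eq_multiplicity,
        factorization_card_of_not_dvd_index p K hK]), by
      change (R : Subgroup K).map K.subtype ≤ K
      exact Subgroup.map_subtype_le _⟩
  left_inv Q := by
    apply Subtype.ext
    apply Sylow.ext
    change ((Q.1.subtype Q.2 : Sylow p K) : Subgroup K).map K.subtype = Q.1
    rw [Sylow.coe_subtype, Subgroup.map_subgroupOf_eq_of_le Q.2]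
  right_inv R := by
    apply Sylow.ext
    rw [Sylow.coe_subtype]
    change ((R : Subgroup K).map K.subtype).subgroupOf K = R
    rw [Subgroup.subgroupOf, Subgroup.comap_map_eq_self_of_injective K.subtype_injective]

/-- number of Sylow `p`-subgroups centralizing `x` -/
noncomputable def nu (x : X) : ℕ :=
  Nat.card {Q : Sylow p X // (Q : Subgroup X) ≤ centralizer ({x} : Set X)}

theorem nu_eq_zero {x : X} (h : p ∣ cs x) : nu p x = 0 := by
  unfold nu
  rw [Nat.card_eq_zero]
  left
  refine ⟨fun Q => ?_⟩
  have h1 := Subgroup.index_dvd_of_le Q.2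
  rw [← cs_eq_index] at h1
  exact Q.1.not_dvd_index (h.trans h1)

theorem nu_modEq {x : X} (h : ¬ p ∣ cs x) : nu p x ≡ 1 [MOD p] := by
  unfold nu
  rw [cs_eq_index] at h
  rw [Nat.card_congr (sylowEquivOfLe p _ h)]
  exact card_sylow_modEq_one p _

theorem nu_pos {x : X} (h : ¬ p ∣ cs x) : 1 ≤ nu p x := by
  have h1 := nu_modEq p h
  have hp := (Fact.out : p.Prime)
  by_contra hc
  have h0 : nu p x = 0 := by omega
  rw [h0] at h1
  have h2 : p ∣ 1 := by
    have := (Nat.modEq_iff_dvd' (Nat.zero_le 1)).mp h1
    simpa using this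
  exact hp.one_lt.ne' (Nat.dvd_one.mp h2)

theorem centralizer_singleton_mul_central (x : X) {z : X} (hz : z ∈ center X) :
    centralizer ({x * z} : Set X) = centralizer ({x} : Set X) := by
  ext y
  simp only [Subgroup.mem_centralizer_iff, Set.mem_singleton_iff, forall_eq]
  have hzy : z * y = y * z := (Subgroup.mem_center_iff.mp hz y).symm
  constructor
  · intro h
    have : x * z * y = y * (x * z) := h
    calc x * y = x * z * y * z⁻¹ := by rw [mul_assoc x z y, hzy]; group
      _ = y * (x * z) * z⁻¹ := by rw [this]
      _ = y * x := by group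
  · intro h
    calc x * z * y = x * y * z := by rw [mul_assoc, hzy, ← mul_assoc]
      _ = y * x * z := by rw [h]
      _ = y * (x * z) := by group

theorem nu_mul_central (x : X) {z : X} (hz : z ∈ center X) : nu p (x * z) = nu p x := by
  unfold nu
  rw [centralizer_singleton_mul_central x hz]

theorem cs_mul_central (x : X) {z : X} (hz : z ∈ center X) : cs (x * z) = cs x := by
  rw [cs_eq_index, cs_eq_index, centralizer_singleton_mul_central x hz]

end Cfsg.Agent.Helper10.CHM
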