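import Mathlib
import Cfsg.Agent.Lib.Helper10.CHM2

/-!
The double count `∑ ν = n_p · |C(P)|` and the coset-divisibility lemma.
-/

set_option linter.unusedSectionVars false

namespace Cfsg.Agent.Helper10.CHM

open Subgroup
open scoped Pointwise

variable {X : Type*} [Group X] [Finite X] (p : ℕ) [Fact p.Prime]

theorem card_centralizer_smul (g : X) (P : Sylow p X) :
    Nat.card (centralizer ((g • P : Sylow p X) : Set X)) = Nat.card (centralizer (P : Set X)) := by
  refine (Nat.card_congr ?_).symm
  refine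
    { toFun := fun y => ⟨g * y.1 * g⁻¹, ?_⟩
      invFun := fun y => ⟨g⁻¹ * y.1 * g, ?_⟩
      left_inv := fun y => by apply Subtype.ext; simp only []; group
      right_inv := fun y => by apply Subtype.ext; simp only []; group }
  · rw [Subgroup.mem_centralizer_iff]
    intro h hh
    have hh' : h ∈ MulAut.conj g • (P : Subgroup X) := hh
    rw [Subgroup.mem_smul_pointwise_iff_exists] at hh'
    obtain ⟨s, hs, rfl⟩ := hh'
    have hy := (Subgroup.mem_centralizer_iff.mp y.2) s hs
    simp only [MulAut.smul_def, MulAut.conj_apply]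
    calc g * s * g⁻¹ * (g * y.1 * g⁻¹) = g * (s * y.1) * g⁻¹ := by group
      _ = g * (y.1 * s) * g⁻¹ := by rw [hy]
      _ = g * y.1 * g⁻¹ * (g * s * g⁻¹) := by group
  · rw [Subgroup.mem_centralizer_iff]
    intro h hh
    have hgh : g * h * g⁻¹ ∈ ((g • P : Sylow p X) : Subgroup X) := by
      change g * h * g⁻¹ ∈ MulAut.conj g • (P : Subgroup X)
      rw [Subgroup.mem_smul_pointwise_iff_exists]
      exact ⟨h, hh, by simp [MulAut.smul_def]⟩
    have hy := (Subgroup.mem_centralizer_iff.mp y.2) _ hgh
    calc h * (g⁻¹ * y.1 * g) = g⁻¹ * (g * h * g⁻¹ * y.1) * g := by group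
      _ = g⁻¹ * (y.1 * (g * h * g⁻¹)) * g := by rw [hy]
      _ = g⁻¹ * y.1 * g * h := by group

theorem card_centralizer_sylow (P Q : Sylow p X) :
    Nat.card (centralizer (Q : Set X)) = Nat.card (centralizer (P : Set X)) := by
  obtain ⟨g, rfl⟩ := MulAction.exists_smul_eq X P Q
  exact card_centralizer_smul p g P

theorem le_centralizer_singleton_iff (Q : Subgroup X) (x : X) :
    Q ≤ centralizer ({x} : Set X) ↔ x ∈ centralizer (Q : Set X) := by
  constructor
  · intro h
    rw [Subgroup.mem_centralizer_iff]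
    intro q hq
    have := (Subgroup.mem_centralizer_iff.mp (h hq)) x rfl
    exact this.symm
  · intro h q hq
    rw [Subgroup.mem_centralizer_iff]
    intro y hy
    rw [Set.mem_singleton_iff] at hy
    subst hy
    exact ((Subgroup.mem_centralizer_iff.mp h) q hq).symm

/-- double counting of pairs (x, Q) with Q a Sylow subgroup centralizing x -/
theorem sum_nu [Fintype X] (P : Sylow p X) :
    ∑ x : X, nu p x = Nat.card (Sylow p X) * Nat.card (centralizer (P : Set X)) := by
  classical
  letI : Fintype (Sylow p X) := Fintype.ofFinite _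
  have e : (Σ x : X, {Q : Sylow p X // (Q : Subgroup X) ≤ centralizer ({x} : Set X)}) ≃
      (Σ Q : Sylow p X, centralizer (Q : Set X)) :=
    { toFun := fun a => ⟨a.2.1, ⟨a.1, (le_centralizer_singleton_iff _ _).mp a.2.2⟩⟩
      invFun := fun b => ⟨b.2.1, ⟨b.1, (le_centralizer_singleton_iff _ _).mpr b.2.2⟩⟩
      left_inv := fun a => rfl
      right_inv := fun b => rfl }
  have h1 : ∑ x : X, nu p x =
      Nat.card (Σ x : X, {Q : Sylow p X // (Q : Subgroup X) ≤ centralizer ({x} : Set X)}) := by
    rw [Nat.card_sigma]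
    rfl
  rw [h1, Nat.card_congr e, Nat.card_sigma]
  rw [Finset.sum_congr rfl (fun Q _ => card_centralizer_sylow p P Q)]
  simp only [Finset.sum_const, smul_eq_mul, Finset.card_univ, Nat.card_eq_fintype_card]

/-- a function constant on the cosets of `Z` has sum divisible by `|Z|` -/
theorem card_dvd_sum_of_invariant [Fintype X] (Z : Subgroup X) (f : X → ℕ)
    (hf : ∀ x, ∀ z ∈ Z, f (x * z) = f x) : Nat.card Z ∣ ∑ x : X, f x := by
  classical
  letI : Fintype (X ⧸ Z) := Fintype.ofFinite _
  letI : Fintype Z := Fintype.ofFinite _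
  let e : (X ⧸ Z) × Z ≃ X :=
    { toFun := fun a => a.1.out * a.2.1
      invFun := fun x => ⟨(x : X ⧸ Z), ⟨(x : X ⧸ Z).out⁻¹ * x,
        QuotientGroup.eq.mp (QuotientGroup.out_eq' (x : X ⧸ Z))⟩⟩
      left_inv := fun a => by
        obtain ⟨q, z⟩ := a
        have h1 : ((q.out * z.1 : X) : X ⧸ Z) = q := by
          rw [QuotientGroup.mk_mul_of_mem _ z.2, QuotientGroup.out_eq']
        refine Prod.ext h1 ?_
        apply Subtype.ext
        simp only []
        rw [h1]
        group
      right_inv := fun x => by simp }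
  rw [← Equiv.sum_comp e f, Fintype.sum_prod_type]
  have h2 : ∀ q : X ⧸ Z, ∑ z : Z, f (e (q, z)) = Nat.card Z * f q.out := by
    intro q
    rw [Finset.sum_congr rfl (fun z _ => hf q.out z.1 z.2)]
    rw [Finset.sum_const, smul_eq_mul, Finset.card_univ, Nat.card_eq_fintype_card]
  rw [Finset.sum_congr rfl (fun q _ => h2 q), ← Finset.mul_sum]
  exact Dvd.intro _ rfl

end Cfsg.Agent.Helper10.CHM
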