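import Mathlib
import Cfsg.Agent.Lib.Helper10.CHM3

/-!
Key lemma: if the number of elements of `p'`-index is `|P ∩ Z(X)| · |X : P|` then the Sylow
`p`-subgroup `P` is normal.
-/

set_option linter.unusedSectionVars false
set_option linter.style.haveILetI false

namespace Cfsg.Agent.Helper10.CHM

open Subgroup

variable {X : Type*} [Group X] [Finite X] (p : ℕ) [Fact p.Prime]

theorem le_centralizer_one (Q : Subgroup X) : Q ≤ centralizer ({1} : Set X) := by
  intro y _
  rw [Subgroup.mem_centralizer_iff]
  intro h hh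
  rw [Set.mem_singleton_iff] at hh
  subst hh
  simp

theorem cs_one : cs (1 : X) = 1 := by
  rw [cs_eq_index, Subgroup.index_eq_one, eq_top_iff]
  exact le_centralizer_one ⊤

theorem sylow_normal_of_count (P : Sylow p X)
    (hA : Nat.card {x : X // ¬ p ∣ cs x} * Nat.card (P : Subgroup X) =
      Nat.card ↥((P : Subgroup X) ⊓ center X) * Nat.card X) :
    (P : Subgroup X).Normal := by
  classical
  letI : Fintype X := Fintype.ofFinite X
  have hp := (Fact.out : p.Prime)
  have hu : ¬ p ∣ (P : Subgroup X).index := P.not_dvd_index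
  have hX : Nat.card (P : Subgroup X) * (P : Subgroup X).index = Nat.card X :=
    Subgroup.card_mul_index _
  have hPpos : 0 < Nat.card (P : Subgroup X) := Nat.card_pos
  -- a = z u
  have ha : Nat.card {x : X // ¬ p ∣ cs x} =
      Nat.card ↥((P : Subgroup X) ⊓ center X) * (P : Subgroup X).index := by
    apply Nat.eq_of_mul_eq_mul_right hPpos
    rw [hA, ← hX]; ring
  -- indicator and the decomposition ν = ind + p g
  let ind : X → ℕ := fun x => if p ∣ cs x then 0 else 1
  let g : X → ℕ := fun x => if p ∣ cs x then 0 else (nu p x - 1) / p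
  have hdec : ∀ x, nu p x = ind x + p * g x := by
    intro x
    by_cases h : p ∣ cs x
    · simp [ind, g, h, nu_eq_zero p h]
    · have h1 := nu_pos p h
      have h2 : p ∣ nu p x - 1 := (Nat.modEq_iff_dvd' h1).mp (nu_modEq p h).symm
      simp only [ind, g, h, if_false]
      rw [Nat.mul_div_cancel' h2]
      omega
  have hind : ∑ x : X, ind x = Nat.card {x : X // ¬ p ∣ cs x} := by
    rw [Nat.card_eq_fintype_card, Fintype.card_subtype, Finset.card_filter]
    refine Finset.sum_congr rfl (fun x _ => ?_)
    by_cases h : p ∣ cs x <;> simp [ind, h]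
  have hginv : ∀ x, ∀ z ∈ ((P : Subgroup X) ⊓ center X), g (x * z) = g x := by
    intro x z hz
    have hz' : z ∈ center X := hz.2
    simp only [g, cs_mul_central x hz', nu_mul_central p x hz']
  obtain ⟨m, hm⟩ := card_dvd_sum_of_invariant ((P : Subgroup X) ⊓ center X) g hginv
  have hsum : Nat.card (Sylow p X) * Nat.card (centralizer (P : Set X)) =
      Nat.card {x : X // ¬ p ∣ cs x} + p * (Nat.card ↥((P : Subgroup X) ⊓ center X) * m) := by
    rw [← sum_nu p P, Finset.sum_congr rfl (fun x _ => hdec x), Finset.sum_add_distrib,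
      ← Finset.mul_sum, hind, hm]
  -- p-power orders
  have hle1 : (P : Subgroup X) ⊓ center X ≤ (P : Subgroup X) ⊓ centralizer (P : Set X) :=
    inf_le_inf_left _ (Subgroup.center_le_centralizer _)
  have hle2 : (P : Subgroup X) ⊓ centralizer (P : Set X) ≤ centralizer (P : Set X) := inf_le_right
  obtain ⟨i, hi⟩ := (P.isPGroup'.to_le (inf_le_left : (P : Subgroup X) ⊓ center X ≤ P)).exists_card_eq
  obtain ⟨j, hj⟩ := (P.isPGroup'.to_le
    (inf_le_left : (P : Subgroup X) ⊓ centralizer (P : Set X) ≤ P)).exists_card_eq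
  have hzz' := Subgroup.card_dvd_of_le hle1
  have hz'c := Subgroup.card_dvd_of_le hle2
  have hij : i ≤ j := by
    rw [hi, hj] at hzz'
    exact (Nat.pow_dvd_pow_iff_le_right hp.one_lt).mp hzz'
  have hzpos : 0 < Nat.card ↥((P : Subgroup X) ⊓ center X) := Nat.card_pos
  -- z' = z
  have hz'z : Nat.card ↥((P : Subgroup X) ⊓ centralizer (P : Set X)) =
      Nat.card ↥((P : Subgroup X) ⊓ center X) := by
    by_contra hne
    have hlt : i < j := by
      rcases Nat.lt_or_ge i j with h | h
      · exact h
      · exfalso; apply hne; rw [hi, hj, le_antisymm hij h]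
    have h1 : p * Nat.card ↥((P : Subgroup X) ⊓ center X) ∣
        Nat.card ↥((P : Subgroup X) ⊓ centralizer (P : Set X)) := by
      rw [hi, hj, ← pow_succ']
      exact pow_dvd_pow p hlt
    have h2 : p * Nat.card ↥((P : Subgroup X) ⊓ center X) ∣
        Nat.card (Sylow p X) * Nat.card (centralizer (P : Set X)) :=
      (h1.trans hz'c).trans (Dvd.intro_left _ rfl)
    rw [hsum] at h2
    have h3 : p * Nat.card ↥((P : Subgroup X) ⊓ center X) ∣ Nat.card {x : X // ¬ p ∣ cs x} := by
      have h4 : p * Nat.card ↥((P : Subgroup X) ⊓ center X) ∣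
          p * (Nat.card ↥((P : Subgroup X) ⊓ center X) * m) := ⟨m, by ring⟩
      exact (Nat.dvd_add_left h4).mp h2
    rw [ha, mul_comm p] at h3
    exact hu ((Nat.mul_dvd_mul_iff_left hzpos).mp h3)
  -- the normalizer bound
  have hPN : (P : Subgroup X) ≤ normalizer (P : Set X) := Subgroup.le_normalizer
  have hCN : centralizer (P : Set X) ≤ normalizer (P : Set X) := Subgroup.centralizer_le_normalizer _
  have hr1 : Nat.card (centralizer (P : Set X)) =
      Nat.card ↥((P : Subgroup X) ⊓ centralizer (P : Set X)) *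
        (P : Subgroup X).relIndex (centralizer (P : Set X)) := by
    rw [card_eq_card_mul_relIndex hle2, Subgroup.inf_relIndex_right]
  have hr2 : Nat.card (normalizer (P : Set X)) =
      Nat.card (P : Subgroup X) * (P : Subgroup X).relIndex (normalizer (P : Set X)) :=
    card_eq_card_mul_relIndex hPN
  have hr3 : (P : Subgroup X).relIndex (centralizer (P : Set X)) ≤
      (P : Subgroup X).relIndex (normalizer (P : Set X)) := by
    apply Subgroup.relIndex_le_of_le_right hCN
    intro h0
    rw [h0, mul_zero] at hr2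
    exact (Nat.card_pos (α := normalizer (P : Set X))).ne' hr2
  have hn : Nat.card (Sylow p X) = (normalizer (P : Set X)).index := P.card_eq_index_normalizer
  have hNX : Nat.card (normalizer (P : Set X)) * (normalizer (P : Set X)).index = Nat.card X :=
    Subgroup.card_mul_index _
  -- u = s n
  have hus : (P : Subgroup X).index =
      (P : Subgroup X).relIndex (normalizer (P : Set X)) * Nat.card (Sylow p X) := by
    apply Nat.eq_of_mul_eq_mul_left hPpos
    rw [hX, ← hNX, hr2, hn]; ring
  -- ∑ ν ≤ a
  have hle : Nat.card (Sylow p X) * Nat.card (centralizer (P : Set X)) ≤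
      Nat.card {x : X // ¬ p ∣ cs x} := by
    rw [ha, hus, hr1, hz'z]
    calc Nat.card (Sylow p X) * (Nat.card ↥((P : Subgroup X) ⊓ center X) *
          (P : Subgroup X).relIndex (centralizer (P : Set X)))
        = Nat.card ↥((P : Subgroup X) ⊓ center X) *
          ((P : Subgroup X).relIndex (centralizer (P : Set X)) * Nat.card (Sylow p X)) := by ring
      _ ≤ Nat.card ↥((P : Subgroup X) ⊓ center X) *
          ((P : Subgroup X).relIndex (normalizer (P : Set X)) * Nat.card (Sylow p X)) :=
        Nat.mul_le_mul_left _ (Nat.mul_le_mul_right _ hr3)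
  -- hence ∑ ν = ∑ ind, so ν = ind pointwise
  have hpt : ∀ x, ind x ≤ nu p x := fun x => by rw [hdec x]; exact Nat.le_add_right _ _
  have hsumeq : ∑ x : X, ind x = ∑ x : X, nu p x := by
    apply le_antisymm (Finset.sum_le_sum (fun x _ => hpt x))
    rw [sum_nu p P, hind]
    exact hle
  have hall := (Finset.sum_eq_sum_iff_of_le (fun x _ => hpt x)).mp hsumeq
  have h1 : nu p (1 : X) = 1 := by
    rw [← hall 1 (Finset.mem_univ _)]
    have : ¬ p ∣ cs (1 : X) := by rw [cs_one]; exact hp.one_lt.ne' ∘ Nat.dvd_one.mp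
    simp [ind, this]
  have hsub : Subsingleton (Sylow p X) := by
    refine ⟨fun Q1 Q2 => ?_⟩
    unfold nu at h1
    have hs := (Nat.card_eq_one_iff_unique.mp h1).1
    have := @Subsingleton.elim _ hs (⟨Q1, le_centralizer_one _⟩ :
      {Q : Sylow p X // (Q : Subgroup X) ≤ centralizer ({1} : Set X)}) ⟨Q2, le_centralizer_one _⟩
    exact congrArg Subtype.val this
  exact Sylow.normal_of_subsingleton P

end Cfsg.Agent.Helper10.CHM
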