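import Mathlib
import Cfsg.Agent.Lib.Helper10.CHM4

/-!
The count in a nilpotent group, and the Cossey--Hawkes--Mann criterion.
-/

set_option linter.unusedSectionVars false
set_option linter.style.haveILetI false

namespace Cfsg.Agent.Helper10.CHM

open Subgroup
open scoped Pointwise

variable {X : Type*} [Group X] [Finite X] (p : ℕ) [Fact p.Prime]

/-- `P ∩ Z(X)` has order the `p`-part of `|Z(X)|` -/
theorem card_inf_center (P : Sylow p X) :
    Nat.card ↥((P : Subgroup X) ⊓ center X) = p ^ (Nat.card (center X)).factorization p := by
  obtain ⟨S⟩ : Nonempty (Sylow p (center X)) := inferInstance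
  have hS : Nat.card (S : Subgroup (center X)) = p ^ (Nat.card (center X)).factorization p :=
    S.card_eq_multiplicity
  -- image of S in X is a central p-subgroup, hence inside P
  have hSp : IsPGroup p ↥((S : Subgroup (center X)).map (center X).subtype) := S.isPGroup'.map _
  obtain ⟨Q, hQ⟩ := hSp.exists_le_sylow
  obtain ⟨g, rfl⟩ := MulAction.exists_smul_eq X P Q
  have hSP : (S : Subgroup (center X)).map (center X).subtype ≤ (P : Subgroup X) ⊓ center X := by
    intro s hs
    have hsc : s ∈ center X := Subgroup.map_subtype_le _ hs
    refine ⟨?_, hsc⟩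
    have h1 : s ∈ MulAut.conj g • (P : Subgroup X) := hQ hs
    rw [Subgroup.mem_smul_pointwise_iff_exists] at h1
    obtain ⟨t, ht, hts⟩ := h1
    simp only [MulAut.smul_def, MulAut.conj_apply] at hts
    have : t = s := by
      have h2 : g * t * g⁻¹ = s := hts
      have h3 : g * s = s * g := (Subgroup.mem_center_iff.mp hsc g)
      calc t = g⁻¹ * (g * t * g⁻¹) * g := by group
        _ = g⁻¹ * s * g := by rw [h2]
        _ = g⁻¹ * (s * g) := by group
        _ = g⁻¹ * (g * s) := by rw [h3]
        _ = s := by group
    rw [← this]; exact ht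
  -- conversely the pullback of `P ∩ Z` is a p-subgroup of `Z` containing `S`
  have hT : IsPGroup p ↥(((P : Subgroup X) ⊓ center X).subgroupOf (center X)) := by
    have h0 : IsPGroup p ↥((P : Subgroup X) ⊓ center X) := P.isPGroup'.to_le inf_le_left
    exact h0.comap_of_injective (center X).subtype (center X).subtype_injective
  have hST : (S : Subgroup (center X)) ≤ ((P : Subgroup X) ⊓ center X).subgroupOf (center X) := by
    intro s hs
    rw [Subgroup.mem_subgroupOf]
    exact hSP (Subgroup.mem_map_of_mem _ hs)
  have hTS := S.is_maximal' hT hST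
  have hcard : Nat.card ↥(((P : Subgroup X) ⊓ center X).subgroupOf (center X)) =
      Nat.card ↥((P : Subgroup X) ⊓ center X) :=
    Nat.card_congr (Subgroup.subgroupOfEquivOfLe inf_le_right).toEquiv
  rw [← hcard, hTS, hS]

theorem card_center_eq : Nat.card (center X) = Nat.card {x : X // cs x = 1} := by
  apply Nat.card_congr
  refine Equiv.subtypeEquivRight (fun x => ?_)
  rw [cs_eq_index, Subgroup.index_eq_one, eq_top_iff]
  constructor
  · intro h y _
    rw [Subgroup.mem_centralizer_iff]
    intro t ht
    rw [Set.mem_singleton_iff] at ht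
    subst ht
    exact (Subgroup.mem_center_iff.mp h y).symm
  · intro h
    rw [Subgroup.mem_center_iff]
    intro y
    have := (Subgroup.mem_centralizer_iff.mp (h (Subgroup.mem_top y))) x rfl
    exact this.symm

/-- in a nilpotent group the count holds -/
theorem count_of_nilpotent (hnil : Group.IsNilpotent X) (P : Sylow p X) :
    Nat.card {x : X // ¬ p ∣ cs x} * Nat.card (P : Subgroup X) =
      Nat.card ↥((P : Subgroup X) ⊓ center X) * Nat.card X := by
  have hnorm : ∀ (q : ℕ) (_ : Fact q.Prime) (Q : Sylow q X), (Q : Subgroup X).Normal :=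
    (Group.isNilpotent_of_finite_tfae (G := X)).out 0 3 |>.mp hnil
  haveI hPn : (P : Subgroup X).Normal := hnorm p inferInstance P
  -- A_p = centralizer P
  have hA : Nat.card {x : X // ¬ p ∣ cs x} = Nat.card (centralizer (P : Set X)) := by
    apply Nat.card_congr
    refine Equiv.subtypeEquivRight (fun x => ?_)
    have key : x ∈ centralizer (P : Set X) ↔ (P : Subgroup X) ≤ centralizer ({x} : Set X) :=
      (le_centralizer_singleton_iff (P : Subgroup X) x).symm
    rw [key, cs_eq_index]
    constructor
    · intro h
      have hne : Nonempty (Sylow p (centralizer ({x} : Set X))) := inferInstance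
      obtain ⟨R⟩ := hne
      obtain ⟨Q, hQ⟩ := ((sylowEquivOfLe p _ h).symm R)
      have : Q = P := by
        obtain ⟨g, rfl⟩ := MulAction.exists_smul_eq X P Q
        exact Sylow.smul_eq_of_normal
      rw [← this]; exact hQ
    · intro h hdvd
      exact P.not_dvd_index (hdvd.trans (Subgroup.index_dvd_of_le h))
  -- P ⊔ C = ⊤
  have htop : (P : Subgroup X) ⊔ centralizer (P : Set X) = ⊤ := by
    rw [← Subgroup.index_eq_one]
    by_contra hne
    obtain ⟨q, hq, hqd⟩ := Nat.exists_prime_and_dvd hne
    haveI : Fact q.Prime := ⟨hq⟩
    obtain ⟨Q⟩ : Nonempty (Sylow q X) := inferInstance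
    have hQle : (Q : Subgroup X) ≤ (P : Subgroup X) ⊔ centralizer (P : Set X) := by
      by_cases hqp : q = p
      · subst hqp
        have : Q = P := by
          obtain ⟨g, rfl⟩ := MulAction.exists_smul_eq X P Q
          exact Sylow.smul_eq_of_normal
        rw [this]; exact le_sup_left
      · refine le_trans ?_ le_sup_right
        haveI : (Q : Subgroup X).Normal := hnorm q inferInstance Q
        have hdisj : Disjoint (Q : Subgroup X) (P : Subgroup X) :=
          IsPGroup.disjoint_of_ne q p hqp _ _ Q.isPGroup' P.isPGroup'
        intro y hy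
        rw [Subgroup.mem_centralizer_iff]
        intro t ht
        exact ((Subgroup.commute_of_normal_of_disjoint _ _ inferInstance inferInstance hdisj
          y t hy ht).eq).symm
    exact Q.not_dvd_index (hqd.trans (Subgroup.index_dvd_of_le hQle))
  -- P ⊓ C = P ⊓ center
  have hinf : (P : Subgroup X) ⊓ centralizer (P : Set X) = (P : Subgroup X) ⊓ center X := by
    apply le_antisymm
    · intro y hy
      refine ⟨hy.1, ?_⟩
      have hle : (P : Subgroup X) ⊔ centralizer (P : Set X) ≤ centralizer ({y} : Set X) := by
        apply sup_le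
        · exact (le_centralizer_singleton_iff _ _).mpr hy.2
        · intro c hc
          rw [Subgroup.mem_centralizer_iff]
          intro t ht
          rw [Set.mem_singleton_iff] at ht
          subst ht
          exact (Subgroup.mem_centralizer_iff.mp hc) t hy.1
      rw [htop] at hle
      change y ∈ center X
      rw [Subgroup.mem_center_iff]
      intro t
      have := (Subgroup.mem_centralizer_iff.mp (hle (Subgroup.mem_top t))) y rfl
      exact this.symm
    · exact inf_le_inf_left _ (Subgroup.center_le_centralizer _)
  -- cardinalities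
  have h1 : Nat.card (centralizer (P : Set X)) =
      Nat.card ↥((P : Subgroup X) ⊓ centralizer (P : Set X)) *
        (P : Subgroup X).relIndex (centralizer (P : Set X)) := by
    rw [card_eq_card_mul_relIndex (inf_le_right : (P : Subgroup X) ⊓ centralizer (P : Set X) ≤ _),
      Subgroup.inf_relIndex_right]
  have h2 : (P : Subgroup X).relIndex (centralizer (P : Set X)) = (P : Subgroup X).index := by
    rw [← Subgroup.relIndex_sup_left (K := (P : Subgroup X)) (H := centralizer (P : Set X)), htop,
      Subgroup.relIndex_top_right]
  rw [hA, h1, h2, hinf, ← Subgroup.card_mul_index (P : Subgroup X)]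
  ring

/-- Cossey--Hawkes--Mann: same class size statistics as a nilpotent group forces nilpotency -/
theorem main {G H : Type*} [Group G] [Finite G] [Group H] [Finite H]
    (hH : Group.IsNilpotent H)
    (h : ∀ k : ℕ, Nat.card {C : ConjClasses G // Nat.card C.carrier = k} =
      Nat.card {C : ConjClasses H // Nat.card C.carrier = k}) :
    Group.IsNilpotent G := by
  obtain ⟨e, he⟩ := exists_equiv h
  have hcard : Nat.card G = Nat.card H := Nat.card_congr e
  have hcenter : Nat.card (center G) = Nat.card (center H) := by
    rw [card_center_eq, card_center_eq]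
    exact Nat.card_congr (e.subtypeEquiv (fun x => by rw [he x]))
  apply (Group.isNilpotent_of_finite_tfae (G := G)).out 3 0 |>.mp
  intro q hq P
  haveI := hq
  obtain ⟨PH⟩ : Nonempty (Sylow q H) := inferInstance
  have hcount := count_of_nilpotent q hH PH
  apply sylow_normal_of_count q P
  have hA : Nat.card {x : G // ¬ q ∣ cs x} = Nat.card {y : H // ¬ q ∣ cs y} :=
    Nat.card_congr (e.subtypeEquiv (fun x => by rw [he x]))
  rw [hA, card_inf_center q P, hcenter, ← card_inf_center q PH, hcard, ← hcount,
    P.card_eq_multiplicity, PH.card_eq_multiplicity, hcard]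

end Cfsg.Agent.Helper10.CHM
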