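import Mathlib

set_option autoImplicit false

namespace Cfsg.Agent.Helper10.CenInv

open Subgroup MulAction

section index2

variable {G : Type*} [Group G] [Finite G]

/-- A homomorphism to a commutative group whose image contains an involution yields a subgroup
of index two. -/
theorem exists_index_two_of_hom {A : Type*} [CommGroup A] (τ : G →* A) (g : G)
    (h1 : τ g ≠ 1) (h2 : τ g ^ 2 = 1) : ∃ H : Subgroup G, H.index = 2 := by
  classical
  have hn : Nat.card G ≠ 0 := Nat.card_pos.ne'
  obtain ⟨k, u, hu, hku⟩ := Nat.exists_eq_two_pow_mul_odd hn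
  let ψ : G →* A := (powMonoidHom u).comp τ
  have hψ : ∀ x, ψ x = τ x ^ u := fun x => rfl
  have hψg : ψ g = τ g := by
    obtain ⟨j, rfl⟩ := hu
    rw [hψ, pow_succ, pow_mul, h2, one_pow, one_mul]
  have hP : IsPGroup 2 ψ.range := by
    rintro ⟨y, x, rfl⟩
    refine ⟨k, Subtype.ext ?_⟩
    show (ψ x) ^ 2 ^ k = 1
    rw [hψ, ← pow_mul, mul_comm, ← hku, ← map_pow, pow_card_eq_one', map_one]
  have : Fact (Nat.Prime 2) := ⟨Nat.prime_two⟩
  have : Finite ψ.range := Finite.of_surjective ψ.rangeRestrict ψ.rangeRestrict_surjective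
  obtain ⟨b, hb⟩ := IsPGroup.iff_card.mp hP
  have hb0 : b ≠ 0 := by
    rintro rfl
    rw [pow_zero] at hb
    have hsub : Subsingleton ψ.range := (Nat.card_eq_one_iff_unique.mp hb).1
    have : (⟨ψ g, g, rfl⟩ : ψ.range) = 1 := Subsingleton.elim _ _
    have h3 : ψ g = 1 := congrArg Subtype.val this
    exact h1 (hψg ▸ h3)
  obtain ⟨K, hK⟩ := Sylow.exists_subgroup_card_pow_prime 2 (n := b - 1) (G := ψ.range)
    (by rw [hb]; exact pow_dvd_pow 2 (Nat.sub_le b 1))
  have hKi : K.index = 2 := by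
    have h4 := K.card_mul_index
    rw [hK, hb] at h4
    have h5 : 2 ^ b = 2 ^ (b - 1) * 2 := by
      rw [← pow_succ]; congr 1; omega
    rw [h5] at h4
    exact Nat.eq_of_mul_eq_mul_left (by positivity) h4
  refine ⟨K.comap ψ.rangeRestrict, ?_⟩
  rw [Subgroup.index_comap_of_surjective K ψ.rangeRestrict_surjective, hKi]

end index2

end Cfsg.Agent.Helper10.CenInv
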