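import Cfsg.Agent.Lib.Helper10.CenInv3

set_option autoImplicit false

namespace Cfsg.Agent.Helper10.CenInv

open Subgroup MulAction

variable {G : Type*} [Group G] [Finite G] (H : Subgroup G) {A : Type*} [CommGroup A]
  (ϕ : H →* A) (t : G)

/-- the invariant set of cosets on which `psi` takes the value `a`. -/
def fixSet (a : A) (htc : ∀ x ∈ H, x * t = t * x) : SubMulAction H (G ⧸ H) where
  carrier := {c | psi H ϕ t c.out = a}
  smul_mem' := by
    intro x c hc
    show psi H ϕ t (x • c).out = a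
    have h1 : x • c = (QuotientGroup.mk ((x : G) * c.out) : G ⧸ H) := by
      conv_lhs => rw [← QuotientGroup.out_eq' c]
      rfl
    rw [h1, psi_out_mk, psi_mul_left H ϕ t c.out (htc x x.2)]
    exact hc

theorem mem_fixSet (a : A) (htc : ∀ x ∈ H, x * t = t * x) (c : G ⧸ H) :
    c ∈ fixSet H ϕ t a htc ↔ psi H ϕ t c.out = a := Iff.rfl

theorem card_fixSet_odd (hH : IsPGroup 2 H) (hodd : Odd H.index) (a : A)
    (htc : ∀ x ∈ H, x * t = t * x)
    (hN : ∀ g ∈ normalizer (H : Set G), psi H ϕ t g = a) :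
    Odd (Nat.card (fixSet H ϕ t a htc)) := by
  classical
  have : Fact (Nat.Prime 2) := ⟨Nat.prime_two⟩
  have h1 := hH.card_modEq_card_fixedPoints (fixSet H ϕ t a htc)
  have h2 := hH.card_modEq_card_fixedPoints (G ⧸ H)
  have h3 : Nat.card (fixedPoints H (fixSet H ϕ t a htc)) = Nat.card (fixedPoints H (G ⧸ H)) := by
    apply Nat.card_congr
    refine Equiv.ofBijective (fun s => ⟨s.1.1, ?_⟩) ⟨?_, ?_⟩
    · intro x
      have := s.2 x
      exact congrArg Subtype.val this
    · intro s1 s2 h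
      apply Subtype.ext
      apply Subtype.ext
      exact congrArg (fun z : fixedPoints H (G ⧸ H) => z.1) h
    · intro c
      have hc : c.1 ∈ fixSet H ϕ t a htc := by
        rw [mem_fixSet]
        apply hN
        have h4 : ((c.1.out : G) : G ⧸ H) ∈ fixedPoints H (G ⧸ H) := by
          rw [QuotientGroup.out_eq']; exact c.2
        exact Sylow.mem_fixedPoints_mul_left_cosets_iff_mem_normalizer.mp h4
      refine ⟨⟨⟨c.1, hc⟩, ?_⟩, ?_⟩
      · intro x
        apply Subtype.ext
        exact c.2 x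
      · apply Subtype.ext; rfl
  have h4 : Nat.card (G ⧸ H) = H.index := rfl
  rw [h3] at h1
  have h5 : Nat.card (fixSet H ϕ t a htc) ≡ H.index [MOD 2] := by
    rw [← h4]; exact h1.trans h2.symm
  rw [Nat.odd_iff] at hodd ⊢
  rw [← hodd]; exact h5

theorem prod_psi_eq [Fintype (G ⧸ H)] (hH : IsPGroup 2 H) (hodd : Odd H.index) (a : A)
    (ha : ∀ y : A, y ^ 2 = 1 → y = 1 ∨ y = a) (ht2 : t ^ 2 = 1)
    (htc : ∀ x ∈ H, x * t = t * x)
    (hN : ∀ g ∈ normalizer (H : Set G), psi H ϕ t g = a) :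
    ∏ c : G ⧸ H, psi H ϕ t c.out = a := by
  classical
  have ha2 : a ^ 2 = 1 := by
    rw [← hN 1 (Subgroup.one_mem _)]; exact psi_sq H ϕ t ht2 1
  have hval : ∀ c : G ⧸ H, psi H ϕ t c.out = if psi H ϕ t c.out = a then a else 1 := by
    intro c
    rcases ha _ (psi_sq H ϕ t ht2 c.out) with h | h
    · by_cases h' : psi H ϕ t c.out = a
      · rw [if_pos h']; exact h'
      · rw [if_neg h']; exact h
    · rw [if_pos h]; exact h
  rw [Finset.prod_congr rfl (fun c _ => hval c), Finset.prod_ite, Finset.prod_const_one, mul_one,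
    Finset.prod_const]
  have hcard : (Finset.univ.filter (fun c : G ⧸ H => psi H ϕ t c.out = a)).card =
      Nat.card (fixSet H ϕ t a htc) := by
    rw [Nat.card_eq_fintype_card]
    rw [← Fintype.card_subtype]
    rfl
  rw [hcard]
  obtain ⟨k, hk⟩ := card_fixSet_odd H ϕ t hH hodd a htc hN
  rw [hk, pow_succ, pow_mul, ha2, one_pow, one_mul]

/-- Transfer of a central involution of a 2-subgroup of odd index. -/
theorem transfer_eq (hH : IsPGroup 2 H) (hodd : Odd H.index) (a : A)
    (ha : ∀ y : A, y ^ 2 = 1 → y = 1 ∨ y = a) (ht2 : t ^ 2 = 1)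
    (htc : ∀ x ∈ H, x * t = t * x)
    (hN : ∀ g ∈ normalizer (H : Set G), psi H ϕ t g = a) :
    MonoidHom.transfer ϕ t = a := by
  classical
  haveI : Fintype (G ⧸ H) := Fintype.ofFinite _
  rw [transfer_eq_prod_psi H ϕ t ht2]
  exact prod_psi_eq H ϕ t hH hodd a ha ht2 htc hN

end Cfsg.Agent.Helper10.CenInv
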