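import Cfsg.Agent.Lib.Helper10.CenInv9
import Cfsg.Agent.Lib.Helper10.CenInv4
import Cfsg.Agent.Lib.Helper10.CenInv1

set_option autoImplicit false

namespace Cfsg.Agent.Helper10.CenInv

open Matrix
open scoped commutatorElement

section conj

variable {G : Type*} [Group G]

theorem conj_mem_commutator_of_mem_normalizer {H : Subgroup G} {n : G}
    (hn : n ∈ Subgroup.normalizer (H : Set G)) {y : G} (hy : y ∈ ⁅H, H⁆) :
    n * y * n⁻¹ ∈ ⁅H, H⁆ := by
  have hle : ⁅H, H⁆ ≤ (⁅H, H⁆).comap (MulAut.conj n).toMonoidHom := by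
    rw [Subgroup.commutator_le]
    intro a ha b hb
    rw [Subgroup.mem_comap, map_commutatorElement]
    apply Subgroup.commutator_mem_commutator
    · show n * a * n⁻¹ ∈ H
      exact (Subgroup.mem_normalizer_iff.mp hn a).mp ha
    · show n * b * n⁻¹ ∈ H
      exact (Subgroup.mem_normalizer_iff.mp hn b).mp hb
  exact hle hy

theorem map_commutator_subtype (H : Subgroup G) :
    (commutator H).map H.subtype = ⁅H, H⁆ := by
  rw [commutator_def, Subgroup.map_commutator, ← MonoidHom.range_eq_map, Subgroup.range_subtype]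

end conj

theorem two_ne_zero_of_odd_card {F : Type*} [Field F] [Fintype F] (hF : Odd (Fintype.card F)) :
    (2 : F) ≠ 0 := by
  intro h
  have h1 : ringChar F ∣ 2 := (ringChar.spec F 2).mp (by exact_mod_cast h)
  have h2 : ringChar F = 2 := by
    rcases (Nat.dvd_prime Nat.prime_two).mp h1 with h3 | h3
    · exact absurd h3 (CharP.ringChar_ne_one)
    · exact h3
  have h3 := FiniteField.even_card_iff_char_two.mp h2
  rw [Nat.odd_iff] at hF
  omega

theorem units_sq_eq_one {F : Type*} [Field F] (y : Fˣ) (hy : y ^ 2 = 1) : y = 1 ∨ y = -1 := by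
  have h1 : (y : F) * (y : F) = 1 := by
    have := congrArg Units.val hy
    simpa [pow_two] using this
  rcases mul_self_eq_one_iff.mp h1 with h | h
  · left; exact Units.ext h
  · right; exact Units.ext (by simpa using h)

end Cfsg.Agent.Helper10.CenInv
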