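import Mathlib

set_option autoImplicit false

namespace Cfsg.Agent.Helper10.CenInv

open Subgroup MulAction

variable {G : Type*} [Group G] (H : Subgroup G) {A : Type*} [CommGroup A]
  (ϕ : H →* A) (t : G)

/-- value of `ϕ` on the conjugate of `t` by `g` when it lies in `H`, else `1`. -/
noncomputable def psi (g : G) : A := by
  classical
  exact if h : g⁻¹ * t * g ∈ H then ϕ ⟨g⁻¹ * t * g, h⟩ else 1

theorem psi_pos {g : G} (h : g⁻¹ * t * g ∈ H) : psi H ϕ t g = ϕ ⟨g⁻¹ * t * g, h⟩ := by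
  classical
  unfold psi
  rw [dif_pos h]

theorem psi_neg {g : G} (h : g⁻¹ * t * g ∉ H) : psi H ϕ t g = 1 := by
  classical
  unfold psi
  rw [dif_neg h]

theorem psi_mul_right (g : G) {x : G} (hx : x ∈ H) : psi H ϕ t (g * x) = psi H ϕ t g := by
  have he : (g * x)⁻¹ * t * (g * x) = x⁻¹ * (g⁻¹ * t * g) * x := by group
  by_cases h : g⁻¹ * t * g ∈ H
  · have h' : (g * x)⁻¹ * t * (g * x) ∈ H := by
      rw [he]; exact H.mul_mem (H.mul_mem (H.inv_mem hx) h) hx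
    rw [psi_pos H ϕ t h, psi_pos H ϕ t h']
    have : (⟨(g * x)⁻¹ * t * (g * x), h'⟩ : H) = (⟨x, hx⟩ : H)⁻¹ * ⟨g⁻¹ * t * g, h⟩ * ⟨x, hx⟩ :=
      Subtype.ext he
    rw [this, map_mul, map_mul, map_inv, mul_comm, ← mul_assoc, mul_inv_cancel, one_mul]
  · have h' : (g * x)⁻¹ * t * (g * x) ∉ H := by
      intro h'
      apply h
      have : g⁻¹ * t * g = x * ((g * x)⁻¹ * t * (g * x)) * x⁻¹ := by group
      rw [this]; exact H.mul_mem (H.mul_mem hx h') (H.inv_mem hx)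
    rw [psi_neg H ϕ t h, psi_neg H ϕ t h']

theorem psi_mul_left (g : G) {x : G} (hxt : x * t = t * x) :
    psi H ϕ t (x * g) = psi H ϕ t g := by
  have he : (x * g)⁻¹ * t * (x * g) = g⁻¹ * t * g := by
    have : x⁻¹ * t * x = t := by rw [mul_assoc, ← hxt, ← mul_assoc, inv_mul_cancel, one_mul]
    calc (x * g)⁻¹ * t * (x * g) = g⁻¹ * (x⁻¹ * t * x) * g := by group
      _ = g⁻¹ * t * g := by rw [this]
  by_cases h : g⁻¹ * t * g ∈ H
  · have h' : (x * g)⁻¹ * t * (x * g) ∈ H := by rw [he]; exact h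
    rw [psi_pos H ϕ t h, psi_pos H ϕ t h']
    congr 1
    exact Subtype.ext he
  · have h' : (x * g)⁻¹ * t * (x * g) ∉ H := by rw [he]; exact h
    rw [psi_neg H ϕ t h, psi_neg H ϕ t h']

theorem psi_sq (ht2 : t ^ 2 = 1) (g : G) : psi H ϕ t g ^ 2 = 1 := by
  by_cases h : g⁻¹ * t * g ∈ H
  · rw [psi_pos H ϕ t h, ← map_pow]
    have : (⟨g⁻¹ * t * g, h⟩ : H) ^ 2 = 1 := by
      apply Subtype.ext
      show (g⁻¹ * t * g) ^ 2 = 1
      have : (g⁻¹ * t * g) ^ 2 = g⁻¹ * t ^ 2 * g := by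
        rw [pow_two, pow_two]; group
      rw [this, ht2, mul_one, inv_mul_cancel]
    rw [this, map_one]
  · rw [psi_neg H ϕ t h, one_pow]

theorem psi_out_mk (g : G) : psi H ϕ t (QuotientGroup.mk g : G ⧸ H).out = psi H ϕ t g := by
  obtain ⟨h, hh⟩ := QuotientGroup.mk_out_eq_mul H g
  rw [hh, psi_mul_right H ϕ t g h.2]

end Cfsg.Agent.Helper10.CenInv
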