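import Cfsg.Agent.Lib.Helper10.CenInv2

set_option autoImplicit false

namespace Cfsg.Agent.Helper10.CenInv

open Subgroup MulAction

variable {G : Type*} [Group G] [Finite G] (H : Subgroup G) {A : Type*} [CommGroup A]
  (ϕ : H →* A) (t : G)

theorem smul_eq_iff_mem (g : G) :
    t • (QuotientGroup.mk g : G ⧸ H) = QuotientGroup.mk g ↔ g⁻¹ * t * g ∈ H := by
  have : t • (QuotientGroup.mk g : G ⧸ H) = QuotientGroup.mk (t * g) := rfl
  rw [this, eq_comm, QuotientGroup.eq, ← mul_assoc]

theorem smul_out_eq_iff_mem (c : G ⧸ H) : t • c = c ↔ c.out⁻¹ * t * c.out ∈ H := by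
  conv_lhs => rw [← QuotientGroup.out_eq' c]
  exact smul_eq_iff_mem H t c.out

theorem transfer_eq_prod_psi [Fintype (G ⧸ H)] (ht2 : t ^ 2 = 1) :
    MonoidHom.transfer ϕ t = ∏ c : G ⧸ H, psi H ϕ t c.out := by
  classical
  haveI : Fintype (Quotient (orbitRel (zpowers t) (G ⧸ H))) := Fintype.ofFinite _
  rw [MonoidHom.transfer_eq_prod_quotient_orbitRel_zpowers_quot ϕ t]
  have hfac : ∀ q : Quotient (orbitRel (zpowers t) (G ⧸ H)),
      ϕ ⟨q.out.out⁻¹ * t ^ Function.minimalPeriod (t • ·) q.out * q.out.out,
          QuotientGroup.out_conj_pow_minimalPeriod_mem H t q.out⟩ = psi H ϕ t q.out.out := by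
    intro q
    generalize q.out = c
    have hper : Function.IsPeriodicPt (t • ·) 2 c := by
      show (t • ·)^[2] c = c
      simp only [Function.iterate_succ, Function.iterate_zero, Function.comp, id]
      rw [smul_smul, ← pow_two, ht2, one_smul]
    have hdvd := hper.minimalPeriod_dvd
    rcases (Nat.dvd_prime Nat.prime_two).mp hdvd with h1 | h2
    · have hfix : t • c = c := Function.minimalPeriod_eq_one_iff_isFixedPt.mp h1
      have hmem : c.out⁻¹ * t * c.out ∈ H := (smul_out_eq_iff_mem H t c).mp hfix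
      rw [psi_pos H ϕ t hmem]
      congr 1
      apply Subtype.ext
      show c.out⁻¹ * t ^ Function.minimalPeriod (t • ·) c * c.out = _
      rw [h1, pow_one]
    · have hnot : c.out⁻¹ * t * c.out ∉ H := by
        intro hmem
        have hfix : t • c = c := (smul_out_eq_iff_mem H t c).mpr hmem
        have h3 : Function.minimalPeriod (t • ·) c = 1 :=
          Function.minimalPeriod_eq_one_iff_isFixedPt.mpr hfix
        omega
      rw [psi_neg H ϕ t hnot]
      have : (⟨c.out⁻¹ * t ^ Function.minimalPeriod (t • ·) c * c.out,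
          QuotientGroup.out_conj_pow_minimalPeriod_mem H t c⟩ : H) = 1 := by
        apply Subtype.ext
        show c.out⁻¹ * t ^ Function.minimalPeriod (t • ·) c * c.out = 1
        rw [h2, ht2, mul_one, inv_mul_cancel]
      rw [this, map_one]
  rw [Finset.prod_congr rfl (fun q _ => hfac q)]
  apply Finset.prod_bij_ne_one (fun q _ _ => q.out)
  · intros; exact Finset.mem_univ _
  · intro q1 _ _ q2 _ _ h; exact Quotient.out_injective h
  · intro c _ hc
    have hmem : c.out⁻¹ * t * c.out ∈ H := by
      by_contra hnot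
      exact hc (psi_neg H ϕ t hnot)
    have hfix : t • c = c := (smul_out_eq_iff_mem H t c).mpr hmem
    have hout : (Quotient.mk'' c : Quotient (orbitRel (zpowers t) (G ⧸ H))).out = c := by
      have hrel : (orbitRel (zpowers t) (G ⧸ H)).r
          (Quotient.mk'' c : Quotient (orbitRel (zpowers t) (G ⧸ H))).out c :=
        Quotient.exact (Quotient.out_eq _)
      obtain ⟨s, hs⟩ := hrel
      obtain ⟨s, k, rfl⟩ := s
      rw [← hs]
      show t ^ k • c = c
      exact zpow_smul_eq_iff_minimalPeriod_dvd.mpr (by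
        rw [Function.minimalPeriod_eq_one_iff_isFixedPt.mpr hfix]; exact one_dvd _) 
    refine ⟨Quotient.mk'' c, Finset.mem_univ _, ?_, hout⟩
    rw [hout]; exact hc
  · intros; rfl

end Cfsg.Agent.Helper10.CenInv
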