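import Cfsg.Agent.Lib.Helper11.CommInvolutions

set_option autoImplicit false

namespace Cfsg.Agent.Helper10.CenInv

open Matrix

variable {F : Type*} [Field F]

theorem neg_one_ne_one_of_two_ne_zero (h2 : (2 : F) ≠ 0) : (-1 : F) ≠ 1 := by
  intro h
  apply h2
  have : (2 : F) = 1 - (-1) := by ring
  rw [this, h, sub_self]

/-- sign pattern map -/
theorem sign_injective (h2 : (2 : F) ≠ 0) {ι : Type*} (M : ι → Matrix (Fin 3) (Fin 3) F)
    (hinj : Function.Injective M) (c : ι → Fin 3 → F)
    (hc : ∀ i a, c i a = 1 ∨ c i a = -1)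
    (hdetm : ∀ i j, (∀ a, c i a = c j a) → M i = M j) :
    Function.Injective (fun (i : ι) (a : Fin 3) => (c i a = 1 : Prop)) := by
  classical
  intro i j hij
  apply hinj
  apply hdetm
  intro a
  have h3 : (c i a = 1) ↔ (c j a = 1) := (congrFun hij a).to_iff
  rcases hc i a with h | h <;> rcases hc j a with h' | h'
  · rw [h, h']
  · exfalso
    have h4 := h3.mp h
    rw [h'] at h4
    exact neg_one_ne_one_of_two_ne_zero h2 h4
  · exfalso
    have h4 := h3.mpr h'
    rw [h] at h4
    exact neg_one_ne_one_of_two_ne_zero h2 h4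
  · rw [h, h']

/-- An injective family of commuting involutions in `M_3(F)` has at most 8 members. -/
theorem card_le_eight (h2 : (2 : F) ≠ 0) {ι : Type*} (M : ι → Matrix (Fin 3) (Fin 3) F)
    (hinj : Function.Injective M)
    (hcomm : ∀ i j, M i * M j = M j * M i) (hinv : ∀ i, M i * M i = 1) : Nat.card ι ≤ 8 := by
  classical
  obtain ⟨b, c, hbc, hc, hdet, hdetm⟩ :=
    Helper11.exists_eigenbasis_matrix h2 M hcomm hinv 3 (by simp)
  have hφ := sign_injective h2 M hinj c hc hdetm
  calc Nat.card ι ≤ Nat.card (Fin 3 → Prop) := Nat.card_le_card_of_injective _ hφ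
    _ = 8 := by simp

/-- With 8 members, every commuting involution already occurs. -/
theorem exists_eq_of_card_eight (h2 : (2 : F) ≠ 0) {ι : Type*} [Finite ι]
    (M : ι → Matrix (Fin 3) (Fin 3) F)
    (hinj : Function.Injective M)
    (hcomm : ∀ i j, M i * M j = M j * M i) (hinv : ∀ i, M i * M i = 1) (h8 : Nat.card ι = 8)
    (κ : Matrix (Fin 3) (Fin 3) F) (hκ : κ * κ = 1) (hκc : ∀ i, M i * κ = κ * M i) :
    ∃ i, M i = κ := by
  classical
  by_contra hne
  push Not at hne
  let M' : Option ι → Matrix (Fin 3) (Fin 3) F := fun o => o.elim κ M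
  have hinj' : Function.Injective M' := by
    intro o1 o2 h
    rcases o1 with _ | i <;> rcases o2 with _ | j
    · rfl
    · exact absurd h.symm (hne j)
    · exact absurd h (hne i)
    · exact congrArg some (hinj h)
  have hcomm' : ∀ o1 o2, M' o1 * M' o2 = M' o2 * M' o1 := by
    intro o1 o2
    rcases o1 with _ | i <;> rcases o2 with _ | j
    · rfl
    · exact (hκc j).symm
    · exact hκc i
    · exact hcomm i j
  have hinv' : ∀ o, M' o * M' o = 1 := by
    intro o
    rcases o with _ | i
    · exact hκ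
    · exact hinv i
  have h9 := card_le_eight h2 M' hinj' hcomm' hinv'
  rw [Finite.card_option, h8] at h9
  omega

end Cfsg.Agent.Helper10.CenInv
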