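import Cfsg.Agent.Lib.Helper10.CenInv5

set_option autoImplicit false

namespace Cfsg.Agent.Helper10.CenInv

open Matrix

variable {F : Type*} [Field F]

/-- a matrix commuting with a family having a common eigenbasis with separating characters is
diagonal in that basis. -/
theorem diag_of_commute {ι : Type*} (M : ι → Matrix (Fin 3) (Fin 3) F)
    (b : Module.Basis (Fin 3) F (Fin 3 → F)) (c : ι → Fin 3 → F)
    (hbc : ∀ i a, (M i).mulVec (b a) = c i a • b a)
    (hsep : ∀ a a' : Fin 3, a' ≠ a → ∃ i, c i a' ≠ c i a)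
    (x : Matrix (Fin 3) (Fin 3) F) (hx : ∀ i, M i * x = x * M i) (a : Fin 3) :
    ∃ r : F, x.mulVec (b a) = r • b a := by
  classical
  set v := x.mulVec (b a) with hv
  have h1 : ∀ i, (M i).mulVec v = c i a • v := by
    intro i
    rw [hv, Matrix.mulVec_mulVec, hx i, ← Matrix.mulVec_mulVec, hbc, Matrix.mulVec_smul]
  have h2 : ∀ i a', b.repr ((M i).mulVec v) a' = c i a' * b.repr v a' := by
    intro i a'
    have hL : (b.coord a').comp (Matrix.mulVecLin (M i)) = c i a' • b.coord a' := by
      apply b.ext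
      intro a''
      simp only [LinearMap.comp_apply, Matrix.mulVecLin_apply, hbc, map_smul, LinearMap.smul_apply,
        Module.Basis.coord_apply, Module.Basis.repr_self, smul_eq_mul]
      by_cases h : a'' = a'
      · subst h; rfl
      · simp [Finsupp.single_apply, h]
    have := congrArg (fun L : (Fin 3 → F) →ₗ[F] F => L v) hL
    simpa [Module.Basis.coord_apply] using this
  have h3 : ∀ a', a' ≠ a → b.repr v a' = 0 := by
    intro a' ha'
    obtain ⟨i, hi⟩ := hsep a a' ha'
    have h4 := h2 i a'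
    rw [h1 i, map_smul, Finsupp.smul_apply, smul_eq_mul] at h4
    have h5 : (c i a' - c i a) * b.repr v a' = 0 := by rw [sub_mul, ← h4, sub_self]
    rcases mul_eq_zero.mp h5 with h6 | h6
    · exact absurd (sub_eq_zero.mp h6) hi
    · exact h6
  refine ⟨b.repr v a, ?_⟩
  conv_lhs => rw [← b.sum_repr v]
  rw [Finset.sum_eq_single a]
  · intro a' _ ha'
    rw [h3 a' ha', zero_smul]
  · intro h; exact absurd (Finset.mem_univ a) h

/-- The centralizer of an elementary abelian subgroup of order 8 of `GL_3(F)` is commutative. -/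
theorem commute_of_card_eight (h2 : (2 : F) ≠ 0) {ι : Type*} [Finite ι]
    (M : ι → Matrix (Fin 3) (Fin 3) F)
    (hinj : Function.Injective M)
    (hcomm : ∀ i j, M i * M j = M j * M i) (hinv : ∀ i, M i * M i = 1) (h8 : Nat.card ι = 8)
    (x y : Matrix (Fin 3) (Fin 3) F) (hx : ∀ i, M i * x = x * M i) (hy : ∀ i, M i * y = y * M i) :
    x * y = y * x := by
  classical
  obtain ⟨b, c, hbc, hc, hdet, hdetm⟩ :=
    Helper11.exists_eigenbasis_matrix h2 M hcomm hinv 3 (by simp)
  have hφ := sign_injective h2 M hinj c hc hdetm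
  have hbij : Function.Bijective (fun (i : ι) (a : Fin 3) => (c i a = 1 : Prop)) := by
    apply hφ.bijective_of_nat_card_le
    rw [h8]; simp
  have hsep : ∀ a a' : Fin 3, a' ≠ a → ∃ i, c i a' ≠ c i a := by
    intro a a' ha'
    obtain ⟨i, hi⟩ := hbij.2 (fun a'' => a'' = a)
    refine ⟨i, ?_⟩
    have h3 : (c i a = 1) := by
      have := (congrFun hi a).to_iff
      exact this.mpr rfl
    have h4 : ¬ (c i a' = 1) := by
      have := (congrFun hi a').to_iff
      intro h; exact ha' (this.mp h)
    rw [h3]; exact h4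
  apply Matrix.toLin'.injective
  apply b.ext
  intro a
  obtain ⟨r, hr⟩ := diag_of_commute M b c hbc hsep x hx a
  obtain ⟨s, hs⟩ := diag_of_commute M b c hbc hsep y hy a
  rw [Matrix.toLin'_apply, Matrix.toLin'_apply, ← Matrix.mulVec_mulVec, ← Matrix.mulVec_mulVec,
    hs, hr, Matrix.mulVec_smul, Matrix.mulVec_smul, hr, hs, smul_smul, smul_smul, mul_comm]

end Cfsg.Agent.Helper10.CenInv
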