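import Cfsg.Agent.Lib.Helper10.CenInv6
import Cfsg.Agent.Lib.Helper19.PGroupBasic

set_option autoImplicit false

namespace Cfsg.Agent.Helper10.CenInv

open Matrix

variable {F : Type*} [Field F]

theorem det_neg_one_three : (-1 : Matrix (Fin 3) (Fin 3) F).det = -1 := by
  rw [Matrix.det_neg, Matrix.det_one]; simp; norm_num

theorem units_neg_one_ne_one (h2 : (2 : F) ≠ 0) : (-1 : Fˣ) ≠ 1 := by
  intro h
  have := congrArg Units.val h
  simp only [Units.val_neg, Units.val_one] at this
  exact neg_one_ne_one_of_two_ne_zero h2 this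

section

variable {P : Type*} [Group P] [Finite P] (f : P →* GL (Fin 3) F)

/-- determinant character -/
noncomputable def detHom : P →* Fˣ := Matrix.GeneralLinearGroup.det.comp f

theorem detHom_val (x : P) : ((detHom f x : Fˣ) : F) = ((f x : GL (Fin 3) F) : Matrix (Fin 3) (Fin 3) F).det := rfl

theorem coe_mul' (x y : P) : ((f (x * y) : GL (Fin 3) F) : Matrix (Fin 3) (Fin 3) F) =
    ((f x : GL (Fin 3) F) : Matrix (Fin 3) (Fin 3) F) * ((f y : GL (Fin 3) F) : Matrix (Fin 3) (Fin 3) F) := by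
  rw [map_mul]; rfl

theorem coe_one' : ((f 1 : GL (Fin 3) F) : Matrix (Fin 3) (Fin 3) F) = 1 := by
  rw [map_one]; rfl

theorem coe_inj' (hf : Function.Injective f) {x y : P}
    (h : ((f x : GL (Fin 3) F) : Matrix (Fin 3) (Fin 3) F) = ((f y : GL (Fin 3) F) : Matrix (Fin 3) (Fin 3) F)) :
    x = y := hf (Units.ext h)

end

end Cfsg.Agent.Helper10.CenInv
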