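import Cfsg.Agent.Lib.Helper10.CenInv7

set_option autoImplicit false

namespace Cfsg.Agent.Helper10.CenInv

open Matrix

variable {F : Type*} [Field F]
variable {P : Type*} [Group P] [Finite P] (f : P →* GL (Fin 3) F)

/-- the matrix family attached to a subgroup -/
noncomputable def fam (E : Subgroup P) : E → Matrix (Fin 3) (Fin 3) F :=
  fun e => ((f (e : P) : GL (Fin 3) F) : Matrix (Fin 3) (Fin 3) F)

theorem fam_injective (hf : Function.Injective f) (E : Subgroup P) :
    Function.Injective (fam f E) := by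
  intro a b h
  exact Subtype.ext (coe_inj' f hf h)

theorem fam_comm (E : Subgroup P) (hEc : ∀ a ∈ E, ∀ b ∈ E, a * b = b * a) (i j : E) :
    fam f E i * fam f E j = fam f E j * fam f E i := by
  unfold fam
  rw [← coe_mul', ← coe_mul', hEc _ i.2 _ j.2]

theorem fam_inv (E : Subgroup P) (hE2 : ∀ a ∈ E, a ^ 2 = 1) (i : E) :
    fam f E i * fam f E i = 1 := by
  unfold fam
  rw [← coe_mul', ← pow_two, hE2 _ i.2, coe_one']

/-- a central involution lies in `E` -/
theorem mem_of_central_involution (h2 : (2 : F) ≠ 0) (hf : Function.Injective f)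
    (E : Subgroup P) (hEc : ∀ a ∈ E, ∀ b ∈ E, a * b = b * a) (hE2 : ∀ a ∈ E, a ^ 2 = 1)
    (hE8 : Nat.card E = 8) (c : P) (hc : ∀ e ∈ E, e * c = c * e) (hc2 : c ^ 2 = 1) : c ∈ E := by
  obtain ⟨e, he⟩ := exists_eq_of_card_eight h2 (fam f E) (fam_injective f hf E)
    (fam_comm f E hEc) (fam_inv f E hE2) hE8
    ((f c : GL (Fin 3) F) : Matrix (Fin 3) (Fin 3) F)
    (by rw [← coe_mul', ← pow_two, hc2, coe_one'])
    (by
      intro i
      unfold fam
      rw [← coe_mul', ← coe_mul', hc _ i.2])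
  have : (e : P) = c := coe_inj' f hf he
  rw [← this]; exact e.2

/-- the element mapping to `-1` -/
theorem exists_neg_one (h2 : (2 : F) ≠ 0) (hf : Function.Injective f)
    (E : Subgroup P) (hEc : ∀ a ∈ E, ∀ b ∈ E, a * b = b * a) (hE2 : ∀ a ∈ E, a ^ 2 = 1)
    (hE8 : Nat.card E = 8) :
    ∃ m ∈ E, m ∈ Subgroup.center P ∧ m ^ 2 = 1 ∧ detHom f m = -1 := by
  obtain ⟨e, he⟩ := exists_eq_of_card_eight h2 (fam f E) (fam_injective f hf E)
    (fam_comm f E hEc) (fam_inv f E hE2) hE8 (-1) (by simp) (by intro i; simp)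
  refine ⟨e, e.2, ?_, hE2 _ e.2, ?_⟩
  · rw [Subgroup.mem_center_iff]
    intro x
    apply coe_inj' f hf
    rw [coe_mul', coe_mul']
    have : ((f (e : P) : GL (Fin 3) F) : Matrix (Fin 3) (Fin 3) F) = -1 := he
    rw [this]; simp
  · apply Units.ext
    rw [detHom_val]
    have : ((f (e : P) : GL (Fin 3) F) : Matrix (Fin 3) (Fin 3) F) = -1 := he
    rw [this, det_neg_one_three]; simp

/-- if `E` is central then `P` is commutative -/
theorem comm_of_le_center (h2 : (2 : F) ≠ 0) (hf : Function.Injective f)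
    (E : Subgroup P) (hEc : ∀ a ∈ E, ∀ b ∈ E, a * b = b * a) (hE2 : ∀ a ∈ E, a ^ 2 = 1)
    (hE8 : Nat.card E = 8) (hcen : E ≤ Subgroup.center P) (x y : P) : x * y = y * x := by
  apply coe_inj' f hf
  rw [coe_mul', coe_mul']
  apply commute_of_card_eight h2 (fam f E) (fam_injective f hf E)
    (fam_comm f E hEc) (fam_inv f E hE2) hE8
  · intro i
    unfold fam
    rw [← coe_mul', ← coe_mul']
    congr 2
    exact ((Subgroup.mem_center_iff.mp (hcen i.2)) x).symm
  · intro i
    unfold fam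
    rw [← coe_mul', ← coe_mul']
    congr 2
    exact ((Subgroup.mem_center_iff.mp (hcen i.2)) y).symm

end Cfsg.Agent.Helper10.CenInv
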