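import Cfsg.Agent.Lib.Helper10.CenInv8

set_option autoImplicit false

namespace Cfsg.Agent.Helper10.CenInv

open Matrix
open scoped commutatorElement

variable {F : Type*} [Field F]
variable {P : Type*} [Group P] [Finite P] (f : P →* GL (Fin 3) F)

theorem exists_central_involution_in_commutator (hP : IsPGroup 2 P)
    (hna : ¬ ∀ a b : P, a * b = b * a) :
    ∃ z ∈ commutator P, z ∈ Subgroup.center P ∧ z ≠ 1 ∧ z ^ 2 = 1 := by
  have : Fact (Nat.Prime 2) := ⟨Nat.prime_two⟩
  have hne : commutator P ≠ ⊥ := by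
    intro hbot
    apply hna
    intro a b
    have h1 : ⁅a, b⁆ ∈ commutator P :=
      Subgroup.commutator_mem_commutator (Subgroup.mem_top a) (Subgroup.mem_top b)
    rw [hbot, Subgroup.mem_bot] at h1
    exact (commutatorElement_eq_one_iff_commute.mp h1).eq
  have h1 := Helper19.normal_inf_center_ne_bot hP (commutator P) hne
  obtain ⟨⟨w, hwm⟩, hw1⟩ := (Subgroup.ne_bot_iff_exists_ne_one).mp h1
  have hw1' : w ≠ 1 := fun h => hw1 (Subtype.ext h)
  obtain ⟨k, hk⟩ := (IsPGroup.iff_orderOf.mp hP) w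
  have hk0 : k ≠ 0 := by
    rintro rfl
    rw [pow_zero, orderOf_eq_one_iff] at hk
    exact hw1' hk
  refine ⟨w ^ 2 ^ (k - 1), Subgroup.pow_mem _ hwm.1 _, Subgroup.pow_mem _ hwm.2 _, ?_, ?_⟩
  · apply pow_ne_one_of_lt_orderOf (by positivity)
    rw [hk]
    apply Nat.pow_lt_pow_right (by norm_num)
    omega
  · rw [← pow_mul, ← pow_succ]
    have : k - 1 + 1 = k := by omega
    rw [this, ← hk, pow_orderOf_eq_one]

theorem structure_thm (h2 : (2 : F) ≠ 0) (hP : IsPGroup 2 P) (hf : Function.Injective f)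
    (E : Subgroup P) (hEc : ∀ a ∈ E, ∀ b ∈ E, a * b = b * a) (hE2 : ∀ a ∈ E, a ^ 2 = 1)
    (hE8 : Nat.card E = 8) (hna : ¬ ∀ a b : P, a * b = b * a) :
    ∃ t ∈ Subgroup.center P, t ^ 2 = 1 ∧ detHom f t = -1 ∧
      ∀ c ∈ Subgroup.center P, c ^ 2 = 1 → detHom f c = 1 → c ∈ commutator P := by
  classical
  obtain ⟨m, hmE, hmc, hm2, hmd⟩ := exists_neg_one f h2 hf E hEc hE2 hE8
  refine ⟨m, hmc, hm2, hmd, ?_⟩
  intro c hcc hc2 hcd
  by_contra hcn
  obtain ⟨z, hzc, hzcen, hz1, hz2⟩ := exists_central_involution_in_commutator hP hna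
  have hzd : detHom f z = 1 := by
    have := Abelianization.commutator_subset_ker (detHom f) hzc
    exact MonoidHom.mem_ker.mp this
  have hneg : (-1 : Fˣ) ≠ 1 := units_neg_one_ne_one h2
  have hcen : ∀ {y : P}, y ∈ Subgroup.center P → ∀ e ∈ E, e * y = y * e := by
    intro y hy e _
    exact ((Subgroup.mem_center_iff.mp hy) e)
  have hzE : z ∈ E := mem_of_central_involution f h2 hf E hEc hE2 hE8 z (hcen hzcen) hz2
  have hcE : c ∈ E := mem_of_central_involution f h2 hf E hEc hE2 hE8 c (hcen hcc) hc2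
  -- the subgroup C' = center ⊓ E
  set C' : Subgroup P := Subgroup.center P ⊓ E with hC'
  have hc1 : c ≠ 1 := fun h => hcn (h ▸ Subgroup.one_mem _)
  have hcz : c ≠ z := fun h => hcn (h ▸ hzc)
  have hmzd : detHom f (m * z) = -1 := by rw [map_mul, hmd, hzd, mul_one]
  have hsub : ((({1, z, c, m, m * z} : Finset P)) : Set P) ⊆ (C' : Set P) := by
    intro y hy
    simp only [Finset.coe_insert, Finset.coe_singleton, Set.mem_insert_iff,
      Set.mem_singleton_iff] at hy
    rcases hy with rfl | rfl | rfl | rfl | rfl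
    · exact C'.one_mem
    · exact ⟨hzcen, hzE⟩
    · exact ⟨hcc, hcE⟩
    · exact ⟨hmc, hmE⟩
    · exact C'.mul_mem ⟨hmc, hmE⟩ ⟨hzcen, hzE⟩
  have hd : ∀ {x y : P}, detHom f x = 1 → detHom f y = -1 → x ≠ y := by
    intro x y hx hy hxy
    rw [hxy, hy] at hx
    exact hneg hx
  have hcard : ({1, z, c, m, m * z} : Finset P).card = 5 := by
    rw [Finset.card_insert_of_notMem, Finset.card_insert_of_notMem, Finset.card_insert_of_notMem,
      Finset.card_insert_of_notMem, Finset.card_singleton]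
    · simp only [Finset.mem_singleton]
      intro h
      have : z = 1 := by
        have := congrArg (fun y => m⁻¹ * y) h
        simpa using this.symm
      exact hz1 this
    · simp only [Finset.mem_insert, Finset.mem_singleton, not_or]
      exact ⟨hd hcd hmd, hd hcd hmzd⟩
    · simp only [Finset.mem_insert, Finset.mem_singleton, not_or]
      exact ⟨fun h => hcz h.symm, hd hzd hmd, hd hzd hmzd⟩
    · simp only [Finset.mem_insert, Finset.mem_singleton, not_or]
      exact ⟨fun h => hz1 h.symm, fun h => hc1 h.symm, hd (map_one _) hmd, hd (map_one _) hmzd⟩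
  have h5 : 5 ≤ Nat.card C' := by
    rw [← hcard, ← Set.ncard_coe_finset]
    have : Nat.card C' = (C' : Set P).ncard := Nat.card_coe_set_eq (C' : Set P)
    rw [this]
    exact Set.ncard_le_ncard hsub (Set.toFinite _)
  have hdvd : Nat.card C' ∣ 8 := by
    rw [← hE8]; exact Subgroup.card_dvd_of_le inf_le_right
  have h8 : Nat.card C' = 8 := by
    have hle := Nat.le_of_dvd (by norm_num) hdvd
    interval_cases h : Nat.card C' <;> first | rfl | (exfalso; revert hdvd; decide)
  have hEq : C' = E := by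
    apply Subgroup.eq_of_le_of_card_ge inf_le_right
    rw [h8, hE8]
  have hEcen : E ≤ Subgroup.center P := by
    rw [← hEq]; exact inf_le_left
  exact hna (comm_of_le_center f h2 hf E hEc hE2 hE8 hEcen)

end Cfsg.Agent.Helper10.CenInv
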