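import Mathlib
import Cfsg.Agent.Lib.Helper10.HomNil2
import Cfsg.Agent.Lib.Helper10.FourStep

set_option autoImplicit false

/-! The general form of Lemma H: an element acting with nilpotency index `j` on an abelian normal
subgroup `Y` and with index `i` (modulo `Z₀`) on a normal subgroup `B` acts with nilpotency index at
most `i + j - 1` on a normal subgroup `N` that embeds (modulo the centralizer of `B`) in
`Hom(B/Z₀, Y)` by commutation. -/

namespace Cfsg.Agent.Helper10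

open Cfsg
open scoped commutatorElement

section ringgen

variable {M : Type*} [AddCommGroup M]

theorem add_pow_apply_eq_zero (X Y : Module.End ℤ M) (hc : Commute X Y) (i j : ℕ)
    (hX : X ^ j = 0) (v : M) (hY : (Y ^ i) v = 0) : ((X + Y) ^ (i + j - 1)) v = 0 := by
  rw [hc.add_pow, LinearMap.sum_apply]
  apply Finset.sum_eq_zero
  intro m hm
  rw [Finset.mem_range] at hm
  by_cases hmj : j ≤ m
  · have : X ^ m = 0 := by
      have e : m = j + (m - j) := by omega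
      rw [e, pow_add, hX, zero_mul]
    rw [this, zero_mul, zero_mul, LinearMap.zero_apply]
  · have e : i + j - 1 - m = (i + j - 1 - m - i) + i := by omega
    have h1 : (Y ^ (i + j - 1 - m)) v = 0 := by
      rw [e, pow_add, Module.End.mul_apply, hY, map_zero]
    rw [(Nat.commute_cast _ _).eq, Module.End.mul_apply, Module.End.mul_apply, h1, map_zero,
      map_zero]

end ringgen

section iterR

variable {G : Type*} [Group G]

theorem iterR_mem (U : Subgroup G) (a : G) (n : ℕ) (u : G) (hu : u ∈ U) :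
    (fun y : G => ⁅y, a⁆)^[n] u ∈ iterCommutator U (Subgroup.zpowers a) n := by
  induction n with
  | zero => exact hu
  | succ n ih =>
    rw [Function.iterate_succ_apply']
    exact Subgroup.commutator_mem_commutator ih (Subgroup.mem_zpowers a)

theorem iterR_map {Q : Type*} [Group Q] (f : G →* Q) (a : G) (n : ℕ) (u : G) :
    (fun y : Q => ⁅y, f a⁆)^[n] (f u) = f ((fun y : G => ⁅y, a⁆)^[n] u) := by
  induction n with
  | zero => rfl
  | succ n ih =>
    rw [Function.iterate_succ_apply', Function.iterate_succ_apply', ih, map_commutatorElement]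

end iterR

variable {Γ : Type*} [Group Γ] [Finite Γ]

theorem hom_nil_gen (N B Y Z₀ : Subgroup Γ) [hNn : N.Normal] [hBn : B.Normal] [hYn : Y.Normal]
    (hYc : ∀ y ∈ Y, ∀ y' ∈ Y, y * y' = y' * y)
    (h1 : ∀ x ∈ N, ∀ a ∈ B, ⁅x, a⁆ ∈ Y)
    (h2N : ∀ x ∈ N, ∀ y ∈ Y, x * y = y * x)
    (h2B : ∀ a ∈ B, ∀ y ∈ Y, a * y = y * a)
    (h3 : ∀ x ∈ N, ∀ z ∈ Z₀, ⁅x, z⁆ = 1)
    (g : Γ) (i j : ℕ)
    (h4 : ∀ y ∈ Y, (fun y : Γ => ⁅y, g⁆)^[j] y = 1)
    (h5 : ∀ a ∈ B, (fun a : Γ => ⁅a, g⁻¹⁆)^[i] a ∈ Z₀) :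
    iterCommutator N (Subgroup.zpowers g) (i + j - 1) ≤
      N ⊓ Subgroup.centralizer (B : Set Γ) := by
  classical
  let _ : CommGroup ↥Y := commGroupOfComm Y hYc
  -- the homomorphisms `a ↦ [x, a]`
  let φ : ↥N → (↥B →* ↥Y) := fun x =>
    { toFun := fun a => ⟨⁅(x : Γ), (a : Γ)⁆, h1 x x.2 a a.2⟩
      map_one' := Subtype.ext (by simp)
      map_mul' := fun a b => Subtype.ext (by
        show ⁅(x : Γ), (a : Γ) * (b : Γ)⁆ = ⁅(x : Γ), (a : Γ)⁆ * ⁅(x : Γ), (b : Γ)⁆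
        rw [commutatorElement_mul_right_eq]
        have := h2B a a.2 _ (h1 x x.2 b b.2)
        rw [this]
        group) }
  have hφ : ∀ (x : ↥N) (a : ↥B), ((φ x a : ↥Y) : Γ) = ⁅(x : Γ), (a : Γ)⁆ := fun x a => rfl
  let Φ : ↥N →* (↥B →* ↥Y) :=
    { toFun := φ
      map_one' := by
        ext a
        rw [hφ]
        simp
      map_mul' := fun x y => by
        ext a
        rw [MonoidHom.mul_apply, Subgroup.coe_mul, hφ, hφ, hφ, Subgroup.coe_mul,
          commutatorElement_mul_left_eq_conj_mul]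
        have h6 := h2N x x.2 _ (h1 y y.2 a a.2)
        rw [h6]
        have h7 := hYc _ (h1 y y.2 a a.2) _ (h1 x x.2 a a.2)
        calc ⁅(y : Γ), (a : Γ)⁆ * (x : Γ) * (x : Γ)⁻¹ * ⁅(x : Γ), (a : Γ)⁆
            = ⁅(y : Γ), (a : Γ)⁆ * ⁅(x : Γ), (a : Γ)⁆ := by group
          _ = ⁅(x : Γ), (a : Γ)⁆ * ⁅(y : Γ), (a : Γ)⁆ := h7 }
  have hΦ : ∀ (x : ↥N) (a : ↥B), ((Φ x a : ↥Y) : Γ) = ⁅(x : Γ), (a : Γ)⁆ := fun x a => rfl
  let σ : ↥B →* ↥B := (MulAut.conjNormal g⁻¹ : MulAut ↥B).toMonoidHom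
  let τ : ↥Y →* ↥Y := (MulAut.conjNormal g : MulAut ↥Y).toMonoidHom
  have hσ : ∀ a : ↥B, ((σ a : ↥B) : Γ) = g⁻¹ * a * g := by
    intro a
    have := MulAut.conjNormal_apply (H := B) g⁻¹ a
    rw [inv_inv] at this
    exact this
  have hτ : ∀ y : ↥Y, ((τ y : ↥Y) : Γ) = g * y * g⁻¹ := fun y => MulAut.conjNormal_apply g y
  let Lop : (↥B →* ↥Y) →* (↥B →* ↥Y) :=
    { toFun := fun ψ => τ.comp ψ
      map_one' := by ext a; simp
      map_mul' := fun ψ ψ' => by ext a; simp }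
  let Rop : (↥B →* ↥Y) →* (↥B →* ↥Y) :=
    { toFun := fun ψ => ψ.comp σ
      map_one' := by ext a; simp
      map_mul' := fun ψ ψ' => by ext a; simp }
  have hLop : ∀ (ψ : ↥B →* ↥Y) (a : ↥B), Lop ψ a = τ (ψ a) := fun ψ a => rfl
  have hRop : ∀ (ψ : ↥B →* ↥Y) (a : ↥B), Rop ψ a = ψ (σ a) := fun ψ a => rfl
  let D : (↥B →* ↥Y) →* (↥B →* ↥Y) := MonoidHom.id _ / (Lop.comp Rop)
  have hD : ∀ ψ : ↥B →* ↥Y, D ψ = ψ / Lop (Rop ψ) := fun ψ => rfl
  have hgN : g ∈ Subgroup.normalizer (N : Set Γ) := by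
    rw [Subgroup.normalizer_eq_top_iff.mpr hNn]; exact Subgroup.mem_top g
  -- the intertwining relation
  have hcomm : ∀ (x : Γ) (hx : x ∈ N), ∃ h : ⁅x, g⁆ ∈ N, Φ ⟨⁅x, g⁆, h⟩ = D (Φ ⟨x, hx⟩) := by
    intro x hx
    have hconj : g * x * g⁻¹ ∈ N := hNn.conj_mem x hx g
    have hc : ⁅x, g⁆ ∈ N := by
      have e : ⁅x, g⁆ = x * (g * x * g⁻¹)⁻¹ := by rw [commutatorElement_def]; group
      rw [e]
      exact N.mul_mem hx (N.inv_mem hconj)
    refine ⟨hc, ?_⟩
    have e1 : (⟨⁅x, g⁆, hc⟩ : ↥N) = ⟨x, hx⟩ * (⟨g * x * g⁻¹, hconj⟩ : ↥N)⁻¹ := by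
      apply Subtype.ext
      simp only [Subgroup.coe_mul, Subgroup.coe_inv, commutatorElement_def]
      group
    have e2 : Φ ⟨g * x * g⁻¹, hconj⟩ = Lop (Rop (Φ ⟨x, hx⟩)) := by
      ext a
      rw [hLop, hRop, hτ, hΦ, hΦ, hσ]
      simp only [commutatorElement_def]
      group
    rw [e1, map_mul, map_inv, e2, hD, div_eq_mul_inv]
  -- nilpotency
  set l := toE Lop with hl
  set r := toE Rop with hr
  have hlr : Commute l r := by
    show l * r = r * l
    rw [hl, hr, ← toE_comp, ← toE_comp]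
    rfl
  -- the operator `1 - l`
  let Lm : (↥B →* ↥Y) →* (↥B →* ↥Y) := MonoidHom.id _ / Lop
  have hLmE : toE Lm = 1 - l := by
    show toE (MonoidHom.id _ / Lop) = 1 - l
    rw [toE_div, toE_id]
  let γ : ↥Y → ↥Y := fun y => y / τ y
  have hγ : ∀ y : ↥Y, ((γ y : ↥Y) : Γ) = ⁅(y : Γ), g⁆ := by
    intro y
    show ((y / τ y : ↥Y) : Γ) = _
    rw [div_eq_mul_inv, Subgroup.coe_mul, Subgroup.coe_inv, hτ, commutatorElement_def]
    group
  have hγk : ∀ (k : ℕ) (y : ↥Y), ((γ^[k] y : ↥Y) : Γ) = (fun y : Γ => ⁅y, g⁆)^[k] (y : Γ) := by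
    intro k
    induction k with
    | zero => intro y; rfl
    | succ k ih =>
      intro y
      rw [Function.iterate_succ_apply', Function.iterate_succ_apply', hγ, ih]
  have hLmk : ∀ (k : ℕ) (ψ : ↥B →* ↥Y) (a : ↥B), (Lm^[k] ψ) a = γ^[k] (ψ a) := by
    intro k
    induction k with
    | zero => intro ψ a; rfl
    | succ k ih =>
      intro ψ a
      rw [Function.iterate_succ_apply', Function.iterate_succ_apply', ← ih]
      rfl
  have hl1 : (1 - l) ^ j = 0 := by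
    apply LinearMap.ext
    intro v
    obtain ⟨ψ, rfl⟩ := Additive.ofMul.surjective v
    rw [← hLmE, toE_pow_apply, LinearMap.zero_apply]
    have : Lm^[j] ψ = 1 := by
      ext a
      rw [hLmk, hγk, h4 _ (ψ a).2]
      rfl
    rw [this]
    rfl
  -- the operator `1 - r`
  let Rm : (↥B →* ↥Y) →* (↥B →* ↥Y) := MonoidHom.id _ / Rop
  have hRmE : toE Rm = 1 - r := by
    show toE (MonoidHom.id _ / Rop) = 1 - r
    rw [toE_div, toE_id]
  let δ : ↥B → ↥B := fun a => a / σ a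
  have hδ : ∀ a : ↥B, ((δ a : ↥B) : Γ) = ⁅(a : Γ), g⁻¹⁆ := by
    intro a
    show ((a / σ a : ↥B) : Γ) = _
    rw [div_eq_mul_inv, Subgroup.coe_mul, Subgroup.coe_inv, hσ, commutatorElement_def]
    group
  have hδk : ∀ (k : ℕ) (a : ↥B), ((δ^[k] a : ↥B) : Γ) = (fun a : Γ => ⁅a, g⁻¹⁆)^[k] (a : Γ) := by
    intro k
    induction k with
    | zero => intro a; rfl
    | succ k ih =>
      intro a
      rw [Function.iterate_succ_apply', Function.iterate_succ_apply', hδ, ih]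
  have hRm1 : ∀ (ψ : ↥B →* ↥Y) (a : ↥B), (Rm ψ) a = ψ (δ a) := by
    intro ψ a
    show ψ a / ψ (σ a) = ψ (a / σ a)
    rw [map_div]
  have hRmk : ∀ (k : ℕ) (ψ : ↥B →* ↥Y) (a : ↥B), (Rm^[k] ψ) a = ψ (δ^[k] a) := by
    intro k
    induction k with
    | zero => intro ψ a; rfl
    | succ k ih =>
      intro ψ a
      rw [Function.iterate_succ_apply, ih, hRm1, ← Function.iterate_succ_apply' δ]
  set X := (1 - l) * r with hX
  set Yr := 1 - r with hYr
  have hcl1 : Commute (1 - l) r := (Commute.one_left r).sub_left hlr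
  have hcl2 : Commute (1 - l) (1 - r) := (Commute.one_right _).sub_right hcl1
  have hcr : Commute r (1 - r) := (Commute.one_right r).sub_right (Commute.refl r)
  have hXY : Commute X Yr := hcl2.mul_left hcr
  have hXj : X ^ j = 0 := by
    rw [hX, hcl1.mul_pow, hl1, zero_mul]
  have hsum : X + Yr = 1 - l * r := by rw [hX, hYr]; noncomm_ring
  have hDE : toE D = 1 - l * r := by
    show toE (MonoidHom.id _ / (Lop.comp Rop)) = 1 - l * r
    rw [toE_div, toE_id, toE_comp]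
  have hn : ∀ x : ↥N, D^[i + j - 1] (Φ x) = 1 := by
    intro x
    have h6 : (toE D ^ (i + j - 1)) (Additive.ofMul (Φ x)) = 0 := by
      rw [hDE, ← hsum]
      apply add_pow_apply_eq_zero X Yr hXY i j hXj
      rw [← hRmE, toE_pow_apply]
      have : Rm^[i] (Φ x) = 1 := by
        ext a
        rw [hRmk, hΦ, MonoidHom.one_apply]
        have h10 := h5 a a.2
        rw [← hδk] at h10
        rw [h3 x x.2 _ h10]
        rfl
      rw [this]
      rfl
    rw [toE_pow_apply] at h6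
    exact h6
  have hI := iterCommutator_le_ker N g hgN Φ D hcomm (i + j - 1) hn
  refine hI.trans ?_
  rintro _ ⟨x, hx, rfl⟩
  refine ⟨x.2, ?_⟩
  show (x : Γ) ∈ Subgroup.centralizer (B : Set Γ)
  rw [Subgroup.mem_centralizer_iff]
  intro a ha
  have hx' : Φ x = 1 := MonoidHom.mem_ker.mp hx
  have h6 : ((Φ x ⟨a, ha⟩ : ↥Y) : Γ) = 1 := by rw [hx']; rfl
  rw [hΦ, commutatorElement_def] at h6
  show a * (x : Γ) = (x : Γ) * a
  calc a * (x : Γ) = ((x : Γ) * a * (x : Γ)⁻¹ * a⁻¹)⁻¹ * ((x : Γ) * a) := by group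
    _ = (x : Γ) * a := by rw [h6]; simp

end Cfsg.Agent.Helper10
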