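import Mathlib
import Cfsg.Prelude.Def_PLocal
import Cfsg.Prelude.Def_LocalEven
import Cfsg.Agent.Lib.Helper10.HomNilGen

set_option autoImplicit false

/-! Normal series with bounded nilpotency index of a cyclic group on the sections, and their
behaviour under the passage to groups of homomorphisms given by commutation. -/

namespace Cfsg.Agent.Helper10

open Cfsg
open scoped commutatorElement

section modgen

variable {G : Type*} [Group G] [Finite G]

theorem hom_nil_gen_mod (W N B Y Z₀ : Subgroup G)
    [hWn : W.Normal] [hNn : N.Normal] [hBn : B.Normal] [hYn : Y.Normal]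
    (hYc : ⁅Y, Y⁆ ≤ W) (h1 : ⁅N, B⁆ ≤ Y) (h2N : ⁅N, Y⁆ ≤ W) (h2B : ⁅B, Y⁆ ≤ W)
    (h3 : ⁅N, Z₀⁆ ≤ W) (g : G) (i j : ℕ)
    (h4 : iterCommutator Y (Subgroup.zpowers g) j ≤ W)
    (h5 : iterCommutator B (Subgroup.zpowers g) i ≤ Z₀) :
    iterCommutator N (Subgroup.zpowers g) (i + j - 1) ≤ N ⊓ commNormSubgroup W B := by
  set π := QuotientGroup.mk' W with hπ
  have hsurj : Function.Surjective π := QuotientGroup.mk'_surjective W
  have : (N.map π).Normal := Subgroup.Normal.map hNn π hsurj
  have : (B.map π).Normal := Subgroup.Normal.map hBn π hsurj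
  have : (Y.map π).Normal := Subgroup.Normal.map hYn π hsurj
  have hone : ∀ a b : G, ⁅a, b⁆ ∈ W → ⁅π a, π b⁆ = 1 := by
    intro a b h
    rw [← map_commutatorElement]
    exact (QuotientGroup.eq_one_iff _).mpr h
  have hcm : ∀ a b : G, ⁅a, b⁆ ∈ W → π a * π b = π b * π a := fun a b h =>
    commutatorElement_eq_one_iff_mul_comm.mp (hone a b h)
  have key := hom_nil_gen (N.map π) (B.map π) (Y.map π) (Z₀.map π) ?_ ?_ ?_ ?_ ?_ (π g) i j ?_ ?_
  · intro x hx
    refine ⟨iterCommutator_le_of_normal (i + j - 1) hx, ?_, ?_⟩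
    · rw [Subgroup.normalizer_eq_top_iff.mpr hWn]; exact Subgroup.mem_top _
    · intro q hq
      have hzp : Subgroup.zpowers (π g) = (Subgroup.zpowers g).map π := by
        rw [MonoidHom.map_zpowers]
      rw [hzp, iterCommutator_map] at key
      have h6 := (key (Subgroup.mem_map_of_mem π hx)).2
      have h7 := (Subgroup.mem_centralizer_iff.mp h6) (π q) (Subgroup.mem_map_of_mem π hq)
      have h8 : ⁅π x, π q⁆ = 1 := commutatorElement_eq_one_iff_mul_comm.mpr h7.symm
      rw [← map_commutatorElement] at h8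
      exact (QuotientGroup.eq_one_iff _).mp h8
  · rintro _ ⟨a, ha, rfl⟩ _ ⟨b, hb, rfl⟩
    exact hcm a b (hYc (Subgroup.commutator_mem_commutator ha hb))
  · rintro _ ⟨x, hx, rfl⟩ _ ⟨a, ha, rfl⟩
    rw [← map_commutatorElement]
    exact Subgroup.mem_map_of_mem π (h1 (Subgroup.commutator_mem_commutator hx ha))
  · rintro _ ⟨x, hx, rfl⟩ _ ⟨y, hy, rfl⟩
    exact hcm x y (h2N (Subgroup.commutator_mem_commutator hx hy))
  · rintro _ ⟨a, ha, rfl⟩ _ ⟨y, hy, rfl⟩
    exact hcm a y (h2B (Subgroup.commutator_mem_commutator ha hy))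
  · rintro _ ⟨x, hx, rfl⟩ _ ⟨z, hz, rfl⟩
    exact hone x z (h3 (Subgroup.commutator_mem_commutator hx hz))
  · rintro _ ⟨y, hy, rfl⟩
    rw [iterR_map]
    exact (QuotientGroup.eq_one_iff _).mpr (h4 (iterR_mem Y g j y hy))
  · rintro _ ⟨a, ha, rfl⟩
    rw [← map_inv, iterR_map]
    apply Subgroup.mem_map_of_mem
    apply h5
    have h6 := iterR_mem B g⁻¹ i a ha
    rwa [Subgroup.zpowers_inv] at h6

end modgen

section commnorm

variable {G : Type*} [Group G]

theorem le_commNorm_of_normal {W B H : Subgroup G} [hW : W.Normal] :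
    H ≤ commNormSubgroup W B ↔ ⁅H, B⁆ ≤ W := by
  rw [le_commNormSubgroup_iff, Subgroup.normalizer_eq_top_iff.mpr hW]
  exact ⟨fun h => h.2, fun h => ⟨le_top, h⟩⟩

theorem commNorm_mono_left {W W' B : Subgroup G} [hW : W.Normal] [hW' : W'.Normal] (h : W ≤ W') :
    commNormSubgroup W B ≤ commNormSubgroup W' B := by
  rw [le_commNorm_of_normal]
  exact ((le_commNorm_of_normal (W := W)).mp le_rfl).trans h

theorem commNorm_anti_right {W B B' : Subgroup G} (h : B' ≤ B) :
    commNormSubgroup W B ≤ commNormSubgroup W B' :=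
  fun _ hx => ⟨hx.1, fun q hq => hx.2 q (h hq)⟩

end commnorm

section chain

variable {G : Type*} [Group G]

/-- a normal series from `N` down to `M` whose sections are centralized by `T` and on which `L`
acts with nilpotency index at most `n` -/
inductive NilChain (L T : Subgroup G) (n : ℕ) : Subgroup G → Subgroup G → Prop
  | refl (N : Subgroup G) : NilChain L T n N N
  | step (N N' M : Subgroup G) (hN' : N'.Normal) (hle : N' ≤ N) (hT : ⁅N, T⁆ ≤ N')
      (hL : iterCommutator N L n ≤ N') (h : NilChain L T n N' M) : NilChain L T n N M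

variable {L T : Subgroup G} {n : ℕ}

theorem NilChain.trans {N M K : Subgroup G} (h1 : NilChain L T n N M) (h2 : NilChain L T n M K) :
    NilChain L T n N K := by
  induction h1 with
  | refl N => exact h2
  | step N N' M hN' hle hT hL _ ih => exact NilChain.step N N' K hN' hle hT hL (ih h2)

theorem NilChain.le {N M : Subgroup G} (h : NilChain L T n N M) : M ≤ N := by
  induction h with
  | refl N => exact le_rfl
  | step N N' M _ hle _ _ _ ih => exact ih.trans hle

theorem NilChain.normal_right {N M : Subgroup G} (h : NilChain L T n N M) (hN : N.Normal) :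
    M.Normal := by
  induction h with
  | refl N => exact hN
  | step N N' M hN' _ _ _ _ ih => exact ih hN'

theorem NilChain.localize {N M : Subgroup G} (h : NilChain L T n N M)
    (hM : ∀ U V : Subgroup G, IsChiefFactor U V → U ≤ M → iterCommutator U L n ≤ V) :
    ∀ U V : Subgroup G, IsChiefFactor U V → U ≤ N → iterCommutator U L n ≤ V := by
  induction h with
  | refl N => exact hM
  | step N N' M hN' _ _ hL _ ih =>
    have := hN'
    exact localize_step n hL (ih hM)

end chain

section chiefs

variable {G : Type*} [Group G] [Finite G] {p : ℕ} [hp : Fact p.Prime]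

theorem exists_iterCommutator_bot (T X : Subgroup G) (hT : IsPGroup p T) (hX : X ≤ T) :
    ∃ n, iterCommutator X T n = ⊥ := by
  have hnil : Group.IsNilpotent ↥T := hT.isNilpotent
  obtain ⟨n, hn⟩ := (Subgroup.isNilpotent_iff_lowerCentralSeries T).mp hnil
  refine ⟨n, le_bot_iff.mp ?_⟩
  rw [← hn]
  clear hn
  induction n with
  | zero => exact hX
  | succ n ih =>
    show ⁅iterCommutator X T n, T⁆ ≤ ⁅T.lowerCentralSeries n, T⁆
    exact Subgroup.commutator_mono ih le_rfl

/-- a normal `p`-subgroup centralizes the chief factors below it -/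
theorem chief_central (T : Subgroup G) [hTn : T.Normal] (hT : IsPGroup p T) {U V : Subgroup G}
    (hUV : IsChiefFactor U V) (hUT : U ≤ T) : ⁅U, T⁆ ≤ V := by
  obtain ⟨hlt, hUn, hVn, hmin⟩ := hUV
  have : (⁅U, T⁆).Normal := inferInstance
  rcases hmin (⁅U, T⁆ ⊔ V) inferInstance le_sup_right
    (sup_le (Subgroup.commutator_le_left U T) hlt.le) with h | h
  · rw [← h]; exact le_sup_left
  · exfalso
    have key : ∀ k, U ≤ iterCommutator U T k ⊔ V := by
      intro k
      induction k with
      | zero => exact le_sup_left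
      | succ k ih =>
        have hkn : (iterCommutator U T (k + 1)).Normal := iterCommutator_normal U T (k + 1)
        have hkn' : (iterCommutator U T k).Normal := iterCommutator_normal U T k
        have h1 : ⁅iterCommutator U T k ⊔ V, T⁆ ≤ iterCommutator U T (k + 1) ⊔ V := by
          have hNn : (iterCommutator U T (k + 1) ⊔ V).Normal := inferInstance
          apply sup_commutator_le
          · exact le_sup_left
          · exact (Subgroup.commutator_le_left V T).trans le_sup_right
          · rw [Subgroup.normalizer_eq_top_iff.mpr hNn]; exact le_top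
          · rw [Subgroup.normalizer_eq_top_iff.mpr hNn]; exact le_top
        calc U = ⁅U, T⁆ ⊔ V := h.symm
          _ ≤ ⁅iterCommutator U T k ⊔ V, T⁆ ⊔ V :=
              sup_le_sup_right (Subgroup.commutator_mono ih le_rfl) V
          _ ≤ iterCommutator U T (k + 1) ⊔ V := sup_le h1 le_sup_right
    obtain ⟨m, hm⟩ := exists_iterCommutator_bot T U hT hUT
    have := key m
    rw [hm, bot_sup_eq] at this
    exact absurd hlt (not_lt_of_ge this)

/-- a chief factor at the top of `N`, above `M` -/
theorem exists_chief_factor_above (M N : Subgroup G) [hM : M.Normal] [hN : N.Normal]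
    (hlt : M < N) : ∃ V : Subgroup G, M ≤ V ∧ IsChiefFactor N V := by
  set s : Set (Subgroup G) := {Y | Y.Normal ∧ M ≤ Y ∧ Y < N} with hs
  have hsne : s.Nonempty := ⟨M, hM, le_rfl, hlt⟩
  have hwf : WellFounded (fun (a b : Subgroup G) => a > b) := wellFounded_gt
  obtain ⟨Y, hY, hmax⟩ := hwf.has_min s hsne
  refine ⟨Y, hY.2.1, hY.2.2, hN, hY.1, ?_⟩
  intro K hK hYK hKN
  by_cases h : K = N
  · right; exact h
  left
  have hKs : K ∈ s := ⟨hK, hY.2.1.trans hYK, lt_of_le_of_ne hKN h⟩
  have := hmax K hKs
  by_contra hne'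
  exact this (lt_of_le_of_ne hYK (Ne.symm hne'))

theorem exists_nilChain (L T : Subgroup G) [hTn : T.Normal] (hT : IsPGroup p T) (n : ℕ)
    (M : Subgroup G) [hM : M.Normal] :
    ∀ N : Subgroup G, N.Normal → M ≤ N → N ≤ T →
      (∀ U V : Subgroup G, IsChiefFactor U V → U ≤ N → iterCommutator U L n ≤ V) →
      NilChain L T n N M := by
  intro N
  induction N using WellFoundedLT.induction with
  | ind N ih =>
    intro hNn hMN hNT h
    by_cases hEq : N = M
    · rw [hEq]; exact NilChain.refl M
    · have hlt : M < N := lt_of_le_of_ne hMN (Ne.symm hEq)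
      obtain ⟨V, hMV, hch⟩ := exists_chief_factor_above M N hlt
      exact NilChain.step N V M hch.2.2.1 hch.1.le (chief_central T hT hch hNT) (h N V hch le_rfl)
        (ih V hch.1 hch.2.2.1 hMV (hch.1.le.trans hNT)
          (fun U' V' hc hU' => h U' V' hc (hU'.trans hch.1.le)))

end chiefs

section layers

variable {G : Type*} [Group G] [Finite G]

theorem nilChain_layer (g : G) (W Y : Subgroup G) [hWn : W.Normal] [hYn : Y.Normal]
    (hYc : ⁅Y, Y⁆ ≤ W) (i j : ℕ) (h4 : iterCommutator Y (Subgroup.zpowers g) j ≤ W)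
    (T' B Z₀ : Subgroup G) (hch : NilChain (Subgroup.zpowers g) T' i B Z₀) :
    ∀ N : Subgroup G, N.Normal → B.Normal → ⁅N, B⁆ ≤ Y → ⁅N, Y⁆ ≤ W → ⁅B, Y⁆ ≤ W →
      ⁅N, Z₀⁆ ≤ W →
      NilChain (Subgroup.zpowers g) ⊥ (i + j - 1) N (N ⊓ commNormSubgroup W B) := by
  induction hch with
  | refl B =>
    intro N _ _ _ _ _ h3
    have : N ⊓ commNormSubgroup W B = N := inf_eq_left.mpr (le_commNorm_of_normal.mpr h3)
    rw [this]
    exact NilChain.refl N
  | step B B' Z₀ hB'n hle _ hL _ ih =>
    intro N hNn hBn h1 h2N h2B h3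
    have hcn : (commNormSubgroup W B').Normal := commNormSubgroup_normal W B'
    set N' := N ⊓ commNormSubgroup W B' with hN'
    have hN'n : N'.Normal := inferInstance
    have c1 := ih N hNn hB'n ((Subgroup.commutator_mono le_rfl hle).trans h1) h2N
      ((Subgroup.commutator_mono hle le_rfl).trans h2B) h3
    have hN'B' : ⁅N', B'⁆ ≤ W := le_commNorm_of_normal.mp inf_le_right
    have c2 := hom_nil_gen_mod W N' B Y B' hYc
      ((Subgroup.commutator_mono inf_le_left le_rfl).trans h1)
      ((Subgroup.commutator_mono inf_le_left le_rfl).trans h2N) h2B hN'B' g i j h4 hL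
    have e : N' ⊓ commNormSubgroup W B = N ⊓ commNormSubgroup W B := by
      apply le_antisymm
      · exact inf_le_inf inf_le_left le_rfl
      · exact le_inf (le_inf inf_le_left (inf_le_right.trans (commNorm_anti_right hle)))
          inf_le_right
    rw [e] at c2
    have hcn2 : (commNormSubgroup W B).Normal := commNormSubgroup_normal W B
    refine c1.trans (NilChain.step N' _ _ inferInstance ?_ ?_ c2 (NilChain.refl _))
    · rw [← e]; exact inf_le_left
    · rw [Subgroup.commutator_bot_right]; exact bot_le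

theorem nilChain_hom (g : G) (T T' : Subgroup G) (i j : ℕ) (B : Subgroup G) [hBn : B.Normal]
    (hBT : B ≤ T) (hB : NilChain (Subgroup.zpowers g) T' i B ⊥)
    (Y Y' : Subgroup G) (hch : NilChain (Subgroup.zpowers g) T j Y Y') :
    ∀ N : Subgroup G, N.Normal → Y.Normal → N ≤ T → Y ≤ T → ⁅N, B⁆ ≤ Y →
      NilChain (Subgroup.zpowers g) ⊥ (i + j - 1) N (N ⊓ commNormSubgroup Y' B) := by
  induction hch with
  | refl Y =>
    intro N _ hYn _ _ h1
    have : N ⊓ commNormSubgroup Y B = N := inf_eq_left.mpr (le_commNorm_of_normal.mpr h1)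
    rw [this]
    exact NilChain.refl N
  | step Y Y₁ Y' hY₁n hle hTc hL hrest ih =>
    intro N hNn hYn hNT hYT h1
    have hcn : (commNormSubgroup Y₁ B).Normal := commNormSubgroup_normal Y₁ B
    set N₁ := N ⊓ commNormSubgroup Y₁ B with hN₁
    have hN₁n : N₁.Normal := inferInstance
    have hXY : ∀ X : Subgroup G, X ≤ T → ⁅X, Y⁆ ≤ Y₁ := by
      intro X hX
      rw [Subgroup.commutator_comm]
      exact (Subgroup.commutator_mono le_rfl hX).trans hTc
    have c1 := nilChain_layer g Y₁ Y (hXY Y hYT) i j hL T' B ⊥ hB N hNn hBn h1 (hXY N hNT)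
      (hXY B hBT) (by rw [Subgroup.commutator_bot_right]; exact bot_le)
    have c2 := ih N₁ hN₁n hY₁n (inf_le_left.trans hNT) (hle.trans hYT)
      (le_commNorm_of_normal.mp inf_le_right)
    have hY'n : Y'.Normal := hrest.normal_right hY₁n
    have e : N₁ ⊓ commNormSubgroup Y' B = N ⊓ commNormSubgroup Y' B := by
      apply le_antisymm
      · exact inf_le_inf inf_le_left le_rfl
      · exact le_inf (le_inf inf_le_left (inf_le_right.trans (commNorm_mono_left hrest.le)))
          inf_le_right
    rw [e] at c2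
    exact c1.trans c2

end layers

end Cfsg.Agent.Helper10
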