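import Mathlib
import Cfsg.Prelude.Def_Local
import Cfsg.Agent.Lib.Helper7.PLocal7
import Cfsg.Agent.Lib.Helper7.Layer6

set_option autoImplicit false

/-! Characteristic `p` passes from `N_G(W)` to `N_G(U)` for `p`-subgroups `W ≤ U`. -/

namespace Cfsg.Agent.Helper10.CharPChain

open Cfsg Subgroup Cfsg.Agent.Helper7

universe u

section abstract

variable {X : Type u} [Group X] [Finite X] (p : ℕ) [hp : Fact p.Prime]

/-- a normal subgroup of a group of characteristic `p` has characteristic `p` -/
theorem charp_of_normal (D : Subgroup X) [hD : D.Normal]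
    (h : centralizer (Cfsg.pCore p X : Set X) ≤ Cfsg.pCore p X) :
    centralizer (Cfsg.pCore p ↥D : Set ↥D) ≤ Cfsg.pCore p ↥D := by
  rw [← isPGroup_generalizedFittingSubgroup_iff] at h ⊢
  have e := generalizedFittingSubgroup_inf_normal D
  have h1 : IsPGroup p ↥((Cfsg.generalizedFittingSubgroup ↥D).map D.subtype) := by
    rw [← e]; exact h.to_le inf_le_left
  have e2 := Subgroup.equivMapOfInjective (Cfsg.generalizedFittingSubgroup ↥D) D.subtype
    D.subtype_injective
  exact h1.of_injective e2.toMonoidHom e2.injective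

/-- if a normal subgroup `D` has characteristic `p` and contains `C_X(O_p(X))`, then `X` has
characteristic `p` -/
theorem charp_of_normal_charp (D : Subgroup X) [hD : D.Normal]
    (h : centralizer (Cfsg.pCore p ↥D : Set ↥D) ≤ Cfsg.pCore p ↥D)
    (hc : centralizer (Cfsg.pCore p X : Set X) ≤ D) :
    centralizer (Cfsg.pCore p X : Set X) ≤ Cfsg.pCore p X := by
  have hmapn : ((Cfsg.pCore p ↥D).map D.subtype).Normal := by
    rw [← Subgroup.normalizer_eq_top_iff, eq_top_iff]
    refine le_trans ?_ (normalizer_le_normalizer_map_pCore p D)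
    rw [Subgroup.normalizer_eq_top_iff.mpr hD]
  have hmaple : (Cfsg.pCore p ↥D).map D.subtype ≤ Cfsg.pCore p X :=
    le_pCore hmapn ((pCore_isPGroup (G := ↥D) p).map _)
  intro y hy
  have hyD : y ∈ D := hc hy
  have hy' : (⟨y, hyD⟩ : ↥D) ∈ centralizer (Cfsg.pCore p ↥D : Set ↥D) := by
    rw [Subgroup.mem_centralizer_iff]
    intro d hd
    have := Subgroup.mem_centralizer_iff.mp hy (d : X) (hmaple ⟨d, hd, rfl⟩)
    exact Subtype.ext this
  exact hmaple ⟨_, h hy', rfl⟩

end abstract

section ambient

variable {G : Type u} [Group G] [Finite G] (p : ℕ) [hp : Fact p.Prime]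

theorem normalizer_le_normalizer_centralizer (R : Subgroup G) :
    normalizer (R : Set G) ≤ normalizer ((centralizer (R : Set G) : Subgroup G) : Set G) := by
  apply le_normalizer_of_forall_conj_mem
  intro x hx c hc
  rw [Subgroup.mem_centralizer_iff]
  intro r hr
  have hr' : x⁻¹ * r * x⁻¹⁻¹ ∈ R :=
    (Subgroup.mem_normalizer_iff.mp (Subgroup.inv_mem _ hx) r).mp hr
  have h1 := Subgroup.mem_centralizer_iff.mp hc _ hr'
  calc r * (x * c * x⁻¹) = x * ((x⁻¹ * r * x⁻¹⁻¹) * c) * x⁻¹ := by group
    _ = x * (c * (x⁻¹ * r * x⁻¹⁻¹)) * x⁻¹ := by rw [h1]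
    _ = x * c * x⁻¹ * r := by group

/-- `N_G(W)` of characteristic `p` implies `C_G(W)` of characteristic `p` -/
theorem charp_centralizer_of_normalizer (W : Subgroup G)
    (h : centralizer (Cfsg.pCore p ↥(normalizer (W : Set G)) : Set ↥(normalizer (W : Set G)))
      ≤ Cfsg.pCore p ↥(normalizer (W : Set G))) :
    centralizer (Cfsg.pCore p ↥(centralizer (W : Set G)) : Set ↥(centralizer (W : Set G)))
      ≤ Cfsg.pCore p ↥(centralizer (W : Set G)) := by
  set N := normalizer (W : Set G) with hN
  set C := centralizer (W : Set G) with hC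
  have hCN : C ≤ N := Subgroup.centralizer_le_normalizer _
  have hDn : (C.subgroupOf N).Normal :=
    Subgroup.normal_subgroupOf_of_le_normalizer (normalizer_le_normalizer_centralizer W)
  have h1 := charp_of_normal p (C.subgroupOf N) h
  exact centralizer_pCore_le_of_mulEquiv p (Subgroup.subgroupOfEquivOfLe hCN) h1

/-- `C_G(U)` of characteristic `p` implies `N_G(U)` of characteristic `p`, for a `p`-subgroup `U` -/
theorem charp_normalizer_of_centralizer (U : Subgroup G) (hU : IsPGroup p ↥U)
    (h : centralizer (Cfsg.pCore p ↥(centralizer (U : Set G)) : Set ↥(centralizer (U : Set G)))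
      ≤ Cfsg.pCore p ↥(centralizer (U : Set G))) :
    centralizer (Cfsg.pCore p ↥(normalizer (U : Set G)) : Set ↥(normalizer (U : Set G)))
      ≤ Cfsg.pCore p ↥(normalizer (U : Set G)) := by
  set N := normalizer (U : Set G) with hN
  set C := centralizer (U : Set G) with hC
  have hCN : C ≤ N := Subgroup.centralizer_le_normalizer _
  have hDn : (C.subgroupOf N).Normal :=
    Subgroup.normal_subgroupOf_of_le_normalizer (normalizer_le_normalizer_centralizer U)
  have h1 : centralizer (Cfsg.pCore p ↥(C.subgroupOf N) : Set ↥(C.subgroupOf N))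
      ≤ Cfsg.pCore p ↥(C.subgroupOf N) :=
    centralizer_pCore_le_of_mulEquiv p (Subgroup.subgroupOfEquivOfLe hCN).symm h
  apply charp_of_normal_charp p (C.subgroupOf N) h1
  intro y hy
  rw [Subgroup.mem_subgroupOf, hC, Subgroup.mem_centralizer_iff]
  intro u hu
  have hu' : (⟨u, Subgroup.le_normalizer hu⟩ : ↥N) ∈ Cfsg.pCore p ↥N :=
    le_pCore Subgroup.normal_in_normalizer hU.comap_subtype (Subgroup.mem_subgroupOf.mpr hu)
  have := Subgroup.mem_centralizer_iff.mp hy _ hu'
  exact congrArg Subtype.val this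

/-- characteristic `p` passes from `N_G(W)` to `N_G(U)` for `p`-subgroups `W ≤ U` -/
theorem charp_normalizer_of_le (U W : Subgroup G) (hWU : W ≤ U) (hU : IsPGroup p ↥U)
    (h : centralizer (Cfsg.pCore p ↥(normalizer (W : Set G)) : Set ↥(normalizer (W : Set G)))
      ≤ Cfsg.pCore p ↥(normalizer (W : Set G))) :
    centralizer (Cfsg.pCore p ↥(normalizer (U : Set G)) : Set ↥(normalizer (U : Set G)))
      ≤ Cfsg.pCore p ↥(normalizer (U : Set G)) := by
  apply charp_normalizer_of_centralizer p U hU
  exact centralizer_pCore_le_centralizer_aux p _ U W hWU hU rfl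
    (charp_centralizer_of_normalizer p W h)

end ambient

end Cfsg.Agent.Helper10.CharPChain
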