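import Mathlib
import Cfsg.Prelude.Def_LocalEven

set_option autoImplicit false

namespace Cfsg.Agent.Helper10

open Cfsg

section chief

variable {G : Type*} [Group G] [Finite G]

/-- below every nontrivial normal subgroup there is a chief factor -/
theorem exists_chief_factor_below (X : Subgroup G) [hX : X.Normal] (hne : X ≠ ⊥) :
    ∃ Y : Subgroup G, IsChiefFactor X Y := by
  set s : Set (Subgroup G) := {Y | Y.Normal ∧ Y < X} with hs
  have hsne : s.Nonempty := ⟨⊥, Subgroup.normal_bot, bot_lt_iff_ne_bot.mpr hne⟩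
  have hwf : WellFounded (fun (a b : Subgroup G) => a > b) := wellFounded_gt
  obtain ⟨Y, hY, hmax⟩ := hwf.has_min s hsne
  refine ⟨Y, hY.2, hX, hY.1, ?_⟩
  intro N hN hYN hNX
  by_cases h : N = X
  · right; exact h
  left
  have hNs : N ∈ s := ⟨hN, lt_of_le_of_ne hNX h⟩
  have := hmax N hNs
  by_contra hne'
  exact this (lt_of_le_of_ne hYN (Ne.symm hne'))

variable {p : ℕ} [hp : Fact p.Prime]

/-- a chief factor below a normal `p`-subgroup is elementary abelian -/
theorem chief_factor_elementary {X Y : Subgroup G} (h : IsChiefFactor X Y) (hXp : IsPGroup p X) :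
    haveI : Y.Normal := h.2.2.1
    (∀ a ∈ X.map (QuotientGroup.mk' Y), ∀ a' ∈ X.map (QuotientGroup.mk' Y), a * a' = a' * a) ∧
    (∀ a ∈ X.map (QuotientGroup.mk' Y), a ^ p = 1) := by
  haveI hYn : Y.Normal := h.2.2.1
  haveI hXn : X.Normal := h.2.1
  set π := QuotientGroup.mk' Y with hπ
  have hπs : Function.Surjective π := QuotientGroup.mk'_surjective Y
  set A := X.map π with hA
  haveI hAn : A.Normal := Subgroup.Normal.map hXn π hπs
  have hAp : IsPGroup p A := hXp.map π
  have hcomap : A.comap π = X := by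
    rw [hA, Subgroup.comap_map_eq, hπ, QuotientGroup.ker_mk', sup_eq_left.mpr h.1.le]
  have hAne : A ≠ ⊥ := by
    intro hbot
    have h1 : X ≤ Y := by
      intro x hx
      have h2 : π x ∈ A := Subgroup.mem_map_of_mem π hx
      rw [hbot, Subgroup.mem_bot] at h2
      exact (QuotientGroup.eq_one_iff x).mp h2
    exact absurd h.1 (not_lt_of_ge h1)
  -- the subgroup of central elements of order dividing p
  let K : Subgroup (G ⧸ Y) :=
    { carrier := {a | a ∈ A ∧ (∀ a' ∈ A, a * a' = a' * a) ∧ a ^ p = 1}
      one_mem' := ⟨A.one_mem, fun a' _ => by simp, one_pow p⟩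
      mul_mem' := by
        rintro a b ⟨haA, hac, hap⟩ ⟨hbA, hbc, hbp⟩
        refine ⟨A.mul_mem haA hbA, fun a' ha' => ?_, ?_⟩
        · rw [mul_assoc, hbc a' ha', ← mul_assoc, hac a' ha', mul_assoc]
        · have hcomm : Commute a b := hac b hbA
          rw [hcomm.mul_pow, hap, hbp, one_mul]
      inv_mem' := by
        rintro a ⟨haA, hac, hap⟩
        refine ⟨A.inv_mem haA, fun a' ha' => ?_, by rw [inv_pow, hap, inv_one]⟩
        have := hac a' ha'
        calc a⁻¹ * a' = a⁻¹ * (a' * a) * a⁻¹ := by group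
          _ = a⁻¹ * (a * a') * a⁻¹ := by rw [this]
          _ = a' * a⁻¹ := by group }
  have hKA : K ≤ A := fun a ha => ha.1
  have hKn : K.Normal := by
    constructor
    rintro a ⟨haA, hac, hap⟩ g
    refine ⟨hAn.conj_mem a haA g, fun a' ha' => ?_, ?_⟩
    · have h1 : g⁻¹ * a' * g ∈ A := by
        have := hAn.conj_mem a' ha' g⁻¹
        simpa using this
      have h2 := hac _ h1
      calc g * a * g⁻¹ * a' = g * (a * (g⁻¹ * a' * g)) * g⁻¹ := by group
        _ = g * ((g⁻¹ * a' * g) * a) * g⁻¹ := by rw [h2]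
        _ = a' * (g * a * g⁻¹) := by group
    · rw [conj_pow, hap]; group
  have hKne : K ≠ ⊥ := by
    haveI : Nontrivial ↥A := (Subgroup.nontrivial_iff_ne_bot A).mpr hAne
    haveI : Finite ↥A := inferInstance
    haveI hcn : Nontrivial (Subgroup.center ↥A) := hAp.center_nontrivial
    have hcp : IsPGroup p (Subgroup.center ↥A) := hAp.to_subgroup _
    have hdvd : p ∣ Nat.card (Subgroup.center ↥A) := by
      obtain ⟨k, hk⟩ := hcp.exists_card_eq
      have hk0 : k ≠ 0 := by
        rintro rfl
        rw [pow_zero] at hk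
        have := Finite.one_lt_card_iff_nontrivial.mpr hcn
        omega
      rw [hk]; exact dvd_pow_self p hk0
    obtain ⟨z, hz⟩ := exists_prime_orderOf_dvd_card' p hdvd
    intro hbot
    have hzK : ((z : ↥A) : G ⧸ Y) ∈ K := by
      refine ⟨(z : ↥A).2, fun a' ha' => ?_, ?_⟩
      · have h1 := Subgroup.mem_center_iff.mp z.2 ⟨a', ha'⟩
        have h2 := congrArg Subtype.val h1
        simpa using h2.symm
      · have h1 : z ^ p = 1 := by rw [← hz]; exact pow_orderOf_eq_one z
        have h2 := congrArg (fun w : Subgroup.center ↥A => ((w : ↥A) : G ⧸ Y)) h1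
        simpa using h2
    rw [hbot, Subgroup.mem_bot] at hzK
    have hz1 : z = 1 := by
      apply Subtype.ext
      apply Subtype.ext
      simpa using hzK
    rw [hz1, orderOf_one] at hz
    exact hp.out.one_lt.ne' hz.symm
  -- minimality
  have hKeq : K = A := by
    have hN : (K.comap π).Normal := Subgroup.Normal.comap hKn π
    have hYN : Y ≤ K.comap π := by
      intro y hy
      rw [Subgroup.mem_comap]
      have : π y = 1 := (QuotientGroup.eq_one_iff y).mpr hy
      rw [this]; exact K.one_mem
    have hNX : K.comap π ≤ X := by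
      rw [← hcomap]; exact Subgroup.comap_mono hKA
    rcases h.2.2.2 (K.comap π) hN hYN hNX with h1 | h1
    · exfalso
      apply hKne
      rw [← Subgroup.map_comap_eq_self_of_surjective hπs K, h1]
      have : Y ≤ π.ker := by rw [hπ, QuotientGroup.ker_mk']
      exact (Subgroup.map_eq_bot_iff Y).mpr this
    · apply le_antisymm hKA
      rw [hA, ← h1]
      exact Subgroup.map_comap_le π K
  constructor
  · intro a ha a' ha'
    have : a ∈ K := by rw [hKeq]; exact ha
    exact this.2.1 a' ha'
  · intro a ha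
    have : a ∈ K := by rw [hKeq]; exact ha
    exact this.2.2

end chief

end Cfsg.Agent.Helper10
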