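import Mathlib

set_option autoImplicit false

/-! Transfer into a commutative group, computed pointwise on the coset space by the classical
cocycle, on arbitrary invariant sets of cosets. -/

namespace Cfsg.Agent.Helper10.CT

variable {G : Type*} [Group G] (N : Subgroup G) {A : Type*} [CommGroup A] (lam : N →* A)

/-- a representative of a coset -/
noncomputable def rep (ω : G ⧸ N) : G := Quotient.out ω

theorem mk_rep (ω : G ⧸ N) : ((rep N ω : G) : G ⧸ N) = ω := QuotientGroup.out_eq' ω

theorem smul_mk (g t : G) : g • ((t : G) : G ⧸ N) = ((g * t : G) : G ⧸ N) := rfl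

theorem cocN_mem (g : G) (ω : G ⧸ N) : (rep N (g • ω))⁻¹ * g * rep N ω ∈ N := by
  have h1 : ((rep N (g • ω) : G) : G ⧸ N) = ((g * rep N ω : G) : G ⧸ N) := by
    rw [mk_rep, ← smul_mk, mk_rep]
  rw [QuotientGroup.eq] at h1
  simpa [mul_assoc] using h1

/-- the cocycle with values in `N` -/
noncomputable def cocN (g : G) (ω : G ⧸ N) : N := ⟨(rep N (g • ω))⁻¹ * g * rep N ω, cocN_mem N g ω⟩

theorem cocN_mul (g h : G) (ω : G ⧸ N) : cocN N (g * h) ω = cocN N g (h • ω) * cocN N h ω := by
  apply Subtype.ext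
  simp only [cocN, Subgroup.coe_mul, mul_smul]
  group

theorem cocN_one (ω : G ⧸ N) : cocN N 1 ω = 1 := by
  apply Subtype.ext
  simp [cocN]

/-- the cocycle with values in `A` -/
noncomputable def coc (g : G) (ω : G ⧸ N) : A := lam (cocN N g ω)

theorem coc_mul (g h : G) (ω : G ⧸ N) :
    coc N lam (g * h) ω = coc N lam g (h • ω) * coc N lam h ω := by
  unfold coc
  rw [cocN_mul, map_mul]

theorem coc_one (ω : G ⧸ N) : coc N lam 1 ω = 1 := by
  unfold coc
  rw [cocN_one, map_one]

theorem coc_inv_mul (k : G) (ω : G ⧸ N) :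
    coc N lam k⁻¹ (k • ω) * coc N lam k ω = 1 := by
  rw [← coc_mul, inv_mul_cancel, coc_one]

/-- conjugation invariance of the value at a fixed point -/
theorem coc_conj (k g : G) (ω : G ⧸ N) (hfix : g • ω = ω) :
    coc N lam (k * g * k⁻¹) (k • ω) = coc N lam g ω := by
  have e1 : coc N lam (k * g * k⁻¹) (k • ω) =
      coc N lam (k * g) (k⁻¹ • (k • ω)) * coc N lam k⁻¹ (k • ω) := coc_mul N lam (k * g) k⁻¹ (k • ω)
  have e2 : k⁻¹ • (k • ω) = ω := inv_smul_smul k ω
  have e3 : coc N lam (k * g) ω = coc N lam k (g • ω) * coc N lam g ω := coc_mul N lam k g ω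
  rw [e1, e2, e3, hfix]
  have := coc_inv_mul N lam k ω
  calc coc N lam k ω * coc N lam g ω * coc N lam k⁻¹ (k • ω)
      = coc N lam g ω * (coc N lam k⁻¹ (k • ω) * coc N lam k ω) := by
        rw [mul_comm (coc N lam k ω), mul_assoc, mul_comm (coc N lam k ω)]
    _ = coc N lam g ω := by rw [this, mul_one]

/-- the base point -/
def base : G ⧸ N := ((1 : G) : G ⧸ N)

theorem smul_base {n : G} (hn : n ∈ N) : n • base N = base N := by
  unfold base
  rw [smul_mk, mul_one, QuotientGroup.eq]
  simpa using hn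

theorem smul_base_iff {n : G} : n • base N = base N ↔ n ∈ N := by
  constructor
  · intro h
    unfold base at h
    rw [smul_mk, mul_one, QuotientGroup.eq] at h
    have := N.inv_mem h
    simpa using this
  · exact smul_base N

theorem rep_base_mem : rep N (base N) ∈ N := by
  have h : ((rep N (base N) : G) : G ⧸ N) = ((1 : G) : G ⧸ N) := mk_rep N (base N)
  rw [QuotientGroup.eq] at h
  have h2 := N.inv_mem h
  have e : ((rep N (base N))⁻¹ * 1)⁻¹ = rep N (base N) := by group
  rwa [e] at h2

theorem coc_base {n : G} (hn : n ∈ N) : coc N lam n (base N) = lam ⟨n, hn⟩ := by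
  unfold coc
  have h1 : cocN N n (base N) =
      (⟨rep N (base N), rep_base_mem N⟩ : N)⁻¹ * ⟨n, hn⟩ * ⟨rep N (base N), rep_base_mem N⟩ := by
    apply Subtype.ext
    simp only [cocN, smul_base N hn, Subgroup.coe_mul, Subgroup.coe_inv]
  rw [h1, map_mul, map_mul, map_inv]
  rw [mul_comm, ← mul_assoc, mul_inv_cancel, one_mul]

theorem mk_eq_smul_base (t : G) : ((t : G) : G ⧸ N) = t • base N := by
  unfold base
  rw [smul_mk, mul_one]

/-- the value at a fixed point `tN` -/
theorem coc_fixed (g t : G) (h : t⁻¹ * g * t ∈ N) :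
    coc N lam g ((t : G) : G ⧸ N) = lam ⟨t⁻¹ * g * t, h⟩ := by
  have h1 := coc_conj N lam t (t⁻¹ * g * t) (base N) (smul_base N h)
  rw [← coc_base N lam h, ← h1, mk_eq_smul_base]
  congr 1
  group

theorem fixed_iff (g t : G) : g • ((t : G) : G ⧸ N) = ((t : G) : G ⧸ N) ↔ t⁻¹ * g * t ∈ N := by
  rw [smul_mk, QuotientGroup.eq]
  constructor
  · intro h
    have := N.inv_mem h
    simpa [mul_assoc] using this
  · intro h
    have := N.inv_mem h
    simpa [mul_assoc] using this

theorem prod_orbit (g : G) (ω : G ⧸ N) (n : ℕ) :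
    ∏ i ∈ Finset.range n, coc N lam g (g ^ i • ω) = coc N lam (g ^ n) ω := by
  induction n with
  | zero => simp [coc_one]
  | succ n ih =>
    rw [Finset.prod_range_succ, ih, pow_succ', coc_mul, mul_comm]

/-- the transfer-type product over a set of cosets -/
noncomputable def T (X : Finset (G ⧸ N)) (g : G) : A := ∏ ω ∈ X, coc N lam g ω

theorem T_one (X : Finset (G ⧸ N)) : T N lam X 1 = 1 := by
  unfold T
  exact Finset.prod_eq_one (fun ω _ => coc_one N lam ω)

theorem T_mul [DecidableEq (G ⧸ N)] (X : Finset (G ⧸ N)) (g h : G) (hX : ∀ ω ∈ X, h • ω ∈ X) :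
    T N lam X (g * h) = T N lam X g * T N lam X h := by
  unfold T
  have h1 : ∀ ω ∈ X, coc N lam (g * h) ω = coc N lam g (h • ω) * coc N lam h ω :=
    fun ω _ => coc_mul N lam g h ω
  rw [Finset.prod_congr rfl h1, Finset.prod_mul_distrib]
  congr 1
  have himg : X.image (fun ω => h • ω) = X := by
    apply Finset.eq_of_subset_of_card_le
    · intro ω hω
      obtain ⟨ω', hω', rfl⟩ := Finset.mem_image.mp hω
      exact hX ω' hω'
    · rw [Finset.card_image_of_injective _ (MulAction.injective h)]
  conv_rhs => rw [← himg]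
  rw [Finset.prod_image (fun a _ b _ hab => MulAction.injective h hab)]

theorem T_sdiff [DecidableEq (G ⧸ N)] {X O : Finset (G ⧸ N)} (h : O ⊆ X) (g : G) :
    T N lam X g = T N lam (X \ O) g * T N lam O g := by
  unfold T
  exact (Finset.prod_sdiff h).symm

/-- Evaluation by fixed points when the non-fixed cycles contribute trivially. -/
theorem T_eq_prod_fixed [Finite G] [DecidableEq (G ⧸ N)] (g : G) :
    ∀ (X : Finset (G ⧸ N)), (∀ ω ∈ X, g • ω ∈ X) →
      (∀ ω ∈ X, ∀ n : ℕ, 1 < n → n ∣ orderOf g → g ^ n • ω = ω → coc N lam (g ^ n) ω = 1) →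
      T N lam X g = ∏ ω ∈ X.filter (fun ω => g • ω = ω), coc N lam g ω := by
  intro X
  induction X using Finset.strongInduction with
  | H X ih =>
  intro hinv hvan
  by_cases hall : ∀ ω ∈ X, g • ω = ω
  · rw [Finset.filter_true_of_mem hall]; rfl
  · push Not at hall
    obtain ⟨ω₁, hω₁X, hω₁⟩ := hall
    set f : G ⧸ N → G ⧸ N := fun ω => g • ω with hf
    have hper : Function.IsPeriodicPt f (orderOf g) ω₁ := by
      unfold Function.IsPeriodicPt Function.IsFixedPt
      have : f^[orderOf g] ω₁ = g ^ orderOf g • ω₁ := smul_iterate_apply g (orderOf g) ω₁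
      rw [this, pow_orderOf_eq_one, one_smul]
    have hord : 0 < orderOf g := orderOf_pos g
    set n := Function.minimalPeriod f ω₁ with hn
    have hndvd : n ∣ orderOf g := hper.minimalPeriod_dvd
    have hnpos : 0 < n := hper.minimalPeriod_pos hord
    have hn1 : n ≠ 1 := by
      intro h1
      have : Function.IsFixedPt f ω₁ := Function.minimalPeriod_eq_one_iff_isFixedPt.mp h1
      exact hω₁ this
    have hn2 : 1 < n := by omega
    have hgn : g ^ n • ω₁ = ω₁ := by
      have h1 := Function.isPeriodicPt_minimalPeriod f ω₁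
      unfold Function.IsPeriodicPt Function.IsFixedPt at h1
      have h2 : f^[n] ω₁ = g ^ n • ω₁ := smul_iterate_apply g n ω₁
      rw [← h2]; exact h1
    have hpowX : ∀ i : ℕ, g ^ i • ω₁ ∈ X := by
      intro i
      induction i with
      | zero => simpa using hω₁X
      | succ i ihi => rw [pow_succ', mul_smul]; exact hinv _ ihi
    set O : Finset (G ⧸ N) := (Finset.range n).image (fun i => g ^ i • ω₁) with hO
    have hOX : O ⊆ X := by
      intro ω hω
      obtain ⟨i, _, rfl⟩ := Finset.mem_image.mp hω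
      exact hpowX i
    have hω₁O : ω₁ ∈ O := Finset.mem_image.mpr ⟨0, Finset.mem_range.mpr hnpos, by simp⟩
    have hOinv : ∀ ω ∈ O, g • ω ∈ O := by
      intro ω hω
      obtain ⟨i, hi, rfl⟩ := Finset.mem_image.mp hω
      rw [Finset.mem_range] at hi
      by_cases hi1 : i + 1 < n
      · exact Finset.mem_image.mpr ⟨i + 1, Finset.mem_range.mpr hi1, by rw [pow_succ', mul_smul]⟩
      · have : i + 1 = n := by omega
        refine Finset.mem_image.mpr ⟨0, Finset.mem_range.mpr hnpos, ?_⟩
        rw [pow_zero, one_smul, ← mul_smul, ← pow_succ', this, hgn]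
    have hOinv' : ∀ ω, g • ω ∈ O → ω ∈ O := by
      intro ω hω
      obtain ⟨i, hi, hiω⟩ := Finset.mem_image.mp hω
      rw [Finset.mem_range] at hi
      have hω' : ω = g⁻¹ • (g ^ i • ω₁) := by rw [hiω, inv_smul_smul]
      rcases Nat.eq_zero_or_pos i with h0 | h0
      · refine Finset.mem_image.mpr ⟨n - 1, Finset.mem_range.mpr (by omega), ?_⟩
        rw [hω', h0, pow_zero, one_smul]
        have : g ^ (n - 1) • ω₁ = g⁻¹ • (g ^ n • ω₁) := by
          rw [← mul_smul]
          congr 1
          have : n = (n - 1) + 1 := by omega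
          conv_rhs => rw [this, pow_succ']
          group
        rw [this, hgn]
      · refine Finset.mem_image.mpr ⟨i - 1, Finset.mem_range.mpr (by omega), ?_⟩
        rw [hω', ← mul_smul]
        congr 1
        have : i = (i - 1) + 1 := by omega
        conv_rhs => rw [this, pow_succ']
        group
    have hfixO : ∀ ω ∈ O, g • ω ≠ ω := by
      intro ω hω hfix
      obtain ⟨i, _, rfl⟩ := Finset.mem_image.mp hω
      apply hω₁
      have : g ^ i • (g • ω₁) = g ^ i • ω₁ := by
        rw [← mul_smul, ← pow_succ, pow_succ', mul_smul]; exact hfix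
      exact MulAction.injective (g ^ i) this
    -- the product over the cycle
    have hTO : T N lam O g = 1 := by
      unfold T
      rw [hO, Finset.prod_image]
      · rw [prod_orbit]
        exact hvan ω₁ hω₁X n hn2 hndvd hgn
      · intro i hi j hj hij
        have hinj := Function.iterate_injOn_Iio_minimalPeriod (f := f) (x := ω₁)
        have hi' : i ∈ Set.Iio (Function.minimalPeriod f ω₁) := by
          simpa using hi
        have hj' : j ∈ Set.Iio (Function.minimalPeriod f ω₁) := by
          simpa using hj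
        apply hinj hi' hj'
        show f^[i] ω₁ = f^[j] ω₁
        have h1 : f^[i] ω₁ = g ^ i • ω₁ := smul_iterate_apply g i ω₁
        have h2 : f^[j] ω₁ = g ^ j • ω₁ := smul_iterate_apply g j ω₁
        rw [h1, h2]
        exact hij
    have hlt : X \ O ⊂ X := by
      refine Finset.ssubset_iff_subset_ne.mpr ⟨Finset.sdiff_subset, ?_⟩
      intro h
      have : ω₁ ∈ X \ O := by rw [h]; exact hω₁X
      exact (Finset.mem_sdiff.mp this).2 hω₁O
    have hinv' : ∀ ω ∈ X \ O, g • ω ∈ X \ O := by
      intro ω hω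
      obtain ⟨hωX, hωO⟩ := Finset.mem_sdiff.mp hω
      exact Finset.mem_sdiff.mpr ⟨hinv ω hωX, fun h => hωO (hOinv' ω h)⟩
    have hvan' : ∀ ω ∈ X \ O, ∀ n : ℕ, 1 < n → n ∣ orderOf g → g ^ n • ω = ω →
        coc N lam (g ^ n) ω = 1 :=
      fun ω hω => hvan ω (Finset.mem_sdiff.mp hω).1
    rw [T_sdiff N lam hOX, hTO, mul_one, ih (X \ O) hlt hinv' hvan']
    apply Finset.prod_congr _ (fun _ _ => rfl)
    ext ω
    simp only [Finset.mem_filter, Finset.mem_sdiff]
    constructor
    · rintro ⟨⟨h1, _⟩, h3⟩; exact ⟨h1, h3⟩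
    · rintro ⟨h1, h3⟩; exact ⟨⟨h1, fun hO' => hfixO ω hO' h3⟩, h3⟩

end Cfsg.Agent.Helper10.CT
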