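import Mathlib
import Cfsg.Prelude.Def_LocalEven
import Cfsg.Agent.Lib.Helper10.Frobenius5

set_option autoImplicit false

/-! A subgroup with a normal `p`-complement controlling strong fusion forces a normal
`p`-complement in the whole group. -/

namespace Cfsg.Agent.Helper10

universe u

open Cfsg

theorem npc_of_controls {Y : Type u} [Group Y] [Finite Y] {p : ℕ} [hp : Fact p.Prime]
    (T : Sylow p Y) (U : Subgroup Y) (hU : U ≤ (T : Subgroup Y))
    (hc : ∀ A : Set Y, A ⊆ ((T : Subgroup Y) : Set Y) →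
      ControlsStrongFusionOf (Subgroup.normalizer (U : Set Y)) (T : Subgroup Y) A)
    (hN : NPC p ↥(Subgroup.normalizer (U : Set Y))) : NPC p Y := by
  set N := Subgroup.normalizer (U : Set Y) with hNdef
  -- conjugation by elements of `T` keeps `U` inside `U`
  have hconj : ∀ g ∈ (T : Subgroup Y), ∀ a ∈ U, g * a * g⁻¹ ∈ U := by
    intro g hg a ha
    obtain ⟨x, hxN, hx⟩ := (hc (U : Set Y) (fun a ha => hU ha)).2 g (by
      rintro _ ⟨a, ha, rfl⟩
      exact Subgroup.mul_mem _ (Subgroup.mul_mem _ hg (hU ha)) (Subgroup.inv_mem _ hg))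
    rw [hx a ha]
    exact (Subgroup.mem_normalizer_iff.mp hxN a).mp ha
  have hTN : (T : Subgroup Y) ≤ N := by
    intro g hg
    rw [hNdef, Subgroup.mem_normalizer_iff]
    intro a
    constructor
    · exact hconj g hg a
    · intro h
      have h1 := hconj g⁻¹ (Subgroup.inv_mem _ hg) _ h
      have e : g⁻¹ * (g * a * g⁻¹) * g⁻¹⁻¹ = a := by group
      rwa [e] at h1
  obtain ⟨K, hKn, hKc, k, hk⟩ := hN
  have hq : IsPGroup p (↥N ⧸ K) := by
    apply IsPGroup.of_card (n := k)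
    rw [← Subgroup.index_eq_card]; exact hk
  have hT' : ¬ p ∣ ((T : Subgroup Y).subgroupOf N).index := by
    intro h
    apply T.not_dvd_index
    have h1 := Subgroup.relIndex_mul_index hTN
    rw [← h1]
    exact Dvd.dvd.mul_right h _
  have hfc : ControlsOwnFusion (T : Subgroup Y) := by
    intro A g hA hgA
    obtain ⟨x, hxN, hx⟩ := (hc A hA).2 g⁻¹ (by
      rintro _ ⟨a, ha, rfl⟩
      apply hgA
      rw [mem_rcs]
      have e : g * (g⁻¹ * a * g⁻¹⁻¹) * g⁻¹ = a := by group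
      rw [e]; exact ha)
    obtain ⟨r, hr, c, hcK, hrc⟩ := exists_mul_of_isPGroup_quotient K hq _ hT' ⟨x, hxN⟩
    have hrT : (r : Y) ∈ (T : Subgroup Y) := Subgroup.mem_subgroupOf.mp hr
    have hxrc : x = (r : Y) * (c : Y) := by
      have := congrArg Subtype.val hrc
      simpa using this
    refine ⟨(r : Y)⁻¹, Subgroup.inv_mem _ hrT, ?_⟩
    intro a ha
    have haT : a ∈ (T : Subgroup Y) := hA ha
    have hxa : x * a * x⁻¹ ∈ (T : Subgroup Y) := by
      rw [← hx a ha]
      apply hgA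
      rw [mem_rcs]
      have e : g * (g⁻¹ * a * g⁻¹⁻¹) * g⁻¹ = a := by group
      rw [e]; exact ha
    -- `c a c⁻¹ ∈ T`
    have hca : (c : Y) * a * (c : Y)⁻¹ ∈ (T : Subgroup Y) := by
      have e : (c : Y) * a * (c : Y)⁻¹ = (r : Y)⁻¹ * (x * a * x⁻¹) * (r : Y) := by
        rw [hxrc]; group
      rw [e]
      exact Subgroup.mul_mem _ (Subgroup.mul_mem _ (Subgroup.inv_mem _ hrT) hxa) hrT
    -- the commutator lies in `T ∩ K`
    set a' : ↥N := ⟨a, hTN haT⟩ with ha'
    have hcomK : c * a' * c⁻¹ * a'⁻¹ ∈ K := by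
      have h3 : a' * c⁻¹ * a'⁻¹ ∈ K := hKn.conj_mem _ (K.inv_mem hcK) a'
      have e : c * a' * c⁻¹ * a'⁻¹ = c * (a' * c⁻¹ * a'⁻¹) := by group
      rw [e]
      exact K.mul_mem hcK h3
    have hcomT : ((c * a' * c⁻¹ * a'⁻¹ : ↥N) : Y) ∈ (T : Subgroup Y) := by
      have e : ((c * a' * c⁻¹ * a'⁻¹ : ↥N) : Y) = ((c : Y) * a * (c : Y)⁻¹) * a⁻¹ := by
        simp [ha']
      rw [e]
      exact Subgroup.mul_mem _ hca (Subgroup.inv_mem _ haT)
    have hone : c * a' * c⁻¹ * a'⁻¹ = 1 := by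
      set w := c * a' * c⁻¹ * a'⁻¹ with hw
      have h1 : orderOf w ∣ Nat.card K := by
        have := orderOf_dvd_natCard (⟨w, hcomK⟩ : ↥K)
        rwa [Subgroup.orderOf_mk] at this
      obtain ⟨j, hj⟩ := T.2 ⟨(w : Y), hcomT⟩
      have h2 : orderOf w ∣ p ^ j := by
        apply orderOf_dvd_of_pow_eq_one
        apply Subtype.ext
        have := congrArg Subtype.val hj
        simpa using this
      have h3 : orderOf w = 1 :=
        Nat.eq_one_of_dvd_coprimes (Nat.Coprime.pow_right j hKc) h1 h2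
      exact orderOf_eq_one_iff.mp h3
    have hcent : (c : Y) * a * (c : Y)⁻¹ = a := by
      have := congrArg Subtype.val hone
      have e : ((c * a' * c⁻¹ * a'⁻¹ : ↥N) : Y) = ((c : Y) * a * (c : Y)⁻¹) * a⁻¹ := by
        simp [ha']
      rw [e] at this
      have h4 : (c : Y) * a * (c : Y)⁻¹ = ((c : Y) * a * (c : Y)⁻¹ * a⁻¹) * a := by group
      rw [h4, this]
      simp
    have e1 : g⁻¹ * a * g = x * a * x⁻¹ := by
      have := hx a ha
      rwa [inv_inv] at this
    rw [e1, hxrc]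
    have e2 : (r : Y) * (c : Y) * a * ((r : Y) * (c : Y))⁻¹ =
        (r : Y) * ((c : Y) * a * (c : Y)⁻¹) * (r : Y)⁻¹ := by group
    rw [e2, hcent]
    simp
  exact npc_of_frobCond _ Y rfl (frobCond_of_sylow T (sylow_cond_of_fc T hfc))

end Cfsg.Agent.Helper10
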