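import Mathlib
import Cfsg.Agent.Lib.Helper24.DlSylDefs
import Cfsg.Agent.Lib.Helper24.CharQuotient

/-!
# Piece NP of S4768 (helper10 for helper24): counting characters of degree divisible by `p`
in a quotient
-/

set_option autoImplicit false

namespace Cfsg.Agent.Helper10.DlSylNP

open Cfsg Cfsg.Agent.Helper24.DlSyl Cfsg.Agent.Helper24

universe u

variable {G : Type u} [Group G] [Finite G]

/-- inflation, restricted to the characters of degree divisible by `p` -/
noncomputable def infl (p : ℕ) (N : Subgroup G) [N.Normal] :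
    {ψ : IrrCharacter (G ⧸ N) // p ∣ charDegree (ψ : G ⧸ N → ℂ)} →
      {χ : IrrCharacter G // p ∣ charDegree (χ : G → ℂ)} :=
  fun ψ => ⟨(inflateEquiv N ψ.1).1, by
    rw [inflateEquiv_coe, charDegree_inflate]
    exact ψ.2⟩

theorem infl_injective (p : ℕ) (N : Subgroup G) [N.Normal] : Function.Injective (infl p N) := by
  intro ψ₁ ψ₂ h
  have h1 : ((inflateEquiv N ψ₁.1).1 : IrrCharacter G) = ((inflateEquiv N ψ₂.1).1 : IrrCharacter G) :=
    congrArg (fun z => (z.1 : IrrCharacter G)) h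
  have h2 : inflateEquiv N ψ₁.1 = inflateEquiv N ψ₂.1 := Subtype.ext h1
  exact Subtype.ext ((inflateEquiv N).injective h2)

theorem infl_const (p : ℕ) (N : Subgroup G) [N.Normal]
    (ψ : {ψ : IrrCharacter (G ⧸ N) // p ∣ charDegree (ψ : G ⧸ N → ℂ)}) (n : G) (hn : n ∈ N) :
    (((infl p N ψ).1 : IrrCharacter G) : G → ℂ) n = (((infl p N ψ).1 : IrrCharacter G) : G → ℂ) 1 :=
  (inflateEquiv N ψ.1).2 n hn

theorem nP_quotient_le (p : ℕ) (N : Subgroup G) [N.Normal] : nP p (G ⧸ N) ≤ nP p G := by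
  unfold nP
  have : Finite (IrrCharacter G) := @Finite.of_fintype _ irrFintype
  exact Nat.card_le_card_of_injective (infl p N) (infl_injective p N)

theorem nP_quotient_lt (p : ℕ) (N : Subgroup G) [N.Normal] (χ : Cfsg.IrrCharacter G)
    (hp : p ∣ Cfsg.charDegree (χ : G → ℂ))
    (hN : ∃ x ∈ N, (χ : G → ℂ) x ≠ (χ : G → ℂ) 1) : nP p (G ⧸ N) + 1 ≤ nP p G := by
  unfold nP
  have : Finite (IrrCharacter G) := @Finite.of_fintype _ irrFintype
  have : Finite (IrrCharacter (G ⧸ N)) := @Finite.of_fintype _ irrFintype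
  letI : Fintype {ψ : IrrCharacter (G ⧸ N) // p ∣ charDegree (ψ : G ⧸ N → ℂ)} :=
    Fintype.ofFinite _
  letI : Fintype {χ : IrrCharacter G // p ∣ charDegree (χ : G → ℂ)} := Fintype.ofFinite _
  rw [Nat.card_eq_fintype_card, Nat.card_eq_fintype_card]
  apply Nat.succ_le_of_lt
  apply Fintype.card_lt_of_injective_of_notMem (infl p N) (infl_injective p N)
    (b := ⟨χ, hp⟩)
  rintro ⟨ψ, hψ⟩
  obtain ⟨x, hx, hne⟩ := hN
  apply hne
  have h := infl_const p N ψ x hx
  rw [hψ] at h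
  exact h

end Cfsg.Agent.Helper10.DlSylNP
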