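import Mathlib
import Cfsg.Agent.Lib.Helper10.EODefs
set_option autoImplicit false
open Polynomial
namespace Cfsg.Agent.Helper10.EO

theorem deg_count {ι : Type*} [DecidableEq ι] (I : Finset ι) (σ : ι → ι) (n a : ι → ℕ)
    (hσ : ∀ i ∈ I, σ i ∈ I ∧ σ (σ i) = i ∧ n (σ i) = n i ∧ a (σ i) = a i)
    (hn : ∀ i ∈ I, 1 ≤ n i) (ha : ∀ i ∈ I, 1 ≤ a i)
    (hfix : ∀ i ∈ I, σ i = i → n i = 1 ∨ Even (n i))
    (i₀ : ι) (hi₀ : i₀ ∈ I) (h2 : 2 ≤ a i₀) :
    a i₀ + ∑ i ∈ I.filter (fun i => ¬ (σ i = i ∧ n i = 1)), n i ≤ ∑ i ∈ I, a i * n i := by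
  classical
  set P : ι → Prop := fun i => ¬ (σ i = i ∧ n i = 1) with hP
  -- weight function on I: w i = n i if P i else 0; extra at i₀ (and σ i₀)
  have hle : ∀ i ∈ I, (if P i then n i else 0) ≤ a i * n i := by
    intro i hi
    split_ifs
    · exact Nat.le_mul_of_pos_left _ (ha i hi)
    · exact Nat.zero_le _
  have hsumfilter : ∑ i ∈ I.filter P, n i = ∑ i ∈ I, (if P i then n i else 0) := by
    rw [Finset.sum_filter]
  rw [hsumfilter]
  by_cases hP0 : P i₀
  · by_cases hfx : σ i₀ = i₀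
    · -- fixed, n even ≥ 2
      have hn2 : 2 ≤ n i₀ := by
        rcases hfix i₀ hi₀ hfx with h | h
        · exact absurd ⟨hfx, h⟩ hP0
        · have := hn i₀ hi₀
          obtain ⟨r, hr⟩ := h
          omega
      have h3 : a i₀ + (if P i₀ then n i₀ else 0) ≤ a i₀ * n i₀ := by
        rw [if_pos hP0]
        have : a i₀ * 2 ≤ a i₀ * n i₀ := Nat.mul_le_mul_left _ hn2
        nlinarith
      calc a i₀ + ∑ i ∈ I, (if P i then n i else 0)
          = (a i₀ + (if P i₀ then n i₀ else 0)) + ∑ i ∈ I.erase i₀, (if P i then n i else 0) := by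
            rw [← Finset.add_sum_erase I _ hi₀]; ring
        _ ≤ a i₀ * n i₀ + ∑ i ∈ I.erase i₀, a i * n i :=
            Nat.add_le_add h3 (Finset.sum_le_sum (fun i hi => hle i (Finset.mem_of_mem_erase hi)))
        _ = ∑ i ∈ I, a i * n i := Finset.add_sum_erase I (fun i => a i * n i) hi₀
    · -- non-fixed: i₀ ≠ σ i₀ both in I
      obtain ⟨hs1, hs2, hs3, hs4⟩ := hσ i₀ hi₀
      have hmem : σ i₀ ∈ I.erase i₀ := Finset.mem_erase.mpr ⟨hfx, hs1⟩
      have hn1 := hn i₀ hi₀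
      have h3 : a i₀ + (if P i₀ then n i₀ else 0) + (if P (σ i₀) then n (σ i₀) else 0) ≤
          a i₀ * n i₀ + a (σ i₀) * n (σ i₀) := by
        have h6 : (if P (σ i₀) then n (σ i₀) else 0) ≤ n i₀ := by
          split_ifs
          · exact hs3.le
          · exact Nat.zero_le _
        have h5 : a i₀ * 1 ≤ a i₀ * n i₀ := Nat.mul_le_mul_left _ hn1
        have h7 : a (σ i₀) * n (σ i₀) = a i₀ * n i₀ := by rw [hs3, hs4]
        rw [if_pos hP0, h7]
        nlinarith
      calc a i₀ + ∑ i ∈ I, (if P i then n i else 0)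
          = (a i₀ + (if P i₀ then n i₀ else 0) + (if P (σ i₀) then n (σ i₀) else 0)) +
              ∑ i ∈ (I.erase i₀).erase (σ i₀), (if P i then n i else 0) := by
            rw [← Finset.add_sum_erase I _ hi₀, ← Finset.add_sum_erase (I.erase i₀) _ hmem]; ring
        _ ≤ (a i₀ * n i₀ + a (σ i₀) * n (σ i₀)) + ∑ i ∈ (I.erase i₀).erase (σ i₀), a i * n i :=
            Nat.add_le_add h3 (Finset.sum_le_sum (fun i hi =>
              hle i (Finset.mem_of_mem_erase (Finset.mem_of_mem_erase hi))))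
        _ = ∑ i ∈ I, a i * n i := by
            rw [← Finset.add_sum_erase I (fun i => a i * n i) hi₀,
              ← Finset.add_sum_erase (I.erase i₀) (fun i => a i * n i) hmem]; ring
  · -- i₀ not in I₀: n i₀ = 1
    have hn1 : n i₀ = 1 := by
      have : σ i₀ = i₀ ∧ n i₀ = 1 := by
        by_contra hc; exact hP0 hc
      exact this.2
    have h3 : a i₀ + (if P i₀ then n i₀ else 0) ≤ a i₀ * n i₀ := by
      rw [if_neg hP0, hn1]; omega
    calc a i₀ + ∑ i ∈ I, (if P i then n i else 0)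
        = (a i₀ + (if P i₀ then n i₀ else 0)) + ∑ i ∈ I.erase i₀, (if P i then n i else 0) := by
          rw [← Finset.add_sum_erase I _ hi₀]; ring
      _ ≤ a i₀ * n i₀ + ∑ i ∈ I.erase i₀, a i * n i :=
          Nat.add_le_add h3 (Finset.sum_le_sum (fun i hi => hle i (Finset.mem_of_mem_erase hi)))
      _ = ∑ i ∈ I, a i * n i := Finset.add_sum_erase I (fun i => a i * n i) hi₀

end Cfsg.Agent.Helper10.EO
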