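import Mathlib
import Cfsg.Prelude.Def_Classical
import Cfsg.Agent.Lib.Helper10.EODefs

/-! S2264 piece EO-GRAMPLUS (helper10). -/

set_option autoImplicit false

open Polynomial Matrix

namespace Cfsg.Agent.Helper10.EO

section mat
variable {F : Type*} [Field F]

theorem gram_plus (m : ℕ) :
    ∃ G : Matrix (Fin m ⊕ Fin m) (Fin m ⊕ Fin m) F, IsUnit G.det ∧
      ∀ u v, Cfsg.quadFormPlus m F (u + v) - Cfsg.quadFormPlus m F u - Cfsg.quadFormPlus m F v =
        u ⬝ᵥ (G *ᵥ v) := by
  refine ⟨Matrix.fromBlocks (0 : Matrix (Fin m) (Fin m) F) (1 : Matrix (Fin m) (Fin m) F)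
    (1 : Matrix (Fin m) (Fin m) F) (0 : Matrix (Fin m) (Fin m) F), ?_, ?_⟩
  · have hsq : (Matrix.fromBlocks (0 : Matrix (Fin m) (Fin m) F) (1 : Matrix (Fin m) (Fin m) F)
        (1 : Matrix (Fin m) (Fin m) F) (0 : Matrix (Fin m) (Fin m) F)) *
        (Matrix.fromBlocks (0 : Matrix (Fin m) (Fin m) F) (1 : Matrix (Fin m) (Fin m) F)
        (1 : Matrix (Fin m) (Fin m) F) (0 : Matrix (Fin m) (Fin m) F)) = 1 := by
      rw [Matrix.fromBlocks_multiply]
      simp [Matrix.fromBlocks_one]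
    have hdet := congrArg Matrix.det hsq
    rw [Matrix.det_mul, Matrix.det_one] at hdet
    exact IsUnit.of_mul_eq_one _ hdet
  · intro u v
    unfold Cfsg.quadFormPlus
    rw [dotProduct, Fintype.sum_sum_type]
    simp only [Matrix.mulVec, dotProduct, Fintype.sum_sum_type, Matrix.fromBlocks_apply₁₁,
      Matrix.fromBlocks_apply₁₂, Matrix.fromBlocks_apply₂₁, Matrix.fromBlocks_apply₂₂,
      Matrix.zero_apply, Matrix.one_apply, zero_mul, Finset.sum_const_zero, zero_add, add_zero,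
      ite_mul, one_mul, Finset.sum_ite_eq, Finset.mem_univ, if_true, Pi.add_apply]
    rw [← Finset.sum_sub_distrib, ← Finset.sum_sub_distrib, ← Finset.sum_add_distrib]
    apply Finset.sum_congr rfl
    intro i _
    ring

end mat

end Cfsg.Agent.Helper10.EO
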