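import Mathlib
import Cfsg.Agent.Lib.Helper10.EODefs

/-! S2264 piece EO-ISOM (helper10). -/

set_option autoImplicit false

open Polynomial Matrix

namespace Cfsg.Agent.Helper10.EO

section mat
variable {F : Type*} [Field F]

theorem gram_of_preserves {ι : Type*} [Fintype ι] [DecidableEq ι] (Q : (ι → F) → F)
    (G A : Matrix ι ι F)
    (hpolar : ∀ u v : ι → F, Q (u + v) - Q u - Q v = u ⬝ᵥ (G *ᵥ v))
    (hA : ∀ v, Q (A *ᵥ v) = Q v) : Aᵀ * G * A = G := by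
  have key : ∀ u v : ι → F, (A *ᵥ u) ⬝ᵥ (G *ᵥ (A *ᵥ v)) = u ⬝ᵥ (G *ᵥ v) := by
    intro u v
    rw [← hpolar, ← hpolar, ← Matrix.mulVec_add, hA, hA, hA]
  ext i j
  have h := key (Pi.single i 1) (Pi.single j 1)
  have hcol : ∀ (M : Matrix ι ι F) (k : ι), M *ᵥ Pi.single k 1 = fun l => M l k := by
    intro M k
    ext l
    simp [Matrix.mulVec, dotProduct, Pi.single_apply]
  have h1 : (A *ᵥ Pi.single i 1) ⬝ᵥ (G *ᵥ (A *ᵥ Pi.single j 1)) = (Aᵀ * G * A) i j := by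
    rw [Matrix.mulVec_mulVec, hcol, hcol, Matrix.mul_assoc, Matrix.mul_apply]
    simp [dotProduct, Matrix.transpose_apply]
  have h2 : (Pi.single i 1 : ι → F) ⬝ᵥ (G *ᵥ Pi.single j 1) = G i j := by
    rw [hcol]
    simp [dotProduct, Pi.single_apply]
  rw [h1, h2] at h
  exact h

end mat

end Cfsg.Agent.Helper10.EO
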