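import Mathlib
import Cfsg.Agent.Lib.Helper10.EODefs
set_option autoImplicit false
open Polynomial
namespace Cfsg.Agent.Helper10.EO

theorem nt_minus (q : ℕ) (hq : 2 ≤ q) (T : Finset ℕ) :
    T.lcm (fun e => q ^ e - 1) ≤ q ^ (∑ e ∈ T, e) := by
  classical
  induction T using Finset.induction_on with
  | empty => simp
  | insert a s ha ih =>
    rw [Finset.lcm_insert, Finset.sum_insert ha, pow_add]
    by_cases h0 : Nat.lcm (q ^ a - 1) (s.lcm fun e => q ^ e - 1) = 0
    · simp only [lcm_eq_nat_lcm]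
      rw [h0]; exact Nat.zero_le _
    · simp only [lcm_eq_nat_lcm]
      have h1 : Nat.lcm (q ^ a - 1) (s.lcm fun e => q ^ e - 1) ≤
          (q ^ a - 1) * (s.lcm fun e => q ^ e - 1) := by
        apply Nat.le_of_dvd
        · rcases Nat.eq_zero_or_pos ((q ^ a - 1) * (s.lcm fun e => q ^ e - 1)) with h | h
          · exfalso; apply h0
            rcases Nat.mul_eq_zero.mp h with h | h
            · rw [h, Nat.lcm_zero_left]
            · rw [h, Nat.lcm_zero_right]
          · exact h
        · exact Nat.lcm_dvd_mul _ _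
      calc _ ≤ (q ^ a - 1) * (s.lcm fun e => q ^ e - 1) := h1
        _ ≤ q ^ a * q ^ (∑ e ∈ s, e) := Nat.mul_le_mul (Nat.sub_le _ _) ih

end Cfsg.Agent.Helper10.EO
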