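import Mathlib
import Cfsg.Prelude.Def_Classical
import Cfsg.Agent.Lib.Helper10.EODefs
import Cfsg.Agent.Lib.Helper10.EOGRAMPLUS
import Cfsg.Agent.Lib.Helper10.EOISOM
import Cfsg.Agent.Lib.Helper19.EONT2
import Cfsg.Agent.Lib.Helper19.EONT3
import Cfsg.Agent.Lib.Helper20.EOMINPOLY
import Cfsg.Agent.Lib.Helper21.EONT5
import Cfsg.Agent.Lib.Helper21.EOSTAR1
import Cfsg.Agent.Lib.Helper22.EODVDB
import Cfsg.Agent.Lib.Helper25.EOCASE2
import Cfsg.Agent.Lib.Helper25.EOWRAPSP
import Cfsg.Agent.Lib.Helper27.EONT1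
import Cfsg.Agent.Lib.Helper27.EOPRODDVD
import Cfsg.Agent.Lib.Helper27.EOUNIQ
import Cfsg.Agent.Lib.Helper28.EOARITH
import Cfsg.Agent.Lib.Helper28.EOGRAMMINUS
import Cfsg.Agent.Lib.Helper5.EOSTAR2
import Cfsg.Agent.Lib.Helper6.EODEGSUM
import Cfsg.Agent.Lib.Helper6.EODVDA
import Cfsg.Agent.Lib.Helper7.EOGRAMODD
import Cfsg.Agent.Lib.Helper9.EOSTARCOUNT
import Cfsg.Agent.Lib.Helper9.EOWRAPOM
import Cfsg.Agent.Lib.Helper12.EODEG1
import Cfsg.Agent.Lib.Helper10.EODEGCOUNT
import Cfsg.Agent.Lib.Helper10.EOFACT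
import Cfsg.Agent.Lib.Helper10.EONT4

/-!
# S2264 / S2265 assembly (helper10): Theorem P, the matrix core, and the two main statements.
See `plans/S2264_plan.md`.
-/

set_option autoImplicit false

open Polynomial Matrix

namespace Cfsg.Agent.Helper10.EO

/-! ## plain forms of the `_of` pieces -/

theorem nt_plus (q : ℕ) (hq : 2 ≤ q) (B : Finset ℕ) (hB : ∀ e ∈ B, 1 ≤ e) :
    (q - 1) * B.lcm (fun e => q ^ e + 1) ≤ q ^ ((∑ e ∈ B, e) + 1) :=
  nt_plus_of q hq (fun V C hC s hs => nt_chain q hq V C hC s hs)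
    (fun v B hB hv => nt_class q hq v B hB hv) B hB

theorem nt_abs {ι : Type*} [DecidableEq ι] (q : ℕ) (hq : 2 ≤ q) (I : Finset ι) (σ : ι → ι)
    (n : ι → ℕ) (hσ : ∀ i ∈ I, σ i ∈ I ∧ σ (σ i) = i ∧ n (σ i) = n i)
    (hn : ∀ i ∈ I, 1 ≤ n i) (hfix : ∀ i ∈ I, σ i = i → Even (n i)) :
    (q - 1) * (I.lcm fun i => if σ i = i then q ^ (n i / 2) + 1 else q ^ (n i) - 1)
      ≤ q ^ ((∑ i ∈ I, n i) / 2 + 1) :=
  nt_abs_of q hq (fun B hB => nt_plus q hq B hB) (fun T => nt_minus q hq T) I σ n hσ hn hfix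

theorem arith_case1 {ι : Type*} [DecidableEq ι] (p q k : ℕ) (hp : p.Prime) (hk : 1 ≤ k)
    (hq : q = p ^ k) (I : Finset ι) (σ : ι → ι) (n a : ι → ℕ)
    (hσ : ∀ i ∈ I, σ i ∈ I ∧ σ (σ i) = i ∧ n (σ i) = n i ∧ a (σ i) = a i)
    (hn : ∀ i ∈ I, 1 ≤ n i) (ha : ∀ i ∈ I, 1 ≤ a i)
    (hfix : ∀ i ∈ I, σ i = i → n i = 1 ∨ Even (n i))
    (d m : ℕ) (hD : ∑ i ∈ I, a i * n i ≤ d) (hd : d = 2 * m ∨ (d = 2 * m + 1 ∧ 3 ≤ q)) :
    ∃ t : ℕ, (∀ i ∈ I, a i ≤ q ^ t) ∧
      (q - 1) * (((I.filter (fun i => ¬ (σ i = i ∧ n i = 1))).lcm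
        (fun i => if σ i = i then q ^ (n i / 2) + 1 else q ^ (n i) - 1)) * q ^ t) ≤ q ^ (m + 1) := by
  have hq2 : 2 ≤ q := by
    rw [hq]
    calc 2 ≤ p := hp.two_le
      _ = p ^ 1 := (pow_one p).symm
      _ ≤ p ^ k := Nat.pow_le_pow_right hp.pos hk
  exact arith_case1_of p q k hp hk hq (fun I σ n h1 h2 h3 => nt_abs q hq2 I σ n h1 h2 h3)
    (fun I σ n a h1 h2 h3 h4 i₀ hi₀ h5 => deg_count I σ n a h1 h2 h3 h4 i₀ hi₀ h5)
    I σ n a hσ hn ha hfix d m hD hd

section poly
variable {F : Type*} [Field F]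

theorem count_star [DecidableEq F[X]] (s : Multiset F[X])
    (hs : ∀ f ∈ s, f.Monic ∧ Irreducible f ∧ f.coeff 0 ≠ 0) (hrec : star s.prod = s.prod)
    (f : F[X]) (hf : f ∈ s) : s.count (star f) = s.count f :=
  count_star_of (fun f h0 => star_facts f h0) star_mul_irreducible
    (fun s t hs ht h => factorization_unique s t hs ht h) s hs hrec f hf

end poly

section asm
variable {F : Type*} [Field F]

theorem X_pow_sub_one_dvd (a b : ℕ) (h : a ∣ b) : (X ^ a - 1 : F[X]) ∣ X ^ b - 1 := by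
  obtain ⟨k, rfl⟩ := h
  have := sub_dvd_pow_sub_pow ((X : F[X]) ^ a) 1 k
  rwa [one_pow, ← pow_mul] at this

theorem expo_even (q : ℕ) (hq : Odd q) (f : F[X]) : Even (expo q f) := by
  classical
  unfold expo
  split_ifs
  · exact Odd.add_odd (hq.pow) odd_one
  · exact Nat.Odd.sub_odd hq.pow odd_one

/-- THEOREM P -/
theorem exists_pow_dvd [Fintype F] (μ : F[X]) (hμ : μ.Monic) (h0 : μ.coeff 0 ≠ 0)
    (hrec : star μ = μ) (d m : ℕ) (hdeg : μ.natDegree ≤ d)
    (hd : (d = 2 * m ∧ 2 ≤ m) ∨ (d = 2 * m + 1 ∧ 3 ≤ m ∧ Odd (Fintype.card F))) :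
    ∃ N : ℕ, 0 < N ∧ (Fintype.card F - 1) * N ≤ Fintype.card F ^ (m + 1) ∧
      (μ ∣ X ^ N - 1 ∨ μ ∣ X ^ N + 1) := by
  classical
  set q := Fintype.card F with hqdef
  obtain ⟨p, hchar⟩ := CharP.exists F
  obtain ⟨k, hp, hqk⟩ := FiniteField.card F p
  have : Fact p.Prime := ⟨hp⟩
  have hq2 : 2 ≤ q := Fintype.one_lt_card
  obtain ⟨s, hsprod, hs⟩ := exists_factorization μ hμ h0
  have hs' : ∀ f ∈ s, f.Monic ∧ Irreducible f := fun f hf => ⟨(hs f hf).1, (hs f hf).2.1⟩
  have hcount : ∀ f ∈ s, s.count (star f) = s.count f := fun f hf =>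
    count_star s hs (by rw [hsprod]; exact hrec) f hf
  have hdegsum : ∑ f ∈ s.toFinset, s.count f * f.natDegree ≤ d := by
    rw [← natDegree_prod_eq_sum s (fun f hf => (hs f hf).1), hsprod]; exact hdeg
  set I := s.toFinset with hI
  set I₀ := I.filter (fun f => ¬ (star f = f ∧ f.natDegree = 1)) with hI₀
  have hdeg1 : ∀ f ∈ s, 1 ≤ f.natDegree := fun f hf =>
    Nat.one_le_iff_ne_zero.mpr (fun h => by
      have := (hs f hf).2.1
      exact (Polynomial.degree_pos_of_irreducible this).ne'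
        (by rw [Polynomial.degree_eq_natDegree this.ne_zero, h]; rfl))
  by_cases hcase : I₀ = ∅ ∧ Odd q
  · -- Case 2
    have hall : ∀ f ∈ s, f = X - 1 ∨ f = X + 1 := by
      intro f hf
      have hfI : f ∈ I := Multiset.mem_toFinset.mpr hf
      have : f ∉ I₀ := by rw [hcase.1]; exact Finset.notMem_empty _
      rw [hI₀, Finset.mem_filter] at this
      push Not at this
      have h2 := this hfI
      exact self_reciprocal_deg_one f (hs f hf).1 h2.2 h2.1
    have hd' : (d = 2 * m ∧ 2 ≤ m) ∨ (d = 2 * m + 1 ∧ 3 ≤ m) := by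
      rcases hd with h | h
      · exact Or.inl h
      · exact Or.inr ⟨h.1, h.2.1⟩
    have := case_two hcase.2 s hall d m (by rw [hsprod]; exact hdeg) hd'
    rw [hsprod] at this
    exact this
  · -- Case 1
    have hd' : d = 2 * m ∨ (d = 2 * m + 1 ∧ 3 ≤ q) := by
      rcases hd with h | h
      · exact Or.inl h.1
      · refine Or.inr ⟨h.1, ?_⟩
        obtain ⟨r, hr⟩ := h.2.2
        omega
    obtain ⟨t, ht1, ht2⟩ := arith_case1 p q k hp k.2 hqk I star (fun f => f.natDegree)
      (fun f => s.count f)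
      (by
        intro f hf
        have hf' : f ∈ s := Multiset.mem_toFinset.mp hf
        have h3 := star_facts f (hs f hf').2.2
        refine ⟨?_, h3.2.2.2 (hs f hf').1, h3.2.1, hcount f hf'⟩
        rw [hI, Multiset.mem_toFinset, ← Multiset.count_pos, hcount f hf', Multiset.count_pos]
        exact hf')
      (fun f hf => hdeg1 f (Multiset.mem_toFinset.mp hf))
      (fun f hf => Multiset.count_pos.mpr (Multiset.mem_toFinset.mp hf))
      (by
        intro f hf hst
        have hf' : f ∈ s := Multiset.mem_toFinset.mp hf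
        by_cases h1 : f.natDegree = 1
        · exact Or.inl h1
        · right
          have h2 : 2 ≤ f.natDegree := by have := hdeg1 f hf'; omega
          exact (self_reciprocal_irreducible f (hs f hf').1 (hs f hf').2.1 (hs f hf').2.2 hst h2).1)
      d m hdegsum hd'
    set L := I₀.lcm (fun f => if star f = f then q ^ (f.natDegree / 2) + 1 else q ^ f.natDegree - 1)
      with hL
    have hLexpo : ∀ f ∈ I₀, expo q f ∣ L := by
      intro f hf
      have := Finset.dvd_lcm (f := fun f => if star f = f then q ^ (f.natDegree / 2) + 1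
        else q ^ f.natDegree - 1) hf
      unfold expo
      convert this using 2
    have hLpos : 0 < L := by
      rw [hL, Nat.pos_iff_ne_zero, Ne, Finset.lcm_eq_zero_iff]
      push Not
      intro f hf
      split_ifs
      · positivity
      · have hf' : f ∈ s := Multiset.mem_toFinset.mp (Finset.mem_filter.mp hf).1
        have h1 := hdeg1 f hf'
        have : q ^ 1 ≤ q ^ f.natDegree := Nat.pow_le_pow_right (by omega) h1
        rw [pow_one] at this
        omega
    -- every factor divides X^L - 1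
    have hdvd : ∀ f ∈ s, f ∣ X ^ L - 1 := by
      intro f hf
      have hfI : f ∈ I := Multiset.mem_toFinset.mpr hf
      by_cases hf0 : f ∈ I₀
      · refine dvd_trans ?_ (X_pow_sub_one_dvd _ _ (hLexpo f hf0))
        have hcond := (Finset.mem_filter.mp hf0).2
        unfold expo
        by_cases hst : star f = f
        · rw [if_pos hst]
          have h2 : 2 ≤ f.natDegree := by
            have := hdeg1 f hf
            have : f.natDegree ≠ 1 := fun h => hcond ⟨hst, h⟩
            omega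
          exact (self_reciprocal_irreducible f (hs f hf).1 (hs f hf).2.1 (hs f hf).2.2 hst h2).2
        · rw [if_neg hst]
          exact irreducible_dvd_X_pow_sub_one f (hs f hf).1 (hs f hf).2.1 (hs f hf).2.2
      · have hcond : star f = f ∧ f.natDegree = 1 := by
          by_contra hc
          exact hf0 (Finset.mem_filter.mpr ⟨hfI, hc⟩)
        rcases self_reciprocal_deg_one f (hs f hf).1 hcond.2 hcond.1 with rfl | rfl
        · have := sub_dvd_pow_sub_pow (X : F[X]) 1 L
          rwa [one_pow] at this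
        · -- X + 1
          by_cases hqodd : Odd q
          · have hne : I₀ ≠ ∅ := fun h => hcase ⟨h, hqodd⟩
            obtain ⟨f₀, hf₀⟩ := Finset.nonempty_iff_ne_empty.mpr hne
            have hLeven : Even L := (expo_even q hqodd f₀).trans_dvd (hLexpo f₀ hf₀)
            have := sub_dvd_pow_sub_pow (X : F[X]) (-1) L
            rwa [hLeven.neg_one_pow, sub_neg_eq_add] at this
          · have hqeven : Even q := Nat.not_odd_iff_even.mp hqodd
            have hp2 : p = 2 := by
              have : 2 ∣ p ^ (k : ℕ) := by rw [← hqk]; exact hqeven.two_dvd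
              exact ((Nat.prime_dvd_prime_iff_eq Nat.prime_two hp).mp
                (Nat.Prime.dvd_of_dvd_pow Nat.prime_two this)).symm
            subst hp2
            have h11 : (1 : F[X]) = -1 := by
              have : (2 : F[X]) = 0 := by
                have := CharP.cast_eq_zero F[X] 2
                exact_mod_cast this
              linear_combination this
            have := sub_dvd_pow_sub_pow (X : F[X]) 1 L
            rw [one_pow] at this
            have h2 : (X + 1 : F[X]) = X - 1 := by linear_combination h11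
            rwa [h2]
    have hqt : q ^ t = p ^ ((k : ℕ) * t) := by rw [hqdef, hqk, pow_mul]
    have hmain := prod_dvd_of_forall_dvd p s hs' L ((k : ℕ) * t) hdvd (by
      intro f
      by_cases hf : f ∈ s
      · rw [← hqt]; exact ht1 f (Multiset.mem_toFinset.mpr hf)
      · rw [Multiset.count_eq_zero_of_notMem hf]; exact Nat.zero_le _)
    rw [hsprod, ← hqt] at hmain
    refine ⟨L * q ^ t, Nat.mul_pos hLpos (by positivity), ht2, Or.inl hmain⟩

end asm

section asm2
variable {F : Type*} [Field F]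

/-- CORE -/
theorem matrix_order_bound [Fintype F] {ι : Type*} [Fintype ι] [DecidableEq ι] (A J : Matrix ι ι F)
    (hJ : IsUnit J.det) (hA : Aᵀ * J * A = J) (m : ℕ)
    (hd : (Fintype.card ι = 2 * m ∧ 2 ≤ m) ∨
      (Fintype.card ι = 2 * m + 1 ∧ 3 ≤ m ∧ Odd (Fintype.card F))) :
    ∃ N : ℕ, 0 < N ∧ (Fintype.card F - 1) * N ≤ Fintype.card F ^ (m + 1) ∧
      (A ^ N = 1 ∨ A ^ N = -1) := by
  have hne : Nonempty ι := by
    rw [← Fintype.card_pos_iff]
    rcases hd with h | h <;> omega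
  obtain ⟨h0, hstar⟩ := minpoly_self_reciprocal A J hJ hA
  have hmonic : (minpoly F A).Monic := minpoly.monic (Matrix.isIntegral A)
  have hdeg : (minpoly F A).natDegree ≤ Fintype.card ι := by
    have h1 := Matrix.minpoly_dvd_charpoly A
    have h2 := Polynomial.natDegree_le_of_dvd h1 (Matrix.charpoly_monic A).ne_zero
    rwa [Matrix.charpoly_natDegree_eq_dim] at h2
  obtain ⟨N, hN0, hNb, hN⟩ := exists_pow_dvd (minpoly F A) hmonic h0 hstar (Fintype.card ι) m hdeg hd
  refine ⟨N, hN0, hNb, ?_⟩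
  rcases hN with h | h
  · left
    have := Polynomial.aeval_eq_zero_of_dvd_aeval_eq_zero h (minpoly.aeval F A)
    simpa [sub_eq_zero] using this
  · right
    have := Polynomial.aeval_eq_zero_of_dvd_aeval_eq_zero h (minpoly.aeval F A)
    simpa [add_eq_zero_iff_eq_neg] using this

theorem card_sum_fin (m : ℕ) : Fintype.card (Fin m ⊕ Fin m) = 2 * m := by
  simp; ring

/-- S2264 -/
theorem S2264_main [Fintype F] (m : ℕ) (hm : 2 ≤ m) (g : Cfsg.PSp m F) :
    (Fintype.card F - 1) * orderOf g ≤ Fintype.card F ^ (m + 1) := by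
  apply psp_bound_of_core m _ g
  intro A hA
  exact matrix_order_bound A (Matrix.J (Fin m) F) (Matrix.isUnit_det_J (Fin m) F) hA m
    (Or.inl ⟨card_sum_fin m, hm⟩)

/-- S2265 -/
theorem S2265_main [Fintype F] (m : ℕ) :
    (3 ≤ m → Odd (Fintype.card F) → ∀ g : Cfsg.POmega F (Cfsg.quadFormOdd m F),
      (Fintype.card F - 1) * orderOf g ≤ Fintype.card F ^ (m + 1)) ∧
    (4 ≤ m → ∀ g : Cfsg.POmega F (Cfsg.quadFormPlus m F),
      (Fintype.card F - 1) * orderOf g ≤ Fintype.card F ^ (m + 1)) ∧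
    (4 ≤ m → ∀ a b : F, (∀ z₁ z₂ : F, z₁ ^ 2 + a * z₁ * z₂ + b * z₂ ^ 2 = 0 → z₁ = 0 ∧ z₂ = 0) →
      ∀ g : Cfsg.POmega F (Cfsg.quadFormMinus (m - 1) F a b),
      (Fintype.card F - 1) * orderOf g ≤ Fintype.card F ^ (m + 1)) := by
  refine ⟨?_, ?_, ?_⟩
  · intro hm hodd g
    have h2 : (2 : F) ≠ 0 := by
      intro h
      have hchar : CharP F 2 := CharTwo.of_one_ne_zero_of_two_eq_zero one_ne_zero h
      have := FiniteField.even_card_of_char_two (F := F) (by exact ringChar.eq F 2)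
      exact (Nat.not_even_iff_odd.mpr hodd) (Nat.even_iff.mpr this)
    obtain ⟨G, hG, hpolar⟩ := gram_odd (F := F) m h2
    apply pomega_bound_of_core _ m _ g
    intro A hA
    refine matrix_order_bound A G hG (gram_of_preserves _ G A hpolar hA) m (Or.inr ⟨?_, hm, hodd⟩)
    simp; ring
  · intro hm g
    obtain ⟨G, hG, hpolar⟩ := gram_plus (F := F) m
    apply pomega_bound_of_core _ m _ g
    intro A hA
    exact matrix_order_bound A G hG (gram_of_preserves _ G A hpolar hA) m
      (Or.inl ⟨card_sum_fin m, by omega⟩)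
  · intro hm a b han g
    obtain ⟨G, hG, hpolar⟩ := gram_minus (F := F) (m - 1) a b han
    apply pomega_bound_of_core _ m _ g
    intro A hA
    refine matrix_order_bound A G hG (gram_of_preserves _ G A hpolar hA) m (Or.inl ⟨?_, by omega⟩)
    simp; omega

end asm2

end Cfsg.Agent.Helper10.EO
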