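import Mathlib
import Cfsg.Agent.Lib.Helper10.EODefs
set_option autoImplicit false
open Polynomial
namespace Cfsg.Agent.Helper10.EO

section poly
variable {F : Type*} [Field F]

theorem exists_factorization (μ : F[X]) (hμ : μ.Monic) (h0 : μ.coeff 0 ≠ 0) :
    ∃ s : Multiset F[X], s.prod = μ ∧ ∀ f ∈ s, f.Monic ∧ Irreducible f ∧ f.coeff 0 ≠ 0 := by
  classical
  have hfac : ∀ f ∈ UniqueFactorizationMonoid.normalizedFactors μ,
      f.Monic ∧ Irreducible f ∧ f.coeff 0 ≠ 0 := by
    intro f hf
    have hirr := UniqueFactorizationMonoid.irreducible_of_normalized_factor f hf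
    have hnorm := UniqueFactorizationMonoid.normalize_normalized_factor f hf
    have hmon : f.Monic := by rw [← hnorm]; exact Polynomial.monic_normalize hirr.ne_zero
    have hdvd := UniqueFactorizationMonoid.dvd_of_mem_normalizedFactors hf
    refine ⟨hmon, hirr, ?_⟩
    obtain ⟨g, hg⟩ := hdvd
    intro hc
    apply h0
    rw [hg, Polynomial.mul_coeff_zero, hc, zero_mul]
  refine ⟨UniqueFactorizationMonoid.normalizedFactors μ, ?_, hfac⟩
  have h1 := UniqueFactorizationMonoid.prod_normalizedFactors hμ.ne_zero
  have h2 : ((UniqueFactorizationMonoid.normalizedFactors μ).prod).Monic :=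
    Polynomial.monic_multiset_prod_of_monic (UniqueFactorizationMonoid.normalizedFactors μ) id
      (fun f hf => (hfac f hf).1) |> fun h => by simpa using h
  exact eq_of_monic_of_associated h2 hμ h1

end poly

end Cfsg.Agent.Helper10.EO
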