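import Mathlib
import Cfsg.Agent.Lib.Helper10.NormPoly
import Cfsg.Agent.Lib.Helper4.QuadRing

set_option autoImplicit false

/-! A `p`-element `b` with `(b - 1)^(p-1) = 0` on a faithful module of exponent `p` centralizes
every abelian normal `p'`-subgroup. -/

namespace Cfsg.Agent.Helper10

open Finset

/-- The ring computation: summing the conjugates of `∑ e^j = 0`. -/
theorem ring_key_engel {E : Type*} [Ring E] {ι : Type*} [Fintype ι] (p : ℕ) (hp : 1 ≤ p)
    (x : ι → E) (κ : ℕ → ι → ι)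
    (hκb : ∀ j, 1 ≤ j → j < p → Function.Bijective (κ j))
    (hκ0 : ∀ i, x (κ 0 i) = 1) (e : E) (hT : ∑ j ∈ range p, e ^ j = 0)
    (hconj : ∀ i, ∑ j ∈ range p, x (κ j i) * e ^ j = 0) :
    (Fintype.card ι : E) = ∑ i, x i := by
  obtain ⟨m, rfl⟩ : ∃ m, p = m + 1 := ⟨p - 1, by omega⟩
  set S := ∑ i, x i with hS
  have h1 : ∑ i, ∑ j ∈ range (m + 1), x (κ j i) * e ^ j = 0 :=
    Finset.sum_eq_zero (fun i _ => hconj i)
  rw [Finset.sum_comm] at h1
  rw [Finset.sum_range_succ'] at h1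
  have h2 : ∑ i, x (κ 0 i) * e ^ 0 = (Fintype.card ι : E) := by
    rw [Finset.sum_congr rfl (fun i _ => by rw [hκ0 i, pow_zero, mul_one])]
    rw [Finset.sum_const, Finset.card_univ, nsmul_eq_mul, mul_one]
  have h3 : ∀ j ∈ range m, ∑ i, x (κ (j + 1) i) * e ^ (j + 1) = S * e ^ (j + 1) := by
    intro j hj
    rw [← Finset.sum_mul]
    congr 1
    exact Fintype.sum_bijective (κ (j + 1))
      (hκb (j + 1) (by omega) (by have := Finset.mem_range.mp hj; omega)) _ _ (fun _ => rfl)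
  rw [h2, Finset.sum_congr rfl h3, ← Finset.mul_sum] at h1
  have h4 : ∑ j ∈ range m, e ^ (j + 1) = -1 := by
    have := hT
    rw [Finset.sum_range_succ', pow_zero] at this
    exact eq_neg_of_add_eq_zero_left this
  rw [h4, mul_neg, mul_one] at h1
  have h5 : (Fintype.card ι : E) = S := by
    have := h1
    rw [neg_add_eq_zero] at this
    exact this.symm
  exact h5

section auto

variable {A : Type*} [CommGroup A]

/-- For `φ` of prime order `p` acting coprimely, `r ↦ r / φ^j r` is injective on `[A, φ]`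
(`0 < j < p`). -/
theorem div_pow_apply_inj (φ : MulAut A) (p : ℕ) [hpp : Fact p.Prime] (hφ : φ ^ p = 1)
    (hcop : (Nat.card A).Coprime p) (j : ℕ) (hj1 : 1 ≤ j) (hjp : j < p) (c : A)
    (h : (φ ^ j) (c / φ c) = c / φ c) : c / φ c = 1 := by
  set r := c / φ c with hr
  have hcopj : Nat.Coprime j p := by
    apply Nat.Coprime.symm
    rw [Nat.Prime.coprime_iff_not_dvd hpp.out]
    intro hd
    have := Nat.le_of_dvd (by omega) hd
    omega
  -- `φ` is a power of `φ^j`
  have hfixm : ∀ m : ℕ, ((φ ^ j) ^ m) r = r := by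
    intro m
    induction m with
    | zero => simp
    | succ m ih => rw [pow_succ, MulAut.mul_apply, h, ih]
  have hpow : ∃ m : ℕ, (φ ^ j) ^ m = φ := by
    have hord : orderOf φ ∣ p := orderOf_dvd_of_pow_eq_one hφ
    have hc : Nat.Coprime j (orderOf φ) := Nat.Coprime.coprime_dvd_right hord hcopj
    exact exists_pow_eq_self_of_coprime hc
  obtain ⟨m, hm⟩ := hpow
  have hfix : φ r = r := by
    have := hfixm m
    rwa [hm] at this
  exact Cfsg.Agent.Helper4.QR.div_eq_one_of_fixed φ p hφ hcop c hfix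

end auto

/-- **Engel-type action centralizes abelian normal `p'`-subgroups**: faithful action on an abelian
group of exponent `p`, `(1 - b)^(p-1) = 0`. -/
theorem commute_of_engel {F W : Type*} [Group F] [Finite F] [CommGroup W] {p : ℕ}
    [hpp : Fact p.Prime] (act : F →* MulAut W) (hact : Function.Injective act)
    (hW : ∀ w : W, w ^ p = 1) (A : Subgroup F) [hAn : A.Normal]
    (hAc : ∀ x ∈ A, ∀ y ∈ A, x * y = y * x) (hAp : (Nat.card A).Coprime p)
    (b : F) (hbad : BadEnd act p b) :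
    ∀ c ∈ A, c * b = b * c := by
  classical
  let _ : CommGroup ↥A :=
    { (inferInstance : Group ↥A) with mul_comm := fun x y => Subtype.ext (hAc x x.2 y y.2) }
  -- the ring
  let ρ : F →* Module.End ℤ (Additive W) := endOf act
  set e := ρ b with hedef
  have hT : ∑ j ∈ range p, e ^ j = 0 := by
    apply LinearMap.ext
    intro v
    exact sum_pow_apply_eq_zero act hW b hbad v
  have hρinj : ∀ f : F, ρ f = 1 → f = 1 := by
    intro f hf
    apply hact
    rw [map_one]
    ext w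
    have := congrArg (fun E : Module.End ℤ (Additive W) => E (Additive.ofMul w)) hf
    exact this
  have hbp : b ^ p = 1 := by
    apply hρinj
    rw [map_pow]
    have h1 := geom_sum_mul e p
    rw [hT, zero_mul] at h1
    exact (sub_eq_zero.mp h1.symm)
  let φ : MulAut ↥A := MulAut.conjNormal b
  have hφ : φ ^ p = 1 := by
    show (MulAut.conjNormal b : MulAut ↥A) ^ p = 1
    rw [← map_pow, hbp, map_one]
  have hφj : ∀ (j : ℕ) (c : ↥A), (((φ ^ j) c : ↥A) : F) = b ^ j * c * (b ^ j)⁻¹ := by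
    intro j c
    show (((MulAut.conjNormal b : MulAut ↥A) ^ j) c : F) = _
    rw [← map_pow, MulAut.conjNormal_apply]
  let κ₀ : ℕ → ↥A →* ↥A := fun j => MonoidHom.id ↥A / (φ ^ j).toMonoidHom
  have hκ₀ : ∀ j (c : ↥A), κ₀ j c = c / (φ ^ j) c := fun j c => rfl
  have hκF : ∀ j (c : ↥A), ((κ₀ j c : ↥A) : F) * b ^ j = (c : F) * b ^ j * (c : F)⁻¹ := by
    intro j c
    rw [hκ₀, div_eq_mul_inv, Subgroup.coe_mul, Subgroup.coe_inv, hφj]
    group
  have hcomm : ∀ j (c : ↥A), κ₀ j (κ₀ 1 c) = κ₀ 1 (κ₀ j c) := by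
    intro j c
    simp only [hκ₀, map_div, pow_one]
    have h1 : (φ ^ j) (φ c) = φ ((φ ^ j) c) := by
      rw [← MulAut.mul_apply, ← MulAut.mul_apply, ← pow_succ, ← pow_succ']
    rw [h1]
    rw [div_div_div_comm]
  let R' : Subgroup ↥A := (κ₀ 1).range
  let κ : ℕ → ↥R' → ↥R' := fun j r => ⟨κ₀ j r, by
    obtain ⟨c, hc⟩ := r.2
    exact ⟨κ₀ j c, by rw [← hcomm, hc]⟩⟩
  have hκinj : ∀ j, 1 ≤ j → j < p → Function.Injective (κ j) := by
    intro j hj1 hjp r r' h
    have h1 : κ₀ j (r : ↥A) = κ₀ j (r' : ↥A) := congrArg Subtype.val h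
    obtain ⟨c, hc⟩ := r.2
    obtain ⟨c', hc'⟩ := r'.2
    have h2 : κ₀ j (κ₀ 1 (c / c')) = 1 := by
      rw [map_div, map_div, hc, hc', h1, div_self']
    have h3 : κ₀ 1 (c / c') = 1 := by
      have h4 : (φ ^ j) (κ₀ 1 (c / c')) = κ₀ 1 (c / c') := by
        rw [hκ₀ j, div_eq_one] at h2
        exact h2.symm
      have h5 : κ₀ 1 (c / c') = (c / c') / φ (c / c') := by rw [hκ₀, pow_one]
      rw [h5] at h4 ⊢
      exact div_pow_apply_inj φ p hφ hAp j hj1 hjp (c / c') h4
    rw [map_div, hc, hc', div_eq_one] at h3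
    exact Subtype.ext h3
  have hκb : ∀ j, 1 ≤ j → j < p → Function.Bijective (κ j) := fun j h1 h2 =>
    Finite.injective_iff_bijective.mp (hκinj j h1 h2)
  have hinv : ∀ f : F, ρ f * ρ f⁻¹ = 1 ∧ ρ f⁻¹ * ρ f = 1 := by
    intro f
    constructor
    · rw [← map_mul, mul_inv_cancel, map_one]
    · rw [← map_mul, inv_mul_cancel, map_one]
  let _ : Fintype ↥R' := Fintype.ofFinite _
  have hκ0 : ∀ r : ↥R', ρ (((κ 0 r : ↥R') : ↥A) : F) = 1 := by
    intro r
    have : ((κ 0 r : ↥R') : ↥A) = 1 := by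
      show κ₀ 0 (r : ↥A) = 1
      rw [hκ₀, pow_zero]
      simp
    rw [this]
    simp
  have hconj : ∀ r : ↥R', ∑ j ∈ range p, ρ (((κ j r : ↥R') : ↥A) : F) * e ^ j = 0 := by
    intro r
    have h1 : ∀ j ∈ range p, ρ (((κ j r : ↥R') : ↥A) : F) * e ^ j =
        ρ ((r : ↥A) : F) * e ^ j * ρ ((r : ↥A) : F)⁻¹ := by
      intro j _
      rw [hedef, ← map_pow, ← map_mul, ← map_mul, ← map_mul]
      congr 1
      exact hκF j (r : ↥A)
    rw [Finset.sum_congr rfl h1, ← Finset.sum_mul, ← Finset.mul_sum, hT, mul_zero, zero_mul]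
  have hkey := ring_key_engel p hpp.out.one_le (fun r : ↥R' => ρ ((r : ↥A) : F)) κ hκb hκ0 e hT
    hconj
  -- every element of `R'` acts trivially
  have htriv : ∀ r₀ : ↥R', (r₀ : ↥A) = 1 := by
    intro r₀
    have h1 : ρ ((r₀ : ↥A) : F) * ∑ r : ↥R', ρ ((r : ↥A) : F) = ∑ r : ↥R', ρ ((r : ↥A) : F) := by
      rw [Finset.mul_sum]
      refine Fintype.sum_bijective (fun r => r₀ * r) (Group.mulLeft_bijective r₀) _ _ ?_
      intro r
      rw [← map_mul]
      rfl
    rw [← hkey] at h1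
    have h2 : act ((r₀ : ↥A) : F) = 1 := by
      ext w
      have h3 := congrArg (fun E : Module.End ℤ (Additive W) => E (Additive.ofMul w)) h1
      replace h3 : ρ ((r₀ : ↥A) : F) (Fintype.card ↥R' • Additive.ofMul w) =
          Fintype.card ↥R' • Additive.ofMul w := by
        simpa [Module.End.mul_apply, Module.End.natCast_apply] using h3
      have h4 : (act ((r₀ : ↥A) : F) w) ^ Fintype.card ↥R' = w ^ Fintype.card ↥R' := by
        have h5 : ρ ((r₀ : ↥A) : F) (Fintype.card ↥R' • Additive.ofMul w) =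
            Additive.ofMul ((act ((r₀ : ↥A) : F) w) ^ Fintype.card ↥R') := by
          rw [map_nsmul]
          rfl
        rw [h5] at h3
        exact h3
      set y := act ((r₀ : ↥A) : F) w / w with hy
      have h5 : y ^ Fintype.card ↥R' = 1 := by
        rw [hy, div_pow, h4, div_self']
      have h6 : orderOf y ∣ Fintype.card ↥R' := orderOf_dvd_of_pow_eq_one h5
      have h7 : orderOf y ∣ p := orderOf_dvd_of_pow_eq_one (hW y)
      have h8 : Fintype.card ↥R' ∣ Nat.card ↥A := by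
        rw [← Nat.card_eq_fintype_card]
        exact Subgroup.card_subgroup_dvd_card R'
      have h9 : (Fintype.card ↥R').Coprime p :=
        Nat.Coprime.coprime_dvd_left h8 hAp
      have h10 : orderOf y = 1 := Nat.eq_one_of_dvd_coprimes h9 h6 h7
      have h11 : y = 1 := orderOf_eq_one_iff.mp h10
      rw [hy, div_eq_one] at h11
      simpa using h11
    have h3 : ((r₀ : ↥A) : F) = 1 := hact (by rw [h2, map_one])
    exact Subtype.ext h3
  intro c hc
  have h1 := htriv ⟨κ₀ 1 ⟨c, hc⟩, ⟨⟨c, hc⟩, rfl⟩⟩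
  have h2 : (⟨c, hc⟩ : ↥A) = φ ⟨c, hc⟩ := by
    have : κ₀ 1 ⟨c, hc⟩ = 1 := h1
    rw [hκ₀, div_eq_one, pow_one] at this
    exact this
  have h3 := congrArg Subtype.val h2
  have h4 : ((φ ⟨c, hc⟩ : ↥A) : F) = b * c * b⁻¹ := MulAut.conjNormal_apply b ⟨c, hc⟩
  rw [h4] at h3
  simp only at h3
  calc c * b = (b * c * b⁻¹) * b := by rw [← h3]
    _ = b * c := by group

end Cfsg.Agent.Helper10
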