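import Mathlib
import Cfsg.Prelude.Def_LocalEven
import Cfsg.Prelude.Def_PLocal
import Cfsg.Agent.Lib.Helper10.EngelModule
import Cfsg.Agent.Lib.Helper10.TransferBad
import Cfsg.Agent.Lib.Helper10.ChiefP
import Cfsg.Agent.Lib.Helper4.QuadStab
import Cfsg.Agent.Lib.Helper4.SL2Free

set_option autoImplicit false

/-! In a group with a series `O_p` / abelian `p'`-chief factor / `p`-group, a `p`-element acting
on a chief factor below `O_p` with `(g-1)^(p-1) = 0` acts trivially on it. -/

namespace Cfsg.Agent.Helper10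

open Cfsg Cfsg.Agent.Helper4.QS
open scoped commutatorElement

variable {G : Type*} [Group G] {p : ℕ} [hpp : Fact p.Prime] {H M : Subgroup G}

/-- Base case: `V` a minimal normal subgroup. -/
theorem base_engel [Finite G] (st : Struc p G H M) (V : Subgroup G) [hVn : V.Normal]
    (hVp : IsPGroup p V)
    (hVmin : ∀ V₁ : Subgroup G, V₁.Normal → V₁ ≤ V → V₁ = ⊥ ∨ V₁ = V)
    (hVab : ∀ x ∈ V, ∀ y ∈ V, x * y = y * x) (hVexp : ∀ x ∈ V, x ^ p = 1)
    (a : G) (k : ℕ) (hak : a ^ p ^ k = 1)
    (hq : ∀ v ∈ V, (fun y : G => ⁅y, a⁆)^[p - 1] v = 1) :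
    a ∈ Subgroup.centralizer (V : Set G) := by
  have hHn := st.hHn
  have hMn := st.hMn
  set C := Subgroup.centralizer (V : Set G) with hC
  by_cases hV0 : V = ⊥
  · rw [hC, hV0, Subgroup.mem_centralizer_iff]
    intro h hh
    have : h = 1 := by simpa using hh
    rw [this]; simp
  -- `H ≤ C`
  have hHC : H ≤ C := by
    have h1 : ⁅V, H⁆ ≠ V :=
      Cfsg.Agent.S0028.commutator_ne_of_isPGroup p H V st.hHp hVp
        (by rw [Subgroup.normalizer_eq_top]; exact le_top) hV0
    have h2 : ⁅V, H⁆ = ⊥ := by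
      rcases hVmin ⁅V, H⁆ inferInstance (Subgroup.commutator_le_left V H) with h | h
      · exact h
      · exact absurd h h1
    rw [Subgroup.commutator_comm] at h2
    exact Subgroup.commutator_eq_bot_iff_le_centralizer.mp h2
  have hCn : C.Normal := inferInstance
  letI : CommGroup ↥V := commGroupOfComm V hVab
  let act₀ : G →* MulAut ↥V := MulAut.conjNormal
  have hact₀ : ∀ g : G, ∀ v : ↥V, ((act₀ g v : ↥V) : G) = g * v * g⁻¹ :=
    fun g v => MulAut.conjNormal_apply g v
  have hker : ∀ c ∈ C, act₀ c = 1 := by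
    intro c hc
    ext v
    rw [hact₀]
    have := Subgroup.mem_centralizer_iff.mp hc v v.2
    show c * (v : G) * c⁻¹ = v
    rw [← this]; group
  let act : G ⧸ C →* MulAut ↥V := QuotientGroup.lift C act₀ hker
  have hactmk : ∀ g : G, act (QuotientGroup.mk g) = act₀ g := fun g => rfl
  have hact : Function.Injective act := by
    rw [injective_iff_map_eq_one]
    intro x hx
    obtain ⟨g, rfl⟩ := QuotientGroup.mk_surjective x
    rw [QuotientGroup.eq_one_iff, hC, Subgroup.mem_centralizer_iff]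
    intro v hv
    have h1 : act₀ g ⟨v, hv⟩ = ⟨v, hv⟩ := by
      rw [← hactmk, hx]; rfl
    have h2 := congrArg Subtype.val h1
    rw [hact₀] at h2
    simp only at h2
    calc v * g = (g * v * g⁻¹) * g := by rw [h2]
      _ = g * v := by group
  rcases st.hchief (M ⊓ C) inferInstance (le_inf st.hHM hHC) inf_le_left with hL | hL
  swap
  · -- `M ≤ C`: the quotient is a `p`-group, so `V` is central
    have hMC : M ≤ C := by rw [← hL]; exact inf_le_right
    have hpg : IsPGroup p (G ⧸ C) := by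
      intro x
      obtain ⟨g, rfl⟩ := QuotientGroup.mk_surjective x
      obtain ⟨j, hj⟩ := st.hidx
      refine ⟨j, ?_⟩
      rw [← QuotientGroup.mk_pow, QuotientGroup.eq_one_iff]
      apply hMC
      rw [← hj]
      exact Subgroup.pow_index_mem M g
    have hdvd : p ∣ Nat.card ↥V := by
      obtain ⟨n, hn⟩ := hVp.exists_card_eq
      have h1 : 1 < Nat.card ↥V := (Subgroup.one_lt_card_iff_ne_bot V).mpr hV0
      rw [hn] at h1 ⊢
      rcases Nat.eq_zero_or_pos n with h0 | hpos
      · rw [h0, pow_zero] at h1; omega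
      · exact dvd_pow_self p hpos.ne'
    obtain ⟨w, hw1, hwfix⟩ := Cfsg.Agent.Helper4.SLF.exists_fixed_ne_one act hpg hdvd
    have hwc : (w : G) ∈ Subgroup.center G := by
      rw [Subgroup.mem_center_iff]
      intro g
      have h1 := hwfix (QuotientGroup.mk g)
      rw [hactmk] at h1
      have h2 := congrArg Subtype.val h1
      rw [hact₀] at h2
      calc g * (w : G) = (g * (w : G) * g⁻¹) * g := by group
        _ = (w : G) * g := by rw [h2]
    have hVZ : V ⊓ Subgroup.center G = V := by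
      rcases hVmin (V ⊓ Subgroup.center G) inferInstance inf_le_left with h | h
      · exfalso
        apply hw1
        have h3 : (w : G) ∈ V ⊓ Subgroup.center G := ⟨w.2, hwc⟩
        rw [h, Subgroup.mem_bot] at h3
        exact Subtype.ext h3
      · exact h
    rw [hC, Subgroup.mem_centralizer_iff]
    intro v hv
    have hvZ : v ∈ Subgroup.center G := by
      have : v ∈ V ⊓ Subgroup.center G := by rw [hVZ]; exact hv
      exact this.2
    exact (Subgroup.mem_center_iff.mp hvZ a).symm
  -- `M ∩ C = H`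
  apply hHC
  have hW : ∀ w : ↥V, w ^ p = 1 := fun w => Subtype.ext (by simpa using hVexp w w.2)
  set A : Subgroup (G ⧸ C) := M.map (QuotientGroup.mk' C) with hA
  have hAn : A.Normal := Subgroup.Normal.map hMn _ (QuotientGroup.mk'_surjective C)
  have hAc : ∀ x ∈ A, ∀ y ∈ A, x * y = y * x := by
    rintro _ ⟨m, hm, rfl⟩ _ ⟨m', hm', rfl⟩
    have h1 : (QuotientGroup.mk' C) (m * m' * m⁻¹ * m'⁻¹) = 1 :=
      (QuotientGroup.eq_one_iff _).mpr (hHC (st.hab m hm m' hm'))
    simp only [map_mul, map_inv] at h1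
    calc (QuotientGroup.mk' C) m * (QuotientGroup.mk' C) m'
        = ((QuotientGroup.mk' C) m * (QuotientGroup.mk' C) m' * ((QuotientGroup.mk' C) m)⁻¹ *
            ((QuotientGroup.mk' C) m')⁻¹) * ((QuotientGroup.mk' C) m' * (QuotientGroup.mk' C) m) := by
          group
      _ = (QuotientGroup.mk' C) m' * (QuotientGroup.mk' C) m := by rw [h1, one_mul]
  have hAp : (Nat.card A).Coprime p := by
    rw [Nat.coprime_comm, Nat.Prime.coprime_iff_not_dvd hpp.out]
    intro hdvd
    obtain ⟨x, hx⟩ := exists_prime_orderOf_dvd_card' (G := ↥A) p hdvd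
    obtain ⟨m, hm, hmx⟩ := x.2
    obtain ⟨e, he, hme⟩ := st.hcop m hm
    have h1 : (x : G ⧸ C) ^ e = 1 := by
      rw [← hmx, ← map_pow]
      exact (QuotientGroup.eq_one_iff _).mpr (hHC hme)
    have h2 : x ^ e = 1 := Subtype.ext (by simpa using h1)
    have h3 : p ∣ e := hx ▸ orderOf_dvd_of_pow_eq_one h2
    have h4 := Nat.Coprime.eq_one_of_dvd he.symm h3
    exact hpp.out.ne_one h4
  have hbad : BadEnd act p (QuotientGroup.mk a) := by
    have h1 : BadOn V hVab p a := badOn_of_iterate V hVab a hq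
    exact h1
  have hcomm := commute_of_engel act hact hW A hAc hAp (QuotientGroup.mk a) hbad
  have hcent : ∀ m ∈ M, m * a * m⁻¹ * a⁻¹ ∈ H := by
    intro m hm
    rw [← hL]
    refine ⟨?_, ?_⟩
    · have : m * a * m⁻¹ * a⁻¹ = m * (a * m⁻¹ * a⁻¹) := by group
      rw [this]
      exact M.mul_mem hm (hMn.conj_mem _ (M.inv_mem hm) a)
    · have h1 := hcomm (QuotientGroup.mk' C m) ⟨m, hm, rfl⟩
      show m * a * m⁻¹ * a⁻¹ ∈ C
      rw [← QuotientGroup.eq_one_iff]
      simp only [QuotientGroup.mk_mul, QuotientGroup.mk_inv]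
      have h1' : (QuotientGroup.mk m : G ⧸ C) * QuotientGroup.mk a =
          QuotientGroup.mk a * QuotientGroup.mk m := h1
      rw [h1']; group
  have haM : a ∈ M := st.mem_of_centralizes a hcent
  obtain ⟨e, he, hae⟩ := st.hcop a haM
  have h1 : (QuotientGroup.mk a : G ⧸ H) ^ e = 1 := by
    rw [← QuotientGroup.mk_pow]; exact (QuotientGroup.eq_one_iff _).mpr hae
  have h2 : (QuotientGroup.mk a : G ⧸ H) ^ p ^ k = 1 := by
    rw [← QuotientGroup.mk_pow, hak]; rfl
  have h3 : orderOf (QuotientGroup.mk a : G ⧸ H) = 1 :=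
    Nat.eq_one_of_dvd_coprimes (Nat.Coprime.pow_right k he) (orderOf_dvd_of_pow_eq_one h1)
      (orderOf_dvd_of_pow_eq_one h2)
  exact (QuotientGroup.eq_one_iff a).mp (orderOf_eq_one_iff.mp h3)

end Cfsg.Agent.Helper10

namespace Cfsg.Agent.Helper10

open Cfsg Cfsg.Agent.Helper4.QS
open scoped commutatorElement

variable {G : Type*} [Group G] {p : ℕ} [hpp : Fact p.Prime] {H M : Subgroup G}

omit hpp in
theorem iterate_commutator_mem (U : Subgroup G) (a : G) (n : ℕ) (u : G) (hu : u ∈ U) :
    (fun y : G => ⁅y, a⁆)^[n] u ∈ iterCommutator U (Subgroup.zpowers a) n := by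
  induction n with
  | zero => exact hu
  | succ n ih =>
    rw [Function.iterate_succ_apply']
    exact Subgroup.commutator_mem_commutator ih (Subgroup.mem_zpowers a)

omit hpp in
theorem iterate_commutator_map {Q : Type*} [Group Q] (f : G →* Q) (a : G) (n : ℕ) (u : G) :
    (fun y : Q => ⁅y, f a⁆)^[n] (f u) = f ((fun y : G => ⁅y, a⁆)^[n] u) := by
  induction n with
  | zero => rfl
  | succ n ih =>
    rw [Function.iterate_succ_apply', Function.iterate_succ_apply', ih, map_commutatorElement]

/-- a `p`-element with `[U, a; p-1] ≤ V` on a chief factor `U/V` below `H` acts trivially on it -/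
theorem chief_engel [Finite G] (st : Struc p G H M) (U V : Subgroup G) (hUV : IsChiefFactor U V)
    (hUH : U ≤ H) (a : G) (k : ℕ) (hak : a ^ p ^ k = 1)
    (hit : iterCommutator U (Subgroup.zpowers a) (p - 1) ≤ V) :
    ⁅U, Subgroup.zpowers a⁆ ≤ V := by
  haveI hVn : V.Normal := hUV.2.2.1
  haveI hUn : U.Normal := hUV.2.1
  have hVH : V ≤ H := hUV.1.le.trans hUH
  have hUp : IsPGroup p U := st.hHp.to_le hUH
  set π := QuotientGroup.mk' V with hπ
  have hπs : Function.Surjective π := QuotientGroup.mk'_surjective V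
  have st' := st.quotient V hVH
  set Ub := U.map π with hUb
  haveI hUbn : Ub.Normal := Subgroup.Normal.map hUn π hπs
  have hUbp : IsPGroup p Ub := hUp.map π
  have hcomap : Ub.comap π = U := by
    rw [hUb, Subgroup.comap_map_eq, hπ, QuotientGroup.ker_mk', sup_eq_left.mpr hUV.1.le]
  have hmin : ∀ V₁ : Subgroup (G ⧸ V), V₁.Normal → V₁ ≤ Ub → V₁ = ⊥ ∨ V₁ = Ub := by
    intro V₁ hV₁n hV₁U
    have h1 : V ≤ V₁.comap π := by
      intro x hx
      rw [Subgroup.mem_comap]
      have : π x = 1 := (QuotientGroup.eq_one_iff x).mpr hx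
      rw [this]; exact Subgroup.one_mem _
    have h2 : V₁.comap π ≤ U := by
      rw [← hcomap]; exact Subgroup.comap_mono hV₁U
    rcases hUV.2.2.2 (V₁.comap π) (Subgroup.Normal.comap hV₁n π) h1 h2 with h | h
    · left
      rw [← Subgroup.map_comap_eq_self_of_surjective hπs V₁, h, Subgroup.map_eq_bot_iff, hπ,
        QuotientGroup.ker_mk']
    · right
      rw [← Subgroup.map_comap_eq_self_of_surjective hπs V₁, h]
  obtain ⟨hab, hexp⟩ := chief_factor_elementary hUV hUp
  have hak' : (π a) ^ p ^ k = 1 := by rw [← map_pow, hak, map_one]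
  have hq : ∀ v ∈ Ub, (fun y : G ⧸ V => ⁅y, π a⁆)^[p - 1] v = 1 := by
    rintro _ ⟨u, hu, rfl⟩
    rw [iterate_commutator_map]
    have h1 := hit (iterate_commutator_mem U a (p - 1) u hu)
    exact (QuotientGroup.eq_one_iff _).mpr h1
  have hcent := base_engel st' Ub hUbp hmin hab hexp (π a) k hak' hq
  rw [Subgroup.commutator_le]
  intro u hu z hz
  have hz' : π z ∈ Subgroup.centralizer (Ub : Set (G ⧸ V)) := by
    have h1 : Subgroup.zpowers (π a) ≤ Subgroup.centralizer (Ub : Set (G ⧸ V)) :=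
      Subgroup.zpowers_le.mpr hcent
    apply h1
    rw [← MonoidHom.map_zpowers]
    exact Subgroup.mem_map_of_mem π hz
  have h2 : π ⁅u, z⁆ = 1 := by
    rw [map_commutatorElement, commutatorElement_def]
    have := Subgroup.mem_centralizer_iff.mp hz' (π u) (Subgroup.mem_map_of_mem π hu)
    rw [this]
    group
  exact (QuotientGroup.eq_one_iff _).mp h2

end Cfsg.Agent.Helper10
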