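import Mathlib
import Cfsg.Agent.Lib.Helper11.FHDefs
import Cfsg.Agent.Lib.Helper20.FHTRIG
import Cfsg.Agent.Lib.Helper21.FHPOW

/-!
# S1142 piece BRAID, core (helper10): the braid relation in the two-dimensional representation,
from the quadratic relations of `T1 T2`, `T2 T1` (piece REP1, taken here as hypotheses).
-/

set_option autoImplicit false

namespace Cfsg.Agent.Helper10.FHBraid

open Matrix Real Cfsg.Agent.Helper11.FH

/-- `0 < θ < π` for `θ = 2πj/n`, `0 < 2j < n` -/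
theorem theta_bounds (n j : ℕ) (hj : 0 < j) (hjn : 2 * j < n) :
    0 < 2 * π * j / n ∧ 2 * π * j / n < π := by
  have hn : (0 : ℝ) < n := by
    have : 0 < n := by omega
    exact_mod_cast this
  have hj' : (0 : ℝ) < j := by exact_mod_cast hj
  have hjn' : (2 : ℝ) * j < n := by exact_mod_cast hjn
  constructor
  · positivity
  · rw [div_lt_iff₀ hn]
    nlinarith [Real.pi_pos]

theorem sin_theta_ne_zero (n j : ℕ) (hj : 0 < j) (hjn : 2 * j < n) :
    sin (2 * π * j / n) ≠ 0 := by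
  obtain ⟨h1, h2⟩ := theta_bounds n j hj hjn
  exact (Real.sin_pos_of_pos_of_lt_pi h1 h2).ne'

/-- abstract even case -/
theorem braid_even {R : Type*} [Ring R] [Algebra ℝ R] (A B : R) (y p : ℝ) (m : ℕ) (hm : 1 ≤ m)
    (hAB : (A * B) * (A * B) = y • (A * B) - p • (1 : R))
    (hBA : (B * A) * (B * A) = y • (B * A) - p • (1 : R))
    (ha : aseq y p m = 0) :
    alt A B (2 * m) = alt B A (2 * m) := by
  obtain ⟨k, rfl⟩ : ∃ k, m = k + 1 := ⟨m - 1, by omega⟩
  rw [alt_two_mul, alt_two_mul, pow_succ_eq _ y p hAB, pow_succ_eq _ y p hBA, ha, zero_smul, zero_smul]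

/-- abstract odd case -/
theorem braid_odd {R : Type*} [Ring R] [Algebra ℝ R] (A B : R) (y p c : ℝ) (m : ℕ) (hm : 1 ≤ m)
    (hAB : (A * B) * (A * B) = y • (A * B) - p • (1 : R))
    (hid : A * B * A - B * A * B = c • (A - B))
    (ha : aseq y p m * c - p * aseq y p (m - 1) = 0) :
    alt A B (2 * m + 1) = alt B A (2 * m + 1) := by
  obtain ⟨k, rfl⟩ : ∃ k, m = k + 1 := ⟨m - 1, by omega⟩
  rw [alt_two_mul_add_one, alt_two_mul_add_one, ← mul_pow_swap B A, pow_succ_eq _ y p hAB]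
  rw [Nat.add_sub_cancel] at ha
  rw [← sub_eq_zero]
  have e : (aseq y p (k + 1) • (A * B) - (p * aseq y p k) • (1 : R)) * A -
      B * (aseq y p (k + 1) • (A * B) - (p * aseq y p k) • (1 : R)) =
      aseq y p (k + 1) • (A * B * A - B * A * B) - (p * aseq y p k) • (A - B) := by
    simp only [sub_mul, mul_sub, smul_mul_assoc, mul_smul_comm, one_mul, mul_one, smul_sub,
      mul_assoc]
    abel
  rw [e, hid, smul_smul, ← sub_smul, ha, zero_smul]

end Cfsg.Agent.Helper10.FHBraid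

namespace Cfsg.Agent.Helper11.FH

open Matrix Real Cfsg.Agent.Helper10.FHBraid

/-- BRAID with the REP1 facts as hypotheses -/
theorem T_braid_core
    (hT1T2_sq : ∀ s t y : ℝ, 0 < s → -(s + t) < y → y < s * t + 1 →
      (T1 s * T2 s t y) * (T1 s * T2 s t y) =
        y • (T1 s * T2 s t y) - (s * t) • (1 : Matrix (Fin 2) (Fin 2) ℝ))
    (hT2T1_sq : ∀ s t y : ℝ, 0 < s → -(s + t) < y → y < s * t + 1 →
      (T2 s t y * T1 s) * (T2 s t y * T1 s) =
        y • (T2 s t y * T1 s) - (s * t) • (1 : Matrix (Fin 2) (Fin 2) ℝ))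
    (hodd_id : ∀ s y : ℝ, 0 < s → -(s + s) < y → y < s * s + 1 →
      T1 s * T2 s s y * T1 s - T2 s s y * T1 s * T2 s s y = (y + s) • (T1 s - T2 s s y))
    (n j : ℕ) (s t : ℝ) (hs : 1 < s) (ht : 1 < t) (hj : 0 < j) (hjn : 2 * j < n)
    (hodd : Odd n → s = t) :
    alt (T1 s) (T2 s t (yj n s t j)) n = alt (T2 s t (yj n s t j)) (T1 s) n := by
  have hs0 : 0 < s := by linarith
  have ht0 : 0 < t := by linarith
  obtain ⟨hy1, hy2, _⟩ := yj_bounds n j s t hs ht hj hjn
  have hsin := sin_theta_ne_zero n j hj hjn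
  have hn0 : (n : ℝ) ≠ 0 := by
    have : 0 < n := by omega
    exact_mod_cast this.ne'
  have hst : 0 ≤ s * t := (mul_pos hs0 ht0).le
  have hu2 : Real.sqrt (s * t) ^ 2 = s * t := Real.sq_sqrt hst
  -- `aseq` in trigonometric form
  have htrig : ∀ k : ℕ, aseq (yj n s t j) (s * t) (k + 1) * sin (2 * π * j / n) =
      Real.sqrt (s * t) ^ k * sin ((k + 1) * (2 * π * j / n)) := by
    intro k
    have h := aseq_trig (Real.sqrt (s * t)) (2 * π * j / n) k
    rw [hu2] at h
    exact h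
  rcases Nat.even_or_odd' n with ⟨m, rfl | rfl⟩
  · -- even
    have hm : 1 ≤ m := by omega
    apply braid_even _ _ (yj (2 * m) s t j) (s * t) m hm (hT1T2_sq s t _ hs0 hy1 hy2)
      (hT2T1_sq s t _ hs0 hy1 hy2)
    obtain ⟨k, rfl⟩ : ∃ k, m = k + 1 := ⟨m - 1, by omega⟩
    have h := htrig k
    have harg : ((k : ℝ) + 1) * (2 * π * j / ((2 * (k + 1) : ℕ) : ℝ)) = j * π := by
      push_cast
      field_simp
    rw [harg, Real.sin_nat_mul_pi, mul_zero] at h
    rcases mul_eq_zero.1 h with h | h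
    · exact h
    · exact absurd h hsin
  · -- odd
    have hst' : s = t := hodd ⟨m, rfl⟩
    subst hst'
    have hm : 1 ≤ m := by omega
    have hus : Real.sqrt (s * s) = s := Real.sqrt_mul_self hs0.le
    apply braid_odd _ _ (yj (2 * m + 1) s s j) (s * s) (yj (2 * m + 1) s s j + s) m hm
      (hT1T2_sq s s _ hs0 hy1 hy2) (hodd_id s _ hs0 hy1 hy2)
    obtain ⟨k, rfl⟩ : ∃ k, m = k + 1 := ⟨m - 1, by omega⟩
    rw [Nat.add_sub_cancel]
    -- a_{k+2} + s a_{k+1} = 0
    have h1 := htrig (k + 1)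
    have h2 := htrig k
    rw [hus] at h1 h2
    have harg : (((k + 1 : ℕ) : ℝ) + 1) * (2 * π * j / ((2 * (k + 1) + 1 : ℕ) : ℝ)) =
        j * (2 * π) - ((k : ℝ) + 1) * (2 * π * j / ((2 * (k + 1) + 1 : ℕ) : ℝ)) := by
      push_cast
      field_simp
      ring
    rw [harg, Real.sin_nat_mul_two_pi_sub] at h1
    have h3 : (aseq (yj (2 * (k + 1) + 1) s s j) (s * s) (k + 1 + 1) +
        s * aseq (yj (2 * (k + 1) + 1) s s j) (s * s) (k + 1)) *
        sin (2 * π * j / ((2 * (k + 1) + 1 : ℕ) : ℝ)) = 0 := by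
      have e : ∀ a b S : ℝ, (a + s * b) * S = a * S + s * (b * S) := fun a b S => by ring
      rw [e, h1, h2]
      ring
    have h4 : aseq (yj (2 * (k + 1) + 1) s s j) (s * s) (k + 1 + 1) +
        s * aseq (yj (2 * (k + 1) + 1) s s j) (s * s) (k + 1) = 0 := by
      rcases mul_eq_zero.1 h3 with h | h
      · exact h
      · exact absurd h hsin
    rw [aseq_add_two] at h4
    linear_combination h4

end Cfsg.Agent.Helper11.FH
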