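import Mathlib
import Cfsg.Agent.Lib.Helper11.FHDefs
import Cfsg.Agent.Lib.Helper16.FHREP1
import Cfsg.Agent.Lib.Helper10.FHBRAIDCore

/-!
# S1142 piece BRAID (helper10): the braid relation of length `n` in the two-dimensional
representation `T1 s`, `T2 s t (yj n s t j)`.
-/

set_option autoImplicit false

namespace Cfsg.Agent.Helper11.FH

open Matrix Real

/-! ## PIECE BRAID -/
theorem T_braid (n j : ℕ) (s t : ℝ) (hs : 1 < s) (ht : 1 < t) (hj : 0 < j) (hjn : 2 * j < n)
    (hodd : Odd n → s = t) :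
    alt (T1 s) (T2 s t (yj n s t j)) n = alt (T2 s t (yj n s t j)) (T1 s) n :=
  T_braid_core T1T2_sq T2T1_sq T_odd_identity n j s t hs ht hj hjn hodd

end Cfsg.Agent.Helper11.FH
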