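import Mathlib

set_option autoImplicit false

namespace Cfsg.Agent.Helper10

variable {H : Type*} [Group H]

/-- in a Klein four subgroup there is an element different from `1` and from a given `z` -/
theorem kleinFour_exists_third (E : Subgroup H) (hE : IsKleinFour ↥E) (z : H) (hzE : z ∈ E) :
    ∃ e : H, e ∈ E ∧ e ≠ 1 ∧ e ≠ z := by
  classical
  by_contra hcon
  push_neg at hcon
  have hinj : Function.Injective (fun e : E => decide ((e : H) = 1)) := by
    intro a b hab
    simp only [decide_eq_decide] at hab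
    rcases eq_or_ne (a : H) 1 with ha | ha
    · have hb := hab.mp ha
      exact Subtype.ext (ha.trans hb.symm)
    · have hb : (b : H) ≠ 1 := fun hb => ha (hab.mpr hb)
      exact Subtype.ext ((hcon a a.2 ha).trans (hcon b b.2 hb).symm)
  haveI : Finite E := Nat.finite_of_card_ne_zero (by rw [hE.card_four]; norm_num)
  have := Nat.card_le_card_of_injective _ hinj
  rw [hE.card_four, Nat.card_eq_fintype_card, Fintype.card_bool] at this
  omega

theorem kleinFour_sq (E : Subgroup H) (hE : IsKleinFour ↥E) (e : H) (he : e ∈ E) : e * e = 1 := by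
  have h := Monoid.pow_exponent_eq_one (⟨e, he⟩ : E)
  rw [hE.exponent_two] at h
  have := congrArg Subtype.val h
  simpa [pow_two] using this

/-- core lemma: an abelian normal subgroup meeting the centralizer of each nonidentity element of a
four-group `E` trivially is trivial -/
theorem abelian_normal_trivial_of_fourGroup (E : Subgroup H) (hE : IsKleinFour ↥E)
    (N : Subgroup H) [N.Normal] (hab : ∀ a ∈ N, ∀ b ∈ N, a * b = b * a)
    (hNE : ∀ e ∈ E, e ≠ 1 → ∀ n ∈ N, e * n = n * e → n = 1) : N = ⊥ := by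
  -- inversion
  have hinv : ∀ e ∈ E, e ≠ 1 → ∀ n ∈ N, e * n * e⁻¹ = n⁻¹ := by
    intro e he he1 n hn
    have hee : e * e = 1 := kleinFour_sq E hE e he
    have heinv : e⁻¹ = e := inv_eq_of_mul_eq_one_right hee
    have hn' : e * n * e⁻¹ ∈ N := ‹N.Normal›.conj_mem n hn e
    have hm : n * (e * n * e⁻¹) ∈ N := N.mul_mem hn hn'
    have hcomm : e * (n * (e * n * e⁻¹)) = (n * (e * n * e⁻¹)) * e := by
      have h1 := hab n hn _ hn'
      calc e * (n * (e * n * e⁻¹)) = (e * n * e⁻¹) * (e * e) * n * e⁻¹ := by group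
        _ = (e * n * e⁻¹) * n * e⁻¹ := by rw [hee, mul_one]
        _ = (n * (e * n * e⁻¹)) * e⁻¹ := by rw [h1]
        _ = (n * (e * n * e⁻¹)) * e := by rw [heinv]
    have := hNE e he he1 _ hm hcomm
    exact (eq_inv_of_mul_eq_one_right this)
  obtain ⟨z, hzE, hz1⟩ : ∃ z ∈ E, z ≠ 1 := by
    obtain ⟨e, he, he1, -⟩ := kleinFour_exists_third E hE 1 E.one_mem
    exact ⟨e, he, he1⟩
  obtain ⟨e, he, he1, hez⟩ := kleinFour_exists_third E hE z hzE
  have hzz : z * z = 1 := kleinFour_sq E hE z hzE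
  have hze1 : z * e ≠ 1 := by
    intro h
    apply hez
    have : e = z⁻¹ := (eq_inv_of_mul_eq_one_right h)
    rw [this, inv_eq_of_mul_eq_one_right hzz]
  rw [eq_bot_iff]
  intro n hn
  rw [Subgroup.mem_bot]
  have h1 := hinv z hzE hz1 n hn
  have h2 := hinv e he he1 n hn
  have h3 := hinv (z * e) (E.mul_mem hzE he) hze1 n hn
  have h4 : z * e * n * (z * e)⁻¹ = n := by
    calc z * e * n * (z * e)⁻¹ = z * (e * n * e⁻¹) * z⁻¹ := by group
      _ = z * n⁻¹ * z⁻¹ := by rw [h2]
      _ = (z * n * z⁻¹)⁻¹ := by group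
      _ = n := by rw [h1, inv_inv]
  have h5 : n = n⁻¹ := h4.symm.trans h3
  apply hNE z hzE hz1 n hn
  have : z * n * z⁻¹ = n := h1.trans h5.symm
  calc z * n = (z * n * z⁻¹) * z := by group
    _ = n * z := by rw [this]

end Cfsg.Agent.Helper10

namespace Cfsg.Agent.Helper10

variable {H : Type*} [Group H]

/-- the combined statement used by S2008 and S2009: under the hypotheses on `z`, `E`, any normal
subgroup `N` whose elements commute pairwise is trivial. -/
theorem fourGroup_abelian_normal_trivial (z : H)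
    (hN : ∀ N : Subgroup H, N.Normal → N ≠ ⊤ → N ⊓ Subgroup.centralizer ({z} : Set H) = ⊥)
    (E : Subgroup H) (hE : IsKleinFour ↥E) (hzE : z ∈ E) (hc : ∀ e ∈ E, e ≠ 1 → IsConj z e)
    (N : Subgroup H) [hNn : N.Normal] (hab : ∀ a ∈ N, ∀ b ∈ N, a * b = b * a) : N = ⊥ := by
  have hNtop : N ≠ ⊤ := by
    intro htop
    obtain ⟨e, he, he1, hez⟩ := kleinFour_exists_third E hE z hzE
    obtain ⟨c, hcz⟩ := isConj_iff.mp (hc e he he1)
    have hcomm : c * z = z * c := hab c (by rw [htop]; trivial) z (by rw [htop]; trivial)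
    apply hez
    rw [← hcz, hcomm]
    group
  have hNz := hN N hNn hNtop
  have hNE : ∀ e ∈ E, e ≠ 1 → ∀ n ∈ N, e * n = n * e → n = 1 := by
    intro e he he1 n hn hcomm
    obtain ⟨c, hcz⟩ := isConj_iff.mp (hc e he he1)
    have h1 : c⁻¹ * n * c ∈ N := by
      have := hNn.conj_mem n hn c⁻¹
      simpa using this
    have h2 : c⁻¹ * n * c ∈ Subgroup.centralizer ({z} : Set H) := by
      rw [Subgroup.mem_centralizer_singleton_iff]
      have hz' : z = c⁻¹ * e * c := by rw [← hcz]; group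
      rw [hz']
      calc c⁻¹ * n * c * (c⁻¹ * e * c) = c⁻¹ * (n * e) * c := by group
        _ = c⁻¹ * (e * n) * c := by rw [hcomm]
        _ = c⁻¹ * e * c * (c⁻¹ * n * c) := by group
    have h3 : c⁻¹ * n * c ∈ N ⊓ Subgroup.centralizer ({z} : Set H) := ⟨h1, h2⟩
    rw [hNz, Subgroup.mem_bot] at h3
    have : n = c * (c⁻¹ * n * c) * c⁻¹ := by group
    rw [this, h3]; group
  exact abelian_normal_trivial_of_fourGroup E hE N hab hNE

end Cfsg.Agent.Helper10

namespace Cfsg.Agent.Helper10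

variable {H : Type*} [Group H]

/-- a fixed-point-free involution acting by conjugation on a finite normal subgroup inverts it -/
theorem fpf_involution_inverts (N : Subgroup H) [Finite N] [hNn : N.Normal] (e : H) (hee : e * e = 1)
    (hfix : ∀ n ∈ N, e * n = n * e → n = 1) : ∀ x ∈ N, e * x * e⁻¹ = x⁻¹ := by
  have heinv : e⁻¹ = e := inv_eq_of_mul_eq_one_right hee
  let φ : N → N := fun n => ⟨(n : H)⁻¹ * (e * n * e⁻¹), N.mul_mem (N.inv_mem n.2) (hNn.conj_mem n n.2 e)⟩
  have hinj : Function.Injective φ := by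
    intro n m hnm
    have h : (n : H)⁻¹ * (e * n * e⁻¹) = (m : H)⁻¹ * (e * m * e⁻¹) := congrArg Subtype.val hnm
    have hmn : (m : H) * (n : H)⁻¹ ∈ N := N.mul_mem m.2 (N.inv_mem n.2)
    have hc : e * ((m : H) * (n : H)⁻¹) = ((m : H) * (n : H)⁻¹) * e := by
      have h' : (m : H) * (n : H)⁻¹ = e * m * e⁻¹ * (e * n * e⁻¹)⁻¹ := by
        have : (e * n * e⁻¹) = (n : H) * ((m : H)⁻¹ * (e * m * e⁻¹)) := by rw [← h]; group
        rw [this]; group
      calc e * ((m : H) * (n : H)⁻¹) = (e * m * e⁻¹ * (e * n * e⁻¹)⁻¹) * e := by group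
        _ = ((m : H) * (n : H)⁻¹) * e := by rw [← h']
    have := hfix _ hmn hc
    have hmn' : (m : H) = n := by
      have := mul_inv_eq_one.mp this
      exact this
    exact Subtype.ext hmn'.symm
  have hsurj : Function.Surjective φ := Finite.injective_iff_surjective.mp hinj
  intro x hx
  obtain ⟨n, hn⟩ := hsurj ⟨x, hx⟩
  have hx' : x = (n : H)⁻¹ * (e * n * e⁻¹) := (congrArg Subtype.val hn).symm
  rw [hx']
  calc e * ((n : H)⁻¹ * (e * n * e⁻¹)) * e⁻¹ = (e * n * e⁻¹)⁻¹ * ((e * e) * n * (e * e)⁻¹) := by group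
    _ = (e * n * e⁻¹)⁻¹ * n := by rw [hee]; group
    _ = ((n : H)⁻¹ * (e * n * e⁻¹))⁻¹ := by group

theorem fpf_involution_abelian (N : Subgroup H) [Finite N] [hNn : N.Normal] (e : H) (hee : e * e = 1)
    (hfix : ∀ n ∈ N, e * n = n * e → n = 1) : ∀ a ∈ N, ∀ b ∈ N, a * b = b * a := by
  have hinv := fpf_involution_inverts N e hee hfix
  intro a ha b hb
  have h1 := hinv a ha
  have h2 := hinv b hb
  have h3 := hinv (a * b) (N.mul_mem ha hb)
  have h4 : e * (a * b) * e⁻¹ = (e * a * e⁻¹) * (e * b * e⁻¹) := by group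
  rw [h4, h1, h2] at h3
  -- a⁻¹ * b⁻¹ = (a * b)⁻¹ = b⁻¹ * a⁻¹
  have h5 : a⁻¹ * b⁻¹ = b⁻¹ * a⁻¹ := by rw [h3]; group
  have h6 := congrArg (fun t => t⁻¹) h5
  simp only [mul_inv_rev, inv_inv] at h6
  exact h6.symm

/-- S2009 core: the group is simple. -/
theorem fourGroup_simple [Finite H] (z : H) (hz : orderOf z = 2)
    (hN : ∀ N : Subgroup H, N.Normal → N ≠ ⊤ → N ⊓ Subgroup.centralizer ({z} : Set H) = ⊥)
    (E : Subgroup H) (hE : IsKleinFour ↥E) (hzE : z ∈ E) (hc : ∀ e ∈ E, e ≠ 1 → IsConj z e) :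
    IsSimpleGroup H := by
  have hz1 : z ≠ 1 := by
    intro h; rw [h, orderOf_one] at hz; norm_num at hz
  haveI : Nontrivial H := ⟨⟨z, 1, hz1⟩⟩
  refine ⟨fun N hNn => ?_⟩
  by_cases hNtop : N = ⊤
  · exact Or.inr hNtop
  · left
    have hNz := hN N hNn hNtop
    have hzz : z * z = 1 := by
      have := pow_orderOf_eq_one z
      rw [hz, pow_two] at this
      exact this
    have hfix : ∀ n ∈ N, z * n = n * z → n = 1 := by
      intro n hn hcomm
      have : n ∈ N ⊓ Subgroup.centralizer ({z} : Set H) :=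
        ⟨hn, Subgroup.mem_centralizer_singleton_iff.mpr hcomm.symm⟩
      rw [hNz, Subgroup.mem_bot] at this
      exact this
    have hab := fpf_involution_abelian N z hzz hfix
    exact fourGroup_abelian_normal_trivial z hN E hE hzE hc N hab

end Cfsg.Agent.Helper10
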