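import Mathlib
import Cfsg.Prelude.Def_Local
import Cfsg.Agent.Lib.Helper23.PSolvable
import Cfsg.Agent.Lib.Helper10.Alperin

set_option autoImplicit false

/-! Group-theoretic preliminaries for fusion systems of `p`-solvable groups: extensions of
`p`-groups by `p`-solvable groups, and conjugation of `p`-subgroups into a Sylow subgroup by
elements of a normal subgroup. -/

namespace Cfsg.Agent.Helper10.FusPSolv

open Cfsg Cfsg.Agent.Helper23.PSolv

variable {G : Type*} [Group G]

/-- an extension of a normal `p`-subgroup by a `p`-solvable group is `p`-solvable -/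
theorem isPSolvable_of_normal_pGroup [Finite G] {p : ℕ} [hp : Fact p.Prime] (N : Subgroup G)
    [hN : N.Normal] (hNp : IsPGroup p N) (h : IsPSolvable p (G ⧸ N)) : IsPSolvable p G := by
  obtain ⟨n, H, h0, hn, hmono, hnorm, hfac⟩ := h
  set π := QuotientGroup.mk' N with hπ
  have hπs : Function.Surjective π := QuotientGroup.mk'_surjective N
  let K : Fin (n + 1 + 1) → Subgroup G := Fin.cons ⊥ (fun i => (H i).comap π)
  have hK0 : K 0 = ⊥ := rfl
  have hKs : ∀ i : Fin (n + 1), K i.succ = (H i).comap π := fun i => by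
    show Fin.cons (α := fun _ => Subgroup G) ⊥ (fun i => (H i).comap π) i.succ = _
    rw [Fin.cons_succ]
  have hstep : ∀ i : Fin (n + 1), K i.castSucc ≤ K i.succ := by
    intro i
    induction i using Fin.cases with
    | zero => rw [Fin.castSucc_zero, hK0]; exact bot_le
    | succ j =>
      rw [← Fin.succ_castSucc, hKs, hKs]
      exact Subgroup.comap_mono (hmono (Fin.castSucc_le_succ j))
  refine ⟨n + 1, K, hK0, ?_, Fin.monotone_iff_le_succ.mpr hstep, ?_, ?_⟩
  · have : Fin.last (n + 1) = (Fin.last n).succ := rfl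
    rw [this, hKs, hn, Subgroup.comap_top]
  · intro i
    induction i using Fin.cases with
    | zero => rw [hK0]; infer_instance
    | succ j => rw [hKs]; exact (hnorm j).comap π
  · intro i
    induction i using Fin.cases with
    | zero =>
      left
      rw [Fin.castSucc_zero, hK0, hKs, h0, Subgroup.relIndex_bot_left]
      have hker : (⊥ : Subgroup (G ⧸ N)).comap π = N := by
        have : (⊥ : Subgroup (G ⧸ N)).comap π = π.ker := rfl
        rw [this, hπ, QuotientGroup.ker_mk']
      rw [hker]
      obtain ⟨m, hm⟩ := hNp.exists_card_eq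
      exact ⟨m, hm⟩
    | succ j =>
      have e : (K j.succ.castSucc).relIndex (K j.succ.succ) =
          (H j.castSucc).relIndex (H j.succ) := by
        rw [← Fin.succ_castSucc, hKs, hKs, Subgroup.relIndex_comap,
          Subgroup.map_comap_eq_self_of_surjective hπs]
      rw [e]
      exact hfac j

/-- a group with a homomorphism whose kernel is a `p`-group and whose range is `p`-solvable is
`p`-solvable -/
theorem isPSolvable_of_ker_pGroup [Finite G] {p : ℕ} [hp : Fact p.Prime] {H : Type*} [Group H]
    (f : G →* H) (hk : IsPGroup p f.ker) (h : IsPSolvable p f.range) : IsPSolvable p G := by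
  apply isPSolvable_of_normal_pGroup f.ker hk
  exact isPSolvable_of_mulEquiv (QuotientGroup.quotientKerEquivRange f).symm h

/-- a `p`-subgroup of `N T`, `N` normal and `T` a Sylow `p`-subgroup, is conjugate into `T` by an
element of `N` -/
theorem exists_conj_mem_sylow [Finite G] {p : ℕ} [hp : Fact p.Prime] (T : Sylow p G)
    (N : Subgroup G) [hN : N.Normal] (R : Subgroup G) (hR : IsPGroup p R)
    (hRK : R ≤ N ⊔ (T : Subgroup G)) : ∃ n ∈ N, ∀ y ∈ R, n⁻¹ * y * n ∈ (T : Subgroup G) := by
  have hidx : ¬ p ∣ (T : Subgroup G).relIndex (N ⊔ (T : Subgroup G)) := by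
    intro hdvd
    apply T.not_dvd_index
    rw [← Subgroup.relIndex_mul_index (le_sup_right : (T : Subgroup G) ≤ N ⊔ (T : Subgroup G))]
    exact Dvd.dvd.mul_right hdvd _
  obtain ⟨c, hc, hcR⟩ := Cfsg.Agent.Helper10.conj_into_relSylow (N ⊔ (T : Subgroup G))
    (T : Subgroup G) R le_sup_right T.isPGroup' hidx hRK hR
  rw [← SetLike.mem_coe, Subgroup.normal_mul] at hc
  obtain ⟨n, hn, t, ht, rfl⟩ := Set.mem_mul.mp hc
  refine ⟨n, hn, fun y hy => ?_⟩
  have h1 : (n * t)⁻¹ * y * (n * t) ∈ (T : Subgroup G) := by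
    apply hcR
    rw [Cfsg.Agent.Helper10.mem_rcg]
    have : n * t * ((n * t)⁻¹ * y * (n * t)) * (n * t)⁻¹ = y := by group
    rw [this]; exact hy
  have h2 : n⁻¹ * y * n = t * ((n * t)⁻¹ * y * (n * t)) * t⁻¹ := by group
  rw [h2]
  exact (T : Subgroup G).mul_mem ((T : Subgroup G).mul_mem ht h1) ((T : Subgroup G).inv_mem ht)

end Cfsg.Agent.Helper10.FusPSolv
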