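import Mathlib
import Cfsg.Prelude.Def_FusionSystem
import Cfsg.Prelude.Def_Local
import Cfsg.Agent.Lib.Helper10.FusPSolvA
import Cfsg.Agent.Lib.Helper25.FusionModel
import Cfsg.Agent.Lib.Helper25.FusionNormal
import Cfsg.Agent.Lib.Helper25.FusionRealized
import Cfsg.Agent.Lib.Helper26.RealizedNormal

set_option autoImplicit false

/-! Models of fusion systems and `p`-solvability: in a model `G` of `F`, the image of `O_p(F)` is
`O_p(G)`, and `G` is `p`-solvable iff `Aut_F(O_p(F))` is. -/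

namespace Cfsg.Agent.Helper10.FusPSolv

open Cfsg Cfsg.FusionSystem Cfsg.Agent.Helper25 Cfsg.Agent.Helper26 Cfsg.Agent.Helper23.PSolv

variable {Ω : Type*} [Group Ω] {S : Subgroup Ω} {G : Type*} [Group G]

section model

variable [Finite S] {p : ℕ} [hp : Fact p.Prime] (F : FusionSystem S) {ι : S →* G}

theorem pCore_le_range_of_isModel (hm : F.IsModel p G ι) : pCore p G ≤ ι.range := by
  obtain ⟨hfin, hreal, ⟨T, hT⟩, hcen⟩ := hm
  have := hfin
  have hUn : (pCore p G).Normal := Cfsg.Agent.Helper25.pCore_normal p G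
  rw [← hT]
  exact normal_pGroup_le_sylow _ (isPGroup_pCore p G) T

theorem isNormal_pb_pCore (hm : F.IsModel p G ι) : F.IsNormal (pbSub ι (pCore p G)) := by
  have hUT := pCore_le_range_of_isModel F hm
  obtain ⟨hfin, hreal, ⟨T, hT⟩, hcen⟩ := hm
  have := hfin
  have hι := hreal.1
  have hUn : (pCore p G).Normal := Cfsg.Agent.Helper25.pCore_normal p G
  refine ⟨pbSub_le ι _, fun P φ hφ => ?_⟩
  have hPS := (F.le_of_mem hφ).1
  have hφS := (F.le_of_mem hφ).2
  obtain ⟨g, hg⟩ := (hreal.2 P hPS φ hφS).mp hφ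
  have hle : P ⊔ pbSub ι (pCore p G) ≤ S := sup_le hPS (pbSub_le ι _)
  have hM : P ⊔ pbSub ι (pCore p G) ≤
      pbSub ι (ι.range.comap (MulAut.conj g).toMonoidHom) := by
    apply sup_le
    · intro x hx
      refine mem_pbSub.mpr ⟨hPS hx, ?_⟩
      show g * ι ⟨x, hPS hx⟩ * g⁻¹ ∈ ι.range
      rw [← hg ⟨x, hx⟩]
      exact ⟨_, rfl⟩
    · intro y hy
      obtain ⟨hyS, hyU⟩ := mem_pbSub.mp hy
      refine mem_pbSub.mpr ⟨hyS, ?_⟩
      show g * ι ⟨y, hyS⟩ * g⁻¹ ∈ ι.range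
      exact hUT (hUn.conj_mem _ hyU g)
  have hrange : ∀ y : ↥(P ⊔ pbSub ι (pCore p G)), g * ι ⟨y, hle y.2⟩ * g⁻¹ ∈ ι.range :=
    fun y => (mem_pbSub.mp (hM y.2)).2
  obtain ⟨ψ, hψ, hψS, hιψ⟩ := exists_hom_of_conj F hreal hle g hrange
  refine ⟨ψ, hψ, fun x => ?_, ?_⟩
  · have h1 := hιψ (Subgroup.inclusion le_sup_left x)
    have h2 := hg x
    have h3 : ι ⟨ψ (Subgroup.inclusion le_sup_left x), hψS _⟩ = ι ⟨φ x, hφS x⟩ := by
      rw [h1, h2]; rfl
    exact congrArg Subtype.val (hι h3)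
  · apply le_antisymm
    · rintro _ ⟨y, hy, rfl⟩
      have hyQ : (y : Ω) ∈ pbSub ι (pCore p G) := Subgroup.mem_subgroupOf.mp hy
      refine mem_pbSub.mpr ⟨hψS y, ?_⟩
      rw [hιψ y]
      exact hUn.conj_mem _ (map_mem_of_mem_pbSub hyQ _) g
    · intro z hz
      obtain ⟨hzS, hzU⟩ := mem_pbSub.mp hz
      have h1 : g⁻¹ * ι ⟨z, hzS⟩ * g ∈ pCore p G := by
        have := hUn.conj_mem _ hzU g⁻¹
        simpa using this
      obtain ⟨y', hy'⟩ := hUT h1
      have hy'Q : (y' : Ω) ∈ pbSub ι (pCore p G) := by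
        refine mem_pbSub.mpr ⟨y'.2, ?_⟩
        have e : (⟨(y' : Ω), y'.2⟩ : S) = y' := rfl
        rw [e, hy']; exact h1
      have hy'M : (y' : Ω) ∈ P ⊔ pbSub ι (pCore p G) :=
        (le_sup_right : pbSub ι (pCore p G) ≤ P ⊔ pbSub ι (pCore p G)) hy'Q
      refine ⟨⟨y', hy'M⟩, Subgroup.mem_subgroupOf.mpr hy'Q, ?_⟩
      have h2 := hιψ ⟨y', hy'M⟩
      have h3 : ι ⟨ψ ⟨y', hy'M⟩, hψS _⟩ = ι ⟨z, hzS⟩ := by
        rw [h2]
        have e : (⟨((⟨(y' : Ω), hy'M⟩ : ↥(P ⊔ pbSub ι (pCore p G))) : Ω),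
          hle hy'M⟩ : S) = y' := rfl
        rw [e, hy']
        group
      exact congrArg Subtype.val (hι h3)

theorem isCentric_pb_pCore (hm : F.IsModel p G ι) : F.IsCentric (pbSub ι (pCore p G)) := by
  have hn := isNormal_pb_pCore F hm
  have hUT := pCore_le_range_of_isModel F hm
  obtain ⟨hfin, hreal, ⟨T, hT⟩, hcen⟩ := hm
  have := hfin
  have hι := hreal.1
  refine ⟨hn.1, fun Q' hconj => ?_⟩
  obtain ⟨φ, hφ, hr⟩ := hconj
  have hsc := stronglyClosed_of_isNormal F hn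
  have hQ' : Q' = pbSub ι (pCore p G) := by
    rw [← hr]
    have hfinQ : Finite ↥(pbSub ι (pCore p G)) :=
      Finite.of_injective (Subgroup.inclusion hn.1) (Subgroup.inclusion_injective hn.1)
    apply Subgroup.eq_of_le_of_card_ge
    · rintro _ ⟨x, rfl⟩
      exact hsc.2 _ le_rfl φ hφ x
    · rw [Nat.card_congr (MonoidHom.ofInjective (F.injective_of_mem hφ)).toEquiv]
  rw [hQ']
  rintro y ⟨hyS, hyC⟩
  refine mem_pbSub.mpr ⟨hyS, hcen ?_⟩
  rw [Subgroup.mem_centralizer_iff]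
  intro u hu
  obtain ⟨u₀, rfl⟩ := hUT hu
  have hu₀ : (u₀ : Ω) ∈ pbSub ι (pCore p G) := mem_pbSub.mpr ⟨u₀.2, hu⟩
  have h1 : (u₀ : Ω) * y = y * u₀ := Subgroup.mem_centralizer_iff.mp hyC u₀ hu₀
  rw [← map_mul, ← map_mul]
  congr 1
  exact Subtype.ext h1

theorem imgSub_core_eq_pCore (hS : IsPGroup p S) (hm : F.IsModel p G ι) :
    imgSub ι F.core = pCore p G := by
  have hn1 := isNormal_pb_pCore F hm
  have hUT := pCore_le_range_of_isModel F hm
  have hnorm := normal_map_of_isNormal_of_isModel p F ι hm (isNormal_core F)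
  have := hm.1
  apply le_antisymm
  · apply Cfsg.Agent.Helper25.le_pCore hnorm
    exact (hS.to_subgroup _).map ι
  · have h1 : pbSub ι (pCore p G) ≤ F.core := le_sSup hn1
    calc pCore p G = ι.range ⊓ pCore p G := (inf_eq_right.mpr hUT).symm
      _ = imgSub ι (pbSub ι (pCore p G)) := (imgSub_pbSub ι _).symm
      _ ≤ imgSub ι F.core := imgSub_mono ι h1

end model

section aut

variable (F : FusionSystem S) {ι : S →* G}

/-- the isomorphism of `Q ≤ S` onto its image in `G` -/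
noncomputable def imgEquiv (ι : S →* G) (hι : Function.Injective ι) {Q : Subgroup Ω} (hQ : Q ≤ S) :
    ↥Q ≃* ↥(imgSub ι Q) :=
  (Subgroup.subgroupOfEquivOfLe hQ).symm.trans ((Q.subgroupOf S).equivMapOfInjective ι hι)

theorem coe_imgEquiv (hι : Function.Injective ι) {Q : Subgroup Ω} (hQ : Q ≤ S) (x : Q) :
    ((imgEquiv ι hι hQ x : ↥(imgSub ι Q)) : G) = ι ⟨x, hQ x.2⟩ := rfl

theorem coe_imgEquiv_symm (hι : Function.Injective ι) {Q : Subgroup Ω} (hQ : Q ≤ S)
    (u : ↥(imgSub ι Q)) :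
    ι ⟨((imgEquiv ι hι hQ).symm u : Q), hQ ((imgEquiv ι hι hQ).symm u).2⟩ = (u : G) := by
  rw [← coe_imgEquiv hι hQ, MulEquiv.apply_symm_apply]

theorem map_autGroup_eq_range (hreal : F.IsRealizedBy ι) {Q : Subgroup Ω} (hQ : Q ≤ S)
    [hn : (imgSub ι Q).Normal] :
    (F.autGroup Q).map (MulAut.congr (imgEquiv ι hreal.1 hQ)).toMonoidHom =
      (MulAut.conjNormal (H := imgSub ι Q)).range := by
  have hι := hreal.1
  apply le_antisymm
  · unfold FusionSystem.autGroup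
    rw [MonoidHom.map_closure, Subgroup.closure_le]
    rintro _ ⟨α, hα, rfl⟩
    have hφS : ∀ x : Q, (Q.subtype.comp α.toMonoidHom) x ∈ S := (F.le_of_mem hα).2
    obtain ⟨g, hg⟩ := (hreal.2 Q hQ _ hφS).mp hα
    refine ⟨g, ?_⟩
    apply MulEquiv.ext
    intro u
    apply Subtype.ext
    rw [MulAut.conjNormal_apply]
    show _ = ((imgEquiv ι hι hQ (α ((imgEquiv ι hι hQ).symm u)) : ↥(imgSub ι Q)) : G)
    rw [coe_imgEquiv]
    have h1 := hg ((imgEquiv ι hι hQ).symm u)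
    rw [coe_imgEquiv_symm] at h1
    exact h1.symm
  · rintro _ ⟨g, rfl⟩
    have hgn : g ∈ Subgroup.normalizer ((imgSub ι Q : Subgroup G) : Set G) := by
      rw [Subgroup.normalizer_eq_top_iff.mpr hn]; exact Subgroup.mem_top g
    obtain ⟨β, hβ, hβx⟩ := exists_aut_of_normalizer F hreal hQ g hgn
    refine ⟨β, hβ, ?_⟩
    apply MulEquiv.ext
    intro u
    apply Subtype.ext
    rw [MulAut.conjNormal_apply]
    show ((imgEquiv ι hι hQ (β ((imgEquiv ι hι hQ).symm u)) : ↥(imgSub ι Q)) : G) = _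
    rw [coe_imgEquiv, hβx, coe_imgEquiv_symm]

end aut

section main

variable [Finite S] {p : ℕ} [hp : Fact p.Prime] (F : FusionSystem S) {ι : S →* G}

theorem isPSolvable_iff_of_isModel (hS : IsPGroup p S) (hm : F.IsModel p G ι) :
    IsPSolvable p G ↔ IsPSolvable p ↥(F.autGroup F.core) := by
  have hUeq := imgSub_core_eq_pCore F hS hm
  have hQS : F.core ≤ S := (isNormal_core F).1
  have hn : (imgSub ι F.core).Normal := normal_map_of_isNormal_of_isModel p F ι hm (isNormal_core F)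
  obtain ⟨hfin, hreal, ⟨T, hT⟩, hcen⟩ := hm
  have := hfin
  have hι := hreal.1
  have hmap := map_autGroup_eq_range F hreal hQS
  set θ : G →* MulAut ↥(imgSub ι F.core) := MulAut.conjNormal with hθ
  have hker : IsPGroup p θ.ker := by
    apply (isPGroup_pCore p G).to_le
    intro x hx
    apply hcen
    rw [Subgroup.mem_centralizer_iff]
    intro u hu
    have hu' : u ∈ imgSub ι F.core := by rw [hUeq]; exact hu
    have h1 : θ x ⟨u, hu'⟩ = ⟨u, hu'⟩ := by
      rw [MonoidHom.mem_ker.mp hx]; rfl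
    have h2 : x * u * x⁻¹ = u := by
      have := congrArg Subtype.val h1
      rwa [hθ, MulAut.conjNormal_apply] at this
    calc u * x = (x * u * x⁻¹) * x := by rw [h2]
      _ = x * u := by group
  have e1 : ↥(F.autGroup F.core) ≃*
      ↥((F.autGroup F.core).map (MulAut.congr (imgEquiv ι hι hQS)).toMonoidHom) :=
    Subgroup.equivMapOfInjective _ _ (MulAut.congr (imgEquiv ι hι hQS)).injective
  constructor
  · intro h
    have h1 : IsPSolvable p θ.range :=
      isPSolvable_of_surjective θ.rangeRestrict θ.rangeRestrict_surjective h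
    rw [← hmap] at h1
    exact isPSolvable_of_mulEquiv e1.symm h1
  · intro h
    have h1 := isPSolvable_of_mulEquiv e1 h
    rw [hmap] at h1
    exact isPSolvable_of_ker_pGroup θ hker h1

end main

end Cfsg.Agent.Helper10.FusPSolv
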