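import Mathlib
import Cfsg.Prelude.Def_FusionSystem
import Cfsg.Prelude.Def_Local
import Cfsg.Agent.Lib.Helper10.FusPSolvB
import Cfsg.Agent.Lib.Helper23.PSolvable

set_option autoImplicit false

/-! A `p`-solvable group realizing a fusion system on a Sylow `p`-subgroup gives, modulo its
largest normal `p'`-subgroup, a model of the system. -/

namespace Cfsg.Agent.Helper10.FusPSolv

open Cfsg Cfsg.FusionSystem Cfsg.Agent.Helper25 Cfsg.Agent.Helper26 Cfsg.Agent.Helper23.PSolv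

variable {Ω : Type*} [Group Ω] {S : Subgroup Ω} {G : Type*} [Group G]

theorem isModel_quotient [Finite G] {p : ℕ} [hp : Fact p.Prime] (F : FusionSystem S) {ι : S →* G}
    (hsolv : IsPSolvable p G) (hreal : F.IsRealizedBy ι) (T : Sylow p G)
    (hT : (T : Subgroup G) = ι.range) :
    haveI := Cfsg.Agent.Helper22.pPrimeCore_normal (G := G) p
    F.IsModel p (G ⧸ pPrimeCore p G) ((QuotientGroup.mk' (pPrimeCore p G)).comp ι) := by
  have hNn := Cfsg.Agent.Helper22.pPrimeCore_normal (G := G) p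
  have hcop : (Nat.card (pPrimeCore p G)).Coprime p := Cfsg.Agent.Helper22.card_pPrimeCore_coprime p
  set N := pPrimeCore p G with hN
  set π := QuotientGroup.mk' N with hπ
  have hι := hreal.1
  have hπ1 : ∀ x : G, π x = 1 ↔ x ∈ N := fun x => by
    rw [hπ, QuotientGroup.mk'_apply, QuotientGroup.eq_one_iff]
  have hdisj : N ⊓ (T : Subgroup G) = ⊥ := by
    obtain ⟨k, hk⟩ := (IsPGroup.iff_card.mp T.2)
    have h1 : (Nat.card N).Coprime (Nat.card (T : Subgroup G)) := by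
      rw [hk]; exact hcop.pow_right k
    exact (Subgroup.disjoint_of_coprime_natCard h1).eq_bot
  have hNT : ∀ x : G, x ∈ N → x ∈ ι.range → x = 1 := by
    intro x h1 h2
    have h3 : x ∈ N ⊓ (T : Subgroup G) := ⟨h1, by rw [hT]; exact h2⟩
    rwa [hdisj, Subgroup.mem_bot] at h3
  have hinj : Function.Injective (π.comp ι) := by
    rw [injective_iff_map_eq_one]
    intro x hx
    have h1 : ι x ∈ N := (hπ1 _).mp hx
    exact hι ((hNT _ h1 ⟨x, rfl⟩).trans (map_one ι).symm)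
  refine ⟨inferInstance, ⟨hinj, ?_⟩, ?_, ?_⟩
  · intro P hPS φ hφS
    constructor
    · intro hφ
      obtain ⟨g, hg⟩ := (hreal.2 P hPS φ hφS).mp hφ
      refine ⟨π g, fun x => ?_⟩
      show π (ι ⟨φ x, hφS x⟩) = π g * π (ι _) * (π g)⁻¹
      rw [hg x, map_mul, map_mul, map_inv]
    · rintro ⟨gbar, hg⟩
      obtain ⟨g, rfl⟩ := QuotientGroup.mk'_surjective N gbar
      have hg' : ∀ x : P, π (ι ⟨φ x, hφS x⟩) = π (g * ι ⟨x, hPS x.2⟩ * g⁻¹) := by
        intro x
        rw [map_mul, map_mul, map_inv]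
        exact hg x
      have hrel : ∀ x : P, g * ι ⟨x, hPS x.2⟩ * g⁻¹ * (ι ⟨φ x, hφS x⟩)⁻¹ ∈ N := by
        intro x
        rw [← hπ1, map_mul, map_inv, hg' x, mul_inv_cancel]
      have hRp : IsPGroup p ((imgSub ι P).map (MulAut.conj g).toMonoidHom) := by
        apply IsPGroup.map
        apply T.2.to_le
        rw [hT]
        exact imgSub_le_range ι P
      have hRK : (imgSub ι P).map (MulAut.conj g).toMonoidHom ≤ N ⊔ (T : Subgroup G) := by
        rintro _ ⟨y, hy, rfl⟩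
        obtain ⟨x, hx, rfl⟩ := mem_imgSub.mp hy
        show g * ι x * g⁻¹ ∈ N ⊔ (T : Subgroup G)
        have h1 := hrel ⟨x, hx⟩
        have h2 : ι ⟨φ ⟨x, hx⟩, hφS _⟩ ∈ (T : Subgroup G) := by rw [hT]; exact ⟨_, rfl⟩
        have h3 := Subgroup.mul_mem_sup h1 h2
        simpa using h3
      obtain ⟨n, hn, hconj⟩ := exists_conj_mem_sylow T N _ hRp hRK
      have hrange : ∀ x : P, (n⁻¹ * g) * ι ⟨x, hPS x.2⟩ * (n⁻¹ * g)⁻¹ ∈ ι.range := by
        intro x
        rw [← hT]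
        have h1 : g * ι ⟨x, hPS x.2⟩ * g⁻¹ ∈ (imgSub ι P).map (MulAut.conj g).toMonoidHom :=
          ⟨ι ⟨x, hPS x.2⟩, mem_imgSub.mpr ⟨⟨x, hPS x.2⟩, x.2, rfl⟩, rfl⟩
        have h2 := hconj _ h1
        have e : (n⁻¹ * g) * ι ⟨x, hPS x.2⟩ * (n⁻¹ * g)⁻¹ =
            n⁻¹ * (g * ι ⟨x, hPS x.2⟩ * g⁻¹) * n := by group
        rw [e]; exact h2
      obtain ⟨ψ, hψ, hψS, hιψ⟩ := exists_hom_of_conj F hreal hPS (n⁻¹ * g) hrange
      have hψφ : ψ = φ := by
        apply MonoidHom.ext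
        intro x
        have h1 : (ι ⟨ψ x, hψS x⟩)⁻¹ * ι ⟨φ x, hφS x⟩ ∈ N := by
          rw [← hπ1, map_mul, map_inv, hg' x, hιψ x]
          have hn1 : π n = 1 := (hπ1 n).mpr hn
          simp only [map_mul, map_inv, hn1, mul_inv_rev, inv_one, one_mul, mul_one, inv_inv]
          group
        have h2 : (ι ⟨ψ x, hψS x⟩)⁻¹ * ι ⟨φ x, hφS x⟩ ∈ ι.range :=
          ι.range.mul_mem (ι.range.inv_mem ⟨_, rfl⟩) ⟨_, rfl⟩
        have h3 := hNT _ h1 h2
        have h4 : ι ⟨ψ x, hψS x⟩ = ι ⟨φ x, hφS x⟩ := by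
          rw [inv_mul_eq_one] at h3; exact h3
        exact congrArg Subtype.val (hι h4)
      rw [← hψφ]; exact hψ
  · refine ⟨T.mapSurjective (QuotientGroup.mk'_surjective N), ?_⟩
    rw [Sylow.coe_mapSurjective, hT, MonoidHom.range_comp]
  · exact centralizer_pCore_le (isPSolvable_quotient _ hsolv) (pPrimeCore_quotient_pPrimeCore p)

end Cfsg.Agent.Helper10.FusPSolv
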