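import Mathlib
import Cfsg.Agent.Lib.Helper20.GL4SubDefs

set_option autoImplicit false

/-! Piece G45 of S2553: a group of order 45 has an element of order 15. -/

namespace Cfsg.Agent.Helper20.GL4Sub

namespace G45

/-- the order of a Sylow subgroup from a factorization of the group order -/
theorem card_sylow_of_card {T : Type*} [Group T] [Finite T] (p a m : ℕ) [Fact p.Prime]
    (hT : Nat.card T = p ^ a * m) (hm : ¬ p ∣ m) (P : Sylow p T) : Nat.card P = p ^ a := by
  have hp : p.Prime := Fact.out
  have hm0 : m ≠ 0 := by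
    rintro rfl
    exact hm (dvd_zero p)
  rw [P.card_eq_multiplicity, hT, Nat.factorization_mul (pow_ne_zero a hp.ne_zero) hm0]
  simp [Nat.factorization_eq_zero_of_not_dvd hm, hp.factorization_pow]

/-- a unique Sylow subgroup is normal -/
theorem sylow_normal_of_card_eq_one {T : Type*} [Group T] [Finite T] (p : ℕ) [Fact p.Prime]
    (h : Nat.card (Sylow p T) = 1) (P : Sylow p T) : (P : Subgroup T).Normal := by
  haveI : Subsingleton (Sylow p T) := (Nat.card_eq_one_iff_unique.1 h).1
  exact Sylow.normal_of_subsingleton P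

end G45

/-- G45 -/
theorem ord45 : Ord45 := by
  intro T _ _ hT
  haveI : Fact (Nat.Prime 5) := ⟨by norm_num⟩
  haveI : Fact (Nat.Prime 3) := ⟨by norm_num⟩
  obtain ⟨P5⟩ : Nonempty (Sylow 5 T) := inferInstance
  obtain ⟨P3⟩ : Nonempty (Sylow 3 T) := inferInstance
  have hc5 : Nat.card P5 = 5 := by
    have := G45.card_sylow_of_card 5 1 9 (by rw [hT]; norm_num) (by norm_num) P5
    simpa using this
  have hc3 : Nat.card P3 = 9 := by
    have := G45.card_sylow_of_card 3 2 5 (by rw [hT]; norm_num) (by norm_num) P3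
    simpa using this
  -- the number of Sylow 5-subgroups
  have hn5 : Nat.card (Sylow 5 T) = 1 := by
    have h1 : Nat.card (Sylow 5 T) ≡ 1 [MOD 5] := card_sylow_modEq_one 5 T
    have h2 : Nat.card (Sylow 5 T) ∣ (P5 : Subgroup T).index := Sylow.card_dvd_index P5
    have h3 : (P5 : Subgroup T).index = 9 := by
      have := (P5 : Subgroup T).card_mul_index
      rw [hc5, hT] at this
      omega
    rw [h3] at h2
    have h4 : Nat.card (Sylow 5 T) ≤ 9 := Nat.le_of_dvd (by norm_num) h2
    have h5 := h1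
    unfold Nat.ModEq at h5
    interval_cases h : Nat.card (Sylow 5 T) <;> simp_all
  have hn3 : Nat.card (Sylow 3 T) = 1 := by
    have h1 : Nat.card (Sylow 3 T) ≡ 1 [MOD 3] := card_sylow_modEq_one 3 T
    have h2 : Nat.card (Sylow 3 T) ∣ (P3 : Subgroup T).index := Sylow.card_dvd_index P3
    have h3 : (P3 : Subgroup T).index = 5 := by
      have := (P3 : Subgroup T).card_mul_index
      rw [hc3, hT] at this
      omega
    rw [h3] at h2
    have h4 : Nat.card (Sylow 3 T) ≤ 5 := Nat.le_of_dvd (by norm_num) h2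
    have h5 := h1
    unfold Nat.ModEq at h5
    interval_cases h : Nat.card (Sylow 3 T) <;> simp_all
  have hN5 : (P5 : Subgroup T).Normal := G45.sylow_normal_of_card_eq_one 5 hn5 P5
  have hN3 : (P3 : Subgroup T).Normal := G45.sylow_normal_of_card_eq_one 3 hn3 P3
  have hdisj : Disjoint (P5 : Subgroup T) (P3 : Subgroup T) := by
    have hcop : (Nat.card (P5 : Subgroup T)).Coprime (Nat.card (P3 : Subgroup T)) := by
      rw [hc5, hc3]; norm_num
    exact Subgroup.disjoint_of_coprime_natCard hcop
  -- elements of order 5 and 3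
  obtain ⟨a, ha⟩ := exists_prime_orderOf_dvd_card' (G := (P5 : Subgroup T)) 5 (by rw [hc5])
  obtain ⟨b, hb⟩ := exists_prime_orderOf_dvd_card' (G := (P3 : Subgroup T)) 3 (by rw [hc3]; norm_num)
  have ha' : orderOf (a : T) = 5 := by rw [Subgroup.orderOf_coe]; exact ha
  have hb' : orderOf (b : T) = 3 := by rw [Subgroup.orderOf_coe]; exact hb
  have hcomm : Commute (a : T) (b : T) :=
    Subgroup.commute_of_normal_of_disjoint _ _ hN5 hN3 hdisj a b a.2 b.2
  refine ⟨(a : T) * (b : T), ?_⟩
  rw [hcomm.orderOf_mul_eq_mul_orderOf_of_coprime (by rw [ha', hb']; norm_num), ha', hb']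

end Cfsg.Agent.Helper20.GL4Sub
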