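import Mathlib
import Cfsg.Agent.Lib.Helper20.GL4SubDefs
import Cfsg.Agent.Lib.Helper2.CardSL
import Cfsg.Agent.S0496
import Cfsg.Agent.S0998
import Cfsg.Agent.S1016

set_option autoImplicit false

/-! Piece ORDERS of S2553: the orders of the nonabelian simple subgroups of the alternating
group of degree 8. -/

namespace Cfsg.Agent.Helper20.GL4Sub

namespace ORDERS

/-- the order of the projective special linear group of degree 2 over a field with 5 elements -/
theorem card_PSL2_five (F : Type) [Field F] [Fintype F] (hF : Fintype.card F = 5) :
    Nat.card (Matrix.ProjectiveSpecialLinearGroup (Fin 2) F) = 60 := by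
  have h := Cfsg.Agent.Helper2.card_PSL_mul (F := F) 2 (by norm_num)
  rw [hF, Fin.prod_univ_two] at h
  norm_num at h
  omega

/-- the order of the projective special linear group of degree 2 over a field with 7 elements -/
theorem card_PSL2_seven (F : Type) [Field F] [Fintype F] (hF : Fintype.card F = 7) :
    Nat.card (Matrix.ProjectiveSpecialLinearGroup (Fin 2) F) = 168 := by
  have h := Cfsg.Agent.Helper2.card_PSL_mul (F := F) 2 (by norm_num)
  rw [hF, Fin.prod_univ_two] at h
  norm_num at h
  omega

/-- no simple group has order 1344 -/
theorem not_card_1344 {G : Type*} [Group G] [Finite G] [IsSimpleGroup G]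
    (hna : ¬ IsMulCommutative G) : Nat.card G ≠ 1344 := by
  intro h
  have hcyc : ¬ IsCyclic G := by
    intro hc
    exact hna inferInstance
  rcases Cfsg.Agent.S0998.result hcyc 7 2 3 6 (by norm_num) (by norm_num) (by norm_num)
      (by norm_num) (by norm_num) (by norm_num) (by rw [h]; norm_num) with
    ⟨F, _, _, hF, ⟨e⟩⟩ | ⟨F, _, _, hF, ⟨e⟩⟩
  · have := Nat.card_congr e.toEquiv
    rw [card_PSL2_five F hF, h] at this
    omega
  · have := Nat.card_congr e.toEquiv
    rw [card_PSL2_seven F hF, h] at this
    omega

end ORDERS

/-- ORDERS -/
theorem simple_orders (h8 : Idx8) (hT : SevenTest) : Orders := by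
  intro S hS hna
  have hS' : IsSimpleGroup S := hS
  by_cases htop : S = ⊤
  · right; right; right; right
    rw [htop, Subgroup.card_top, card_A8]
  have hidx := h8 S htop
  have hci : Nat.card S * S.index = 20160 := by rw [S.card_mul_index, card_A8]
  have h7 : 7 ∣ Nat.card S → 21 ∣ Nat.card S ∧ (Nat.card S / 21) % 7 = 1 := hT S hS hna
  by_cases h1092 : Nat.card S ≤ 1092
  · rcases Cfsg.Agent.S0496.result hna h1092 with h | h | h | h | h | h
    · exact Or.inl h
    · exact Or.inr (Or.inl h)
    · exact Or.inr (Or.inr (Or.inl h))
    · exfalso
      rw [h] at h7
      have := (h7 (by norm_num)).2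
      norm_num at this
    · exfalso
      rw [h] at hci
      omega
    · exfalso
      rw [h] at hci
      omega
  · have h1092' : 1092 < Nat.card S := not_le.mp h1092
    have hk : S.index ≤ 18 := by
      by_contra hcon
      have hcon' : 19 ≤ S.index := by omega
      nlinarith
    generalize S.index = k at *
    generalize hc : Nat.card S = c at *
    have h1016 : c ≠ 1440 := by
      rw [← hc]
      exact Cfsg.Agent.S1016.result
    have h1344 : c ≠ 1344 := by
      rw [← hc]
      exact ORDERS.not_card_1344 hna
    interval_cases k
    all_goals first
      | omega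
      | (have hc2 : c = 2520 := by omega
         exact Or.inr (Or.inr (Or.inr (Or.inl hc2))))
      | (exfalso
         have hc2 : c = 2240 := by omega
         rw [hc2] at h7
         have := (h7 (by norm_num)).1
         omega)
      | (exfalso
         have hc2 : c = 1120 := by omega
         rw [hc2] at h7
         have := (h7 (by norm_num)).1
         omega)
      | (exfalso
         have hc2 : c = 2016 := by omega
         rw [hc2] at h7
         have := (h7 (by norm_num)).2
         norm_num at this)
      | (exfalso
         have hc2 : c = 1680 := by omega
         rw [hc2] at h7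
         have := (h7 (by norm_num)).2
         norm_num at this)
      | (exfalso
         have hc2 : c = 1260 := by omega
         rw [hc2] at h7
         have := (h7 (by norm_num)).2
         norm_num at this)

end Cfsg.Agent.Helper20.GL4Sub
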