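import Mathlib
import Cfsg.Agent.Lib.Helper20.GL4SubDefs

set_option autoImplicit false

/-! Piece SEVENTEST of S2553: the Sylow 7 test for nonabelian simple subgroups of the
alternating group of degree 8. -/

namespace Cfsg.Agent.Helper20.GL4Sub

namespace SEVENTEST

/-- the order of a Sylow subgroup from a factorization of the group order -/
theorem card_sylow_of_card {T : Type*} [Group T] [Finite T] (p a m : ℕ) [Fact p.Prime]
    (hT : Nat.card T = p ^ a * m) (hm : ¬ p ∣ m) (P : Sylow p T) : Nat.card P = p ^ a := by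
  have hp : p.Prime := Fact.out
  have hm0 : m ≠ 0 := by
    rintro rfl
    exact hm (dvd_zero p)
  rw [P.card_eq_multiplicity, hT, Nat.factorization_mul (pow_ne_zero a hp.ne_zero) hm0]
  simp [Nat.factorization_eq_zero_of_not_dvd hm, hp.factorization_pow]

/-- the order of a subgroup of the alternating group of degree 8 divides 20160 -/
theorem card_dvd (S : Subgroup A8) : Nat.card S ∣ 20160 := by
  rw [← card_A8]
  exact Subgroup.card_subgroup_dvd_card S

end SEVENTEST

/-- SEVENTEST -/
theorem seven_test (hs : N7S) : SevenTest := by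
  intro S hS hna h7
  haveI : Fact (Nat.Prime 7) := ⟨by norm_num⟩
  obtain ⟨P'⟩ : Nonempty (Sylow 7 S) := inferInstance
  obtain ⟨m, hm⟩ := h7
  have hdvd := SEVENTEST.card_dvd S
  have hm7 : ¬ 7 ∣ m := by
    rintro ⟨k, rfl⟩
    rw [hm] at hdvd
    have h49 : 49 ∣ 20160 := Dvd.dvd.trans ⟨k, by ring⟩ hdvd
    omega
  have hcP' : Nat.card P' = 7 := by
    have := SEVENTEST.card_sylow_of_card 7 1 m (by rw [hm]; ring) hm7 P'
    simpa using this
  set P : Subgroup A8 := (P' : Subgroup S).map S.subtype with hP
  have hPS : P ≤ S := Subgroup.map_subtype_le _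
  have hcP : Nat.card P = 7 := by
    rw [hP, Subgroup.card_subtype]; exact hcP'
  have h21 := hs S hS hna P hPS hcP
  have hPof : P.subgroupOf S = (P' : Subgroup S) := by
    rw [hP]
    exact Subgroup.comap_map_eq_self_of_injective S.subtype_injective _
  -- the normalizer of `P'` inside `S`
  have hnorm : Subgroup.normalizer ((P' : Subgroup S) : Set S) =
      (S ⊓ Subgroup.normalizer (P : Set A8) : Subgroup A8).subgroupOf S := by
    rw [Subgroup.inf_subgroupOf_left, Subgroup.subgroupOf_normalizer_eq hPS, hPof]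
  have hcN : Nat.card (Subgroup.normalizer ((P' : Subgroup S) : Set S)) = 21 := by
    rw [hnorm, ← h21]
    exact Nat.card_congr (Subgroup.subgroupOfEquivOfLe inf_le_left).toEquiv
  have hidx : Nat.card (Sylow 7 S) * 21 = Nat.card S := by
    rw [Sylow.card_eq_index_normalizer P', ← hcN, mul_comm]
    exact Subgroup.card_mul_index _
  have hmod : Nat.card (Sylow 7 S) ≡ 1 [MOD 7] := card_sylow_modEq_one 7 S
  refine ⟨⟨Nat.card (Sylow 7 S), by rw [← hidx, mul_comm]⟩, ?_⟩
  rw [← hidx, Nat.mul_div_cancel _ (by norm_num : 0 < 21)]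
  exact hmod

end Cfsg.Agent.Helper20.GL4Sub
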