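import Mathlib
import Cfsg.Agent.Lib.Helper10.GTSec
import Cfsg.Agent.Lib.Helper10.SecInduced
import Cfsg.Agent.Lib.Helper10.SecApply

set_option autoImplicit false

/-! The relative Glauberman--Thompson reduction for the functor induced by an
isomorphism-invariant `p`-group functor, over the class of sections of a group. -/

namespace Cfsg.Agent.Helper10.GTS

universe u

open Cfsg Cfsg.Agent.Helper10

variable {p : ℕ} [hpp : Fact p.Prime] {W : ∀ (Q : Type u) [Group Q], Subgroup Q}

/-- the characteristic functor induced by an isomorphism-invariant `p`-group functor -/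
def indCharFun (hW : IsCharPFunctor.{u} p W) : CharFun0.{u} p where
  W := fun X _ R => inducedFunctor (G := X) W R
  le_self := fun X _ R => indW_le R
  ne_bot := by
    intro X _ _ R hR hR1
    have h1 : W ↥R ≠ ⊥ := hW.1 ↥R hR ((Subgroup.nontrivial_iff_ne_bot R).mpr hR1)
    unfold inducedFunctor
    intro h
    apply h1
    rwa [Subgroup.map_eq_bot_iff_of_injective _ R.subtype_injective] at h
  map := by
    intro X Y _ _ _ _ f R hR hinj
    exact indW_map hW f R hR hinj

theorem indCharFun_W (hW : IsCharPFunctor.{u} p W) (X : Type u) [Group X] (R : Subgroup X) :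
    (indCharFun hW).W X R = inducedFunctor (G := X) W R := rfl

/-- the relative reduction for sections of `G` -/
theorem npc_of_sec {G : Type u} [Group G] [Finite G] (hW : IsCharPFunctor.{u} p W)
    (hfin : ∀ (X : Type u) [Group X] [Finite X], IsSec G X → ∀ P : Sylow p X,
      NPC p ↥(Subgroup.normalizer (inducedFunctor (G := X) W (P : Subgroup X) : Set X)) →
      ¬ NPC p X → MinStruc p X P → False)
    (S : Sylow p G)
    (h : NPC p ↥(Subgroup.normalizer (inducedFunctor (G := G) W (S : Subgroup G) : Set G))) :
    NPC p G :=
  gts (indCharFun hW) (IsSec G) (fun _ _ L h => h.subgroup L) (fun _ _ N _ h => h.quotient N)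
    hfin (IsSec.refl G) S h

section transport

variable {H H' : Type u} [Group H] [Group H']

theorem isCoatom_map_equiv (e : H ≃* H') {P : Subgroup H} (h : IsCoatom P) :
    IsCoatom (P.map e.toMonoidHom) :=
  (OrderIso.isCoatom_iff (MulEquiv.mapSubgroup e) P).mpr h

/-- the quotients by `O_p` correspond under an isomorphism -/
noncomputable def quotPCoreEquiv (e : H ≃* H') : H ⧸ pCore p H ≃* H' ⧸ pCore p H' :=
  QuotientGroup.congr (pCore p H) (pCore p H') e (pCore_map_equiv e)

theorem normal_indW_of_equiv [Finite H] (hW : IsCharPFunctor.{u} p W) (e : H ≃* H')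
    (P : Subgroup H) (hP : IsPGroup p P)
    (h : (inducedFunctor (G := H') W (P.map e.toMonoidHom)).Normal) :
    (inducedFunctor (G := H) W P).Normal := by
  rw [indW_map hW e.toMonoidHom P hP e.injective.injOn] at h
  have := Subgroup.Normal.comap h e.toMonoidHom
  rwa [Subgroup.comap_map_eq_self_of_injective e.injective] at this

end transport

end Cfsg.Agent.Helper10.GTS
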