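import Mathlib
import Cfsg.Agent.Lib.Helper10.Frobenius5

set_option autoImplicit false

namespace Cfsg.Agent.Helper10

open scoped commutatorElement

section indexp

variable {H : Type*} [Group H] [Finite H] {p : ℕ} [hp : Fact p.Prime]

/-- a nontrivial finite `p`-group has a normal subgroup of index `p` -/
theorem exists_normal_index_p_of_pgroup (hH : IsPGroup p H) (hnt : Nontrivial H) :
    ∃ M : Subgroup H, M.Normal ∧ M.index = p := by
  obtain ⟨k, hk⟩ := hH.exists_card_eq
  have hk0 : k ≠ 0 := by
    rintro rfl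
    rw [pow_zero] at hk
    have := Finite.one_lt_card_iff_nontrivial.mpr hnt
    omega
  obtain ⟨j, rfl⟩ := Nat.exists_eq_succ_of_ne_zero hk0
  have hdvd : p ^ j ∣ Nat.card H := by rw [hk, pow_succ]; exact Dvd.intro _ rfl
  obtain ⟨M, hM⟩ := Sylow.exists_subgroup_card_pow_prime p hdvd
  have hidx : M.index = p := by
    have h1 := M.card_mul_index
    rw [hM, hk, pow_succ] at h1
    exact Nat.eq_of_mul_eq_mul_left (pow_pos hp.out.pos j) h1
  refine ⟨M, ?_, hidx⟩
  apply Subgroup.normal_of_index_eq_minFac_card
  rw [hidx, hk, Nat.Prime.pow_minFac hp.out (Nat.succ_ne_zero j)]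

omit [Finite H] hp in
/-- pulling back a normal subgroup of index `p` along a surjection -/
theorem exists_normal_index_p_of_surjective {Q : Type*} [Group Q] (f : H →* Q)
    (hf : Function.Surjective f) (h : ∃ M : Subgroup Q, M.Normal ∧ M.index = p) :
    ∃ M : Subgroup H, M.Normal ∧ M.index = p := by
  obtain ⟨M, hMn, hMi⟩ := h
  refine ⟨M.comap f, Subgroup.Normal.comap hMn f, ?_⟩
  rw [Subgroup.index_comap_of_surjective M hf, hMi]

/-- a proper normal subgroup with quotient a `p`-group lies in a normal subgroup of index `p` -/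
theorem exists_normal_index_p_of_quotient (N : Subgroup H) [N.Normal] (hN : N ≠ ⊤)
    (hq : IsPGroup p (H ⧸ N)) : ∃ M : Subgroup H, M.Normal ∧ M.index = p := by
  apply exists_normal_index_p_of_surjective (QuotientGroup.mk' N) (QuotientGroup.mk'_surjective N)
  apply exists_normal_index_p_of_pgroup hq
  rw [← Finite.one_lt_card_iff_nontrivial, ← Subgroup.index_eq_card]
  have h0 : N.index ≠ 0 := Subgroup.index_ne_zero_of_finite
  have h1 : N.index ≠ 1 := fun h => hN (Subgroup.index_eq_one.mp h)
  omega

/-- a finite abelian group of order divisible by `p` has a subgroup of index `p` -/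
theorem exists_index_p_of_comm {A : Type*} [CommGroup A] [Finite A] (hdvd : p ∣ Nat.card A) :
    ∃ M : Subgroup A, M.Normal ∧ M.index = p := by
  have hpos : Nat.card A ≠ 0 := Nat.card_pos.ne'
  obtain ⟨k, m, hm, hkm⟩ := Nat.exists_eq_pow_mul_and_not_dvd hpos p hp.out.ne_one
  set φ : A →* A := powMonoidHom m with hφ
  have hrp : IsPGroup p φ.range := by
    rintro ⟨y, x, rfl⟩
    refine ⟨k, ?_⟩
    apply Subtype.ext
    show (φ x) ^ p ^ k = 1
    rw [hφ, powMonoidHom_apply, ← pow_mul, mul_comm, ← hkm]
    exact pow_card_eq_one'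
  have hnt : Nontrivial φ.range := by
    haveI : Fintype A := Fintype.ofFinite A
    obtain ⟨a, ha⟩ := exists_prime_orderOf_dvd_card' p hdvd
    have h1 : φ a ≠ 1 := by
      intro h
      rw [hφ, powMonoidHom_apply] at h
      have := orderOf_dvd_of_pow_eq_one h
      rw [ha] at this
      exact hm this
    exact ⟨⟨⟨φ a, a, rfl⟩, 1, fun h => h1 (congrArg Subtype.val h)⟩⟩
  exact exists_normal_index_p_of_surjective φ.rangeRestrict φ.rangeRestrict_surjective
    (exists_normal_index_p_of_pgroup hrp hnt)

/-- a `p`-subgroup not contained in the derived subgroup gives a normal subgroup of index `p` -/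
theorem exists_normal_index_p_of_not_le_commutator (S : Subgroup H) (hS : IsPGroup p S)
    (hSc : ¬ S ≤ ⁅(⊤ : Subgroup H), ⊤⁆) : ∃ M : Subgroup H, M.Normal ∧ M.index = p := by
  apply exists_normal_index_p_of_surjective (Abelianization.of (G := H))
    (QuotientGroup.mk'_surjective _)
  apply exists_index_p_of_comm
  obtain ⟨s, hs, hsc⟩ := SetLike.not_le_iff_exists.mp hSc
  have h1 : Abelianization.of s ≠ 1 := by
    intro h
    apply hsc
    rw [← commutator_def, ← Abelianization.ker_of, MonoidHom.mem_ker]
    exact h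
  obtain ⟨j, hj⟩ := hS ⟨s, hs⟩
  have hj' : s ^ p ^ j = 1 := by
    have := congrArg Subtype.val hj
    simpa using this
  have h2 : (Abelianization.of s) ^ p ^ j = 1 := by rw [← map_pow, hj', map_one]
  have h3 : orderOf (Abelianization.of s) ∣ p ^ j := orderOf_dvd_of_pow_eq_one h2
  obtain ⟨i, hi, hie⟩ := (Nat.dvd_prime_pow hp.out).mp h3
  have hi0 : i ≠ 0 := by
    rintro rfl
    rw [pow_zero, orderOf_eq_one_iff] at hie
    exact h1 hie
  have h4 : p ∣ orderOf (Abelianization.of s) := by
    rw [hie]; exact dvd_pow_self p hi0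
  exact h4.trans (orderOf_dvd_natCard _)

omit [Finite H] in
/-- the derived subgroup lies in every normal subgroup of prime index -/
theorem commutator_le_of_index_prime (M : Subgroup H) [hM : M.Normal] (hi : M.index = p) :
    ⁅(⊤ : Subgroup H), ⊤⁆ ≤ M := by
  have hcard : Nat.card (H ⧸ M) = p := by rw [← Subgroup.index_eq_card, hi]
  haveI : IsCyclic (H ⧸ M) := isCyclic_of_prime_card hcard
  rw [Subgroup.commutator_le]
  intro a _ b _
  rw [← QuotientGroup.eq_one_iff]
  show QuotientGroup.mk' M ⁅a, b⁆ = 1
  rw [map_commutatorElement, commutatorElement_eq_one_iff_commute]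
  exact (IsCyclic.isMulCommutative (α := H ⧸ M)).is_comm.comm _ _

end indexp

end Cfsg.Agent.Helper10
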