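import Mathlib

set_option autoImplicit false

namespace Cfsg.Agent.Helper10

section parity

variable {α : Type*} [DecidableEq α]

/-- a finite set with an involution: the cardinality is congruent mod 2 to the number of fixed points -/
theorem card_filter_ne_even (s : Finset α) (f : α → α) (hf : ∀ a ∈ s, f a ∈ s)
    (hinv : ∀ a ∈ s, f (f a) = a) : Even (s.filter (fun a => f a ≠ a)).card := by
  have h : ∑ _a ∈ s.filter (fun a => f a ≠ a), (1 : ZMod 2) = 0 := by
    apply Finset.sum_involution (fun a _ => f a)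
    · intro a _; exact CharTwo.add_self_eq_zero 1
    · intro a ha _
      exact (Finset.mem_filter.mp ha).2
    · intro a ha
      rw [Finset.mem_filter] at ha ⊢
      refine ⟨hf a ha.1, ?_⟩
      rw [hinv a ha.1]
      exact fun h => ha.2 h.symm
    · intro a ha
      exact hinv a (Finset.mem_filter.mp ha).1
  rw [Finset.sum_const, nsmul_eq_mul, mul_one] at h
  exact (ZMod.natCast_eq_zero_iff_even).mp h

theorem card_modEq_card_fixed (s : Finset α) (f : α → α) (hf : ∀ a ∈ s, f a ∈ s)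
    (hinv : ∀ a ∈ s, f (f a) = a) :
    s.card ≡ (s.filter (fun a => f a = a)).card [MOD 2] := by
  have h1 : s.card = (s.filter (fun a => f a = a)).card + (s.filter (fun a => ¬ f a = a)).card :=
    (Finset.card_filter_add_card_filter_not (s := s) (fun a => f a = a)).symm
  have h2 := card_filter_ne_even s f hf hinv
  rw [h1]
  obtain ⟨k, hk⟩ := h2
  have : (s.filter (fun a => ¬ f a = a)).card = 2 * k := by rw [hk]; ring
  rw [this]
  unfold Nat.ModEq
  omega

theorem odd_card_of_involution (s : Finset α) (f : α → α) (a₀ : α) (ha₀ : a₀ ∈ s)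
    (hf : ∀ a ∈ s, f a ∈ s) (hinv : ∀ a ∈ s, f (f a) = a) (hfix : ∀ a ∈ s, f a = a ↔ a = a₀) :
    Odd s.card := by
  have h1 := card_modEq_card_fixed s f hf hinv
  have h2 : s.filter (fun a => f a = a) = {a₀} := by
    ext a
    rw [Finset.mem_filter, Finset.mem_singleton]
    constructor
    · rintro ⟨ha, hfa⟩; exact (hfix a ha).mp hfa
    · rintro rfl; exact ⟨ha₀, (hfix a ha₀).mpr rfl⟩
  rw [h2, Finset.card_singleton] at h1
  rw [Nat.odd_iff]
  exact h1

end parity

section dihedral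

variable {G : Type*} [Group G]

theorem inv_eq_self_of_sq {a : G} (ha : a * a = 1) : a⁻¹ = a := inv_eq_of_mul_eq_one_left ha

theorem conj_pow_of_invol {a b : G} (ha : a * a = 1) (hb : b * b = 1) (n : ℕ) :
    a * (a * b) ^ n * a = ((a * b)⁻¹) ^ n := by
  have h1 : a * (a * b) * a⁻¹ = (a * b)⁻¹ := by
    rw [inv_eq_self_of_sq ha, mul_inv_rev, inv_eq_self_of_sq ha, inv_eq_self_of_sq hb, ← mul_assoc a a b, ha,
      one_mul]
  have h2 := conj_pow (a := a) (b := a * b) (i := n)
  rw [h1, inv_eq_self_of_sq ha] at h2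
  exact h2.symm

theorem conj_pow_of_invol' {a b : G} (ha : a * a = 1) (hb : b * b = 1) (n : ℕ) :
    b * (a * b) ^ n * b = ((a * b)⁻¹) ^ n := by
  have h1 : b * (a * b) * b⁻¹ = (a * b)⁻¹ := by
    rw [inv_eq_self_of_sq hb, mul_inv_rev, inv_eq_self_of_sq ha, inv_eq_self_of_sq hb, mul_assoc, mul_assoc, hb,
      mul_one]
  have h2 := conj_pow (a := b) (b := a * b) (i := n)
  rw [h1, inv_eq_self_of_sq hb] at h2
  exact h2.symm

/-- `a (ab)^n` is conjugate to `a` or `b` -/
theorem isConj_mul_pow_of_invol {a b : G} (ha : a * a = 1) (hb : b * b = 1) (n : ℕ) :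
    IsConj a (a * (a * b) ^ n) ∨ IsConj b (a * (a * b) ^ n) := by
  set r := a * b with hr
  have key : ∀ (x : G) (c : ℕ), x * x = 1 → x * r ^ c * x = (r⁻¹) ^ c →
      IsConj x (x * r ^ (2 * c)) := by
    intro x c hx hc
    rw [isConj_iff]
    refine ⟨(r⁻¹) ^ c, ?_⟩
    have h3 : (r⁻¹) ^ c * x = x * r ^ c := by
      rw [← hc, mul_assoc, mul_assoc, hx, mul_one]
    rw [h3, inv_pow, inv_inv, mul_assoc, ← pow_add, two_mul]
  rcases Nat.even_or_odd' n with ⟨c, hc | hc⟩
  · left
    rw [hc]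
    exact key a c ha (conj_pow_of_invol ha hb c)
  · right
    have h4 : a * r ^ (2 * c + 1) = b * r ^ (2 * c) := by
      rw [pow_succ', ← mul_assoc, hr, ← mul_assoc, ha, one_mul]
    rw [hc, h4]
    exact key b c hb (conj_pow_of_invol' ha hb c)

end dihedral

section isolated

variable {G : Type*} [Group G]

/-- `z` is an involution of `H` fixing the unique point `H` of `G / H` -/
structure IsoPt (z : G) (H : Subgroup G) : Prop where
  sq : z * z = 1
  ne1 : z ≠ 1
  h0 : ∀ g : G, g⁻¹ * z * g ∈ H ↔ g ∈ H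

/-- every product `z t`, `t` a conjugate of `z` commuting with `z`, fixes a unique point -/
def Cond1 (z : G) (H : Subgroup G) : Prop :=
  ∀ t : G, IsConj z t → t ≠ z → t * z = z * t → ∀ g : G, g⁻¹ * (z * t) * g ∈ H ↔ g ∈ H

variable {z : G} {H : Subgroup G}

theorem IsoPt.mem (hz : IsoPt z H) : z ∈ H := by
  have := (hz.h0 1).mpr H.one_mem
  simpa using this

theorem IsoPt.cent_le (hz : IsoPt z H) {c : G} (hc : c * z = z * c) : c ∈ H := by
  apply (hz.h0 c).mp
  have : c⁻¹ * z * c = z := by rw [mul_assoc, ← hc, inv_mul_cancel_left]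
  rw [this]; exact hz.mem

theorem IsoPt.conj_sq (hz : IsoPt z H) (g : G) : (g * z * g⁻¹) * (g * z * g⁻¹) = 1 := by
  have : g * z * g⁻¹ * (g * z * g⁻¹) = g * (z * z) * g⁻¹ := by group
  rw [this, hz.sq, mul_one, mul_inv_cancel]

theorem odd_orderOf_of_notMem [Finite G] (hz : IsoPt z H) (h1 : Cond1 z H) {g : G} (hg : g ∉ H) :
    Odd (orderOf (z * (g * z * g⁻¹))) := by
  by_contra hodd
  rw [Nat.not_odd_iff_even] at hodd
  obtain ⟨s, hs⟩ := hodd
  set z' := g * z * g⁻¹ with hz'
  have hz'sq : z' * z' = 1 := hz.conj_sq g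
  set r := z * z' with hr
  have hm_pos : 0 < orderOf r := orderOf_pos r
  set w := r ^ s with hw
  have hw1 : w ≠ 1 := by
    intro h
    have := orderOf_dvd_of_pow_eq_one h
    have := Nat.le_of_dvd (by omega) this
    omega
  have hww : w * w = 1 := by
    rw [hw, ← pow_add, ← hs, pow_orderOf_eq_one]
  have hwinv : w⁻¹ = w := inv_eq_self_of_sq hww
  have hzw : z * w = w * z := by
    have h2 : z * w * z = w := by
      rw [hw, conj_pow_of_invol hz.sq hz'sq s, inv_pow, ← hw, hwinv]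
    calc z * w = z * w * (z * z) := by rw [hz.sq, mul_one]
      _ = (z * w * z) * z := by group
      _ = w * z := by rw [h2]
  have hz'w : z' * w = w * z' := by
    have h2 : z' * w * z' = w := by
      rw [hw, conj_pow_of_invol' hz.sq hz'sq s, inv_pow, ← hw, hwinv]
    calc z' * w = z' * w * (z' * z') := by rw [hz'sq, mul_one]
      _ = (z' * w * z') * z' := by group
      _ = w * z' := by rw [h2]
  have hconj' : IsConj z z' := isConj_iff.mpr ⟨g, rfl⟩
  have hconj : IsConj z (z * w) := by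
    rcases isConj_mul_pow_of_invol hz.sq hz'sq s with h | h
    · exact h
    · exact hconj'.trans h
  have hne : z * w ≠ z := fun h => hw1 (by simpa using h)
  have hcomm : z * w * z = z * (z * w) := by rw [mul_assoc, ← hzw]
  have key := h1 (z * w) hconj hne hcomm g
  have hzzw : z * (z * w) = w := by rw [← mul_assoc, hz.sq, one_mul]
  rw [hzzw] at key
  apply hg
  apply key.mp
  apply hz.cent_le
  have h3 : g⁻¹ * w * g * z = g⁻¹ * (w * z') * g := by rw [hz']; group
  have h4 : z * (g⁻¹ * w * g) = g⁻¹ * (z' * w) * g := by rw [hz']; group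
  rw [h3, h4, hz'w]

theorem odd_orderOf_conj_mul_conj [Finite G] (hz : IsoPt z H) (h1 : Cond1 z H) {x y : G}
    (hxy : x⁻¹ * y ∉ H) : Odd (orderOf ((x * z * x⁻¹) * (y * z * y⁻¹))) := by
  have h := odd_orderOf_of_notMem hz h1 hxy
  have e : (MulAut.conj x⁻¹) ((x * z * x⁻¹) * (y * z * y⁻¹)) = z * (x⁻¹ * y * z * (x⁻¹ * y)⁻¹) := by
    simp only [MulAut.conj_apply]; group
  rw [← e, MulEquiv.orderOf_eq] at h
  exact h

theorem cond1_conj (hz : IsoPt z H) (h1 : Cond1 z H) (x : G) {i' : G} (hi' : IsConj z i')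
    (hne : i' ≠ x * z * x⁻¹) (hcomm : i' * (x * z * x⁻¹) = (x * z * x⁻¹) * i') (g : G) :
    g⁻¹ * ((x * z * x⁻¹) * i') * g ∈ H ↔ x⁻¹ * g ∈ H := by
  have hc : IsConj z (x⁻¹ * i' * x) := by
    refine hi'.trans (isConj_iff.mpr ⟨x⁻¹, by simp⟩)
  have hne' : x⁻¹ * i' * x ≠ z := by
    intro h
    apply hne
    rw [← h]; group
  have hcomm' : x⁻¹ * i' * x * z = z * (x⁻¹ * i' * x) := by
    have e1 : x⁻¹ * i' * x * z = x⁻¹ * (i' * (x * z * x⁻¹)) * x := by group
    have e2 : z * (x⁻¹ * i' * x) = x⁻¹ * ((x * z * x⁻¹) * i') * x := by group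
    rw [e1, e2, hcomm]
  have key := h1 _ hc hne' hcomm' (x⁻¹ * g)
  have e : (x⁻¹ * g)⁻¹ * (z * (x⁻¹ * i' * x)) * (x⁻¹ * g) = g⁻¹ * ((x * z * x⁻¹) * i') * g := by group
  rw [e] at key
  exact key

end isolated

section sqroot

variable {G : Type*} [Group G]

theorem mem_zpowers_sq_of_odd {a : G} (ha : Odd (orderOf a)) : a ∈ Subgroup.zpowers (a * a) := by
  obtain ⟨c, hc⟩ := ha
  have h1 : a ^ (2 * c + 1 + 1) = a := by
    rw [pow_succ, ← hc, pow_orderOf_eq_one, one_mul]
  have h2 : (a * a) ^ (c + 1) = a := by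
    rw [← pow_two, ← pow_mul]
    have : 2 * (c + 1) = 2 * c + 1 + 1 := by ring
    rw [this, h1]
  have h3 : (a * a) ^ (c + 1) ∈ Subgroup.zpowers (a * a) :=
    Subgroup.pow_mem _ (Subgroup.mem_zpowers _) _
  rwa [h2] at h3

/-- odd-order square roots are unique -/
theorem eq_of_sq_eq_of_odd [Finite G] {a b : G} (ha : Odd (orderOf a)) (hb : Odd (orderOf b))
    (h : a * a = b * b) : a = b := by
  set ρ := a * a with hρ
  have haρ : a ∈ Subgroup.zpowers ρ := mem_zpowers_sq_of_odd ha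
  have hbρ : b ∈ Subgroup.zpowers ρ := by rw [h]; exact mem_zpowers_sq_of_odd hb
  have hcomm : a * b = b * a := by
    obtain ⟨m, hm⟩ := Subgroup.mem_zpowers_iff.mp haρ
    obtain ⟨n, hn⟩ := Subgroup.mem_zpowers_iff.mp hbρ
    rw [← hn, ← hm, ← zpow_add, ← zpow_add, add_comm]
  set d := a * b⁻¹ with hd
  have hdd : d * d = 1 := by
    have hcomm' : b⁻¹ * a = a * b⁻¹ := by
      rw [eq_mul_inv_iff_mul_eq, mul_assoc, hcomm, inv_mul_cancel_left]
    calc d * d = a * (b⁻¹ * a) * b⁻¹ := by rw [hd]; group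
      _ = a * (a * b⁻¹) * b⁻¹ := by rw [hcomm']
      _ = (a * a) * (b * b)⁻¹ := by group
      _ = 1 := by rw [← h, mul_inv_cancel]
  have hdρ : d ∈ Subgroup.zpowers ρ := Subgroup.mul_mem _ haρ (Subgroup.inv_mem _ hbρ)
  have hoρ : Odd (orderOf ρ) := by
    have : orderOf ρ ∣ orderOf a := by
      rw [hρ, ← pow_two]; exact orderOf_pow_dvd 2
    exact Odd.of_dvd_nat ha this
  have hod : orderOf d ∣ orderOf ρ := orderOf_dvd_of_mem_zpowers hdρ
  have hod2 : orderOf d ∣ 2 := orderOf_dvd_of_pow_eq_one (by rw [pow_two]; exact hdd)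
  have hodd : Odd (orderOf d) := Odd.of_dvd_nat hoρ hod
  have h1 : orderOf d = 1 := by
    rcases (Nat.dvd_prime Nat.prime_two).mp hod2 with h1 | h2
    · exact h1
    · rw [h2] at hodd; exact absurd hodd (by decide)
  have hd1 : d = 1 := orderOf_eq_one_iff.mp h1
  rw [hd] at hd1
  exact mul_inv_eq_one.mp hd1

end sqroot

end Cfsg.Agent.Helper10
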