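import Mathlib
import Cfsg.Agent.Lib.Helper10.IsolatedInv

set_option autoImplicit false

namespace Cfsg.Agent.Helper10

variable {G : Type*} [Group G] [Fintype G] [DecidableEq G] {z : G} {H : Subgroup G}

theorem isConj_sq {t : G} (hz : IsoPt z H) (ht : IsConj z t) : t * t = 1 := by
  obtain ⟨x, rfl⟩ := isConj_iff.mp ht
  exact hz.conj_sq x

/-- the conjugates of `z` in `H` -/
noncomputable def conjIn (z : G) (H : Subgroup G) : Finset G :=
  open Classical in Finset.univ.filter (fun i => IsConj z i ∧ i ∈ H)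

/-- the conjugates of `z` swapping the points `H` and `g₀ H` -/
noncomputable def conjSwap (z : G) (H : Subgroup G) (g₀ : G) : Finset G :=
  open Classical in Finset.univ.filter (fun k => IsConj z k ∧ g₀⁻¹ * k ∈ H)

theorem mem_conjIn {i : G} : i ∈ conjIn z H ↔ IsConj z i ∧ i ∈ H := by
  unfold conjIn; simp

theorem mem_conjSwap {g₀ k : G} : k ∈ conjSwap z H g₀ ↔ IsConj z k ∧ g₀⁻¹ * k ∈ H := by
  unfold conjSwap; simp

theorem conjSwap_mul_mem (hz : IsoPt z H) {g₀ k : G} (hk : k ∈ conjSwap z H g₀) : k * g₀ ∈ H := by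
  obtain ⟨hc, hm⟩ := mem_conjSwap.mp hk
  have h1 := H.inv_mem hm
  have hk2 : k⁻¹ = k := inv_eq_self_of_sq (isConj_sq hz hc)
  rwa [mul_inv_rev, inv_inv, hk2] at h1

/-- an element of `conjSwap` is `y z y⁻¹` with `g₀⁻¹ y ∉ H` -/
theorem conjSwap_rep (hz : IsoPt z H) {g₀ k : G} (hg₀ : g₀ ∉ H) (hk : k ∈ conjSwap z H g₀) :
    ∃ y : G, k = y * z * y⁻¹ ∧ g₀⁻¹ * y ∉ H := by
  obtain ⟨hc, hm⟩ := mem_conjSwap.mp hk
  obtain ⟨y, rfl⟩ := isConj_iff.mp hc
  refine ⟨y, rfl, fun hy => hg₀ ?_⟩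
  -- g₀⁻¹ k g₀ ∈ H and g₀⁻¹ k ∈ H give g₀ ∈ H
  have h1 : g₀⁻¹ * (y * z * y⁻¹) * g₀ ∈ H := by
    have : g₀⁻¹ * (y * z * y⁻¹) * g₀ = (g₀⁻¹ * y) * z * (g₀⁻¹ * y)⁻¹ := by group
    rw [this]
    exact H.mul_mem (H.mul_mem hy hz.mem) (H.inv_mem hy)
  have h2 := H.mul_mem (H.inv_mem hm) h1
  have : (g₀⁻¹ * (y * z * y⁻¹))⁻¹ * (g₀⁻¹ * (y * z * y⁻¹) * g₀) = g₀ := by group
  rwa [this] at h2

theorem conjIn_rep (hz : IsoPt z H) {i : G} (hi : i ∈ conjIn z H) :
    ∃ x ∈ H, i = x * z * x⁻¹ := by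
  obtain ⟨hc, hm⟩ := mem_conjIn.mp hi
  obtain ⟨x, rfl⟩ := isConj_iff.mp hc
  refine ⟨x, ?_, rfl⟩
  have h1 := (hz.h0 x⁻¹).mp (by simpa using hm)
  simpa using H.inv_mem h1

theorem card_conjSwap_eq (hz : IsoPt z H) (h1 : Cond1 z H) {g₀ : G} (hg₀ : g₀ ∉ H) :
    (conjSwap z H g₀).card = (conjIn z H).card := by
  set j₀ := g₀ * z * g₀⁻¹ with hj₀
  have hj2 : j₀ * j₀ = 1 := hz.conj_sq g₀
  apply Finset.card_bij (fun k _ => k * j₀ * k)
  · intro k hk
    have hkg := conjSwap_mul_mem hz hk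
    obtain ⟨hc, hm⟩ := mem_conjSwap.mp hk
    have hk2 : k⁻¹ = k := inv_eq_self_of_sq (isConj_sq hz hc)
    have e : k * j₀ * k = (k * g₀) * z * (k * g₀)⁻¹ := by
      rw [hj₀, mul_inv_rev, hk2]; group
    rw [mem_conjIn, e]
    exact ⟨isConj_iff.mpr ⟨k * g₀, rfl⟩, H.mul_mem (H.mul_mem hkg hz.mem) (H.inv_mem hkg)⟩
  · intro k hk k' hk' heq
    obtain ⟨y, hy, hyH⟩ := conjSwap_rep hz hg₀ hk
    obtain ⟨y', hy', hyH'⟩ := conjSwap_rep hz hg₀ hk'
    have ha : Odd (orderOf (j₀ * k)) := by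
      rw [hy]; exact odd_orderOf_conj_mul_conj hz h1 hyH
    have hb : Odd (orderOf (j₀ * k')) := by
      rw [hy']; exact odd_orderOf_conj_mul_conj hz h1 hyH'
    have hsq : (j₀ * k) * (j₀ * k) = (j₀ * k') * (j₀ * k') := by
      have e1 : (j₀ * k) * (j₀ * k) = j₀ * (k * j₀ * k) := by group
      have e2 : (j₀ * k') * (j₀ * k') = j₀ * (k' * j₀ * k') := by group
      rw [e1, e2]
      exact congrArg (fun t => j₀ * t) heq
    exact mul_left_cancel (eq_of_sq_eq_of_odd ha hb hsq)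
  · intro i hi
    obtain ⟨x, hxH, hix⟩ := conjIn_rep hz hi
    have hi2 : i * i = 1 := by rw [hix]; exact hz.conj_sq x
    have hxg : x⁻¹ * g₀ ∉ H := fun h => hg₀ (by simpa using H.mul_mem hxH h)
    have hodd : Odd (orderOf (i * j₀)) := by
      rw [hix]; exact odd_orderOf_conj_mul_conj hz h1 hxg
    obtain ⟨s, hs⟩ := hodd
    set r := i * j₀ with hr
    set n := s + 1 with hn
    set k := i * r ^ n with hk
    have hcp : i * r ^ n * i = (r⁻¹) ^ n := conj_pow_of_invol hi2 hj2 n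
    have hkk : k * k = 1 := by
      calc k * k = (i * r ^ n * i) * r ^ n := by rw [hk]; group
        _ = 1 := by rw [hcp, inv_pow, inv_mul_cancel]
    have hrr : r ^ n * r ^ n = r := by
      rw [← pow_add]
      have : n + n = orderOf r + 1 := by omega
      rw [this, pow_succ, pow_orderOf_eq_one, one_mul]
    have hkik : k * i * k = j₀ := by
      calc k * i * k = i * r ^ n * (i * i) * r ^ n := by rw [hk]; group
        _ = i * (r ^ n * r ^ n) := by rw [hi2]; group
        _ = i * r := by rw [hrr]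
        _ = j₀ := by rw [hr, ← mul_assoc, hi2, one_mul]
    have hkjk : k * j₀ * k = i := by
      rw [← hkik]
      calc k * (k * i * k) * k = (k * k) * i * (k * k) := by group
        _ = i := by rw [hkk, one_mul, mul_one]
    have hkinv : k⁻¹ = k := inv_eq_self_of_sq hkk
    have hkc : IsConj z k := by
      rcases isConj_mul_pow_of_invol hi2 hj2 n with h | h
      · exact (isConj_iff.mpr ⟨x, hix.symm⟩ : IsConj z i).trans h
      · exact (isConj_iff.mpr ⟨g₀, rfl⟩ : IsConj z j₀).trans h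
    refine ⟨k, ?_, hkjk⟩
    rw [mem_conjSwap]
    refine ⟨hkc, ?_⟩
    have hc : (g₀⁻¹ * k * x) * z = z * (g₀⁻¹ * k * x) := by
      have e1 : (g₀⁻¹ * k * x) * z = g₀⁻¹ * (k * i * k) * (k⁻¹ * x) := by
        rw [hix]; group
      have e2 : z * (g₀⁻¹ * k * x) = g₀⁻¹ * j₀ * (k * x) := by
        rw [hj₀]; group
      rw [e1, e2, hkik, hkinv]
    have h3 := hz.cent_le hc
    have h4 := H.mul_mem h3 (H.inv_mem hxH)
    have : g₀⁻¹ * k * x * x⁻¹ = g₀⁻¹ * k := by group
    rwa [this] at h4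

theorem odd_card_conjSwap (hz : IsoPt z H) (h1 : Cond1 z H) {g₀ : G} (hg₀ : g₀ ∉ H) {k₀ : G}
    (hk₀ : k₀ ∈ conjSwap z H g₀) : Odd (conjSwap z H g₀).card := by
  obtain ⟨hc₀, hm₀⟩ := mem_conjSwap.mp hk₀
  have hk₀2 : k₀ * k₀ = 1 := isConj_sq hz hc₀
  have hk₀inv : k₀⁻¹ = k₀ := inv_eq_self_of_sq hk₀2
  apply odd_card_of_involution _ (fun k => k₀ * k * k₀) k₀ hk₀
  · intro k hk
    obtain ⟨hc, hm⟩ := mem_conjSwap.mp hk
    rw [mem_conjSwap]
    refine ⟨hc.trans (isConj_iff.mpr ⟨k₀, by rw [hk₀inv]⟩), ?_⟩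
    have hkg := conjSwap_mul_mem hz hk
    have : g₀⁻¹ * (k₀ * k * k₀) = (g₀⁻¹ * k₀) * ((k * g₀) * (g₀⁻¹ * k₀)) := by group
    rw [this]
    exact H.mul_mem hm₀ (H.mul_mem hkg hm₀)
  · intro k _
    calc k₀ * (k₀ * k * k₀) * k₀ = (k₀ * k₀) * k * (k₀ * k₀) := by group
      _ = k := by rw [hk₀2, one_mul, mul_one]
  · intro k hk
    constructor
    · intro hfix
      by_contra hne
      have hcomm : k * k₀ = k₀ * k := by
        calc k * k₀ = (k₀ * k * k₀) * k₀ := by rw [hfix]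
          _ = k₀ * k * (k₀ * k₀) := by group
          _ = k₀ * k := by rw [hk₀2, mul_one]
      obtain ⟨hc, hm⟩ := mem_conjSwap.mp hk
      have hk2 : k * k = 1 := isConj_sq hz hc
      obtain ⟨y₀, hy₀, -⟩ := conjSwap_rep hz hg₀ hk₀
      obtain ⟨y, hy, -⟩ := conjSwap_rep hz hg₀ hk
      by_cases hyy : y₀⁻¹ * y ∈ H
      · -- same fixed point: use condition (1)
        have key := cond1_conj hz h1 y₀ hc (by rw [← hy₀]; exact hne) (by rw [← hy₀]; exact hcomm)
        rw [← hy₀] at key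
        have hkk₀H : k₀ * k ∈ H := by
          have : k₀ * k = (k₀ * g₀) * (g₀⁻¹ * k) := by group
          rw [this]
          exact H.mul_mem (conjSwap_mul_mem hz hk₀) hm
        have h2 : y₀⁻¹ ∈ H := by
          have := (key 1).mp (by simpa using hkk₀H)
          simpa using this
        have h3 : y₀⁻¹ * g₀ ∈ H := by
          apply (key g₀).mp
          have : g₀⁻¹ * (k₀ * k) * g₀ = (g₀⁻¹ * k₀) * (k * g₀) := by group
          rw [this]
          exact H.mul_mem hm₀ (conjSwap_mul_mem hz hk)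
        apply hg₀
        have := H.mul_mem (H.inv_mem h2) h3
        simpa using this
      · -- different fixed points: the product has odd order
        have hodd : Odd (orderOf (k₀ * k)) := by
          rw [hy₀, hy]; exact odd_orderOf_conj_mul_conj hz h1 hyy
        have hsq : (k₀ * k) ^ 2 = 1 := by
          rw [pow_two]
          calc k₀ * k * (k₀ * k) = k₀ * (k * k₀) * k := by group
            _ = k₀ * (k₀ * k) * k := by rw [hcomm]
            _ = (k₀ * k₀) * (k * k) := by group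
            _ = 1 := by rw [hk₀2, hk2, one_mul]
        have hd2 : orderOf (k₀ * k) ∣ 2 := orderOf_dvd_of_pow_eq_one hsq
        have h1' : orderOf (k₀ * k) = 1 := by
          rcases (Nat.dvd_prime Nat.prime_two).mp hd2 with h | h
          · exact h
          · rw [h] at hodd; exact absurd hodd (by decide)
        have h5 : k₀ * k = 1 := orderOf_eq_one_iff.mp h1'
        apply hne
        have : k = k₀⁻¹ := eq_inv_of_mul_eq_one_right h5
        rw [this, hk₀inv]
    · rintro rfl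
      rw [hk₀2, one_mul]

theorem odd_card_conjIn (hz : IsoPt z H) (h1 : Cond1 z H) {g₀ : G} (hg₀ : g₀ ∉ H) :
    Odd (conjIn z H).card := by
  have hzI : z ∈ conjIn z H := mem_conjIn.mpr ⟨IsConj.refl z, hz.mem⟩
  have hcard := card_conjSwap_eq hz h1 hg₀
  have hpos : 0 < (conjSwap z H g₀).card := by
    rw [hcard]; exact Finset.card_pos.mpr ⟨z, hzI⟩
  obtain ⟨k₀, hk₀⟩ := Finset.card_pos.mp hpos
  rw [← hcard]
  exact odd_card_conjSwap hz h1 hg₀ hk₀

/-- the conjugacy class of `z` -/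
noncomputable def conjAll (z : G) : Finset G :=
  open Classical in Finset.univ.filter (fun i => IsConj z i)

theorem mem_conjAll {i : G} : i ∈ conjAll z ↔ IsConj z i := by
  unfold conjAll; simp

theorem odd_card_conjAll (hz : IsoPt z H) (h1 : Cond1 z H) {g₀ : G} (hg₀ : g₀ ∉ H) :
    Odd (conjAll z).card := by
  have hzinv : z⁻¹ = z := inv_eq_self_of_sq hz.sq
  have hinv : ∀ a : G, z * (z * a * z) * z = a := by
    intro a
    calc z * (z * a * z) * z = (z * z) * a * (z * z) := by group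
      _ = a := by rw [hz.sq, one_mul, mul_one]
  have hA := card_modEq_card_fixed (conjAll z) (fun t => z * t * z)
    (by
      intro a ha
      rw [mem_conjAll] at ha ⊢
      exact ha.trans (isConj_iff.mpr ⟨z, by rw [hzinv]⟩))
    (fun a _ => hinv a)
  have hB := card_modEq_card_fixed (conjIn z H) (fun t => z * t * z)
    (by
      intro a ha
      rw [mem_conjIn] at ha ⊢
      exact ⟨ha.1.trans (isConj_iff.mpr ⟨z, by rw [hzinv]⟩),
        H.mul_mem (H.mul_mem hz.mem ha.2) hz.mem⟩)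
    (fun a _ => hinv a)
  have hfix : (conjAll z).filter (fun a => z * a * z = a) = (conjIn z H).filter (fun a => z * a * z = a) := by
    ext a
    rw [Finset.mem_filter, Finset.mem_filter, mem_conjAll, mem_conjIn]
    constructor
    · rintro ⟨hc, hf⟩
      refine ⟨⟨hc, ?_⟩, hf⟩
      apply hz.cent_le
      calc a * z = (z * a * z) * z := by rw [hf]
        _ = z * a * (z * z) := by group
        _ = z * a := by rw [hz.sq, mul_one]
    · rintro ⟨⟨hc, -⟩, hf⟩
      exact ⟨hc, hf⟩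
  rw [hfix] at hA
  have h3 : (conjAll z).card ≡ (conjIn z H).card [MOD 2] := hA.trans hB.symm
  have h4 := odd_card_conjIn hz h1 hg₀
  rw [Nat.odd_iff] at h4 ⊢
  rw [← h4]
  exact h3

theorem index_centralizer_eq_card_conjAll :
    (Subgroup.centralizer ({z} : Set G)).index = (conjAll z).card := by
  have h1 : (Subgroup.centralizer ({z} : Set G)).index
      = (MulAction.stabilizer (ConjAct G) z).index := by
    rw [Subgroup.centralizer_eq_comap_stabilizer]
    exact Subgroup.index_comap_of_surjective _ (ConjAct.toConjAct (G := G)).surjective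
  rw [h1, MulAction.index_stabilizer]
  have : MulAction.orbit (ConjAct G) z = ((conjAll z : Finset G) : Set G) := by
    ext t
    rw [ConjAct.mem_orbit_conjAct, Finset.mem_coe, mem_conjAll, isConj_comm]
  rw [this, Set.ncard_coe_finset]

end Cfsg.Agent.Helper10
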