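import Mathlib
import Cfsg.Agent.Lib.Helper3.SmallOrd
import Cfsg.Agent.Lib.Helper10.Ord83BR

set_option autoImplicit false
set_option maxRecDepth 8000
set_option linter.unusedVariables false
set_option linter.unusedTactic false
set_option linter.unreachableTactic false

/-!
Orders in (3640, 6233) excluded by the Brauer--Reynolds filter S4700 (generated by helper10 for S0983).
-/

namespace Cfsg.Agent.Helper3.SmallOrd

open Cfsg.Agent.Helper10.Ord83

theorem hu_bound_83 {p n h u : ℕ} (hh : 0 < h) (hu : 0 < u)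
    (heq : n * (u + 1) = h * u * p + u ^ 2 + u + h) : u < n := by
  by_contra hc
  push Not at hc
  have h1 : n * (u + 1) ≤ u * (u + 1) := Nat.mul_le_mul_right _ hc
  have h2 : u * (u + 1) = u ^ 2 + u := by ring
  omega

variable {G : Type*} [Group G] [Finite G] [IsSimpleGroup G]

theorem no_simple_3696 (h : Nat.card G = 3696) : False := by
  have hG := Cfsg.Agent.Lead.nonabelian_of_not_prime (G := G) (by rw [h]; norm_num)
  haveI : Fact (Nat.Prime 11) := ⟨by norm_num⟩
  obtain ⟨h1, h2, h3, h4, h5⟩ := basic hG (p := 11) (a := 1) (m := 336) (by norm_num)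
    (h.trans (by norm_num)) (by norm_num)
  obtain ⟨P⟩ : Nonempty (Sylow 11 G) := inferInstance
  have hP : Nat.card P = 11 := by simpa using (h5 P).1
  have key : ∀ n : ℕ, Nat.card (Sylow 11 G) = 1 + n * 11 →
      ∃ hh u : ℕ, 0 < hh ∧ 0 < u ∧ n * (u + 1) = hh * u * 11 + u ^ 2 + u + hh := by
    intro n hn
    rcases s4700_filter hG 11 P hP n hn with hc | ⟨m, hm, hc⟩ | hc
    · rw [h] at hc; omega
    · have h2m : 2 ^ m = 10 := by omega
      rw [h2m, h] at hc; omega
    · exact hc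
  rw [h] at h4
  have hmem : Nat.card (Sylow 11 G) ∈ Nat.divisors 336 := Nat.mem_divisors.2 ⟨h1, by norm_num⟩
  simp only [Nat.divisors_ofNat, Finset.mem_insert, Finset.mem_singleton] at hmem
  have hc : Nat.card (Sylow 11 G) = 12 ∨ Nat.card (Sylow 11 G) = 56 := by omega
  rcases hc with hc | hc
  · obtain ⟨hh, u, hh0, hu0, heq⟩ := key 1 (by rw [hc])
    have hu := hu_bound_83 hh0 hu0 heq
    omega
  · obtain ⟨hh, u, hh0, hu0, heq⟩ := key 5 (by rw [hc])
    have hu := hu_bound_83 hh0 hu0 heq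
    interval_cases u <;> omega

theorem no_simple_3960 (h : Nat.card G = 3960) : False := by
  have hG := Cfsg.Agent.Lead.nonabelian_of_not_prime (G := G) (by rw [h]; norm_num)
  haveI : Fact (Nat.Prime 11) := ⟨by norm_num⟩
  obtain ⟨h1, h2, h3, h4, h5⟩ := basic hG (p := 11) (a := 1) (m := 360) (by norm_num)
    (h.trans (by norm_num)) (by norm_num)
  obtain ⟨P⟩ : Nonempty (Sylow 11 G) := inferInstance
  have hP : Nat.card P = 11 := by simpa using (h5 P).1
  have key : ∀ n : ℕ, Nat.card (Sylow 11 G) = 1 + n * 11 →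
      ∃ hh u : ℕ, 0 < hh ∧ 0 < u ∧ n * (u + 1) = hh * u * 11 + u ^ 2 + u + hh := by
    intro n hn
    rcases s4700_filter hG 11 P hP n hn with hc | ⟨m, hm, hc⟩ | hc
    · rw [h] at hc; omega
    · have h2m : 2 ^ m = 10 := by omega
      rw [h2m, h] at hc; omega
    · exact hc
  rw [h] at h4
  have hmem : Nat.card (Sylow 11 G) ∈ Nat.divisors 360 := Nat.mem_divisors.2 ⟨h1, by norm_num⟩
  simp only [Nat.divisors_ofNat, Finset.mem_insert, Finset.mem_singleton] at hmem
  have hc : Nat.card (Sylow 11 G) = 12 ∨ Nat.card (Sylow 11 G) = 45 := by omega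
  rcases hc with hc | hc
  · obtain ⟨hh, u, hh0, hu0, heq⟩ := key 1 (by rw [hc])
    have hu := hu_bound_83 hh0 hu0 heq
    omega
  · obtain ⟨hh, u, hh0, hu0, heq⟩ := key 4 (by rw [hc])
    have hu := hu_bound_83 hh0 hu0 heq
    interval_cases u <;> omega

theorem no_simple_4212 (h : Nat.card G = 4212) : False := by
  have hG := Cfsg.Agent.Lead.nonabelian_of_not_prime (G := G) (by rw [h]; norm_num)
  haveI : Fact (Nat.Prime 13) := ⟨by norm_num⟩
  obtain ⟨h1, h2, h3, h4, h5⟩ := basic hG (p := 13) (a := 1) (m := 324) (by norm_num)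
    (h.trans (by norm_num)) (by norm_num)
  obtain ⟨P⟩ : Nonempty (Sylow 13 G) := inferInstance
  have hP : Nat.card P = 13 := by simpa using (h5 P).1
  have key : ∀ n : ℕ, Nat.card (Sylow 13 G) = 1 + n * 13 →
      ∃ hh u : ℕ, 0 < hh ∧ 0 < u ∧ n * (u + 1) = hh * u * 13 + u ^ 2 + u + hh := by
    intro n hn
    rcases s4700_filter hG 13 P hP n hn with hc | ⟨m, hm, hc⟩ | hc
    · rw [h] at hc; omega
    · have h2m : 2 ^ m = 12 := by omega
      rw [h2m, h] at hc; omega
    · exact hc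
  rw [h] at h4
  have hmem : Nat.card (Sylow 13 G) ∈ Nat.divisors 324 := Nat.mem_divisors.2 ⟨h1, by norm_num⟩
  simp only [Nat.divisors_ofNat, Finset.mem_insert, Finset.mem_singleton] at hmem
  have hc : Nat.card (Sylow 13 G) = 27 := by omega
  obtain ⟨hh, u, hh0, hu0, heq⟩ := key 2 (by rw [hc])
  have hu := hu_bound_83 hh0 hu0 heq
  interval_cases u <;> omega

theorem no_simple_4680 (h : Nat.card G = 4680) : False := by
  have hG := Cfsg.Agent.Lead.nonabelian_of_not_prime (G := G) (by rw [h]; norm_num)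
  haveI : Fact (Nat.Prime 13) := ⟨by norm_num⟩
  obtain ⟨h1, h2, h3, h4, h5⟩ := basic hG (p := 13) (a := 1) (m := 360) (by norm_num)
    (h.trans (by norm_num)) (by norm_num)
  obtain ⟨P⟩ : Nonempty (Sylow 13 G) := inferInstance
  have hP : Nat.card P = 13 := by simpa using (h5 P).1
  have key : ∀ n : ℕ, Nat.card (Sylow 13 G) = 1 + n * 13 →
      ∃ hh u : ℕ, 0 < hh ∧ 0 < u ∧ n * (u + 1) = hh * u * 13 + u ^ 2 + u + hh := by
    intro n hn
    rcases s4700_filter hG 13 P hP n hn with hc | ⟨m, hm, hc⟩ | hc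
    · rw [h] at hc; omega
    · have h2m : 2 ^ m = 12 := by omega
      rw [h2m, h] at hc; omega
    · exact hc
  rw [h] at h4
  have hmem : Nat.card (Sylow 13 G) ∈ Nat.divisors 360 := Nat.mem_divisors.2 ⟨h1, by norm_num⟩
  simp only [Nat.divisors_ofNat, Finset.mem_insert, Finset.mem_singleton] at hmem
  have hc : Nat.card (Sylow 13 G) = 40 := by omega
  obtain ⟨hh, u, hh0, hu0, heq⟩ := key 3 (by rw [hc])
  have hu := hu_bound_83 hh0 hu0 heq
  interval_cases u <;> omega

theorem no_simple_5148 (h : Nat.card G = 5148) : False := by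
  have hG := Cfsg.Agent.Lead.nonabelian_of_not_prime (G := G) (by rw [h]; norm_num)
  haveI : Fact (Nat.Prime 13) := ⟨by norm_num⟩
  obtain ⟨h1, h2, h3, h4, h5⟩ := basic hG (p := 13) (a := 1) (m := 396) (by norm_num)
    (h.trans (by norm_num)) (by norm_num)
  obtain ⟨P⟩ : Nonempty (Sylow 13 G) := inferInstance
  have hP : Nat.card P = 13 := by simpa using (h5 P).1
  have key : ∀ n : ℕ, Nat.card (Sylow 13 G) = 1 + n * 13 →
      ∃ hh u : ℕ, 0 < hh ∧ 0 < u ∧ n * (u + 1) = hh * u * 13 + u ^ 2 + u + hh := by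
    intro n hn
    rcases s4700_filter hG 13 P hP n hn with hc | ⟨m, hm, hc⟩ | hc
    · rw [h] at hc; omega
    · have h2m : 2 ^ m = 12 := by omega
      rw [h2m, h] at hc; omega
    · exact hc
  rw [h] at h4
  have hmem : Nat.card (Sylow 13 G) ∈ Nat.divisors 396 := Nat.mem_divisors.2 ⟨h1, by norm_num⟩
  simp only [Nat.divisors_ofNat, Finset.mem_insert, Finset.mem_singleton] at hmem
  have hc : Nat.card (Sylow 13 G) = 66 := by omega
  obtain ⟨hh, u, hh0, hu0, heq⟩ := key 5 (by rw [hc])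
  have hu := hu_bound_83 hh0 hu0 heq
  interval_cases u <;> omega

theorem no_simple_5940 (h : Nat.card G = 5940) : False := by
  have hG := Cfsg.Agent.Lead.nonabelian_of_not_prime (G := G) (by rw [h]; norm_num)
  haveI : Fact (Nat.Prime 11) := ⟨by norm_num⟩
  obtain ⟨h1, h2, h3, h4, h5⟩ := basic hG (p := 11) (a := 1) (m := 540) (by norm_num)
    (h.trans (by norm_num)) (by norm_num)
  have h6 := prime_case hG (p := 11) (m := 540) (h.trans (by norm_num)) (by norm_num)
  obtain ⟨P⟩ : Nonempty (Sylow 11 G) := inferInstance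
  have hP : Nat.card P = 11 := by simpa using (h5 P).1
  have key : ∀ n : ℕ, Nat.card (Sylow 11 G) = 1 + n * 11 →
      ∃ hh u : ℕ, 0 < hh ∧ 0 < u ∧ n * (u + 1) = hh * u * 11 + u ^ 2 + u + hh := by
    intro n hn
    rcases s4700_filter hG 11 P hP n hn with hc | ⟨m, hm, hc⟩ | hc
    · rw [h] at hc; omega
    · have h2m : 2 ^ m = 10 := by omega
      rw [h2m, h] at hc; omega
    · exact hc
  rw [h] at h4
  have hmem : Nat.card (Sylow 11 G) ∈ Nat.divisors 540 := Nat.mem_divisors.2 ⟨h1, by norm_num⟩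
  simp only [Nat.divisors_ofNat, Finset.mem_insert, Finset.mem_singleton] at hmem
  have hc : Nat.card (Sylow 11 G) = 12 ∨ Nat.card (Sylow 11 G) = 45 ∨ Nat.card (Sylow 11 G) = 540 := by omega
  rcases hc with hc | hc | hc
  · obtain ⟨hh, u, hh0, hu0, heq⟩ := key 1 (by rw [hc])
    have hu := hu_bound_83 hh0 hu0 heq
    omega
  · obtain ⟨hh, u, hh0, hu0, heq⟩ := key 4 (by rw [hc])
    have hu := hu_bound_83 hh0 hu0 heq
    interval_cases u <;> omega
  · rw [hc] at h6; exact h6 (by decide)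

end Cfsg.Agent.Helper3.SmallOrd
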