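import Mathlib
import Cfsg.Agent.Lib.Helper3.SmallOrd
import Cfsg.Agent.Lib.Helper10.Ord83BR
import Cfsg.Agent.Lib.Helper10.Ord83Six
import Cfsg.Agent.S0073
import Cfsg.Agent.S0493
import Cfsg.Agent.S0499

set_option autoImplicit false
set_option maxRecDepth 8000
set_option linter.unusedVariables false
set_option linter.unusedTactic false
set_option linter.unreachableTactic false

universe u

/-!
Orders `19 * d` with `d` a proper divisor of `9240` that are not orders of nonabelian simple groups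
(all of them except `7980`, `15960`, `87780`, which are treated elsewhere).  Generated by helper10
for S4274.
-/

namespace Cfsg.Agent.Helper3.SmallOrd

open Cfsg.Agent.Helper10.Ord83

variable {G : Type*} [Group G] [Finite G] [IsSimpleGroup G]

theorem no_simple_11704 (h : Nat.card G = 11704) : False := by
  have hG := Cfsg.Agent.Lead.nonabelian_of_not_prime (G := G) (by rw [h]; norm_num)
  haveI : Fact (Nat.Prime 19) := ⟨by norm_num⟩
  obtain ⟨h1, h2, h3, h4, h5⟩ := basic hG (p := 19) (a := 1) (m := 616) (by norm_num)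
    (h.trans (by norm_num)) (by norm_num)
  obtain ⟨P⟩ : Nonempty (Sylow 19 G) := inferInstance
  have hP : Nat.card P = 19 := by simpa using (h5 P).1
  have key : ∀ n : ℕ, Nat.card (Sylow 19 G) = 1 + n * 19 →
      ∃ hh u : ℕ, 0 < hh ∧ 0 < u ∧ n * (u + 1) = hh * u * 19 + u ^ 2 + u + hh := by
    intro n hn
    rcases s4700_filter hG 19 P hP n hn with hc | ⟨m, hm, hc⟩ | hc
    · rw [h] at hc; omega
    · have h2m : 2 ^ m = 18 := by omega
      rw [h2m, h] at hc; omega
    · exact hc
  rw [h] at h4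
  have hmem : Nat.card (Sylow 19 G) ∈ Nat.divisors 616 := Nat.mem_divisors.2 ⟨h1, by norm_num⟩
  simp only [Nat.divisors_ofNat, Finset.mem_insert, Finset.mem_singleton] at hmem
  have hc : Nat.card (Sylow 19 G) = 77 := by omega
  obtain ⟨hh, u, hh0, hu0, heq⟩ := key 4 (by rw [hc])
  have hu := hu_bound_83 hh0 hu0 heq
  interval_cases u <;> omega

theorem no_simple_12540 (h : Nat.card G = 12540) : False := by
  have hG := Cfsg.Agent.Lead.nonabelian_of_not_prime (G := G) (by rw [h]; norm_num)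
  haveI : Fact (Nat.Prime 19) := ⟨by norm_num⟩
  obtain ⟨h1, h2, h3, h4, h5⟩ := basic hG (p := 19) (a := 1) (m := 660) (by norm_num)
    (h.trans (by norm_num)) (by norm_num)
  obtain ⟨P⟩ : Nonempty (Sylow 19 G) := inferInstance
  have hP : Nat.card P = 19 := by simpa using (h5 P).1
  have key : ∀ n : ℕ, Nat.card (Sylow 19 G) = 1 + n * 19 →
      ∃ hh u : ℕ, 0 < hh ∧ 0 < u ∧ n * (u + 1) = hh * u * 19 + u ^ 2 + u + hh := by
    intro n hn
    rcases s4700_filter hG 19 P hP n hn with hc | ⟨m, hm, hc⟩ | hc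
    · rw [h] at hc; omega
    · have h2m : 2 ^ m = 18 := by omega
      rw [h2m, h] at hc; omega
    · exact hc
  rw [h] at h4
  have hmem : Nat.card (Sylow 19 G) ∈ Nat.divisors 660 := Nat.mem_divisors.2 ⟨h1, by norm_num⟩
  simp only [Nat.divisors_ofNat, Finset.mem_insert, Finset.mem_singleton] at hmem
  have hc : Nat.card (Sylow 19 G) = 20 := by omega
  obtain ⟨hh, u, hh0, hu0, heq⟩ := key 1 (by rw [hc])
  have hu := hu_bound_83 hh0 hu0 heq
  omega

theorem no_simple_17556 (h : Nat.card G = 17556) : False := by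
  have hG := Cfsg.Agent.Lead.nonabelian_of_not_prime (G := G) (by rw [h]; norm_num)
  haveI : Fact (Nat.Prime 19) := ⟨by norm_num⟩
  obtain ⟨h1, h2, h3, h4, h5⟩ := basic hG (p := 19) (a := 1) (m := 924) (by norm_num)
    (h.trans (by norm_num)) (by norm_num)
  obtain ⟨P⟩ : Nonempty (Sylow 19 G) := inferInstance
  have hP : Nat.card P = 19 := by simpa using (h5 P).1
  have key : ∀ n : ℕ, Nat.card (Sylow 19 G) = 1 + n * 19 →
      ∃ hh u : ℕ, 0 < hh ∧ 0 < u ∧ n * (u + 1) = hh * u * 19 + u ^ 2 + u + hh := by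
    intro n hn
    rcases s4700_filter hG 19 P hP n hn with hc | ⟨m, hm, hc⟩ | hc
    · rw [h] at hc; omega
    · have h2m : 2 ^ m = 18 := by omega
      rw [h2m, h] at hc; omega
    · exact hc
  rw [h] at h4
  have hmem : Nat.card (Sylow 19 G) ∈ Nat.divisors 924 := Nat.mem_divisors.2 ⟨h1, by norm_num⟩
  simp only [Nat.divisors_ofNat, Finset.mem_insert, Finset.mem_singleton] at hmem
  have hc : Nat.card (Sylow 19 G) = 77 := by omega
  obtain ⟨hh, u, hh0, hu0, heq⟩ := key 4 (by rw [hc])
  have hu := hu_bound_83 hh0 hu0 heq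
  interval_cases u <;> omega

theorem no_simple_25080 (h : Nat.card G = 25080) : False := by
  have hG := Cfsg.Agent.Lead.nonabelian_of_not_prime (G := G) (by rw [h]; norm_num)
  haveI : Fact (Nat.Prime 19) := ⟨by norm_num⟩
  obtain ⟨h1, h2, h3, h4, h5⟩ := basic hG (p := 19) (a := 1) (m := 1320) (by norm_num)
    (h.trans (by norm_num)) (by norm_num)
  obtain ⟨P⟩ : Nonempty (Sylow 19 G) := inferInstance
  have hP : Nat.card P = 19 := by simpa using (h5 P).1
  have key : ∀ n : ℕ, Nat.card (Sylow 19 G) = 1 + n * 19 →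
      ∃ hh u : ℕ, 0 < hh ∧ 0 < u ∧ n * (u + 1) = hh * u * 19 + u ^ 2 + u + hh := by
    intro n hn
    rcases s4700_filter hG 19 P hP n hn with hc | ⟨m, hm, hc⟩ | hc
    · rw [h] at hc; omega
    · have h2m : 2 ^ m = 18 := by omega
      rw [h2m, h] at hc; omega
    · exact hc
  rw [h] at h4
  have hmem : Nat.card (Sylow 19 G) ∈ Nat.divisors 1320 := Nat.mem_divisors.2 ⟨h1, by norm_num⟩
  simp only [Nat.divisors_ofNat, Finset.mem_insert, Finset.mem_singleton] at hmem
  have hc : Nat.card (Sylow 19 G) = 20 := by omega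
  obtain ⟨hh, u, hh0, hu0, heq⟩ := key 1 (by rw [hc])
  have hu := hu_bound_83 hh0 hu0 heq
  omega

theorem no_simple_35112 (h : Nat.card G = 35112) : False := by
  have hG := Cfsg.Agent.Lead.nonabelian_of_not_prime (G := G) (by rw [h]; norm_num)
  haveI : Fact (Nat.Prime 19) := ⟨by norm_num⟩
  obtain ⟨h1, h2, h3, h4, h5⟩ := basic hG (p := 19) (a := 1) (m := 1848) (by norm_num)
    (h.trans (by norm_num)) (by norm_num)
  obtain ⟨P⟩ : Nonempty (Sylow 19 G) := inferInstance
  have hP : Nat.card P = 19 := by simpa using (h5 P).1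
  have key : ∀ n : ℕ, Nat.card (Sylow 19 G) = 1 + n * 19 →
      ∃ hh u : ℕ, 0 < hh ∧ 0 < u ∧ n * (u + 1) = hh * u * 19 + u ^ 2 + u + hh := by
    intro n hn
    rcases s4700_filter hG 19 P hP n hn with hc | ⟨m, hm, hc⟩ | hc
    · rw [h] at hc; omega
    · have h2m : 2 ^ m = 18 := by omega
      rw [h2m, h] at hc; omega
    · exact hc
  rw [h] at h4
  have hmem : Nat.card (Sylow 19 G) ∈ Nat.divisors 1848 := Nat.mem_divisors.2 ⟨h1, by norm_num⟩
  simp only [Nat.divisors_ofNat, Finset.mem_insert, Finset.mem_singleton] at hmem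
  have hc : Nat.card (Sylow 19 G) = 77 := by omega
  obtain ⟨hh, u, hh0, hu0, heq⟩ := key 4 (by rw [hc])
  have hu := hu_bound_83 hh0 hu0 heq
  interval_cases u <;> omega

theorem no_simple_58520 (h : Nat.card G = 58520) : False := by
  have hG := Cfsg.Agent.Lead.nonabelian_of_not_prime (G := G) (by rw [h]; norm_num)
  haveI : Fact (Nat.Prime 11) := ⟨by norm_num⟩
  obtain ⟨h1, h2, h3, h4, h5⟩ := basic hG (p := 11) (a := 1) (m := 5320) (by norm_num)
    (h.trans (by norm_num)) (by norm_num)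
  have h6 := prime_case hG (p := 11) (m := 5320) (h.trans (by norm_num)) (by norm_num)
  obtain ⟨P⟩ : Nonempty (Sylow 11 G) := inferInstance
  have hP : Nat.card P = 11 := by simpa using (h5 P).1
  have key : ∀ n : ℕ, Nat.card (Sylow 11 G) = 1 + n * 11 →
      ∃ hh u : ℕ, 0 < hh ∧ 0 < u ∧ n * (u + 1) = hh * u * 11 + u ^ 2 + u + hh := by
    intro n hn
    rcases s4700_filter hG 11 P hP n hn with hc | ⟨m, hm, hc⟩ | hc
    · rw [h] at hc; omega
    · have h2m : 2 ^ m = 10 := by omega
      rw [h2m, h] at hc; omega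
    · exact hc
  rw [h] at h4
  have hmem : Nat.card (Sylow 11 G) ∈ Nat.divisors 5320 := Nat.mem_divisors.2 ⟨h1, by norm_num⟩
  simp only [Nat.divisors_ofNat, Finset.mem_insert, Finset.mem_singleton] at hmem
  have hc : Nat.card (Sylow 11 G) = 56 ∨ Nat.card (Sylow 11 G) = 133 ∨ Nat.card (Sylow 11 G) = 760 := by omega
  rcases hc with hc | hc | hc
  · obtain ⟨hh, u, hh0, hu0, heq⟩ := key 5 (by rw [hc])
    have hu := hu_bound_83 hh0 hu0 heq
    interval_cases u <;> omega
  · obtain ⟨hh, u, hh0, hu0, heq⟩ := key 12 (by rw [hc])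
    have hu := hu_bound_83 hh0 hu0 heq
    interval_cases u <;> omega
  · rw [hc] at h6; exact h6 (by decide)

end Cfsg.Agent.Helper3.SmallOrd

namespace Cfsg.Agent.Helper10.J1Ord

open Cfsg.Agent.Helper3.SmallOrd Cfsg.Agent.Helper10.Ord83

/-- A nonabelian simple group of order `19 * d < 19 ^ 3` has `d = 180`. -/
theorem small_19 {G : Type*} [Group G] [Finite G] [IsSimpleGroup G]
    (hG : ∃ x y : G, x * y ≠ y * x) (d : ℕ) (h : Nat.card G = 19 * d) (hd : d ≤ 360) :
    d = 180 := by
  have hnc := not_comm_of_nonab hG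
  rcases br_filter hnc 19 (by norm_num) ⟨d, h⟩ (by rw [h]; omega) with hc | ⟨m, hm, hc⟩
  · rw [h] at hc
    omega
  · exfalso
    have h2m : 2 ^ m = 18 := by omega
    have hm5 : m < 5 := by
      by_contra hc5
      push Not at hc5
      have : 2 ^ 5 ≤ 2 ^ m := Nat.pow_le_pow_right (by norm_num) hc5
      omega
    interval_cases m <;> omega

/-- The sixteen orders `19 * d`, `d ∣ 9240`, `360 < d < 9240`, other than the three bespoke ones. -/
theorem no_simple_19_mul
    (h7980 : ∀ {X : Type u} [Group X] [Finite X] [IsSimpleGroup X], Nat.card X ≠ 7980)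
    (h15960 : ∀ {X : Type u} [Group X] [Finite X] [IsSimpleGroup X], Nat.card X ≠ 15960)
    (h87780 : ∀ {X : Type u} [Group X] [Finite X] [IsSimpleGroup X], Nat.card X ≠ 87780)
    (d : ℕ) (hd : d ∣ 9240) (hne : d ≠ 9240)
    (X : Type u) [Group X] [Finite X] [IsSimpleGroup X] (hX : ∃ x y : X, x * y ≠ y * x) :
    Nat.card X ≠ 19 * d := by
  intro h
  have hmem : d ∈ Nat.divisors 9240 := Nat.mem_divisors.2 ⟨hd, by norm_num⟩
  simp only [Nat.divisors_ofNat, Finset.mem_insert, Finset.mem_singleton] at hmem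
  have hcases : (d ≤ 360 ∧ d ≠ 180) ∨ d = 385 ∨ d = 420 ∨ d = 440 ∨ d = 462 ∨ d = 616 ∨ d = 660 ∨
      d = 770 ∨ d = 840 ∨ d = 924 ∨ d = 1155 ∨ d = 1320 ∨ d = 1540 ∨ d = 1848 ∨ d = 2310 ∨
      d = 3080 ∨ d = 4620 := by omega
  clear hmem
  have hnc := not_comm_of_nonab hX
  rcases hcases with ⟨hc, hc2⟩ | hc | hc | hc | hc | hc | hc | hc | hc | hc | hc | hc | hc | hc |
    hc | hc | hc
  · exact hc2 (small_19 hX d h hc)
  all_goals subst hc
  · -- 7315
    rcases Cfsg.Agent.S0073.result hX with h3 | h3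
    · rw [h] at h3; norm_num at h3
    · rw [h] at h3; norm_num at h3
  · exact h7980 (h.trans (by norm_num))
  · -- 8360
    rcases Cfsg.Agent.S0499.result hnc (by rw [h]; decide) with h3 | h3 | h3 <;>
      (rw [h] at h3; norm_num at h3)
  · -- 8778
    have := Cfsg.Agent.S0493.two_mul_odd (G := X) 4389 (by decide) (h.trans (by norm_num))
    omega
  · exact no_simple_11704 (h.trans (by norm_num))
  · exact no_simple_12540 (h.trans (by norm_num))
  · -- 14630
    have := Cfsg.Agent.S0493.two_mul_odd (G := X) 7315 (by decide) (h.trans (by norm_num))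
    omega
  · exact h15960 (h.trans (by norm_num))
  · exact no_simple_17556 (h.trans (by norm_num))
  · -- 21945
    rcases Cfsg.Agent.S0073.result hX with h3 | h3
    · rw [h] at h3; norm_num at h3
    · rw [h] at h3; norm_num at h3
  · exact no_simple_25080 (h.trans (by norm_num))
  · -- 29260
    rcases Cfsg.Agent.S0499.result hnc (by rw [h]; decide) with h3 | h3 | h3 <;>
      (rw [h] at h3; norm_num at h3)
  · exact no_simple_35112 (h.trans (by norm_num))
  · -- 43890
    have := Cfsg.Agent.S0493.two_mul_odd (G := X) 21945 (by decide) (h.trans (by norm_num))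
    omega
  · exact no_simple_58520 (h.trans (by norm_num))
  · exact h87780 (h.trans (by norm_num))

end Cfsg.Agent.Helper10.J1Ord
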