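import Mathlib
import Cfsg.Agent.Lib.Helper10.KStab6
import Cfsg.Agent.Lib.Helper10.FourStep
import Cfsg.Agent.Lib.Helper10.ChiefP
import Cfsg.Agent.Lib.Helper19.KInfP2
import Cfsg.Agent.Lib.Helper19.KInfP3
import Cfsg.Agent.Lib.Helper23.QuadSubnormal

set_option autoImplicit false

/-! The kernel of the action of a group on its chief factors below a normal `p`-subgroup. -/

namespace Cfsg.Agent.Helper10

open Cfsg
open scoped commutatorElement

section ck

variable {G : Type*} [Group G]

/-- the elements acting trivially on every chief factor of `G` below `X₀` -/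
def chiefKer (X₀ : Subgroup G) : Subgroup G :=
  sInf {K | ∃ U V : Subgroup G, IsChiefFactor U V ∧ U ≤ X₀ ∧ K = commNormSubgroup V U}

theorem mem_commNormSubgroup_iff_of_normal {U V : Subgroup G} [hV : V.Normal] {x : G} :
    x ∈ commNormSubgroup V U ↔ ⁅U, Subgroup.zpowers x⁆ ≤ V := by
  have h0 : x ∈ commNormSubgroup V U ↔ Subgroup.zpowers x ≤ commNormSubgroup V U :=
    (Subgroup.zpowers_le).symm
  rw [h0, le_commNormSubgroup_iff, Subgroup.commutator_comm]
  constructor
  · exact fun h => h.2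
  · intro h
    refine ⟨?_, h⟩
    rw [Subgroup.normalizer_eq_top_iff.mpr hV]
    exact le_top

theorem mem_chiefKer_iff {X₀ : Subgroup G} {x : G} :
    x ∈ chiefKer X₀ ↔ ∀ U V : Subgroup G, IsChiefFactor U V → U ≤ X₀ →
      ⁅U, Subgroup.zpowers x⁆ ≤ V := by
  unfold chiefKer
  rw [Subgroup.mem_sInf]
  constructor
  · intro h U V hUV hU
    have := hUV.2.2.1
    exact mem_commNormSubgroup_iff_of_normal.mp (h _ ⟨U, V, hUV, hU, rfl⟩)
  · rintro h K ⟨U, V, hUV, hU, rfl⟩
    have := hUV.2.2.1
    exact mem_commNormSubgroup_iff_of_normal.mpr (h U V hUV hU)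

theorem chiefKer_normal (X₀ : Subgroup G) : (chiefKer X₀).Normal := by
  constructor
  intro x hx g
  unfold chiefKer at hx ⊢
  rw [Subgroup.mem_sInf] at hx ⊢
  rintro K ⟨U, V, hUV, hU, rfl⟩
  have := hUV.2.2.1
  have := hUV.2.1
  exact (commNormSubgroup_normal V U).conj_mem x (hx _ ⟨U, V, hUV, hU, rfl⟩) g

theorem chiefKer_anti {X₀ X₁ : Subgroup G} (h : X₀ ≤ X₁) : chiefKer X₁ ≤ chiefKer X₀ := by
  intro x hx
  rw [mem_chiefKer_iff] at hx ⊢
  intro U V hUV hU
  exact hx U V hUV (hU.trans h)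

end ck

section fin

variable {G : Type*} [Group G] [Finite G] {p : ℕ} [hp : Fact p.Prime]

/-- an element of order prime to `p` acting trivially on all chief factors below a normal
`p`-subgroup centralizes it -/
theorem chiefKer_coprime (X₀ : Subgroup G) (hX₀ : IsPGroup p X₀) {y : G}
    (hy : y ∈ chiefKer X₀) (hcop : (orderOf y).Coprime p) :
    ∀ (n : ℕ) (X : Subgroup G), X.Normal → X ≤ X₀ → Nat.card X = n →
      ⁅X, Subgroup.zpowers y⁆ = ⊥ := by
  intro n
  induction n using Nat.strong_induction_on with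
  | _ n ih =>
    intro X hXn hXX hcard
    by_cases hbot : X = ⊥
    · rw [hbot]; exact Subgroup.commutator_bot_left _
    haveI := hXn
    obtain ⟨Y, hXY⟩ := exists_chief_factor_below X hbot
    have hYn : Y.Normal := hXY.2.2.1
    have hlt : Nat.card Y < n := by
      rw [← hcard]
      by_contra hcon
      push Not at hcon
      exact hXY.1.ne (Subgroup.eq_of_le_of_card_ge hXY.1.le hcon)
    have h1 : ⁅Y, Subgroup.zpowers y⁆ = ⊥ := ih _ hlt Y hYn (hXY.1.le.trans hXX) rfl
    have h2 : ⁅X, Subgroup.zpowers y⁆ ≤ Y := (mem_chiefKer_iff.mp hy) X Y hXY hXX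
    have h3 : ⁅⁅X, Subgroup.zpowers y⁆, Subgroup.zpowers y⁆ = ⊥ := by
      rw [eq_bot_iff, ← h1]
      exact Subgroup.commutator_mono h2 le_rfl
    have hyN : y ∈ Subgroup.normalizer (X : Set G) := by
      rw [Subgroup.normalizer_eq_top_iff.mpr hXn]; exact Subgroup.mem_top y
    exact commutator_eq_bot_of_coprime_quad X (hX₀.to_le hXX) y hyN hcop h3

theorem chiefKer_pow (X₀ : Subgroup G) [hXn : X₀.Normal] (hX₀ : IsPGroup p X₀) {x : G}
    (hx : x ∈ chiefKer X₀) :
    ∃ k : ℕ, x ^ p ^ k ∈ Subgroup.centralizer (X₀ : Set G) := by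
  obtain ⟨k, hk⟩ := exists_pow_coprime_order (p := p) x
  refine ⟨k, ?_⟩
  have h1 := chiefKer_coprime X₀ hX₀ ((chiefKer X₀).pow_mem hx _) hk _ X₀ hXn le_rfl rfl
  exact mem_centralizer_of_commutator_zpowers_eq_bot h1

/-- in a group with `C(O_p) ≤ O_p`, the kernel on the chief factors below a normal subgroup
`A ≤ O_p` with `C_{O_p}(A) ≤ A` lies in `O_p` -/
theorem chiefKer_le_pCore
    (hcon : Subgroup.centralizer ((pCore p G : Subgroup G) : Set G) ≤ pCore p G)
    (A : Subgroup G) [hAn : A.Normal] (hAT : A ≤ pCore p G)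
    (hA4 : pCore p G ⊓ Subgroup.centralizer (A : Set G) ≤ A) :
    chiefKer A ≤ pCore p G := by
  have hTp : IsPGroup p (pCore p G) := pCore_isPGroup p
  apply le_pCore' (chiefKer_normal A)
  apply isPGroup_of_coprime_eq_one
  intro y hy hcop
  have h1 := chiefKer_coprime A (hTp.to_le hAT) hy hcop _ A hAn le_rfl rfl
  have h2 : y ∈ pCore p G :=
    centralizer_le_pCore_of_critical hcon A hAT hA4
      (mem_centralizer_of_commutator_zpowers_eq_bot h1)
  exact eq_one_of_mem_pGroup_of_coprime hTp h2 hcop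

/-- a normal subgroup acting as a `p`-group on a chief factor which is a `p`-group centralizes
the chief factor -/
theorem chief_centralized {U V : Subgroup G} (hUV : IsChiefFactor U V) (hUp : IsPGroup p U)
    (D : Subgroup G) [hDn : D.Normal]
    (hD : ∀ d ∈ D, ∃ k : ℕ, ⁅U, Subgroup.zpowers (d ^ p ^ k)⁆ ≤ V) : ⁅U, D⁆ ≤ V := by
  obtain ⟨hlt, hUn, hVn, hmin⟩ := hUV
  haveI := hUn
  haveI := hVn
  set π := QuotientGroup.mk' V with hπ
  have hπs : Function.Surjective π := QuotientGroup.mk'_surjective V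
  have hker : π.ker = V := QuotientGroup.ker_mk' V
  set P := U.map π with hP
  haveI hPn : P.Normal := Subgroup.Normal.map hUn π hπs
  have hPp : IsPGroup p P := hUp.map π
  have hcomap : P.comap π = U := by
    rw [hP, Subgroup.comap_map_eq, hker, sup_eq_left.mpr hlt.le]
  have hVbot : V.map π = ⊥ := by
    rw [Subgroup.map_eq_bot_iff, hker]
  have hPmin : ∀ K : Subgroup (G ⧸ V), K.Normal → K ≤ P → K = ⊥ ∨ K = P := by
    intro K hK hKP
    have hN : (K.comap π).Normal := Subgroup.Normal.comap hK π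
    have hVK : V ≤ K.comap π := by
      intro v hv
      rw [Subgroup.mem_comap]
      have : π v = 1 := (QuotientGroup.eq_one_iff v).mpr hv
      rw [this]; exact K.one_mem
    have hKU : K.comap π ≤ U := by
      rw [← hcomap]; exact Subgroup.comap_mono hKP
    rcases hmin (K.comap π) hN hVK hKU with h | h
    · left
      rw [← Subgroup.map_comap_eq_self_of_surjective hπs K, h, hVbot]
    · right
      rw [← Subgroup.map_comap_eq_self_of_surjective hπs K, h]
  haveI hD'n : (D.map π).Normal := Subgroup.Normal.map hDn π hπs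
  have hD' : ∀ d ∈ D.map π, ∃ k : ℕ, d ^ p ^ k ∈ Subgroup.centralizer (P : Set (G ⧸ V)) := by
    rintro _ ⟨d, hd, rfl⟩
    obtain ⟨k, hk⟩ := hD d hd
    refine ⟨k, ?_⟩
    rw [← map_pow, Subgroup.mem_centralizer_iff]
    rintro _ ⟨a, ha, rfl⟩
    have h1 : ⁅a, d ^ p ^ k⁆ ∈ V :=
      hk (Subgroup.commutator_mem_commutator ha (Subgroup.mem_zpowers _))
    have h2 : ⁅π a, π (d ^ p ^ k)⁆ = 1 := by
      rw [← map_commutatorElement]
      exact (QuotientGroup.eq_one_iff _).mpr h1
    exact commutatorElement_eq_one_iff_mul_comm.mp h2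
  have h3 := Cfsg.Agent.Helper19.KInf.le_centralizer_of_pow_mem P hPp hPmin (D.map π) hD'
  have h4 : (⁅U, D⁆).map π = ⊥ := by
    rw [Subgroup.map_commutator, Subgroup.commutator_comm,
      Subgroup.commutator_eq_bot_iff_le_centralizer]
    exact h3
  rw [Subgroup.map_eq_bot_iff, hker] at h4
  exact h4

/-- `O_p(G)` acts trivially on the chief factors below it -/
theorem pCore_le_chiefKer : pCore p G ≤ chiefKer (pCore p G) := by
  have hTp : IsPGroup p (pCore p G) := pCore_isPGroup p
  haveI hTn : (pCore p G).Normal := pCore_normal p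
  intro x hx
  rw [mem_chiefKer_iff]
  intro U V hUV hU
  have h1 : ⁅U, pCore p G⁆ ≤ V := by
    apply chief_centralized hUV (hTp.to_le hU) (pCore p G)
    intro d hd
    obtain ⟨k, hk⟩ := hTp ⟨d, hd⟩
    refine ⟨k, ?_⟩
    have hk' : d ^ p ^ k = 1 := by
      have := congrArg Subtype.val hk
      simpa using this
    rw [hk', Subgroup.zpowers_one_eq_bot, Subgroup.commutator_bot_right]
    exact bot_le
  exact (Subgroup.commutator_mono le_rfl (Subgroup.zpowers_le.mpr hx)).trans h1

end fin

end Cfsg.Agent.Helper10
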