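import Mathlib
import Cfsg.Agent.Lib.Helper10.KC1
import Cfsg.Agent.Lib.Helper10.KC2

set_option autoImplicit false

/-! Glauberman's lemma on the K-infinity subgroups: if one of them is not normal and
`C(O_p) ≤ O_p`, some element of the Sylow subgroup outside `O_p` acts cubically on a critical
subgroup and quadratically, but not trivially, on a chief factor below it. -/

namespace Cfsg.Agent.Helper10

open Cfsg
open scoped commutatorElement

section chiefmap

variable {G : Type*} [Group G] [Finite G] {p : ℕ} [hp : Fact p.Prime]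

theorem iterCommutator_mono_right {X L L' : Subgroup G} (h : L ≤ L') (n : ℕ) :
    iterCommutator X L n ≤ iterCommutator X L' n := by
  induction n with
  | zero => exact le_rfl
  | succ n ih => exact Subgroup.commutator_mono ih h

/-- Clifford's theorem applied to a quadratic action: a subgroup `B` of a subnormal subgroup `M`
acting quadratically on an `M`-invariant part of a chief factor and on the quotient by it acts
quadratically on the chief factor. -/
theorem quad_chief_of_subnormal {U V : Subgroup G} (hUV : IsChiefFactor U V)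
    (hUp : IsPGroup p U) (M B A₁ : Subgroup G) (hM : M.IsSubnormal) (hBM : B ≤ M)
    (hMA₁ : M ≤ Subgroup.normalizer (A₁ : Set G))
    (h1 : ⁅⁅U ⊓ A₁, B⁆, B⁆ ≤ V) (h2 : ⁅⁅U, B⁆, B⁆ ≤ (U ⊓ A₁) ⊔ V) : ⁅⁅U, B⁆, B⁆ ≤ V := by
  have hel := chief_factor_elementary hUV hUp
  obtain ⟨hlt, hUn, hVn, hmin⟩ := hUV
  haveI := hUn
  haveI := hVn
  set π := QuotientGroup.mk' V with hπ
  have hπs : Function.Surjective π := QuotientGroup.mk'_surjective V
  have hker : π.ker = V := QuotientGroup.ker_mk' V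
  set N := U.map π with hN
  haveI hNn : N.Normal := Subgroup.Normal.map hUn π hπs
  have hcomap : N.comap π = U := by
    rw [hN, Subgroup.comap_map_eq, hker, sup_eq_left.mpr hlt.le]
  have hVbot : V.map π = ⊥ := by
    rw [Subgroup.map_eq_bot_iff, hker]
  have hNmin : ∀ K : Subgroup (G ⧸ V), K.Normal → K ≤ N → K = ⊥ ∨ K = N := by
    intro K hK hKP
    have hNK : (K.comap π).Normal := Subgroup.Normal.comap hK π
    have hVK : V ≤ K.comap π := by
      intro v hv
      rw [Subgroup.mem_comap]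
      have : π v = 1 := (QuotientGroup.eq_one_iff v).mpr hv
      rw [this]; exact K.one_mem
    have hKU : K.comap π ≤ U := by
      rw [← hcomap]; exact Subgroup.comap_mono hKP
    rcases hmin (K.comap π) hNK hVK hKU with h | h
    · left
      rw [← Subgroup.map_comap_eq_self_of_surjective hπs K, h, hVbot]
    · right
      rw [← Subgroup.map_comap_eq_self_of_surjective hπs K, h]
  have hMU : M ≤ Subgroup.normalizer ((U ⊓ A₁ : Subgroup G) : Set G) := by
    refine le_trans (le_inf ?_ hMA₁) (normalizer_inf_le U A₁)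
    rw [Subgroup.normalizer_eq_top_iff.mpr hUn]; exact le_top
  have hHU : M.map π ≤ Subgroup.normalizer (((U ⊓ A₁).map π : Subgroup (G ⧸ V)) : Set (G ⧸ V)) :=
    (Subgroup.map_mono hMU).trans (Subgroup.le_normalizer_map π)
  have e1 : ⁅⁅(U ⊓ A₁).map π, B.map π⁆, B.map π⁆ = ⊥ := by
    rw [← Subgroup.map_commutator, ← Subgroup.map_commutator, eq_bot_iff, ← hVbot]
    exact Subgroup.map_mono h1
  have e2 : ⁅⁅N, B.map π⁆, B.map π⁆ ≤ (U ⊓ A₁).map π := by
    rw [hN, ← Subgroup.map_commutator, ← Subgroup.map_commutator]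
    refine (Subgroup.map_mono h2).trans ?_
    rw [Subgroup.map_sup, hVbot, sup_bot_eq]
  have e3 := Cfsg.Agent.Helper23.QuadSubnormal.quad_of_subnormal N hel.1 hNmin (M.map π) (hM.map hπs) (B.map π)
    ((U ⊓ A₁).map π) (Subgroup.map_mono hBM) (Subgroup.map_mono inf_le_left) hHU e1 e2
  rw [hN, ← Subgroup.map_commutator, ← Subgroup.map_commutator, Subgroup.map_eq_bot_iff,
    hker] at e3
  exact e3

end chiefmap

section cases

variable {G : Type*} [Group G] [Finite G] {p : ℕ} [hp : Fact p.Prime]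

/-- consequences of the lower-star test for a class-two subgroup `B` normalized by `A` -/
theorem lower_data (A : Subgroup G) [hAn : A.Normal]
    (hA2 : ⁅A, A⁆ ≤ Subgroup.centralizer (A : Set G)) (hA3 : ⁅pCore p G, A⁆ ≤ zOf A)
    (B : Subgroup G)
    (hB2 : ⁅B, B⁆ ≤ Subgroup.centralizer (B : Set G)) (hAB : ⁅A, B⁆ ≤ B)
    (htest : ∀ A₁ : Subgroup G, A₁ ≤ A → B ≤ Subgroup.normalizer (A₁ : Set G) →
      ⁅B, ⁅A₁, A₁⁆⁆ = ⊥ → ⁅B, A₁⁆ ≤ zOf B) :
    ⁅⁅zOf A, B⁆, B⁆ = ⊥ ∧ iterCommutator A B 3 = ⊥ ∧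
    B ≤ Subgroup.normalizer ((critSub A B : Subgroup G) : Set G) ∧
    ⁅⁅critSub A B, B⁆, B⁆ = ⊥ ∧ ⁅⁅A, B⁆, B⁆ ≤ critSub A B ∧
    Subgroup.centralizer ((zOf A : Subgroup G) : Set G) ≤
      Subgroup.normalizer ((critSub A B : Subgroup G) : Set G) ∧
    pCore p G ≤ Subgroup.normalizer ((critSub A B : Subgroup G) : Set G) := by
  set T := pCore p G with hT
  have hZn : (zOf A).Normal := zOf_normal_of_normal A
  have hNA : Subgroup.normalizer (A : Set G) = ⊤ := Subgroup.normalizer_eq_top_iff.mpr hAn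
  have hNZ : Subgroup.normalizer ((zOf A : Subgroup G) : Set G) = ⊤ :=
    Subgroup.normalizer_eq_top_iff.mpr hZn
  have hBBz : ⁅zOf B, B⁆ = ⊥ := zOf_comm_bot B
  have hZq : ⁅⁅zOf A, B⁆, B⁆ = ⊥ := by
    have h1 : ⁅B, zOf A⁆ ≤ zOf B := by
      apply htest (zOf A) inf_le_left (by rw [hNZ]; exact le_top)
      rw [zOf_self_comm_bot, Subgroup.commutator_bot_right]
    rw [eq_bot_iff, ← hBBz]
    refine Subgroup.commutator_mono ?_ le_rfl
    rw [Subgroup.commutator_comm]; exact h1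
  set A₁ := critSub A B with hA₁
  have hA₁A : A₁ ≤ A := critSub_le A B
  have hZA₁ : zOf A ≤ A₁ := zOf_le_critSub hA2
  have hAAn : (⁅A, A⁆ : Subgroup G).Normal := Subgroup.commutator_normal A A
  have hAAz : ⁅A, A⁆ ≤ zOf A := le_inf (Subgroup.commutator_le_left A A) hA2
  have hBW₀ : B ≤ Subgroup.normalizer
      ((⁅A, A⁆ ⊓ Subgroup.centralizer (B : Set G) : Subgroup G) : Set G) := by
    refine le_trans (le_inf ?_ ?_) (normalizer_inf_le _ _)
    · rw [Subgroup.normalizer_eq_top_iff.mpr hAAn]; exact le_top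
    · exact Subgroup.le_normalizer.trans (normalizer_le_normalizer_centralizer_kseq B)
  have hBA₁ : B ≤ Subgroup.normalizer (A₁ : Set G) := fun b hb =>
    mem_normalizer_critSub (by rw [hNA]; exact Subgroup.mem_top b) (hBW₀ hb)
  have hBA₁z : ⁅B, A₁⁆ ≤ zOf B := by
    apply htest A₁ hA₁A hBA₁
    rw [Subgroup.commutator_comm, Subgroup.commutator_eq_bot_iff_le_centralizer]
    exact commutator_critSub_self_le A B
  have hA₁q : ⁅⁅A₁, B⁆, B⁆ = ⊥ := by
    rw [eq_bot_iff, ← hBBz]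
    refine Subgroup.commutator_mono ?_ le_rfl
    rw [Subgroup.commutator_comm]; exact hBA₁z
  have hABBz : ⁅⁅A, B⁆, B⁆ ≤ A ⊓ zOf B := by
    have h1 : ⁅A, B⁆ ≤ A ⊓ B := le_inf (Subgroup.commutator_le_left A B) hAB
    refine le_inf ?_ ?_
    · exact (Subgroup.commutator_mono (h1.trans inf_le_left) le_rfl).trans
        (Subgroup.commutator_le_left A B)
    · exact (Subgroup.commutator_mono (h1.trans inf_le_right) le_rfl).trans
        (le_inf (Subgroup.commutator_le_self B) hB2)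
  have hABB : ⁅⁅A, B⁆, B⁆ ≤ A₁ := hABBz.trans (inf_zOf_le_critSub hA2 hAB)
  have hcub : iterCommutator A B 3 = ⊥ := by
    show ⁅⁅⁅A, B⁆, B⁆, B⁆ = ⊥
    rw [eq_bot_iff, ← hBBz]
    exact Subgroup.commutator_mono (hABBz.trans inf_le_right) le_rfl
  have hC₂A₁ : Subgroup.centralizer ((zOf A : Subgroup G) : Set G) ≤
      Subgroup.normalizer (A₁ : Set G) := by
    intro c hc
    apply mem_normalizer_critSub (by rw [hNA]; exact Subgroup.mem_top c)
    apply Subgroup.centralizer_le_normalizer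
    exact Subgroup.centralizer_le (by
      intro w hw
      exact hAAz hw.1) hc
  have hTA₁ : T ≤ Subgroup.normalizer (A₁ : Set G) := by
    rw [Subgroup.le_normalizer_iff_commutator_le_right]
    exact (Subgroup.commutator_mono le_rfl hA₁A).trans (hA3.trans hZA₁)
  exact ⟨hZq, hcub, hBA₁, hA₁q, hABB, hC₂A₁, hTA₁⟩

theorem lower_case
    (hcon : Subgroup.centralizer ((pCore p G : Subgroup G) : Set G) ≤ pCore p G)
    (A : Subgroup G) [hAn : A.Normal] (hAT : A ≤ pCore p G)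
    (hA2 : ⁅A, A⁆ ≤ Subgroup.centralizer (A : Set G)) (hA3 : ⁅pCore p G, A⁆ ≤ zOf A)
    (hA4 : pCore p G ⊓ Subgroup.centralizer (A : Set G) ≤ zOf A)
    (B : Subgroup G)
    (hB2 : ⁅B, B⁆ ≤ Subgroup.centralizer (B : Set G)) (hAB : ⁅A, B⁆ ≤ B)
    (htest : ∀ A₁ : Subgroup G, A₁ ≤ A → B ≤ Subgroup.normalizer (A₁ : Set G) →
      ⁅B, ⁅A₁, A₁⁆⁆ = ⊥ → ⁅B, A₁⁆ ≤ zOf B)
    (hBT : ¬ B ≤ pCore p G) :
    ∃ g ∈ B, g ∉ pCore p G ∧ ∃ U V : Subgroup G, IsChiefFactor U V ∧ U ≤ A ∧
      ⁅⁅U, Subgroup.zpowers g⁆, Subgroup.zpowers g⁆ ≤ V ∧ ¬ ⁅U, Subgroup.zpowers g⁆ ≤ V := by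
  obtain ⟨hZq, -, hBA₁, hA₁q, hABB, hC₂A₁, hTA₁⟩ := lower_data A hA2 hA3 B hB2 hAB htest
  set T := pCore p G with hT
  have hTn : T.Normal := pCore_normal p
  have hTp : IsPGroup p T := pCore_isPGroup p
  have hZn : (zOf A).Normal := zOf_normal_of_normal A
  set Z := zOf A with hZ
  have hZT : Z ≤ T := inf_le_left.trans hAT
  set A₁ := critSub A B with hA₁
  by_cases hR : B ≤ chiefKer Z
  · -- the subnormal subgroup `C(Z) B T`
    set C₂ := Subgroup.centralizer (Z : Set G) with hC₂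
    haveI hC₂n : C₂.Normal := Subgroup.normal_centralizer
    haveI hR₁n : (chiefKer Z).Normal := chiefKer_normal Z
    have hC₂R : C₂ ≤ chiefKer Z := by
      intro x hx
      rw [mem_chiefKer_iff]
      intro U V _ hU
      have h1 : ⁅Z, Subgroup.zpowers x⁆ = ⊥ := by
        rw [Subgroup.commutator_comm, Subgroup.commutator_eq_bot_iff_le_centralizer]
        exact Subgroup.zpowers_le.mpr hx
      exact ((Subgroup.commutator_mono hU le_rfl).trans (le_of_eq h1)).trans bot_le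
    have hTR : T ≤ chiefKer Z := pCore_le_chiefKer.trans (chiefKer_anti hZT)
    set M' := C₂ ⊔ B ⊔ T with hM'
    have hM'R : M' ≤ chiefKer Z := sup_le (sup_le hC₂R hR) hTR
    have hM'sn : M'.IsSubnormal :=
      Cfsg.Agent.Helper19.KInf.isSubnormal_of_pquot (p := p) (chiefKer Z) C₂ M' (le_sup_left.trans le_sup_left) hM'R
        (fun x hx => chiefKer_pow Z (hTp.to_le hZT) hx)
    have hM'A₁ : M' ≤ Subgroup.normalizer (A₁ : Set G) := sup_le (sup_le hC₂A₁ hBA₁) hTA₁
    obtain ⟨g, hgB, hgT⟩ := SetLike.not_le_iff_exists.mp hBT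
    have hgK : g ∉ chiefKer A := fun h =>
      hgT (chiefKer_le_pCore hcon A hAT (hA4.trans inf_le_left) h)
    rw [mem_chiefKer_iff] at hgK
    push Not at hgK
    obtain ⟨U, V, hUV, hUA, hUg⟩ := hgK
    have hUn : U.Normal := hUV.2.1
    refine ⟨g, hgB, hgT, U, V, hUV, hUA, ?_, hUg⟩
    have hq : ⁅⁅U, B⁆, B⁆ ≤ V := by
      apply quad_chief_of_subnormal hUV (hTp.to_le (hUA.trans hAT)) M' B A₁ hM'sn
        (le_sup_right.trans le_sup_left) hM'A₁
      · exact ((Subgroup.commutator_mono (Subgroup.commutator_mono inf_le_right le_rfl)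
          le_rfl).trans (le_of_eq hA₁q)).trans bot_le
      · refine le_trans (le_inf ?_ ?_) le_sup_left
        · exact (Subgroup.commutator_mono (Subgroup.commutator_le_left U B) le_rfl).trans
            (Subgroup.commutator_le_left U B)
        · exact (Subgroup.commutator_mono (Subgroup.commutator_mono hUA le_rfl) le_rfl).trans hABB
    have hz : Subgroup.zpowers g ≤ B := Subgroup.zpowers_le.mpr hgB
    exact (Subgroup.commutator_mono (Subgroup.commutator_mono le_rfl hz) hz).trans hq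
  · obtain ⟨b, hbB, hbR⟩ := SetLike.not_le_iff_exists.mp hR
    rw [mem_chiefKer_iff] at hbR
    push Not at hbR
    obtain ⟨U, V, hUV, hUZ, hUb⟩ := hbR
    have hbT : b ∉ T := by
      intro hb
      apply hUb
      exact (mem_chiefKer_iff.mp (chiefKer_anti hZT (pCore_le_chiefKer hb))) U V hUV hUZ
    refine ⟨b, hbB, hbT, U, V, hUV, hUZ.trans inf_le_left, ?_, hUb⟩
    have hz : Subgroup.zpowers b ≤ B := Subgroup.zpowers_le.mpr hbB
    have : ⁅⁅U, Subgroup.zpowers b⁆, Subgroup.zpowers b⁆ ≤ ⁅⁅Z, B⁆, B⁆ :=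
      Subgroup.commutator_mono (Subgroup.commutator_mono hUZ hz) hz
    rw [hZq] at this
    exact this.trans bot_le

theorem upper_case
    (hcon : Subgroup.centralizer ((pCore p G : Subgroup G) : Set G) ≤ pCore p G)
    (A : Subgroup G) [hAn : A.Normal] (hAT : A ≤ pCore p G)
    (hA4 : pCore p G ⊓ Subgroup.centralizer (A : Set G) ≤ zOf A)
    (X : Subgroup G) (h1 : ⁅⁅A, X⁆, X⁆ ≤ zOf A) (h2 : ⁅⁅zOf A, X⁆, X⁆ = ⊥)
    (hXT : ¬ X ≤ pCore p G) :
    ∃ g ∈ X, g ∉ pCore p G ∧ ∃ U V : Subgroup G, IsChiefFactor U V ∧ U ≤ A ∧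
      ⁅⁅U, Subgroup.zpowers g⁆, Subgroup.zpowers g⁆ ≤ V ∧ ¬ ⁅U, Subgroup.zpowers g⁆ ≤ V := by
  have hZn : (zOf A).Normal := zOf_normal_of_normal A
  obtain ⟨g, hgX, hgT⟩ := SetLike.not_le_iff_exists.mp hXT
  have hgK : g ∉ chiefKer A := fun h =>
    hgT (chiefKer_le_pCore hcon A hAT (hA4.trans inf_le_left) h)
  rw [mem_chiefKer_iff] at hgK
  push Not at hgK
  obtain ⟨U, V, hUV, hUA, hUg⟩ := hgK
  refine ⟨g, hgX, hgT, U, V, hUV, hUA, ?_, hUg⟩
  have hz : Subgroup.zpowers g ≤ X := Subgroup.zpowers_le.mpr hgX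
  have hstep : iterCommutator A (Subgroup.zpowers g) 2 ≤ zOf A :=
    (Subgroup.commutator_mono (Subgroup.commutator_mono le_rfl hz) hz).trans h1
  have hrest : ∀ U V : Subgroup G, IsChiefFactor U V → U ≤ zOf A →
      iterCommutator U (Subgroup.zpowers g) 2 ≤ V := by
    intro U' V' _ hU'
    have : ⁅⁅U', Subgroup.zpowers g⁆, Subgroup.zpowers g⁆ ≤ ⁅⁅zOf A, X⁆, X⁆ :=
      Subgroup.commutator_mono (Subgroup.commutator_mono hU' hz) hz
    rw [h2] at this
    exact this.trans bot_le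
  exact localize_step 2 hstep hrest U V hUV hUA

end cases

section core

universe u

variable {G : Type u} [Group G] [Finite G] {p : ℕ} [hp : Fact p.Prime]

/-- **Glauberman's lemma** for a group with `C(O_p) ≤ O_p`. -/
theorem kcore (S : Sylow p G) (A : Subgroup G) [hAn : A.Normal] (hAT : A ≤ pCore p G)
    (hA2 : ⁅A, A⁆ ≤ Subgroup.centralizer (A : Set G)) (hA3 : ⁅pCore p G, A⁆ ≤ zOf A)
    (hA4 : pCore p G ⊓ Subgroup.centralizer (A : Set G) ≤ zOf A)
    (hcon : Subgroup.centralizer ((pCore p G : Subgroup G) : Set G) ≤ pCore p G)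
    (hK : ¬ (inducedFunctor kInfLower (S : Subgroup G)).Normal ∨
      ¬ (inducedFunctor kInfUpper (S : Subgroup G)).Normal) :
    ∃ g : G, g ∈ (S : Subgroup G) ∧ g ∉ pCore p G ∧
      iterCommutator A (Subgroup.zpowers g) 3 ≤ zOf A ∧
      ⁅⁅zOf A, Subgroup.zpowers g⁆, Subgroup.zpowers g⁆ = ⊥ ∧
      ∃ U V : Subgroup G, IsChiefFactor U V ∧ U ≤ A ∧
        ⁅⁅U, Subgroup.zpowers g⁆, Subgroup.zpowers g⁆ ≤ V ∧ ¬ ⁅U, Subgroup.zpowers g⁆ ≤ V := by
  by_contra hno
  push Not at hno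
  have hZn : (zOf A).Normal := zOf_normal_of_normal A
  have hnorm := kinf_normal_of_HU_HL S A hAT hA2 hA3 ?_ ?_
  · rcases hK with h | h
    · exact h hnorm.1
    · exact h hnorm.2
  · intro X hXS h1 h2
    by_contra hXT
    obtain ⟨g, hgX, hgT, U, V, hUV, hUA, hq, hn⟩ := upper_case hcon A hAT hA4 X h1 h2 hXT
    have hz : Subgroup.zpowers g ≤ X := Subgroup.zpowers_le.mpr hgX
    refine hn (hno g (hXS hgX) hgT ?_ ?_ U V hUV hUA hq)
    · have e1 : ⁅⁅A, Subgroup.zpowers g⁆, Subgroup.zpowers g⁆ ≤ zOf A :=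
        (Subgroup.commutator_mono (Subgroup.commutator_mono le_rfl hz) hz).trans h1
      exact (Subgroup.commutator_mono e1 le_rfl).trans (Subgroup.commutator_le_left _ _)
    · rw [eq_bot_iff, ← h2]
      exact Subgroup.commutator_mono (Subgroup.commutator_mono le_rfl hz) hz
  · intro B hBS hB2 hAB hZB htest
    by_contra hBT
    obtain ⟨hZq, hcub, -⟩ := lower_data A hA2 hA3 B hB2 hAB htest
    obtain ⟨g, hgB, hgT, U, V, hUV, hUA, hq, hn⟩ :=
      lower_case hcon A hAT hA2 hA3 hA4 B hB2 hAB htest hBT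
    have hz : Subgroup.zpowers g ≤ B := Subgroup.zpowers_le.mpr hgB
    refine hn (hno g (hBS hgB) hgT ?_ ?_ U V hUV hUA hq)
    · have := iterCommutator_mono_right (X := A) hz 3
      rw [hcub] at this
      exact this.trans bot_le
    · rw [eq_bot_iff, ← hZq]
      exact Subgroup.commutator_mono (Subgroup.commutator_mono le_rfl hz) hz

end core

end Cfsg.Agent.Helper10
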