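import Mathlib
import Cfsg.Agent.Lib.Helper10.KC2
import Cfsg.Agent.Lib.Helper10.KStab8

set_option autoImplicit false

/-! A chief factor on which some element acts quadratically but not trivially gives a quotient
group that is not `p`-stable (in the normalizer form). -/

namespace Cfsg.Agent.Helper10

open Cfsg
open scoped commutatorElement

section ns

variable {G : Type*} [Group G] [Finite G] {p : ℕ} [hp : Fact p.Prime]

theorem chief_map_min {U V : Subgroup G} (hUV : IsChiefFactor U V) [hVn : V.Normal] :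
    ∀ K : Subgroup (G ⧸ V), K.Normal → K ≤ U.map (QuotientGroup.mk' V) →
      K = ⊥ ∨ K = U.map (QuotientGroup.mk' V) := by
  obtain ⟨hlt, hUn, -, hmin⟩ := hUV
  set π := QuotientGroup.mk' V with hπ
  have hπs : Function.Surjective π := QuotientGroup.mk'_surjective V
  have hker : π.ker = V := QuotientGroup.ker_mk' V
  have hcomap : (U.map π).comap π = U := by
    rw [Subgroup.comap_map_eq, hker, sup_eq_left.mpr hlt.le]
  have hVbot : V.map π = ⊥ := by
    rw [Subgroup.map_eq_bot_iff, hker]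
  intro K hK hKP
  have hNK : (K.comap π).Normal := Subgroup.Normal.comap hK π
  have hVK : V ≤ K.comap π := by
    intro v hv
    rw [Subgroup.mem_comap]
    have : π v = 1 := (QuotientGroup.eq_one_iff v).mpr hv
    rw [this]; exact K.one_mem
  have hKU : K.comap π ≤ U := by
    rw [← hcomap]; exact Subgroup.comap_mono hKP
  rcases hmin (K.comap π) hNK hVK hKU with h | h
  · left
    rw [← Subgroup.map_comap_eq_self_of_surjective hπs K, h, hVbot]
  · right
    rw [← Subgroup.map_comap_eq_self_of_surjective hπs K, h]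

theorem not_stable_of_chief {U V : Subgroup G} (hUV : IsChiefFactor U V) [hVn : V.Normal]
    (hUp : IsPGroup p U) (g : G)
    (hq : ⁅⁅U, Subgroup.zpowers g⁆, Subgroup.zpowers g⁆ ≤ V)
    (hn : ¬ ⁅U, Subgroup.zpowers g⁆ ≤ V) : ¬ IsNormalizerPStable p (G ⧸ V) := by
  intro hst
  have hUn : U.Normal := hUV.2.1
  set π := QuotientGroup.mk' V with hπ
  have hπs : Function.Surjective π := QuotientGroup.mk'_surjective V
  have hker : π.ker = V := QuotientGroup.ker_mk' V
  have hVbot : V.map π = ⊥ := by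
    rw [Subgroup.map_eq_bot_iff, hker]
  set P := U.map π with hP
  haveI hPn : P.Normal := Subgroup.Normal.map hUn π hπs
  have hPp : IsPGroup p P := hUp.map π
  have hNP : Subgroup.normalizer (P : Set (G ⧸ V)) = ⊤ := Subgroup.normalizer_eq_top_iff.mpr hPn
  have hgN : π g ∈ Subgroup.normalizer (P : Set (G ⧸ V)) := by
    rw [hNP]; exact Subgroup.mem_top _
  have hzp : Subgroup.zpowers (π g) = (Subgroup.zpowers g).map π := by
    rw [MonoidHom.map_zpowers]
  have hquad : ⁅⁅P, Subgroup.zpowers (π g)⁆, Subgroup.zpowers (π g)⁆ = ⊥ := by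
    rw [hzp, hP, ← Subgroup.map_commutator, ← Subgroup.map_commutator, eq_bot_iff, ← hVbot]
    exact Subgroup.map_mono hq
  have h := hst P hPp (π g) hgN hquad
  set NP := Subgroup.normalizer (P : Set (G ⧸ V)) with hNPdef
  set Cq := (Subgroup.centralizer (P : Set (G ⧸ V))).subgroupOf NP with hCq
  set Q := pCore p (↥NP ⧸ Cq) with hQ
  have hQp : IsPGroup p Q := pCore_isPGroup p
  haveI hQn : Q.Normal := pCore_normal p
  set ψ : ↥NP →* ↥NP ⧸ Cq := QuotientGroup.mk' Cq with hψ
  set D₀ : Subgroup ↥NP := Q.comap ψ with hD₀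
  haveI hD₀n : D₀.Normal := Subgroup.Normal.comap hQn ψ
  set D : Subgroup (G ⧸ V) := D₀.map NP.subtype with hD
  haveI hDn : D.Normal := by
    rw [← Subgroup.normalizer_eq_top_iff, eq_top_iff, ← hNP]
    exact le_normalizer_map_subtype_normal D₀
  have hDpow : ∀ d ∈ D, ∃ k : ℕ, d ^ p ^ k ∈ Subgroup.centralizer (P : Set (G ⧸ V)) := by
    rintro _ ⟨d₀, hd₀, rfl⟩
    have h1 : ψ d₀ ∈ Q := hd₀
    obtain ⟨k, hk⟩ := hQp ⟨ψ d₀, h1⟩
    have hk' : (ψ d₀) ^ p ^ k = 1 := by
      have := congrArg Subtype.val hk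
      simpa using this
    refine ⟨k, ?_⟩
    rw [← map_pow] at hk'
    have h2 : d₀ ^ p ^ k ∈ Cq := by
      have : d₀ ^ p ^ k ∈ ψ.ker := hk'
      rwa [hψ, QuotientGroup.ker_mk'] at this
    have h3 := Subgroup.mem_subgroupOf.mp h2
    simpa using h3
  have h3 := Cfsg.Agent.Helper19.KInf.le_centralizer_of_pow_mem P hPp (chief_map_min hUV) D hDpow
  have hgD : π g ∈ D := ⟨⟨π g, hgN⟩, h, rfl⟩
  have h4 : π g ∈ Subgroup.centralizer (P : Set (G ⧸ V)) := h3 hgD
  apply hn
  have h5 : (⁅U, Subgroup.zpowers g⁆).map π = ⊥ := by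
    rw [Subgroup.map_commutator, ← hzp, Subgroup.commutator_comm,
      Subgroup.commutator_eq_bot_iff_le_centralizer]
    exact Subgroup.zpowers_le.mpr h4
  rw [Subgroup.map_eq_bot_iff, hker] at h5
  exact h5

end ns

end Cfsg.Agent.Helper10
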