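import Mathlib
import Cfsg.Agent.Lib.Helper1.QdNoControl
import Cfsg.Agent.Lib.Helper10.SecInduced
import Cfsg.Agent.Lib.Helper10.KWeakG
import Cfsg.Agent.S1981

set_option autoImplicit false

/-! In the affine group `F² ⋊ SL₂(F)` the K-infinity subgroups of a Sylow `p`-subgroup `T` are `T`
itself, and `T` does not control strong fusion. -/

namespace Cfsg.Agent.Helper10

open Cfsg Subgroup
open scoped Matrix
open Cfsg.Agent.S2761 Cfsg.Agent.Helper14.SL2Vec Cfsg.Agent.Helper14.Qd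

section qd

variable {F : Type*} [Field F] [Fintype F] {p : ℕ} [Fact p.Prime] [CharP F p]

theorem stab_gen {v₀ : Fin 2 → F} (hv₀ : v₀ ≠ 0) :
    ⨆ A ∈ {A : Subgroup ↥(stab v₀) | A.Normal ∧ IsMulCommutative ↥A}, A = ⊤ := by
  obtain ⟨w₀, hd⟩ := exists_dt_eq_one hv₀
  set V₁ : Subgroup ↥(stab v₀) := (transSubgroup F).subgroupOf (stab v₀) with hV₁
  have hV₁n : V₁.Normal := Subgroup.Normal.subgroupOf transSubgroup_normal _
  have hV₁c : ∀ x ∈ V₁, ∀ y ∈ V₁, x * y = y * x := by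
    intro x hx y hy
    rw [hV₁, Subgroup.mem_subgroupOf] at hx hy
    obtain ⟨u, hu⟩ := (mem_transSubgroup_iff_exists _).mp hx
    obtain ⟨w, hw⟩ := (mem_transSubgroup_iff_exists _).mp hy
    apply Subtype.ext
    rw [Subgroup.coe_mul, Subgroup.coe_mul, hu, hw, trans_mul, trans_mul, add_comm]
  set V₂ : Subgroup ↥(stab v₀) := V₁.map (flip hd).toMonoidHom with hV₂
  have hV₂n : V₂.Normal := Subgroup.Normal.map hV₁n _ (flip hd).surjective
  have hV₂c : ∀ x ∈ V₂, ∀ y ∈ V₂, x * y = y * x := by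
    rintro _ ⟨a, ha, rfl⟩ _ ⟨b, hb, rfl⟩
    rw [← map_mul, ← map_mul, hV₁c a ha b hb]
  have hmem₁ : V₁ ∈ {A : Subgroup ↥(stab v₀) | A.Normal ∧ IsMulCommutative ↥A} :=
    ⟨hV₁n, ⟨⟨fun a b => Subtype.ext (hV₁c a.1 a.2 b.1 b.2)⟩⟩⟩
  have hmem₂ : V₂ ∈ {A : Subgroup ↥(stab v₀) | A.Normal ∧ IsMulCommutative ↥A} :=
    ⟨hV₂n, ⟨⟨fun a b => Subtype.ext (hV₂c a.1 a.2 b.1 b.2)⟩⟩⟩
  rw [eq_top_iff]
  have h1 : V₁ ≤ ⨆ A ∈ {A : Subgroup ↥(stab v₀) | A.Normal ∧ IsMulCommutative ↥A}, A :=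
    le_biSup (fun A => A) hmem₁
  have h2 : V₂ ≤ ⨆ A ∈ {A : Subgroup ↥(stab v₀) | A.Normal ∧ IsMulCommutative ↥A}, A :=
    le_biSup (fun A => A) hmem₂
  intro x _
  have hx := eq_hmk_coords hd x.2
  set c := cC w₀ x.1
  set b := cB v₀ x.1
  set a := cA w₀ x.1
  have hx' : x = (⟨hmk v₀ w₀ c 0 0, hmk_mem_stab _ _ _⟩ : ↥(stab v₀)) *
      ⟨hmk v₀ w₀ 0 b (a - c * b), hmk_mem_stab _ _ _⟩ := by
    apply Subtype.ext
    rw [Subgroup.coe_mul]
    show x.1 = hmk v₀ w₀ c 0 0 * hmk v₀ w₀ 0 b (a - c * b)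
    rw [hmk_mul hd, hx]
    congr 1 <;> ring
  rw [hx']
  apply Subgroup.mul_mem
  · apply h2
    refine ⟨⟨hmk v₀ w₀ 0 c 0, hmk_mem_stab _ _ _⟩, ?_, ?_⟩
    · show _ ∈ V₁
      rw [hV₁, Subgroup.mem_subgroupOf]
      exact (hmk_mem_transSubgroup_iff hd 0 c 0).mpr rfl
    · have := flipFun_hmk hd 0 c 0
      show flipFun v₀ w₀ _ = _
      rw [this]
      apply Subtype.ext
      show hmk v₀ w₀ c 0 (0 * c - 0) = hmk v₀ w₀ c 0 0
      congr 1
      ring
  · apply h1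
    rw [hV₁, Subgroup.mem_subgroupOf]
    exact (hmk_mem_transSubgroup_iff hd 0 b _).mpr rfl

theorem kinf_stab (p : ℕ) [Fact p.Prime] [CharP F p] {v₀ : Fin 2 → F} (hv₀ : v₀ ≠ 0) :
    inducedFunctor (G := ↥(affSubgroup F)) kInfLower (stab v₀) = stab v₀ ∧
      inducedFunctor (G := ↥(affSubgroup F)) kInfUpper (stab v₀) = stab v₀ := by
  have h := Cfsg.Agent.S1981.result (p := p) (isPGroup_stab hv₀) (stab_gen hv₀)
  unfold inducedFunctor
  rw [h.1, h.2, ← MonoidHom.range_eq_map, Subgroup.range_subtype]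
  exact ⟨rfl, rfl⟩

omit [Fintype F] [Fact p.Prime] [CharP F p] in
/-- In the affine group `F² ⋊ SL₂(F)` a Sylow `p`-subgroup does not control strong fusion. -/
theorem not_controls_stab {v₀ : Fin 2 → F} (hv₀ : v₀ ≠ 0) :
    ¬ Cfsg.ControlsStrongFusion p (stab v₀ : Subgroup ↥(affSubgroup F)) := by
  rintro ⟨T', hle, hctl⟩
  obtain ⟨w₀, hd⟩ := exists_dt_eq_one hv₀
  have hVT' : transSubgroup F ≤ (T' : Subgroup ↥(affSubgroup F)) :=
    (transSubgroup_le_stab v₀).trans hle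
  have hcen : Cfsg.Agent.Helper14.Qd.trans v₀ ∈
      centralizer ((stab v₀ : Subgroup ↥(affSubgroup F)) : Set ↥(affSubgroup F)) := by
    rw [mem_centralizer_iff]
    intro x hx
    have h1 := conj_trans_gen x v₀
    rw [(mem_stab_iff v₀ x).mp hx] at h1
    calc x * trans v₀ = (x * trans v₀ * x⁻¹) * x := by group
      _ = trans v₀ * x := by rw [h1]
  obtain ⟨B, hB⟩ := exists_dt_mulVec_ne_zero hv₀
  set u₁ := (B : Matrix (Fin 2) (Fin 2) F) *ᵥ v₀ with hu₁
  have hconj : linHom F B * trans v₀ * (linHom F B)⁻¹ = trans u₁ := conj_trans B v₀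
  obtain ⟨x, hx, hxa⟩ := (hctl {trans v₀} (by
      intro y hy
      rw [Set.mem_singleton_iff] at hy
      rw [hy]; exact hVT' (trans_mem v₀))).2 (linHom F B) (by
      rintro _ ⟨y, hy, rfl⟩
      rw [Set.mem_singleton_iff] at hy
      show linHom F B * y * (linHom F B)⁻¹ ∈ (T' : Subgroup ↥(affSubgroup F))
      rw [hy, hconj]; exact hVT' (trans_mem u₁))
  have h1 := hxa (trans v₀) rfl
  rw [hconj] at h1
  -- `trans u₁` is central in `stab v₀`
  have hcen' : trans u₁ ∈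
      centralizer ((stab v₀ : Subgroup ↥(affSubgroup F)) : Set ↥(affSubgroup F)) := by
    rw [h1, mem_centralizer_iff]
    intro y hy
    have hy' : x⁻¹ * y * x ∈ stab v₀ := by
      have := (Subgroup.mem_normalizer_iff.mp (Subgroup.inv_mem _ hx) y).mp hy
      simpa using this
    have h2 := mem_centralizer_iff.mp hcen _ hy'
    calc y * (x * trans v₀ * x⁻¹) = x * ((x⁻¹ * y * x) * trans v₀) * x⁻¹ := by group
      _ = x * (trans v₀ * (x⁻¹ * y * x)) * x⁻¹ := by rw [h2]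
      _ = x * trans v₀ * x⁻¹ * y := by group
  have hbS : trans u₁ ∈ stab v₀ := transSubgroup_le_stab v₀ (trans_mem u₁)
  have hcoord := eq_hmk_coords hd hbS
  set c := cC w₀ (trans u₁) with hc
  set b := cB v₀ (trans u₁) with hb
  set a0 := cA w₀ (trans u₁) with ha0
  have hc0 : c = 0 := by
    have h1 : hmk v₀ w₀ c b a0 ∈ transSubgroup F := by rw [← hcoord]; exact trans_mem u₁
    exact (hmk_mem_transSubgroup_iff hd c b a0).mp h1
  have hb0 : b ≠ 0 := by
    intro hb0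
    have h2 : trans u₁ = hmk v₀ w₀ c b a0 := hcoord
    unfold hmk Cfsg.Agent.Helper14.Qd.trans at h2
    obtain ⟨-, h3⟩ := aff_injective h2
    apply hB
    rw [h3, hb0, zero_smul, add_zero, dt_smul_right, dt_self, mul_zero]
  have h3 := mem_centralizer_iff.mp hcen' (hmk v₀ w₀ 1 0 0) (hmk_mem_stab _ _ _)
  rw [hcoord, hmk_mul hd, hmk_mul hd] at h3
  obtain ⟨-, -, h4⟩ := hmk_injective hd h3
  apply hb0
  linear_combination h4

end qd

end Cfsg.Agent.Helper10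

namespace Cfsg.Agent.Helper10

open Cfsg

theorem gen_of_equiv {P P' : Type*} [Group P] [Group P'] (e : P ≃* P')
    (h : ⨆ A ∈ {A : Subgroup P | A.Normal ∧ IsMulCommutative ↥A}, A = ⊤) :
    ⨆ A ∈ {A : Subgroup P' | A.Normal ∧ IsMulCommutative ↥A}, A = ⊤ := by
  rw [eq_top_iff]
  have h1 : (⊤ : Subgroup P') = (⊤ : Subgroup P).map e.toMonoidHom := by
    rw [← MonoidHom.range_eq_map]
    exact (MonoidHom.range_eq_top.mpr e.surjective).symm
  rw [h1, ← h, Subgroup.map_iSup]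
  apply iSup_le
  intro A
  rw [Subgroup.map_iSup]
  apply iSup_le
  intro hA
  have hmem : A.map e.toMonoidHom ∈ {A : Subgroup P' | A.Normal ∧ IsMulCommutative ↥A} := by
    refine ⟨Subgroup.Normal.map hA.1 _ e.surjective, ⟨⟨?_⟩⟩⟩
    rintro ⟨_, a, ha, rfl⟩ ⟨_, b, hb, rfl⟩
    apply Subtype.ext
    show e.toMonoidHom a * e.toMonoidHom b = e.toMonoidHom b * e.toMonoidHom a
    have hc := hA.2
    have : (⟨a, ha⟩ : ↥A) * ⟨b, hb⟩ = ⟨b, hb⟩ * ⟨a, ha⟩ := hc.is_comm.comm _ _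
    have h2 : a * b = b * a := congrArg Subtype.val this
    rw [← map_mul, ← map_mul, h2]
  exact le_biSup (fun A => A) hmem

/-- In a group isomorphic to the affine group `F_p² ⋊ SL₂(p)` the K-infinity subgroups do not
control strong fusion. -/
theorem not_controls_kinf_of_equiv {X : Type*} [Group X] [Finite X] {p : ℕ} [Fact p.Prime]
    (e : X ≃* ↥(Cfsg.Agent.S2761.affSubgroup (ZMod p))) (T : Sylow p X) :
    ¬ Cfsg.ControlsStrongFusion p (Cfsg.inducedFunctor (G := X) Cfsg.kInfLower (T : Subgroup X)) ∧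
    ¬ Cfsg.ControlsStrongFusion p (Cfsg.inducedFunctor (G := X) Cfsg.kInfUpper (T : Subgroup X)) := by
  have hsurj : Function.Surjective e.toMonoidHom := e.surjective
  obtain ⟨v₀, hv₀, hT⟩ := Cfsg.Agent.Helper14.Qd.sylow_eq_stab (T.mapSurjective hsurj)
  rw [Sylow.coe_mapSurjective] at hT
  let eT : ↥(T : Subgroup X) ≃* ↥(Cfsg.Agent.Helper14.Qd.stab v₀) :=
    (e.subgroupMap (T : Subgroup X)).trans (MulEquiv.subgroupCongr hT)
  have hgen := gen_of_equiv eT.symm (stab_gen hv₀)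
  have hk := Cfsg.Agent.S1981.result (p := p) T.2 hgen
  have hL : Cfsg.inducedFunctor (G := X) Cfsg.kInfLower (T : Subgroup X) = T := by
    unfold Cfsg.inducedFunctor
    rw [hk.1, ← MonoidHom.range_eq_map, Subgroup.range_subtype]
  have hU : Cfsg.inducedFunctor (G := X) Cfsg.kInfUpper (T : Subgroup X) = T := by
    unfold Cfsg.inducedFunctor
    rw [hk.2, ← MonoidHom.range_eq_map, Subgroup.range_subtype]
  rw [hL, hU]
  have key : ¬ Cfsg.ControlsStrongFusion p (T : Subgroup X) := by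
    intro h
    have h1 := Cfsg.Agent.Helper1.ZJF.controlsStrongFusion_map e h
    rw [hT] at h1
    exact not_controls_stab hv₀ h1
  exact ⟨key, key⟩

end Cfsg.Agent.Helper10
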