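import Mathlib
import Cfsg.Agent.Lib.Helper10.SecApply

set_option autoImplicit false

namespace Cfsg.Agent.Helper10

open Cfsg
open scoped commutatorElement

universe u

section central

variable {G : Type*} [Group G] [Finite G] {p : ℕ} [Fact p.Prime]

/-- a central `p`-element of the derived subgroup lies in the derived subgroup of a Sylow
`p`-subgroup (by transfer) -/
theorem mem_commutator_sylow_of_central (S : Subgroup G) (hS : IsPGroup p S)
    (hidx : ¬ p ∣ S.index) (z : G) (hzc : z ∈ Subgroup.center G) (hzS : z ∈ S)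
    (hzG : z ∈ commutator G) : z ∈ ⁅S, S⁆ := by
  have key : ∀ (k : ℕ) (g₀ : G), g₀⁻¹ * z ^ k * g₀ ∈ S → g₀⁻¹ * z ^ k * g₀ = z ^ k := by
    intro k g₀ _
    have h1 : z ^ k ∈ Subgroup.center G := Subgroup.pow_mem _ hzc k
    have h2 := Subgroup.mem_center_iff.mp h1 g₀
    calc g₀⁻¹ * z ^ k * g₀ = g₀⁻¹ * (z ^ k * g₀) := by group
      _ = g₀⁻¹ * (g₀ * z ^ k) := by rw [h2]
      _ = z ^ k := by group
  have h1 := MonoidHom.transfer_eq_pow (Abelianization.of : ↥S →* Abelianization ↥S) z key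
  have h2 : MonoidHom.transfer (Abelianization.of : ↥S →* Abelianization ↥S) z = 1 :=
    Abelianization.commutator_subset_ker _ hzG
  rw [h2] at h1
  have h3 : (⟨z ^ S.index, MonoidHom.transfer_eq_pow_aux z key⟩ : ↥S) ∈ commutator ↥S := by
    rw [← Abelianization.ker_of, MonoidHom.mem_ker]
    exact h1.symm
  have h4 : z ^ S.index ∈ ⁅S, S⁆ := by
    rw [← Subgroup.map_subtype_commutator]
    exact ⟨_, h3, rfl⟩
  have hcop : S.index.Coprime (orderOf z) := by
    obtain ⟨k, hk⟩ := (hS.to_le (Subgroup.zpowers_le.mpr hzS)).exists_card_eq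
    rw [Nat.card_zpowers] at hk
    rw [hk]
    apply Nat.Coprime.pow_right
    exact ((Nat.Prime.coprime_iff_not_dvd (Fact.out : p.Prime)).mpr hidx).symm
  obtain ⟨m, hm⟩ := exists_pow_eq_self_of_coprime hcop
  rw [← hm]
  exact Subgroup.pow_mem _ h4 m

/-- if `G = C_G(P) S` for a normal `p`-subgroup `P`, then `P ∩ G' ≤ S'` -/
theorem normal_inf_commutator_le (S : Subgroup G) (hS : IsPGroup p S) (hidx : ¬ p ∣ S.index)
    (P : Subgroup G) [hPn : P.Normal] (hPS : P ≤ S)
    (hCS : Subgroup.centralizer (P : Set G) ⊔ S = ⊤) : P ⊓ commutator G ≤ ⁅S, S⁆ := by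
  haveI hCn : (Subgroup.centralizer (P : Set G)).Normal := Subgroup.normal_centralizer
  have hZS : ⁅P, (⊤ : Subgroup G)⁆ ≤ ⁅S, S⁆ := by
    rw [Subgroup.commutator_le]
    intro x hx g _
    have hg : g ∈ ((Subgroup.centralizer (P : Set G) ⊔ S : Subgroup G) : Set G) := by
      rw [hCS]; exact Subgroup.mem_top g
    rw [Subgroup.normal_mul] at hg
    obtain ⟨c, hc, s, hs, rfl⟩ := Set.mem_mul.mp hg
    have h1 : s * x⁻¹ * s⁻¹ ∈ P := hPn.conj_mem _ (P.inv_mem hx) s
    have h2 : x * (s * x⁻¹ * s⁻¹) ∈ P := P.mul_mem hx h1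
    have h3 := Subgroup.mem_centralizer_iff.mp hc _ h2
    have e : ⁅x, c * s⁆ = c * (x * (s * x⁻¹ * s⁻¹)) * c⁻¹ := by
      have h4 := Subgroup.mem_centralizer_iff.mp hc x hx
      rw [commutatorElement_def]
      calc x * (c * s) * x⁻¹ * (c * s)⁻¹ = (x * c) * (s * x⁻¹ * s⁻¹) * c⁻¹ := by group
        _ = (c * x) * (s * x⁻¹ * s⁻¹) * c⁻¹ := by rw [h4]
        _ = c * (x * (s * x⁻¹ * s⁻¹)) * c⁻¹ := by group
    rw [e, ← h3]
    have e2 : x * (s * x⁻¹ * s⁻¹) * c * c⁻¹ = ⁅x, s⁆ := by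
      rw [commutatorElement_def]; group
    rw [e2]
    exact Subgroup.commutator_mem_commutator (hPS hx) hs
  haveI hZn : (⁅P, (⊤ : Subgroup G)⁆).Normal := Subgroup.commutator_normal P ⊤
  set Z := ⁅P, (⊤ : Subgroup G)⁆ with hZ
  set π := QuotientGroup.mk' Z with hπ
  have hπs : Function.Surjective π := QuotientGroup.mk'_surjective Z
  rintro x ⟨hxP, hxG⟩
  have hzc : π x ∈ Subgroup.center (G ⧸ Z) := by
    rw [Subgroup.mem_center_iff]
    intro gb
    obtain ⟨g, rfl⟩ := hπs gb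
    rw [← map_mul, ← map_mul]
    apply (QuotientGroup.eq (s := Z)).mpr
    have h1 : ⁅x, g⁆⁻¹ ∈ Z := Z.inv_mem (Subgroup.commutator_mem_commutator hxP (Subgroup.mem_top g))
    have e : (g * x)⁻¹ * (x * g) = ⁅x⁻¹, g⁻¹⁆ := by rw [commutatorElement_def]; group
    rw [e]
    exact Subgroup.commutator_mem_commutator (P.inv_mem hxP) (Subgroup.mem_top _)
  have hzS : π x ∈ S.map π := Subgroup.mem_map_of_mem π (hPS hxP)
  have hzG : π x ∈ commutator (G ⧸ Z) := by
    rw [commutator_def, ← Subgroup.map_top_of_surjective π hπs, ← Subgroup.map_commutator]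
    exact Subgroup.mem_map_of_mem π (by rwa [commutator_def] at hxG)
  have hSbidx : ¬ p ∣ (S.map π).index := fun hd => hidx (hd.trans (Subgroup.index_map_dvd S hπs))
  have h5 := mem_commutator_sylow_of_central (S.map π) (hS.map π) hSbidx (π x) hzc hzS hzG
  rw [← Subgroup.map_commutator] at h5
  obtain ⟨t, ht, hte⟩ := h5
  have h6 : t⁻¹ * x ∈ Z := (QuotientGroup.eq (s := Z)).mp hte
  have e : x = t * (t⁻¹ * x) := by group
  rw [e]
  exact Subgroup.mul_mem _ ht (hZS h6)

end central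

section basics

variable {G : Type*} [Group G]

/-- an element of `N` that is a product of an element of `N'` and an element of `N` of order
prime to its own order lies in `N'` -/
theorem mem_commutator_of_mul_coprime (N : Subgroup G) (s n' y : G) (hs : s ∈ N)
    (hn' : n' ∈ ⁅N, N⁆) (hy : y ∈ N) (e : s = n' * y) (hcop : (orderOf y).Coprime (orderOf s)) :
    s ∈ ⁅N, N⁆ := by
  have hn'N : n' ∈ N := Subgroup.commutator_le_self N hn'
  have h1 : (⟨n', hn'N⟩ : ↥N) ∈ commutator ↥N := by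
    rw [← Subgroup.map_subtype_commutator] at hn'
    obtain ⟨z, hz, hze⟩ := hn'
    have : z = ⟨n', hn'N⟩ := Subtype.ext hze
    rwa [this] at hz
  have h2 : (Abelianization.of (⟨s, hs⟩ : ↥N)) = Abelianization.of (⟨y, hy⟩ : ↥N) := by
    have e' : (⟨s, hs⟩ : ↥N) = ⟨n', hn'N⟩ * ⟨y, hy⟩ := Subtype.ext e
    rw [e', map_mul]
    have : Abelianization.of (⟨n', hn'N⟩ : ↥N) = 1 := by
      rw [← MonoidHom.mem_ker, Abelianization.ker_of]; exact h1
    rw [this, one_mul]
  have h3 : (⟨s, hs⟩ : ↥N) ^ orderOf y ∈ commutator ↥N := by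
    rw [← Abelianization.ker_of, MonoidHom.mem_ker, map_pow, h2, ← map_pow]
    have : (⟨y, hy⟩ : ↥N) ^ orderOf y = 1 := by
      apply Subtype.ext
      simp [pow_orderOf_eq_one]
    rw [this, map_one]
  have h4 : s ^ orderOf y ∈ ⁅N, N⁆ := by
    rw [← Subgroup.map_subtype_commutator]
    exact ⟨_, h3, by simp⟩
  obtain ⟨m, hm⟩ := exists_pow_eq_self_of_coprime hcop
  rw [← hm]
  exact Subgroup.pow_mem _ h4 m

theorem famD_le_inf (𝓦G : Set (Subgroup G → Subgroup G)) (S : Subgroup G) :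
    famD 𝓦G S ≤ S ⊓ ⁅(⊤ : Subgroup G), ⊤⁆ := by
  unfold famD
  apply iSup₂_le
  intro W _
  exact inf_le_inf_left _ (Subgroup.commutator_mono le_top le_top)

theorem famD_le_iff (𝓦G : Set (Subgroup G → Subgroup G)) (S X : Subgroup G) :
    famD 𝓦G S ≤ X ↔ ∀ W ∈ 𝓦G, S ⊓ ⁅Subgroup.normalizer ((W S : Subgroup G) : Set G),
      Subgroup.normalizer ((W S : Subgroup G) : Set G)⁆ ≤ X := by
  unfold famD
  rw [iSup₂_le_iff]
  simp only [top_inf_eq]

theorem fct_of_le_famD {p : ℕ} (𝓦G : Set (Subgroup G → Subgroup G)) (S : Subgroup G)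
    (hS : IsPGroup p S) (hidx : ¬ p ∣ S.index)
    (h : S ⊓ ⁅(⊤ : Subgroup G), ⊤⁆ ≤ famD 𝓦G S) : FamilyControlsTransferIn p 𝓦G ⊤ :=
  ⟨S, le_top, hS, by rwa [Subgroup.relIndex_top_right], le_antisymm h (famD_le_inf 𝓦G S)⟩

theorem le_famD_of_fct [Finite G] {p : ℕ} [Fact p.Prime] {𝓦G : Set (Subgroup G → Subgroup G)}
    (h𝓦G : ∀ W ∈ 𝓦G, IsConjugacyFunctor p W) (S : Subgroup G)
    (hS : IsPGroup p S) (hidx : ¬ p ∣ S.index) (h : FamilyControlsTransferIn p 𝓦G ⊤) :
    S ⊓ ⁅(⊤ : Subgroup G), ⊤⁆ ≤ famD 𝓦G S := by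
  have h1 := fct_transfer h𝓦G h S le_top hS (by rwa [Subgroup.relIndex_top_right])
  exact le_of_eq h1

/-- control of transfer in a subgroup containing the Sylow subgroup -/
theorem sub_le_famD [Finite G] {p : ℕ} [Fact p.Prime] {𝓦G : Set (Subgroup G → Subgroup G)}
    (h𝓦G : ∀ W ∈ 𝓦G, IsConjugacyFunctor p W) (S : Subgroup G)
    (hS : IsPGroup p S) (hidx : ¬ p ∣ S.index) (L : Subgroup G) (hSL : S ≤ L)
    (hL : FamilyControlsTransferIn p 𝓦G L) : S ⊓ ⁅L, L⁆ ≤ famD 𝓦G S := by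
  have hrel : ¬ p ∣ S.relIndex L := fun hd => hidx (hd.trans (Subgroup.relIndex_dvd_index_of_le hSL))
  rw [fct_transfer h𝓦G hL S hSL hS hrel]
  unfold famD
  apply iSup₂_mono
  intro W _
  exact inf_le_inf_left _ (Subgroup.commutator_mono (inf_le_inf_right _ le_top)
    (inf_le_inf_right _ le_top))

theorem sub_foc [Finite G] {p : ℕ} [Fact p.Prime] {𝓦G : Set (Subgroup G → Subgroup G)}
    (h𝓦G : ∀ W ∈ 𝓦G, IsConjugacyFunctor p W) (S : Subgroup G)
    (hS : IsPGroup p S) (hidx : ¬ p ∣ S.index) (L : Subgroup G) (hSL : S ≤ L)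
    (hL : FamilyControlsTransferIn p 𝓦G L) (g : G) (hg : g ∈ L) (B : Subgroup G) (hB : B ≤ S)
    (hgB : rcg g B ≤ S) : Foc (famD 𝓦G S) (B : Set G) g := by
  intro b hb
  apply sub_le_famD h𝓦G S hS hidx L hSL hL
  have hbS : b ∈ S := hB hb
  have hgb : g⁻¹ * b * g ∈ S := by
    apply hgB
    rw [mem_rcg]
    have e : g * (g⁻¹ * b * g) * g⁻¹ = b := by group
    rw [e]; exact hb
  exact ⟨S.mul_mem (S.inv_mem hbS) hgb, focal_mem_commutator (hSL hbS) hg⟩

end basics

section lifts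

variable {G : Type u} [Group G] [Finite G] {p : ℕ} [Fact p.Prime]
  {𝓦 : Set (∀ (Q : Type u) [Group Q], Subgroup Q)}

/-- lifting control of transfer through a normal `p'`-subgroup -/
theorem lift_pprime_t (h𝓦 : ∀ W ∈ 𝓦, IsCharPFunctor.{u} p W)
    (S : Subgroup G) (hS : IsPGroup p S) (hidx : ¬ p ∣ S.index) (Y : Subgroup G) [Y.Normal]
    (hY : (Nat.card Y).Coprime p)
    (hq : FamilyControlsTransferIn p (indFam 𝓦 (G ⧸ Y)) ⊤) :
    S ⊓ ⁅(⊤ : Subgroup G), ⊤⁆ ≤ famD (indFam 𝓦 G) S := by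
  set π := QuotientGroup.mk' Y with hπ
  have hπs : Function.Surjective π := QuotientGroup.mk'_surjective Y
  have hinj := injOn_mk_of_coprime S Y hS hY
  haveI : Finite ↥S := inferInstance
  have hSbp : IsPGroup p (S.map π) := hS.map π
  have hSbidx : ¬ p ∣ (S.map π).index :=
    fun hd => hidx (hd.trans (Subgroup.index_map_dvd S hπs))
  have h1 := le_famD_of_fct (indFam_conj h𝓦) (S.map π) hSbp hSbidx hq
  have h2 : famD (indFam 𝓦 (G ⧸ Y)) (S.map π) ≤ (famD (indFam 𝓦 G) S).map π := by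
    rw [famD_le_iff]
    rintro _ ⟨W, hW, rfl⟩
    have hWc := isConjugacyFunctor_indW (H := G) (h𝓦 W hW)
    set V := inducedFunctor (G := G) W S with hV
    have hVS : V ≤ S := indW_le S
    have hVp : IsPGroup p V := hS.to_le hVS
    have hVmap : inducedFunctor (G := G ⧸ Y) W (S.map π) = V.map π := indW_map (h𝓦 W hW) π S hS hinj
    have hSNV : S ≤ Subgroup.normalizer (V : Set G) := cf_le_normalizer hWc hS
    show S.map π ⊓ ⁅Subgroup.normalizer ((inducedFunctor (G := G ⧸ Y) W (S.map π) :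
      Subgroup (G ⧸ Y)) : Set (G ⧸ Y)), Subgroup.normalizer ((inducedFunctor (G := G ⧸ Y) W
      (S.map π) : Subgroup (G ⧸ Y)) : Set (G ⧸ Y))⁆ ≤ _
    rw [hVmap]
    have hNmap : Subgroup.normalizer ((V.map π : Subgroup (G ⧸ Y)) : Set (G ⧸ Y)) =
        (Subgroup.normalizer (V : Set G)).map π := by
      apply le_antisymm
      · intro x' hx'N
        obtain ⟨x₀, rfl⟩ := hπs x'
        have hx₀ : rcg x₀ V ≤ V ⊔ Y := by
          intro z hz
          rw [mem_rcg] at hz
          have h1 : π z ∈ V.map π := by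
            have h2 : π (x₀ * z * x₀⁻¹) ∈ V.map π := Subgroup.mem_map_of_mem π hz
            have h3 := (Subgroup.mem_normalizer_iff.mp (Subgroup.inv_mem _ hx'N)
              (π (x₀ * z * x₀⁻¹))).mp h2
            have e : (π x₀)⁻¹ * π (x₀ * z * x₀⁻¹) * (π x₀)⁻¹⁻¹ = π z := by
              simp only [map_mul, map_inv]; group
            rwa [e] at h3
          have h4 : z ∈ (V.map π).comap π := h1
          rwa [Subgroup.comap_map_eq, hπ, QuotientGroup.ker_mk'] at h4
        obtain ⟨y, hy, hn⟩ := exists_mul_mem_normalizer V Y hVp hY x₀ hx₀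
        have hπy : π y = 1 := (QuotientGroup.eq_one_iff y).mpr hy
        exact ⟨x₀ * y, hn, by rw [map_mul, hπy, mul_one]⟩
      · exact Subgroup.le_normalizer_map π
    rw [hNmap, ← Subgroup.map_commutator]
    rintro z ⟨⟨s, hs, rfl⟩, ⟨n', hn', hn's⟩⟩
    refine Subgroup.mem_map_of_mem π ?_
    apply ft_top S (indFam 𝓦 G) (inducedFunctor (G := G) W) ⟨W, hW, rfl⟩
    refine ⟨hs, ?_⟩
    have hyY : n'⁻¹ * s ∈ Y := (QuotientGroup.eq (s := Y)).mp hn's
    have hn'N : n' ∈ Subgroup.normalizer (V : Set G) := Subgroup.commutator_le_self _ hn'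
    have hsN : s ∈ Subgroup.normalizer (V : Set G) := hSNV hs
    apply mem_commutator_of_mul_coprime (Subgroup.normalizer (V : Set G)) s n' (n'⁻¹ * s) hsN hn'
      (Subgroup.mul_mem _ (Subgroup.inv_mem _ hn'N) hsN) (by group)
    have hoy : orderOf (n'⁻¹ * s) ∣ Nat.card Y := by
      have := orderOf_dvd_natCard (⟨n'⁻¹ * s, hyY⟩ : ↥Y)
      rwa [Subgroup.orderOf_mk] at this
    obtain ⟨k, hk⟩ := (hS.to_le (Subgroup.zpowers_le.mpr hs)).exists_card_eq
    rw [Nat.card_zpowers] at hk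
    rw [hk]
    exact Nat.Coprime.pow_right k (Nat.Coprime.coprime_dvd_left hoy hY)
  rintro x ⟨hxS, hxG⟩
  have h3 : π x ∈ S.map π ⊓ ⁅(⊤ : Subgroup (G ⧸ Y)), ⊤⁆ := by
    refine ⟨Subgroup.mem_map_of_mem π hxS, ?_⟩
    rw [← Subgroup.map_top_of_surjective π hπs, ← Subgroup.map_commutator]
    exact Subgroup.mem_map_of_mem π hxG
  obtain ⟨d, hd, hdx⟩ := h2 (h1 h3)
  have hdS : d ∈ S := (famD_le_inf _ S hd).1
  have : d = x := hinj hdS hxS hdx
  rw [← this]; exact hd

/-- the quotient step for transfer -/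
theorem q_lemma_t (h𝓦 : ∀ W ∈ 𝓦, IsCharPFunctor.{u} p W)
    (S : Subgroup G) (hS : IsPGroup p S) (hidx : ¬ p ∣ S.index)
    [hPn : (pCore p G).Normal] (hSP : ¬ S ≤ pCore p G)
    (hq : FamilyControlsTransferIn p (indFam 𝓦 (G ⧸ pCore p G)) ⊤)
    (hsub : ∀ L : Subgroup G, L ≠ ⊤ → S ≤ L → FamilyControlsTransferIn p (indFam 𝓦 G) L)
    (hPD : pCore p G ⊓ ⁅(⊤ : Subgroup G), ⊤⁆ ≤ famD (indFam 𝓦 G) S) :
    S ⊓ ⁅(⊤ : Subgroup G), ⊤⁆ ≤ famD (indFam 𝓦 G) S := by
  set P := pCore p G with hP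
  have hPS : P ≤ S := pCore_le_sylow S hS hidx
  have h𝓦G := indFam_conj (H := G) h𝓦
  set π := QuotientGroup.mk' P with hπ
  have hπs : Function.Surjective π := QuotientGroup.mk'_surjective P
  have hSbp : IsPGroup p (S.map π) := hS.map π
  have hSbidx : ¬ p ∣ (S.map π).index :=
    fun hd => hidx (hd.trans (Subgroup.index_map_dvd S hπs))
  have h1 := le_famD_of_fct (indFam_conj h𝓦) (S.map π) hSbp hSbidx hq
  have h2 : famD (indFam 𝓦 (G ⧸ P)) (S.map π) ≤ (famD (indFam 𝓦 G) S).map π := by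
    rw [famD_le_iff]
    rintro _ ⟨W, hW, rfl⟩
    have hWc := isConjugacyFunctor_indW (H := G ⧸ P) (h𝓦 W hW)
    show S.map π ⊓ ⁅Subgroup.normalizer ((inducedFunctor (G := G ⧸ P) W (S.map π) :
      Subgroup (G ⧸ P)) : Set (G ⧸ P)), Subgroup.normalizer ((inducedFunctor (G := G ⧸ P) W
      (S.map π) : Subgroup (G ⧸ P)) : Set (G ⧸ P))⁆ ≤ _
    set V' := inducedFunctor (G := G ⧸ P) W (S.map π) with hV'
    set N := (Subgroup.normalizer ((V' : Subgroup (G ⧸ P)) : Set (G ⧸ P))).comap π with hN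
    have hSN : S ≤ N := by
      intro s hs
      rw [hN, Subgroup.mem_comap]
      exact cf_le_normalizer hWc hSbp (Subgroup.mem_map_of_mem π hs)
    have hNne : N ≠ ⊤ := by
      intro hNt
      have h1 : Subgroup.normalizer ((V' : Subgroup (G ⧸ P)) : Set (G ⧸ P)) = ⊤ := by
        rw [eq_top_iff]
        intro y _
        obtain ⟨y₀, rfl⟩ := hπs y
        have h0 : y₀ ∈ N := by rw [hNt]; exact Subgroup.mem_top _
        exact h0
      have hV'n : V'.Normal := Subgroup.normalizer_eq_top_iff.mp h1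
      have hV'p : IsPGroup p V' := hSbp.to_le (cf_le hWc hSbp)
      have h2 : V' ≤ pCore p (G ⧸ P) := le_pCore' hV'n hV'p
      rw [pCore_quotient_pCore] at h2
      have h3 : V' = ⊥ := le_bot_iff.mp h2
      have h4 : S.map π = ⊥ := by
        by_contra hne'
        exact (hWc (S.map π) hSbp).2.1 hne' h3
      apply hSP
      intro s hs
      have h5 : π s ∈ S.map π := Subgroup.mem_map_of_mem π hs
      rw [h4, Subgroup.mem_bot] at h5
      exact (QuotientGroup.eq_one_iff s).mp h5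
    have hNmap : Subgroup.normalizer ((V' : Subgroup (G ⧸ P)) : Set (G ⧸ P)) = N.map π := by
      rw [hN, Subgroup.map_comap_eq_self_of_surjective hπs]
    rw [hNmap, ← Subgroup.map_commutator]
    rintro z ⟨⟨s, hs, rfl⟩, ⟨n', hn', hn's⟩⟩
    have hyP : n'⁻¹ * s ∈ P := (QuotientGroup.eq (s := P)).mp hn's
    have hn'S : n' ∈ S := by
      have e : n' = s * (n'⁻¹ * s)⁻¹ := by group
      rw [e]
      exact S.mul_mem hs (S.inv_mem (hPS hyP))
    rw [← hn's]
    refine Subgroup.mem_map_of_mem π ?_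
    exact sub_le_famD h𝓦G S hS hidx N hSN (hsub N hNne hSN) ⟨hn'S, hn'⟩
  rintro x ⟨hxS, hxG⟩
  have h3 : π x ∈ S.map π ⊓ ⁅(⊤ : Subgroup (G ⧸ P)), ⊤⁆ := by
    refine ⟨Subgroup.mem_map_of_mem π hxS, ?_⟩
    rw [← Subgroup.map_top_of_surjective π hπs, ← Subgroup.map_commutator]
    exact Subgroup.mem_map_of_mem π hxG
  obtain ⟨d, hd, hdx⟩ := h2 (h1 h3)
  have huP : d⁻¹ * x ∈ P := (QuotientGroup.eq (s := P)).mp hdx
  have hdG : d ∈ ⁅(⊤ : Subgroup G), ⊤⁆ := (Subgroup.mem_inf.mp (famD_le_inf _ S hd)).2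
  have hu : d⁻¹ * x ∈ famD (indFam 𝓦 G) S :=
    hPD ⟨huP, Subgroup.mul_mem _ (Subgroup.inv_mem _ hdG) hxG⟩
  have e : x = d * (d⁻¹ * x) := by group
  rw [e]
  exact Subgroup.mul_mem _ hd hu

end lifts

section tstep

variable {G : Type u} [Group G] [Finite G] {p : ℕ} [Fact p.Prime]
  {𝓦 : Set (∀ (Q : Type u) [Group Q], Subgroup Q)}

/-- the inductive step: a group all of whose proper subgroups and proper quotients have
control of transfer, and which is not a constrained exception, has control of transfer -/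
theorem sec_transfer_step (h𝓦 : ∀ W ∈ 𝓦, IsCharPFunctor.{u} p W) (hne : 𝓦.Nonempty)
    (hsub : ∀ L : Subgroup G, L ≠ ⊤ → FamilyControlsTransferIn p (indFam 𝓦 G) L)
    (hquot : ∀ (N : Subgroup G) [N.Normal], N ≠ ⊥ →
      FamilyControlsTransferIn p (indFam 𝓦 (G ⧸ N)) ⊤)
    (hcon : Constrained p G → FamilyControlsTransferIn p (indFam 𝓦 G) ⊤) :
    FamilyControlsTransferIn p (indFam 𝓦 G) ⊤ := by
  have S₀ : Sylow p G := default
  set S : Subgroup G := (S₀ : Subgroup G) with hSdef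
  have hS : IsPGroup p S := S₀.isPGroup'
  have hidx : ¬ p ∣ S.index := S₀.not_dvd_index
  have h𝓦G := indFam_conj (H := G) h𝓦
  apply fct_of_le_famD (indFam 𝓦 G) S hS hidx
  by_cases hY : pPrimeCore p G = ⊥
  swap
  · haveI : (pPrimeCore p G).Normal := pPrimeCore_normal p
    exact lift_pprime_t h𝓦 S hS hidx (pPrimeCore p G) (card_pPrimeCore_coprime p)
      (hquot (pPrimeCore p G) hY)
  by_cases hc : Constrained p G
  · exact le_famD_of_fct h𝓦G S hS hidx (hcon hc)
  haveI hPn : (pCore p G).Normal := pCore_normal p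
  obtain ⟨W₀, hW₀⟩ := hne
  have hW₀c := isConjugacyFunctor_indW (H := G) (h𝓦 W₀ hW₀)
  have hW₀top := ft_top S (indFam 𝓦 G) (inducedFunctor (G := G) W₀) ⟨W₀, hW₀, rfl⟩
  by_cases hSP : S ≤ pCore p G
  · have hSeq : S = pCore p G := le_antisymm hSP (pCore_le_sylow S hS hidx)
    have hSn : S.Normal := by rw [hSeq]; exact hPn
    have hN : Subgroup.normalizer ((inducedFunctor (G := G) W₀ S : Subgroup G) : Set G) = ⊤ := by
      rw [eq_top_iff]
      intro g _
      apply cf_normalizer_le hW₀c hS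
      rw [Subgroup.normalizer_eq_top_iff.mpr hSn]; exact Subgroup.mem_top _
    rw [hN] at hW₀top
    exact hW₀top
  by_cases hP : pCore p G = ⊥
  · have hloc : ∀ T : Subgroup G, T ≤ S → T ≠ ⊥ →
        ¬ p ∣ (S ⊓ Subgroup.normalizer (T : Set G)).relIndex (Subgroup.normalizer (T : Set G)) →
        FamilyControlsTransferIn p (indFam 𝓦 G) (Subgroup.normalizer (T : Set G)) := by
      intro T hTS hTne _
      apply hsub
      intro hN
      apply hTne
      have hTn : T.Normal := Subgroup.normalizer_eq_top_iff.mp hN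
      have := le_pCore' hTn (hS.to_le hTS)
      rw [hP] at this
      exact le_bot_iff.mp this
    apply focal_le_of_foc S₀
    intro y hy v hv
    have hB : Subgroup.zpowers y ≤ S := by
      rw [Subgroup.zpowers_le]; exact hy
    have hBv : rcg v (Subgroup.zpowers y) ≤ S := by
      rw [rcg_le_iff, Subgroup.zpowers_le, mem_rcg]
      simpa using hv
    exact (ft_main S hS hidx (indFam 𝓦 G) h𝓦G hloc (Nat.card S)).1 (Subgroup.zpowers y) hB
      (Nat.sub_le _ _) v hBv y (Subgroup.mem_zpowers y)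
  set C := Subgroup.centralizer ((pCore p G : Subgroup G) : Set G) with hC
  haveI hCn : C.Normal := Subgroup.normal_centralizer
  have hPS : pCore p G ≤ S := pCore_le_sylow S hS hidx
  by_cases h1 : C ⊔ S = ⊤
  · apply q_lemma_t h𝓦 S hS hidx hSP (hquot (pCore p G) hP) (fun L hL _ => hsub L hL)
    have h2 := normal_inf_commutator_le S hS hidx (pCore p G) hPS h1
    rw [commutator_def] at h2
    refine h2.trans (le_trans ?_ hW₀top)
    have hSN : S ≤ Subgroup.normalizer ((inducedFunctor (G := G) W₀ S : Subgroup G) : Set G) :=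
      cf_le_normalizer hW₀c hS
    exact le_inf (Subgroup.commutator_le_self S) (Subgroup.commutator_mono hSN hSN)
  by_cases h2 : Subgroup.normalizer ((S ⊓ C : Subgroup G) : Set G) = ⊤
  · exfalso
    exact hc (constrained_of_inf_normal S hS hidx hY (Subgroup.normalizer_eq_top_iff.mp h2))
  apply focal_le_of_foc S₀
  intro y hy v hv
  have hB : Subgroup.zpowers y ≤ S := by
    rw [Subgroup.zpowers_le]; exact hy
  have hBv : rcg v (Subgroup.zpowers y) ≤ S := by
    rw [rcg_le_iff, Subgroup.zpowers_le, mem_rcg]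
    simpa using hv
  have hk := k_lemma S hS hidx (fun A g => Foc (famD (indFam 𝓦 G) S) A g)
    (fun A g h h1 h2 => h1.trans h2) C
    (fun g hg B hB hgB => sub_foc h𝓦G S hS hidx (C ⊔ S) le_sup_right (hsub _ h1) g hg B hB hgB)
    (fun g hg B hB hgB => sub_foc h𝓦G S hS hidx _ (le_normalizer_inf_normal S C) (hsub _ h2)
      g hg B hB hgB)
    (Subgroup.zpowers y) hB v hBv
  exact hk y (Subgroup.mem_zpowers y)

end tstep

section tmain

variable {p : ℕ} [Fact p.Prime] {𝓦 : Set (∀ (Q : Type u) [Group Q], Subgroup Q)}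

/-- Glauberman: control of transfer in the constrained members of a section-closed class
(possibly using control in all smaller members) gives control in all members -/
theorem sec_transfer (𝒞 : ∀ (H : Type u) [Group H], Prop) (h𝒞 : SecClosed 𝒞)
    (h𝓦 : ∀ W ∈ 𝓦, IsCharPFunctor.{u} p W) (hne : 𝓦.Nonempty)
    (hloc : ∀ (H : Type u) [Group H] [Finite H], 𝒞 H → Constrained p H →
      (∀ L : Subgroup H, L ≠ ⊤ → FamilyControlsTransferIn p (indFam 𝓦 H) L) →
      (∀ (N : Subgroup H) [N.Normal], N ≠ ⊥ →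
        FamilyControlsTransferIn p (indFam 𝓦 (H ⧸ N)) ⊤) →
      FamilyControlsTransferIn p (indFam 𝓦 H) ⊤) :
    ∀ (n : ℕ) (H : Type u) [Group H] [Finite H], Nat.card H ≤ n → 𝒞 H →
      FamilyControlsTransferIn p (indFam 𝓦 H) ⊤ := by
  intro n
  induction n with
  | zero =>
    intro H _ _ hcard _
    have : 0 < Nat.card H := Nat.card_pos
    omega
  | succ n ih =>
    intro H _ _ hcard hH
    have hsub : ∀ L : Subgroup H, L ≠ ⊤ → FamilyControlsTransferIn p (indFam 𝓦 H) L := by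
      intro L hL
      have hlt : Nat.card L < Nat.card H := by
        have h1 : L < ⊤ := lt_top_iff_ne_top.mpr hL
        have h2 := card_lt_card_of_lt h1
        rwa [Subgroup.card_top] at h2
      have h3 := ih ↥L (by omega) (h𝒞.sub hH L)
      have h4 := fct_map_injective h𝓦 L.subtype L.subtype_injective h3
      rwa [Subgroup.range_subtype] at h4
    have hquot : ∀ (N : Subgroup H) [N.Normal], N ≠ ⊥ →
        FamilyControlsTransferIn p (indFam 𝓦 (H ⧸ N)) ⊤ := by
      intro N _ hN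
      have hlt : Nat.card (H ⧸ N) < Nat.card H := by
        rw [← Subgroup.index_eq_card, ← N.card_mul_index]
        have h1 : 1 < Nat.card N := by
          rw [Subgroup.one_lt_card_iff_ne_bot]; exact hN
        have h2 : 0 < N.index := Nat.pos_of_ne_zero Subgroup.index_ne_zero_of_finite
        nlinarith
      exact ih (H ⧸ N) (by omega) (h𝒞.quot hH N)
    exact sec_transfer_step h𝓦 hne hsub hquot (fun hc => hloc H hH hc hsub hquot)

end tmain

section tempty

variable {G : Type u} [Group G] [Finite G] {p : ℕ} [Fact p.Prime]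

theorem inf_commutator_eq_bot_of_fct_empty
    (h : FamilyControlsTransferIn p (∅ : Set (Subgroup G → Subgroup G)) ⊤)
    (S : Subgroup G) (hS : IsPGroup p S) (hidx : ¬ p ∣ S.index) :
    S ⊓ ⁅(⊤ : Subgroup G), ⊤⁆ = ⊥ := by
  have h1 := fct_transfer (fun W hW => absurd hW (Set.notMem_empty W)) h S le_top hS
    (by rwa [Subgroup.relIndex_top_right])
  rw [h1, eq_bot_iff]
  apply iSup₂_le
  intro W hW
  exact absurd hW (Set.notMem_empty W)

/-- the case of the empty family: the Sylow subgroup meets the derived subgroup trivially -/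
theorem sec_transfer_empty
    (hloc : ∀ (H : Type u) [Group H] [Finite H], IsSec G H → Constrained p H →
      FamilyControlsTransferIn p (∅ : Set (Subgroup H → Subgroup H)) ⊤) :
    FamilyControlsTransferIn p (∅ : Set (Subgroup G → Subgroup G)) ⊤ := by
  have h𝓦 : ∀ W' ∈ ({topFunctor} : Set (∀ (Q : Type u) [Group Q], Subgroup Q)),
      IsCharPFunctor.{u} p W' := by
    rintro _ rfl; exact topFunctor_char p
  have key := sec_transfer (p := p) (IsSec G) (isSec_closed G) h𝓦 ⟨topFunctor, rfl⟩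
    (fun H _ _ hH hcon _ _ => by
      have T₀ : Sylow p H := default
      have h1 := inf_commutator_eq_bot_of_fct_empty (hloc H hH hcon) (T₀ : Subgroup H)
        T₀.isPGroup' T₀.not_dvd_index
      apply fct_of_le_famD _ (T₀ : Subgroup H) T₀.isPGroup' T₀.not_dvd_index
      rw [h1]; exact bot_le)
  have hG := key (Nat.card G) G le_rfl (IsSec.refl G)
  have S₀ : Sylow p G := default
  set S : Subgroup G := (S₀ : Subgroup G) with hSdef
  have hS : IsPGroup p S := S₀.isPGroup'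
  have hidx : ¬ p ∣ S.index := S₀.not_dvd_index
  have hrelS : ¬ p ∣ S.relIndex ⊤ := by rwa [Subgroup.relIndex_top_right]
  set NS := Subgroup.normalizer (S : Set G) with hNS
  have hNSbot : S ⊓ ⁅NS, NS⁆ = ⊥ := by
    haveI hYn : (pPrimeCore p ↥NS).Normal := pPrimeCore_normal p
    set Y₁ := pPrimeCore p ↥NS with hY₁
    set π := QuotientGroup.mk' Y₁ with hπ
    have hπs : Function.Surjective π := QuotientGroup.mk'_surjective _
    set S' : Subgroup ↥NS := S.subgroupOf NS with hS'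
    have hS'p : IsPGroup p S' := hS.comap_subtype
    haveI hS'n : S'.Normal := Subgroup.normal_in_normalizer
    have hS'idx : ¬ p ∣ S'.index := by
      show ¬ p ∣ S.relIndex NS
      exact fun hd => hidx (hd.trans (Subgroup.relIndex_dvd_index_of_le Subgroup.le_normalizer))
    set S₁ : Subgroup (↥NS ⧸ Y₁) := S'.map π with hS₁
    have hS₁p : IsPGroup p S₁ := hS'p.map π
    have hS₁idx : ¬ p ∣ S₁.index := fun hd => hS'idx (hd.trans (Subgroup.index_map_dvd S' hπs))
    haveI hS₁n : S₁.Normal := Subgroup.Normal.map hS'n π hπs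
    have hsec : IsSec G (↥NS ⧸ Y₁) := ((IsSec.refl G).subgroup NS).quotient Y₁
    have hcon : Constrained p (↥NS ⧸ Y₁) := by
      haveI : (pCore p (↥NS ⧸ Y₁)).Normal := pCore_normal p
      apply constrained_of_inf_normal S₁ hS₁p hS₁idx (pPrimeCore_quotient_pPrimeCore' p ↥NS)
      infer_instance
    have h1 := inf_commutator_eq_bot_of_fct_empty (hloc (↥NS ⧸ Y₁) hsec hcon) S₁ hS₁p hS₁idx
    have hinj := injOn_mk_of_coprime S' Y₁ hS'p (card_pPrimeCore_coprime p)
    rw [eq_bot_iff]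
    rintro x ⟨hxS, hxN⟩
    have hxNS : x ∈ NS := Subgroup.le_normalizer hxS
    have hx' : (⟨x, hxNS⟩ : ↥NS) ∈ S' := by rw [hS', Subgroup.mem_subgroupOf]; exact hxS
    have hxc : (⟨x, hxNS⟩ : ↥NS) ∈ ⁅(⊤ : Subgroup ↥NS), (⊤ : Subgroup ↥NS)⁆ := by
      rw [← Subgroup.map_subtype_commutator] at hxN
      obtain ⟨z, hz, hze⟩ := hxN
      have : z = ⟨x, hxNS⟩ := Subtype.ext hze
      rw [← this]
      rwa [commutator_def] at hz
    have h2 : π ⟨x, hxNS⟩ ∈ S₁ ⊓ ⁅(⊤ : Subgroup (↥NS ⧸ Y₁)), ⊤⁆ := by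
      refine ⟨Subgroup.mem_map_of_mem π hx', ?_⟩
      rw [← Subgroup.map_top_of_surjective π hπs, ← Subgroup.map_commutator]
      exact Subgroup.mem_map_of_mem π hxc
    rw [h1, Subgroup.mem_bot] at h2
    have h3 : (⟨x, hxNS⟩ : ↥NS) = 1 := by
      apply hinj hx' S'.one_mem
      show π ⟨x, hxNS⟩ = π 1
      rw [h2, map_one]
    rw [Subgroup.mem_bot]
    exact congrArg Subtype.val h3
  have h𝓦G := indFam_conj (H := G) h𝓦
  have h2 := le_famD_of_fct h𝓦G S hS hidx hG
  have h3 : famD (indFam ({topFunctor} : Set (∀ (Q : Type u) [Group Q], Subgroup Q)) G) S ≤ ⊥ := by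
    rw [famD_le_iff]
    rintro _ ⟨W', hW', rfl⟩
    rw [Set.mem_singleton_iff.mp hW']
    show S ⊓ ⁅Subgroup.normalizer ((inducedFunctor (G := G) topFunctor S : Subgroup G) : Set G),
      Subgroup.normalizer ((inducedFunctor (G := G) topFunctor S : Subgroup G) : Set G)⁆ ≤ ⊥
    rw [indW_topFunctor, hNSbot]
  apply fct_of_le_famD _ S hS hidx
  exact (h2.trans h3).trans bot_le

end tempty

section thyp

variable {G : Type u} [Group G] [Finite G] {p : ℕ} [Fact p.Prime]
  {𝓦 : Set (∀ (Q : Type u) [Group Q], Subgroup Q)}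

omit [Fact p.Prime] in
/-- transport of control of transfer along an isomorphism -/
theorem fct_of_equiv {H H' : Type u} [Group H] [Group H'] [Finite H']
    (h𝓦 : ∀ W ∈ 𝓦, IsCharPFunctor.{u} p W) (e : H ≃* H')
    (h : FamilyControlsTransferIn p (indFam 𝓦 H') ⊤) :
    FamilyControlsTransferIn p (indFam 𝓦 H) ⊤ := by
  have h1 := fct_map_injective h𝓦 e.symm.toMonoidHom e.symm.injective h
  have h2 : e.symm.toMonoidHom.range = ⊤ := MonoidHom.range_eq_top.mpr e.symm.surjective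
  rwa [h2] at h1

/-- hypotheses stated for the sections `K/R` of `G` hold for all groups isomorphic to sections -/
theorem fct_of_section_hyp (h𝓦 : ∀ W ∈ 𝓦, IsCharPFunctor.{u} p W)
    (hloc : ∀ (K R : Subgroup G) [hR : (R.subgroupOf K).Normal],
      Constrained p (↥K ⧸ R.subgroupOf K) →
      FamilyControlsTransferIn p (indFam 𝓦 (↥K ⧸ R.subgroupOf K)) ⊤)
    (H : Type u) [Group H] [Finite H] (hH : IsSec G H) (hcon : Constrained p H) :
    FamilyControlsTransferIn p (indFam 𝓦 H) ⊤ := by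
  obtain ⟨K, R, hR, ⟨e⟩⟩ := hH.exists_equiv
  have hconQ : Constrained p (↥K ⧸ R.subgroupOf K) := constrained_of_equiv e hcon
  exact fct_of_equiv h𝓦 e (hloc K R hconQ)

/-- Glauberman's theorem on control of transfer for sets of functors, including the empty set -/
theorem sec_transfer_all (h𝓦 : ∀ W ∈ 𝓦, IsCharPFunctor.{u} p W)
    (hloc : ∀ (K R : Subgroup G) [hR : (R.subgroupOf K).Normal],
      Constrained p (↥K ⧸ R.subgroupOf K) →
      FamilyControlsTransferIn p (indFam 𝓦 (↥K ⧸ R.subgroupOf K)) ⊤) :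
    FamilyControlsTransferIn p (indFam 𝓦 G) ⊤ := by
  by_cases hne : 𝓦.Nonempty
  · exact sec_transfer (IsSec G) (isSec_closed G) h𝓦 hne
      (fun H _ _ hH hcon _ _ => fct_of_section_hyp h𝓦 hloc H hH hcon) (Nat.card G) G
      le_rfl (IsSec.refl G)
  · have he : 𝓦 = ∅ := Set.not_nonempty_iff_eq_empty.mp hne
    subst he
    have e : ∀ (H : Type u) [Group H], indFam (∅ : Set (∀ (Q : Type u) [Group Q], Subgroup Q)) H = ∅ := by
      intro H _
      unfold indFam
      exact Set.image_empty _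
    rw [e]
    apply sec_transfer_empty
    intro H _ _ hH hcon
    have := fct_of_section_hyp h𝓦 hloc H hH hcon
    rwa [e] at this

end thyp

section single

variable {G : Type u} [Group G] [Finite G] {p : ℕ} [Fact p.Prime]
  {𝓦 : Set (∀ (Q : Type u) [Group Q], Subgroup Q)}

/-- the constrained case, when the part of the derived subgroup in `O_p(G)` is under control -/
theorem constrained_case_t (h𝓦 : ∀ W ∈ 𝓦, IsCharPFunctor.{u} p W) (hne : 𝓦.Nonempty)
    (hc : Constrained p G)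
    (hsub : ∀ L : Subgroup G, L ≠ ⊤ → FamilyControlsTransferIn p (indFam 𝓦 G) L)
    (hquot : ∀ (N : Subgroup G) [N.Normal], N ≠ ⊥ →
      FamilyControlsTransferIn p (indFam 𝓦 (G ⧸ N)) ⊤)
    (S : Subgroup G) (hS : IsPGroup p S) (hidx : ¬ p ∣ S.index)
    (hPD : pCore p G ⊓ ⁅(⊤ : Subgroup G), ⊤⁆ ≤ famD (indFam 𝓦 G) S) :
    FamilyControlsTransferIn p (indFam 𝓦 G) ⊤ := by
  apply fct_of_le_famD (indFam 𝓦 G) S hS hidx
  haveI hPn : (pCore p G).Normal := pCore_normal p
  obtain ⟨W₀, hW₀⟩ := hne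
  have hW₀c := isConjugacyFunctor_indW (H := G) (h𝓦 W₀ hW₀)
  have hW₀top := ft_top S (indFam 𝓦 G) (inducedFunctor (G := G) W₀) ⟨W₀, hW₀, rfl⟩
  by_cases hSP : S ≤ pCore p G
  · have hSeq : S = pCore p G := le_antisymm hSP (pCore_le_sylow S hS hidx)
    have hSn : S.Normal := by rw [hSeq]; exact hPn
    have hN : Subgroup.normalizer ((inducedFunctor (G := G) W₀ S : Subgroup G) : Set G) = ⊤ := by
      rw [eq_top_iff]
      intro g _
      apply cf_normalizer_le hW₀c hS
      rw [Subgroup.normalizer_eq_top_iff.mpr hSn]; exact Subgroup.mem_top _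
    rw [hN] at hW₀top
    exact hW₀top
  have hP : pCore p G ≠ ⊥ := by
    intro hP
    apply hSP
    intro s _
    apply hc
    rw [hP, Subgroup.mem_centralizer_iff]
    intro h hh
    rw [Set.mem_setOf_eq.mp (by simpa using hh : h = 1)]
    simp
  exact q_lemma_t h𝓦 S hS hidx hSP (hquot (pCore p G) hP) (fun L hL _ => hsub L hL) hPD

omit [Finite G] [Fact p.Prime] in
theorem ct_of_fct_singleton {W : ∀ (Q : Type u) [Group Q], Subgroup Q} {L : Subgroup G}
    (h : FamilyControlsTransferIn p (indFam {W} G) L) :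
    ControlsTransferIn p (inducedFunctor (G := G) W) L := by
  obtain ⟨T, hT1, hT2, hT3, hT4⟩ := h
  refine ⟨T, hT1, hT2, hT3, ?_⟩
  rw [hT4]
  unfold indFam
  rw [Set.image_singleton, iSup_singleton]

omit [Finite G] [Fact p.Prime] in
theorem fct_singleton_of_ct {W : ∀ (Q : Type u) [Group Q], Subgroup Q} {L : Subgroup G}
    (h : ControlsTransferIn p (inducedFunctor (G := G) W) L) :
    FamilyControlsTransferIn p (indFam {W} G) L := by
  obtain ⟨T, hT1, hT2, hT3, hT4⟩ := h
  refine ⟨T, hT1, hT2, hT3, ?_⟩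
  rw [hT4]
  unfold indFam
  rw [Set.image_singleton, iSup_singleton]

end single

end Cfsg.Agent.Helper10
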