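import Mathlib
import Cfsg.Prelude.Def_PLocal
import Cfsg.Agent.Lib.Helper10.SecTransfer
import Cfsg.Agent.Lib.Helper10.TransferBad
import Cfsg.Agent.Lib.Helper10.ChiefP

set_option autoImplicit false

namespace Cfsg.Agent.Helper10

open Cfsg
open scoped commutatorElement

universe u

section chiefstep

variable {G : Type*} [Group G] [Finite G] {p : ℕ} [Fact p.Prime]

/-- the step along one chief factor: if `u` acts with `(u-1)^(p-1) = 0` on the chief factor `X/Y`
below the Sylow subgroup `S`, and `M` contains all proper overgroups of `S`, then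
`X ∩ G' ≤ M' Y` -/
theorem chief_step (S : Subgroup G) (hS : IsPGroup p S) (hidx : ¬ p ∣ S.index)
    (M : Subgroup G) (hSM : S ≤ M)
    (hU : ∀ H : Subgroup G, S ≤ H → H ≠ ⊤ → H ≤ M)
    (X Y : Subgroup G) (hXY : IsChiefFactor X Y) (hXS : X ≤ S)
    (u : G) (huS : u ∈ S) (huP : u ∉ pCore p G)
    (hbad : iterCommutator X (Subgroup.zpowers u) (p - 1) ≤ Y)
    (x : G) (hxX : x ∈ X) (hxG : x ∈ ⁅(⊤ : Subgroup G), (⊤ : Subgroup G)⁆) :
    ∃ m ∈ ⁅M, M⁆, m⁻¹ * x ∈ Y := by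
  haveI hYn : Y.Normal := hXY.2.2.1
  haveI hXn : X.Normal := hXY.2.1
  set π := QuotientGroup.mk' Y with hπ
  have hπs : Function.Surjective π := QuotientGroup.mk'_surjective Y
  set A := X.map π with hA
  haveI hAn : A.Normal := Subgroup.Normal.map hXn π hπs
  have hXp : IsPGroup p X := hS.to_le hXS
  obtain ⟨hcomm, hexp⟩ := chief_factor_elementary hXY hXp
  set Mb := M.map π with hMb
  have hAM : A ≤ Mb := Subgroup.map_mono (hXS.trans hSM)
  set 𝔅 : Set G := {b | BadOn A hcomm p (π b)} with h𝔅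
  have h𝔅conj : ∀ b g : G, b ∈ 𝔅 → g * b * g⁻¹ ∈ 𝔅 := by
    intro b g hb
    show BadOn A hcomm p (π (g * b * g⁻¹))
    rw [map_mul, map_mul, map_inv]
    exact badOn_conj A hcomm _ _ hb
  have hu𝔅 : u ∈ 𝔅 := by
    apply badOn_of_iterate
    rintro _ ⟨x', hx', rfl⟩
    have key : ∀ k : ℕ, (fun y : G ⧸ Y => ⁅y, π u⁆)^[k] (π x') =
        π ((fun y : G => ⁅y, u⁆)^[k] x') := by
      intro k
      induction k with
      | zero => rfl
      | succ k ih =>
        rw [Function.iterate_succ_apply', Function.iterate_succ_apply', ih, map_commutatorElement]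
    have key2 : ∀ k : ℕ, (fun y : G => ⁅y, u⁆)^[k] x' ∈
        iterCommutator X (Subgroup.zpowers u) k := by
      intro k
      induction k with
      | zero => exact hx'
      | succ k ih =>
        rw [Function.iterate_succ_apply']
        exact Subgroup.commutator_mem_commutator ih (Subgroup.mem_zpowers u)
    rw [key]
    exact (QuotientGroup.eq_one_iff _).mpr (hbad (key2 _))
  set S₀ := Subgroup.closure {b | b ∈ S ∧ b ∈ 𝔅} with hS₀
  have hS₀S : S₀ ≤ S := (Subgroup.closure_le S).mpr (fun b hb => hb.1)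
  have huS₀ : u ∈ S₀ := Subgroup.subset_closure ⟨huS, hu𝔅⟩
  have hS₀p : IsPGroup p S₀ := hS.to_le hS₀S
  have hwc : ∀ g : G, rcg g S₀ ≤ S → rcg g S₀ = S₀ := by
    intro g hg
    apply rcg_eq_of_le_of_finite
    rw [rcg_le_iff, Subgroup.closure_le]
    rintro b ⟨hbS, hb𝔅⟩
    rw [SetLike.mem_coe, mem_rcg]
    apply Subgroup.subset_closure
    constructor
    · apply hg
      rw [mem_rcg]
      have e : g * (g⁻¹ * b * g⁻¹⁻¹) * g⁻¹ = b := by group
      rw [e]
      exact Subgroup.subset_closure ⟨hbS, hb𝔅⟩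
    · exact h𝔅conj b g⁻¹ hb𝔅
  have hSN : S ≤ Subgroup.normalizer (S₀ : Set G) := by
    intro s hs
    apply mem_normalizer_iff_rcg.mpr
    apply hwc
    intro y hy
    rw [mem_rcg] at hy
    have e : y = s⁻¹ * (s * y * s⁻¹) * s := by group
    rw [e]
    exact S.mul_mem (S.mul_mem (S.inv_mem hs) (hS₀S hy)) hs
  have hNne : Subgroup.normalizer (S₀ : Set G) ≠ ⊤ := by
    intro h
    have hn : S₀.Normal := Subgroup.normalizer_eq_top_iff.mp h
    exact huP (le_pCore' hn hS₀p huS₀)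
  have hNM : Subgroup.normalizer (S₀ : Set G) ≤ M := hU _ hSN hNne
  have hfixG : ∀ t : G, (∀ s ∈ S₀, t⁻¹ * s * t ∈ M) → t ∈ M := by
    intro t ht
    have h1 : rcg t S₀ ≤ M := by
      intro y hy
      rw [mem_rcg] at hy
      have := ht _ hy
      have e : t⁻¹ * (t * y * t⁻¹) * t = y := by group
      rwa [e] at this
    have hrel : ¬ p ∣ S.relIndex M :=
      fun hd => hidx (hd.trans (Subgroup.relIndex_dvd_index_of_le hSM))
    obtain ⟨m, hmM, hm⟩ := conj_into_relSylow M S (rcg t S₀) hSM hS hrel h1 (isPGroup_rcg t hS₀p)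
    rw [← rcg_mul] at hm
    have h2 := hwc (t * m) hm
    have h3 : t * m ∈ M := hNM (mem_normalizer_iff_rcg.mpr h2)
    have e : t = (t * m) * m⁻¹ := by group
    rw [e]
    exact M.mul_mem h3 (M.inv_mem hmM)
  set S₀b := S₀.map π with hS₀b
  have hYM : Y ≤ M := (hXY.1.le.trans hXS).trans hSM
  have hfixΓ : ∀ tb : G ⧸ Y, (∀ s ∈ S₀b, tb⁻¹ * s * tb ∈ Mb) → tb ∈ Mb := by
    intro tb htb
    obtain ⟨t, rfl⟩ := hπs tb
    apply Subgroup.mem_map_of_mem
    apply hfixG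
    intro s hs
    have h1 := htb (π s) (Subgroup.mem_map_of_mem π hs)
    have h2 : t⁻¹ * s * t ∈ Mb.comap π := by
      rw [Subgroup.mem_comap]
      simpa using h1
    rw [hMb, Subgroup.comap_map_eq, hπ, QuotientGroup.ker_mk', sup_eq_left.mpr hYM] at h2
    exact h2
  have hgenΓ : S₀b ≤ Subgroup.closure {b | b ∈ S₀b ∧ BadOn A hcomm p b} := by
    have h7 : S₀b = Subgroup.closure (π '' {b | b ∈ S ∧ b ∈ 𝔅}) := by
      rw [hS₀b, hS₀, MonoidHom.map_closure]
    intro z hz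
    rw [h7] at hz
    refine Subgroup.closure_mono ?_ hz
    rintro _ ⟨b, ⟨hbS, hb𝔅⟩, rfl⟩
    have h6 : b ∈ S₀ := Subgroup.subset_closure ⟨hbS, hb𝔅⟩
    exact ⟨Subgroup.mem_map_of_mem π h6, hb𝔅⟩
  have h5 := mem_commutator_of_badOn A hAM hcomm hexp S₀b (hS₀p.map π)
    (Subgroup.map_mono (hS₀S.trans hSM)) hgenΓ hfixΓ (π x) (Subgroup.mem_map_of_mem π hxX)
    (by
      rw [← Subgroup.map_top_of_surjective π hπs, ← Subgroup.map_commutator]
      exact Subgroup.mem_map_of_mem π hxG)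
  rw [hMb, ← Subgroup.map_commutator] at h5
  obtain ⟨m, hm, hme⟩ := h5
  exact ⟨m, hm, (QuotientGroup.eq (s := Y)).mp hme⟩

/-- induction along a chief series below `O_p(G)` -/
theorem inf_commutator_le_of_bad (S : Subgroup G) (hS : IsPGroup p S) (hidx : ¬ p ∣ S.index)
    (M : Subgroup G) (hSM : S ≤ M)
    (hU : ∀ H : Subgroup G, S ≤ H → H ≠ ⊤ → H ≤ M)
    (u : G) (huS : u ∈ S) (huP : u ∉ pCore p G)
    (hbad : ∀ U V : Subgroup G, IsChiefFactor U V → U ≤ pCore p G →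
      iterCommutator U (Subgroup.zpowers u) (p - 1) ≤ V) :
    ∀ (n : ℕ) (X : Subgroup G), X.Normal → X ≤ pCore p G → Nat.card X ≤ n →
      X ⊓ ⁅(⊤ : Subgroup G), (⊤ : Subgroup G)⁆ ≤ ⁅M, M⁆ := by
  have hPS : pCore p G ≤ S := pCore_le_sylow S hS hidx
  intro n
  induction n with
  | zero =>
    intro X _ _ hcard
    have : 0 < Nat.card X := Nat.card_pos
    omega
  | succ n ih =>
    intro X hXn hXP hcard
    by_cases hXbot : X = ⊥
    · rw [hXbot]
      exact inf_le_left.trans bot_le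
    haveI := hXn
    obtain ⟨Y, hXY⟩ := exists_chief_factor_below X hXbot
    have hYcard : Nat.card Y ≤ n := by
      have := card_lt_card_of_lt hXY.1
      omega
    rintro x ⟨hxX, hxG⟩
    obtain ⟨m, hm, hmx⟩ := chief_step S hS hidx M hSM hU X Y hXY (hXP.trans hPS) u huS huP
      (hbad X Y hXY hXP) x hxX hxG
    have hmG : m ∈ ⁅(⊤ : Subgroup G), (⊤ : Subgroup G)⁆ :=
      Subgroup.commutator_mono le_top le_top hm
    have h1 : m⁻¹ * x ∈ Y ⊓ ⁅(⊤ : Subgroup G), (⊤ : Subgroup G)⁆ :=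
      ⟨hmx, Subgroup.mul_mem _ (Subgroup.inv_mem _ hmG) hxG⟩
    have h2 := ih Y hXY.2.2.1 (hXY.1.le.trans hXP) hYcard h1
    have e : x = m * (m⁻¹ * x) := by group
    rw [e]
    exact Subgroup.mul_mem _ hm h2

end chiefstep

section supp

variable {G : Type*} [Group G] [Finite G] {p : ℕ} [Fact p.Prime]

/-- the part of the derived subgroup in a normal `p`-subgroup `P` lies in `S' [P, G]` -/
theorem normal_inf_commutator_le_sup (S : Subgroup G) (hS : IsPGroup p S) (hidx : ¬ p ∣ S.index)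
    (P : Subgroup G) [hPn : P.Normal] (hPS : P ≤ S) :
    P ⊓ ⁅(⊤ : Subgroup G), (⊤ : Subgroup G)⁆ ≤ ⁅S, S⁆ ⊔ ⁅P, (⊤ : Subgroup G)⁆ := by
  haveI hZn : (⁅P, (⊤ : Subgroup G)⁆).Normal := Subgroup.commutator_normal P ⊤
  set Z := ⁅P, (⊤ : Subgroup G)⁆ with hZ
  set π := QuotientGroup.mk' Z with hπ
  have hπs : Function.Surjective π := QuotientGroup.mk'_surjective Z
  rintro x ⟨hxP, hxG⟩
  have hzc : π x ∈ Subgroup.center (G ⧸ Z) := by
    rw [Subgroup.mem_center_iff]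
    intro gb
    obtain ⟨g, rfl⟩ := hπs gb
    rw [← map_mul, ← map_mul]
    apply (QuotientGroup.eq (s := Z)).mpr
    have e : (g * x)⁻¹ * (x * g) = ⁅x⁻¹, g⁻¹⁆ := by rw [commutatorElement_def]; group
    rw [e]
    exact Subgroup.commutator_mem_commutator (P.inv_mem hxP) (Subgroup.mem_top _)
  have hzS : π x ∈ S.map π := Subgroup.mem_map_of_mem π (hPS hxP)
  have hzG : π x ∈ commutator (G ⧸ Z) := by
    rw [commutator_def, ← Subgroup.map_top_of_surjective π hπs, ← Subgroup.map_commutator]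
    exact Subgroup.mem_map_of_mem π hxG
  have hSbidx : ¬ p ∣ (S.map π).index := fun hd => hidx (hd.trans (Subgroup.index_map_dvd S hπs))
  have h5 := mem_commutator_sylow_of_central (S.map π) (hS.map π) hSbidx (π x) hzc hzS hzG
  rw [← Subgroup.map_commutator] at h5
  obtain ⟨t, ht, hte⟩ := h5
  have h6 : t⁻¹ * x ∈ Z := (QuotientGroup.eq (s := Z)).mp hte
  have e : x = t * (t⁻¹ * x) := by group
  rw [e]
  exact Subgroup.mul_mem _ (Subgroup.mem_sup_left ht) (Subgroup.mem_sup_right h6)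

end supp

section minfail

variable {G : Type u} [Group G] [Finite G] {p : ℕ} [Fact p.Prime]
  {𝓦 : Set (∀ (Q : Type u) [Group Q], Subgroup Q)}

/-- control of transfer when the Sylow subgroup is normal -/
theorem fct_of_sylow_le_pCore (h𝓦 : ∀ W ∈ 𝓦, IsCharPFunctor.{u} p W) (hne : 𝓦.Nonempty)
    (S : Subgroup G) (hS : IsPGroup p S) (hidx : ¬ p ∣ S.index) (hSP : S ≤ pCore p G) :
    FamilyControlsTransferIn p (indFam 𝓦 G) ⊤ := by
  apply fct_of_le_famD (indFam 𝓦 G) S hS hidx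
  haveI hPn : (pCore p G).Normal := pCore_normal p
  obtain ⟨W₀, hW₀⟩ := hne
  have hW₀c := isConjugacyFunctor_indW (H := G) (h𝓦 W₀ hW₀)
  have hW₀top := ft_top S (indFam 𝓦 G) (inducedFunctor (G := G) W₀) ⟨W₀, hW₀, rfl⟩
  have hSeq : S = pCore p G := le_antisymm hSP (pCore_le_sylow S hS hidx)
  have hSn : S.Normal := by rw [hSeq]; exact hPn
  have hN : Subgroup.normalizer ((inducedFunctor (G := G) W₀ S : Subgroup G) : Set G) = ⊤ := by
    rw [eq_top_iff]
    intro g _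
    apply cf_normalizer_le hW₀c hS
    rw [Subgroup.normalizer_eq_top_iff.mpr hSn]; exact Subgroup.mem_top _
  rw [hN] at hW₀top
  exact hW₀top

variable (h𝓦 : ∀ W ∈ 𝓦, IsCharPFunctor.{u} p W) (hne : 𝓦.Nonempty)
  (hsub : ∀ L : Subgroup G, L ≠ ⊤ → FamilyControlsTransferIn p (indFam 𝓦 G) L)
  (hquot : ∀ (N : Subgroup G) [N.Normal], N ≠ ⊥ →
    FamilyControlsTransferIn p (indFam 𝓦 (G ⧸ N)) ⊤)
  (hG : ¬ FamilyControlsTransferIn p (indFam 𝓦 G) ⊤)
  (S : Subgroup G) (hS : IsPGroup p S) (hidx : ¬ p ∣ S.index)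

include h𝓦 hne hsub hquot hG in
theorem mf_constrained : Constrained p G := by
  by_contra h
  exact hG (sec_transfer_step h𝓦 hne hsub hquot (fun hc => absurd hc h))

include h𝓦 hne hG hS hidx in
theorem mf_not_le : ¬ S ≤ pCore p G :=
  fun h => hG (fct_of_sylow_le_pCore h𝓦 hne S hS hidx h)

include h𝓦 hne hsub hquot hG hS hidx in
theorem mf_pCore_ne_bot : pCore p G ≠ ⊥ := by
  intro hP
  apply mf_not_le h𝓦 hne hG S hS hidx
  intro s _
  apply mf_constrained h𝓦 hne hsub hquot hG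
  rw [hP, Subgroup.mem_centralizer_iff]
  intro h hh
  rw [Set.mem_setOf_eq.mp (by simpa using hh : h = 1)]
  simp

include h𝓦 hne hsub hquot hG hS hidx in
theorem mf_not_inf_le :
    ¬ pCore p G ⊓ ⁅(⊤ : Subgroup G), (⊤ : Subgroup G)⁆ ≤ famD (indFam 𝓦 G) S := by
  intro h
  haveI hPn : (pCore p G).Normal := pCore_normal p
  apply hG
  apply fct_of_le_famD (indFam 𝓦 G) S hS hidx
  exact q_lemma_t h𝓦 S hS hidx (mf_not_le h𝓦 hne hG S hS hidx)
    (hquot (pCore p G) (mf_pCore_ne_bot h𝓦 hne hsub hquot hG S hS hidx))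
    (fun L hL _ => hsub L hL) h

include h𝓦 hsub hS hidx in
theorem mf_sub_le (H : Subgroup G) (hSH : S ≤ H) (hH : H ≠ ⊤) :
    S ⊓ ⁅H, H⁆ ≤ famD (indFam 𝓦 G) S :=
  sub_le_famD (indFam_conj h𝓦) S hS hidx H hSH (hsub H hH)

include h𝓦 hsub hS hidx in
theorem mf_le_M (H : Subgroup G) (hSH : S ≤ H) (hH : H ≠ ⊤) :
    H ≤ Subgroup.normalizer ((famD (indFam 𝓦 G) S ⊓ pCore p G : Subgroup G) : Set G) := by
  haveI hPn : (pCore p G).Normal := pCore_normal p
  have hPS : pCore p G ≤ S := pCore_le_sylow S hS hidx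
  intro h hh
  have hh' : h⁻¹ ∈ H := H.inv_mem hh
  apply mem_normalizer_iff_rcg.mpr
  apply rcg_eq_of_le_of_finite
  intro y hy
  rw [mem_rcg] at hy
  -- y = x * (x⁻¹ * (h⁻¹ x h)) with x = h y h⁻¹
  set x := h * y * h⁻¹ with hx
  have hxP : x ∈ pCore p G := hy.2
  have hyP : y ∈ pCore p G := by
    have := hPn.conj_mem x hxP h⁻¹
    have e : h⁻¹ * x * h⁻¹⁻¹ = y := by rw [hx]; group
    rwa [e] at this
  have h1 : x⁻¹ * (h⁻¹ * x * h) ∈ S ⊓ ⁅H, H⁆ := by
    refine ⟨?_, focal_mem_commutator (hSH (hPS hxP)) hh⟩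
    have e : h⁻¹ * x * h = y := by rw [hx]; group
    rw [e]
    exact S.mul_mem (S.inv_mem (hPS hxP)) (hPS hyP)
  have h2 := mf_sub_le h𝓦 hsub S hS hidx H hSH hH h1
  have e : y = x * (x⁻¹ * (h⁻¹ * x * h)) := by rw [hx]; group
  refine ⟨?_, hyP⟩
  rw [e]
  exact Subgroup.mul_mem _ hy.1 h2

include h𝓦 hne hsub hquot hG hS hidx in
theorem mf_M_ne_top :
    Subgroup.normalizer ((famD (indFam 𝓦 G) S ⊓ pCore p G : Subgroup G) : Set G) ≠ ⊤ := by
  intro hM
  haveI hPn : (pCore p G).Normal := pCore_normal p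
  have hPS : pCore p G ≤ S := pCore_le_sylow S hS hidx
  set T := famD (indFam 𝓦 G) S with hT
  set P := pCore p G with hP
  set R := T ⊓ P with hR
  haveI hRn : R.Normal := Subgroup.normalizer_eq_top_iff.mp hM
  have hSP := mf_not_le h𝓦 hne hG S hS hidx
  have hSne : S ≠ ⊤ := by
    intro h
    apply hSP
    rw [h]
    apply le_pCore' inferInstance
    intro g
    obtain ⟨k, hk⟩ := hS ⟨(g : G), by rw [h]; exact Subgroup.mem_top _⟩
    refine ⟨k, ?_⟩
    apply Subtype.ext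
    have := congrArg Subtype.val hk
    simpa using this
  set K := stabMod P R with hK
  haveI hKn : K.Normal := by
    apply Subgroup.normalizer_eq_top_iff.mp
    rw [eq_top_iff]
    refine le_trans ?_ (normalizer_le_normalizer_stabMod P R)
    rw [Subgroup.normalizer_eq_top_iff.mpr hPn]
  have hHK : ∀ H : Subgroup G, S ≤ H → H ≠ ⊤ → H ≤ K := by
    intro H hSH hH h hh
    rw [hK, mem_stabMod_iff]
    refine ⟨by rw [Subgroup.normalizer_eq_top_iff.mpr hPn]; exact Subgroup.mem_top _, ?_⟩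
    intro a ha
    have h1 : a⁻¹ * (h⁻¹ * a * h) ∈ S ⊓ ⁅H, H⁆ := by
      refine ⟨?_, focal_mem_commutator (hSH (hPS ha)) hh⟩
      exact S.mul_mem (S.inv_mem (hPS ha)) (hPS (hPn.conj_mem' a ha h))
    refine ⟨mf_sub_le h𝓦 hsub S hS hidx H hSH hH h1, ?_⟩
    exact P.mul_mem (P.inv_mem ha) (hPn.conj_mem' a ha h)
  have hSK : S ≤ K := hHK S le_rfl hSne
  have hNS : Subgroup.normalizer (S : Set G) ≤ K := by
    apply hHK _ Subgroup.le_normalizer
    intro h
    apply hSP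
    exact le_pCore' (Subgroup.normalizer_eq_top_iff.mp h) hS
  have hKtop : K = ⊤ := by
    rw [eq_top_iff]
    intro g _
    have hrel : ¬ p ∣ S.relIndex K :=
      fun hd => hidx (hd.trans (Subgroup.relIndex_dvd_index_of_le hSK))
    obtain ⟨c, hcK, hgc⟩ := frattini_elt K S hSK hS hrel g
    have e : g = (g * c) * c⁻¹ := by group
    rw [e]
    exact K.mul_mem (hNS hgc) (K.inv_mem hcK)
  have hPG : ⁅P, (⊤ : Subgroup G)⁆ ≤ R := by
    rw [Subgroup.commutator_le]
    intro a ha g _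
    have hg : g⁻¹ ∈ K := by rw [hKtop]; exact Subgroup.mem_top _
    rw [hK, mem_stabMod_iff] at hg
    have h1 := hg.2 a⁻¹ (P.inv_mem ha)
    have e : a⁻¹⁻¹ * (g⁻¹⁻¹ * a⁻¹ * g⁻¹) = ⁅a, g⁆ := by rw [commutatorElement_def]; group
    rwa [e] at h1
  apply mf_not_inf_le h𝓦 hne hsub hquot hG S hS hidx
  refine (normal_inf_commutator_le_sup S hS hidx P hPS).trans ?_
  apply sup_le
  · obtain ⟨W₀, hW₀⟩ := hne
    have hW₀c := isConjugacyFunctor_indW (H := G) (h𝓦 W₀ hW₀)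
    have hW₀top := ft_top S (indFam 𝓦 G) (inducedFunctor (G := G) W₀) ⟨W₀, hW₀, rfl⟩
    refine le_trans ?_ hW₀top
    have hSN : S ≤ Subgroup.normalizer ((inducedFunctor (G := G) W₀ S : Subgroup G) : Set G) :=
      cf_le_normalizer hW₀c hS
    exact le_inf (Subgroup.commutator_le_self S) (Subgroup.commutator_mono hSN hSN)
  · exact hPG.trans inf_le_left

include h𝓦 hne hsub hquot hG hS hidx in
theorem mf_bad (u : G) (huS : u ∈ S) (huP : u ∉ pCore p G) :
    ∃ U V : Subgroup G, IsChiefFactor U V ∧ U ≤ pCore p G ∧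
      ¬ iterCommutator U (Subgroup.zpowers u) (p - 1) ≤ V := by
  by_contra hno
  push Not at hno
  haveI hPn : (pCore p G).Normal := pCore_normal p
  set M := Subgroup.normalizer ((famD (indFam 𝓦 G) S ⊓ pCore p G : Subgroup G) : Set G) with hM
  have hU : ∀ H : Subgroup G, S ≤ H → H ≠ ⊤ → H ≤ M :=
    fun H hSH hH => mf_le_M h𝓦 hsub S hS hidx H hSH hH
  have hSne : S ≠ ⊤ := by
    intro h
    apply mf_not_le h𝓦 hne hG S hS hidx
    rw [h]
    apply le_pCore' inferInstance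
    intro g
    obtain ⟨k, hk⟩ := hS ⟨(g : G), by rw [h]; exact Subgroup.mem_top _⟩
    refine ⟨k, ?_⟩
    apply Subtype.ext
    have := congrArg Subtype.val hk
    simpa using this
  have hSM : S ≤ M := hU S le_rfl hSne
  have hMne : M ≠ ⊤ := mf_M_ne_top h𝓦 hne hsub hquot hG S hS hidx
  have h1 := inf_commutator_le_of_bad S hS hidx M hSM hU u huS huP hno (Nat.card (pCore p G))
    (pCore p G) hPn le_rfl le_rfl
  apply mf_not_inf_le h𝓦 hne hsub hquot hG S hS hidx
  intro x hx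
  apply mf_sub_le h𝓦 hsub S hS hidx M hSM hMne
  exact ⟨pCore_le_sylow S hS hidx hx.1, h1 hx⟩

end minfail

end Cfsg.Agent.Helper10
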