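import Mathlib
import Cfsg.Prelude.Def_PLocal
import Cfsg.Prelude.Def_LocalEven
import Cfsg.Prelude.Def_ConjugacyFunctors
import Cfsg.Agent.Lib.Helper10.CriticalGlue
import Cfsg.Agent.Lib.Helper10.MinFail
import Cfsg.Agent.Lib.Helper10.SecChief

set_option autoImplicit false

/-! Control of transfer by the K-infinity functors for `p ≥ 5`. -/

namespace Cfsg.Agent.Helper10

open Cfsg
open scoped commutatorElement

universe u

variable {p : ℕ} [hp : Fact p.Prime]

/-- a functor whose non-normality forces non-normality of one of the K-infinity subgroups controls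
transfer in every finite group, for `p ≥ 5` -/
theorem kinf_fct (hp5 : 5 ≤ p) (W : ∀ (Q : Type u) [Group Q], Subgroup Q)
    (hW : IsCharPFunctor.{u} p W)
    (hWK : ∀ (H : Type u) [Group H] [Finite H] (S : Sylow p H),
      ¬ (inducedFunctor (G := H) W (S : Subgroup H)).Normal →
      ¬ (inducedFunctor kInfLower (S : Subgroup H)).Normal ∨
        ¬ (inducedFunctor kInfUpper (S : Subgroup H)).Normal)
    (G : Type u) [Group G] [Finite G] :
    FamilyControlsTransferIn p (indFam {W} G) ⊤ := by
  have h𝓦 : ∀ W' ∈ ({W} : Set (∀ (Q : Type u) [Group Q], Subgroup Q)), IsCharPFunctor.{u} p W' := by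
    rintro _ rfl; exact hW
  have key := sec_transfer (p := p) (IsSec G) (isSec_closed G) h𝓦 ⟨W, rfl⟩
    (fun H _ _ hH hcon hsub hquot => by
      by_contra hG
      have T₀ : Sylow p H := default
      have hSp : IsPGroup p (T₀ : Subgroup H) := T₀.isPGroup'
      have hidx : ¬ p ∣ (T₀ : Subgroup H).index := T₀.not_dvd_index
      by_cases hn : (inducedFunctor (G := H) W (T₀ : Subgroup H)).Normal
      · apply hG
        apply fct_of_le_famD _ (T₀ : Subgroup H) hSp hidx
        have htop := ft_top (T₀ : Subgroup H) (indFam {W} H) (inducedFunctor (G := H) W)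
          ⟨W, rfl, rfl⟩
        rw [Subgroup.normalizer_eq_top_iff.mpr hn] at htop
        exact htop
      · obtain ⟨g, hgS, hgP, hg⟩ := klocal T₀ (hWK H T₀ hn)
        obtain ⟨U, V, hUV, hUP, hnot⟩ := mf_bad h𝓦 ⟨W, rfl⟩ hsub hquot hG
          (T₀ : Subgroup H) hSp hidx g hgS hgP
        haveI := hUV.2.2.1
        exact hnot (iterCommutator_le_of_le (by omega : 4 ≤ p - 1) (hg U V hUV hUP)))
  exact key (Nat.card G) G le_rfl (IsSec.refl G)

theorem kinfLower_fct (hp5 : 5 ≤ p) (G : Type u) [Group G] [Finite G] :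
    FamilyControlsTransferIn p (indFam {fun (Q : Type u) [Group Q] => kInfLower Q} G) ⊤ :=
  kinf_fct hp5 _ (isCharPFunctor_kInfLower.{u} p) (fun _ _ _ _ h => Or.inl h) G

theorem kinfUpper_fct (hp5 : 5 ≤ p) (G : Type u) [Group G] [Finite G] :
    FamilyControlsTransferIn p (indFam {fun (Q : Type u) [Group Q] => kInfUpper Q} G) ⊤ :=
  kinf_fct hp5 _ (isCharPFunctor_kInfUpper.{u} p) (fun _ _ _ _ h => Or.inr h) G

/-- the statement for an arbitrary Sylow subgroup -/
theorem fct_singleton_sylow {G : Type u} [Group G] [Finite G]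
    {W : ∀ (Q : Type u) [Group Q], Subgroup Q} (hW : IsCharPFunctor.{u} p W)
    (h : FamilyControlsTransferIn p (indFam {W} G) ⊤) (S : Subgroup G) (hS : IsPGroup p S)
    (hidx : ¬ p ∣ S.index) :
    S ⊓ commutator G = S ⊓ ⁅Subgroup.normalizer ((inducedFunctor (G := G) W S : Subgroup G) : Set G),
      Subgroup.normalizer ((inducedFunctor (G := G) W S : Subgroup G) : Set G)⁆ := by
  have h𝓦 : ∀ W' ∈ ({W} : Set (∀ (Q : Type u) [Group Q], Subgroup Q)), IsCharPFunctor.{u} p W' := by
    rintro _ rfl; exact hW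
  have h1 := fct_transfer (indFam_conj (H := G) h𝓦) h S le_top hS
    (by rwa [Subgroup.relIndex_top_right])
  unfold indFam at h1
  rw [Set.image_singleton, iSup_singleton] at h1
  simp only [top_inf_eq] at h1
  rw [← h1]
  rfl

end Cfsg.Agent.Helper10
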