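import Mathlib
import Cfsg.Prelude.Def_PLocal
import Cfsg.Prelude.Def_LocalEven
import Cfsg.Prelude.Def_ConjugacyFunctors
import Cfsg.Prelude.Def_Amalgam
import Cfsg.Agent.Lib.Helper10.CriticalGlue
import Cfsg.Agent.Lib.Helper10.SecInduced
import Cfsg.Agent.Lib.Helper10.WeakClosure6

set_option autoImplicit false

/-! The local hypothesis of the weak closure theorems, for the K-infinity functors. -/

namespace Cfsg.Agent.Helper10

open Cfsg
open scoped commutatorElement

universe u

variable {G : Type u} [Group G] [Finite G] {p : ℕ} [hp : Fact p.Prime]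

/-- if one of the K-infinity subgroups of a Sylow `p`-subgroup `S` is not normal, an element of
`S` outside `O_p(G)` acts quadratically on `Z(O_p(G))`. -/
theorem klocal2 (S : Sylow p G)
    (hK : ¬ (inducedFunctor kInfLower (S : Subgroup G)).Normal ∨
      ¬ (inducedFunctor kInfUpper (S : Subgroup G)).Normal) :
    ∃ g : G, g ∈ (S : Subgroup G) ∧ g ∉ pCore p G ∧
      ⁅⁅pCore p G ⊓ Subgroup.centralizer ((pCore p G : Subgroup G) : Set G),
        Subgroup.zpowers g⁆, Subgroup.zpowers g⁆ = ⊥ := by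
  haveI hTn : (pCore p G).Normal := pCore_normal p
  have hTp : IsPGroup p (pCore p G) := pCore_isPGroup p
  obtain ⟨A, hAn, hAT, hA2, hA3, hA4⟩ := exists_critical_normal (pCore p G) hTp
  haveI := hAn
  obtain ⟨g, hgS, hgT, hg3, hg2⟩ := kweak S A hAT hA2 hA3 hK
  refine ⟨g, hgS, hgT, ?_⟩
  rw [eq_bot_iff, ← hg2]
  have h1 : pCore p G ⊓ Subgroup.centralizer ((pCore p G : Subgroup G) : Set G) ≤ zOf A :=
    (inf_le_inf_left _ (Subgroup.centralizer_le (by exact_mod_cast hAT))).trans hA4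
  exact Subgroup.commutator_mono (Subgroup.commutator_mono h1 le_rfl) le_rfl

theorem pCoreOf_inf_centralizer_le (H : Subgroup G) :
    pCoreOf p H ⊓ Subgroup.centralizer ((pCoreOf p H : Subgroup G) : Set G) ≤
      (pCore p ↥H ⊓ Subgroup.centralizer ((pCore p ↥H : Subgroup ↥H) : Set ↥H)).map H.subtype := by
  rintro y ⟨⟨y', hy', rfl⟩, hy2⟩
  refine ⟨y', ⟨hy', ?_⟩, rfl⟩
  show y' ∈ Subgroup.centralizer ((pCore p ↥H : Subgroup ↥H) : Set ↥H)
  rw [Subgroup.mem_centralizer_iff]
  intro h hh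
  apply Subtype.ext
  exact Subgroup.mem_centralizer_iff.mp hy2 (h : G) ⟨h, hh, rfl⟩

/-- the local hypothesis for the lower and upper K-infinity functors, in every subgroup -/
theorem kinf_hloc {W : ∀ (Q : Type u) [Group Q], Subgroup Q}
    (hWc : IsCharPFunctor.{u} p W)
    (hWK : ∀ (H : Subgroup G) (S : Sylow p ↥H), ¬ (inducedFunctor W (S : Subgroup ↥H)).Normal →
      (¬ (inducedFunctor kInfLower (S : Subgroup ↥H)).Normal ∨
        ¬ (inducedFunctor kInfUpper (S : Subgroup ↥H)).Normal))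
    (H T : Subgroup G) (hTH : T ≤ H) (hT : IsPGroup p T)
    (hidx : ¬ p ∣ T.relIndex H)
    (hHW : ¬ H ≤ Subgroup.normalizer ((inducedFunctor W T : Subgroup G) : Set G)) :
    ∃ g : G, g ∈ T ∧ g ∉ pCoreOf p H ∧
      ⁅⁅pCoreOf p H ⊓ Subgroup.centralizer ((pCoreOf p H : Subgroup G) : Set G),
        Subgroup.zpowers g⁆, Subgroup.zpowers g⁆ = ⊥ := by
  set T' : Subgroup ↥H := T.subgroupOf H with hT'
  have hT'map : T'.map H.subtype = T := Subgroup.map_subgroupOf_eq_of_le hTH
  have hT'p : IsPGroup p T' := hT.comap_subtype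
  have hT'idx : ¬ p ∣ T'.index := hidx
  set S' : Sylow p ↥H := hT'p.toSylow hT'idx with hS'
  have hS'coe : (S' : Subgroup ↥H) = T' := rfl
  have hmapW : inducedFunctor W T = (inducedFunctor W T').map H.subtype := by
    rw [← hT'map]
    exact indW_map hWc H.subtype T' hT'p H.subtype_injective.injOn
  have hnn : ¬ (inducedFunctor W (S' : Subgroup ↥H)).Normal := by
    intro hn
    apply hHW
    rw [hmapW]
    have h1 : (⊤ : Subgroup ↥H) ≤ Subgroup.normalizer ((inducedFunctor W T' : Subgroup ↥H) : Set ↥H) := by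
      rw [hS'coe] at hn
      rw [Subgroup.normalizer_eq_top_iff.mpr hn]
    have h2 := (T_norm H.subtype H.subtype_injective).mp h1
    rwa [← MonoidHom.range_eq_map, Subgroup.range_subtype] at h2
  obtain ⟨g, hgS, hgP, hq⟩ := klocal2 S' (hWK H S' hnn)
  refine ⟨(g : G), Subgroup.mem_subgroupOf.mp hgS, ?_, ?_⟩
  · rintro ⟨g', hg', hgg⟩
    have : g' = g := Subtype.ext hgg
    exact hgP (this ▸ hg')
  · rw [eq_bot_iff]
    have h2 : (Subgroup.zpowers g).map H.subtype = Subgroup.zpowers (g : G) := by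
      rw [MonoidHom.map_zpowers]; rfl
    have h3 := congrArg (Subgroup.map H.subtype) hq
    rw [Subgroup.map_commutator, Subgroup.map_commutator, h2, Subgroup.map_bot] at h3
    rw [← h3]
    exact Subgroup.commutator_mono
      (Subgroup.commutator_mono (pCoreOf_inf_centralizer_le H) le_rfl) le_rfl

theorem kinf_hWZ {W : ∀ (Q : Type u) [Group Q], Subgroup Q}
    (hWZ : ∀ (Q : Type u) [Group Q], Subgroup.center Q ≤ W Q) (P : Subgroup G) :
    P ⊓ Subgroup.centralizer (P : Set G) ≤ inducedFunctor W P := by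
  intro y hy
  refine ⟨⟨y, hy.1⟩, hWZ ↥P ?_, rfl⟩
  rw [Subgroup.mem_center_iff]
  intro h
  apply Subtype.ext
  exact Subgroup.mem_centralizer_iff.mp hy.2 (h : G) h.2

/-- a quadratic action on `Z(O_p(H))` kills the iterated commutators of length at least two -/
theorem iterCommutator_eq_bot_of_quad {X Z₀ K : Subgroup G} (hXZ : X ≤ Z₀)
    (hq : ⁅⁅Z₀, K⁆, K⁆ = ⊥) (n : ℕ) (hn : 2 ≤ n) : iterCommutator X K n = ⊥ := by
  obtain ⟨m, rfl⟩ := Nat.exists_eq_add_of_le hn
  induction m with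
  | zero =>
    show ⁅⁅X, K⁆, K⁆ = ⊥
    rw [eq_bot_iff, ← hq]
    exact Subgroup.commutator_mono (Subgroup.commutator_mono hXZ le_rfl) le_rfl
  | succ m ih =>
    show ⁅iterCommutator X K (2 + m), K⁆ = ⊥
    rw [ih (by omega)]
    exact Subgroup.commutator_bot_left K

end Cfsg.Agent.Helper10
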