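import Mathlib
import Cfsg.Agent.Lib.Helper10.KStab6
import Cfsg.Agent.Lib.Helper10.CriticalGlue

set_option autoImplicit false

/-! Glauberman's theorem: in a group with `C(O_p) ≤ O_p` all of whose sections are `p`-stable
(in the ambient form `AmbStab`), the K-infinity subgroups of a Sylow `p`-subgroup are normal. -/

namespace Cfsg.Agent.Helper10

open Cfsg
open scoped commutatorElement

universe u

section main

variable {G : Type u} [Group G] [Finite G] {p : ℕ} [hp : Fact p.Prime]

theorem kinf_normal_of_stab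
    (hcon : Subgroup.centralizer ((pCore p G : Subgroup G) : Set G) ≤ pCore p G)
    (hst : AmbStab p G) (S : Sylow p G) :
    (inducedFunctor kInfLower (S : Subgroup G)).Normal ∧
      (inducedFunctor kInfUpper (S : Subgroup G)).Normal := by
  set T := pCore p G with hT
  have hTp : IsPGroup p T := pCore_isPGroup p
  haveI hTn : T.Normal := pCore_normal p
  obtain ⟨A, hAn, hAT, hA2, hA3, hA4⟩ := exists_critical_normal T hTp
  haveI := hAn
  have hTS : T ≤ (S : Subgroup G) := pCore_le_sylow (S : Subgroup G) S.2 S.not_dvd_index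
  set f := (S : Subgroup G).subtype with hf
  have hfi : Function.Injective f := Subgroup.subtype_injective _
  set AP : Subgroup ↥(S : Subgroup G) := A.subgroupOf (S : Subgroup G) with hAP
  set TP : Subgroup ↥(S : Subgroup G) := T.subgroupOf (S : Subgroup G) with hTP
  have hAPmap : AP.map f = A := Subgroup.map_subgroupOf_eq_of_le (hAT.trans hTS)
  have hTPmap : TP.map f = T := Subgroup.map_subgroupOf_eq_of_le hTS
  haveI hAPn : AP.Normal := Subgroup.Normal.subgroupOf hAn _
  have hA2P : ⁅AP, AP⁆ ≤ Subgroup.centralizer (AP : Set ↥(S : Subgroup G)) := by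
    rw [T_cent f hfi, Subgroup.map_commutator, hAPmap]
    exact hA2
  have hzmap : (zOf AP).map f = zOf A := by
    rw [T_zOf f hfi, hAPmap]
  have hA3P : ⁅TP, AP⁆ ≤ zOf AP := by
    rw [← T_le f hfi, Subgroup.map_commutator, hzmap, hTPmap, hAPmap]
    exact hA3
  have hmapS : ∀ X : Subgroup ↥(S : Subgroup G), IsPGroup p (X.map f) := by
    intro X
    apply S.2.to_le
    rintro _ ⟨x, -, rfl⟩
    exact x.2
  have HU : ∀ X : Subgroup ↥(S : Subgroup G), ⁅⁅AP, X⁆, X⁆ ≤ zOf AP →
      ⁅⁅zOf AP, X⁆, X⁆ = ⊥ → X ≤ TP := by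
    intro X h1 h2
    have h1' : ⁅⁅A, X.map f⁆, X.map f⁆ ≤ zOf A := by
      have h3 := Subgroup.map_mono (f := f) h1
      rw [Subgroup.map_commutator, Subgroup.map_commutator, hAPmap, hzmap] at h3
      exact h3
    have h2' : ⁅⁅zOf A, X.map f⁆, X.map f⁆ = ⊥ := by
      have h3 := congrArg (Subgroup.map f) h2
      rw [Subgroup.map_commutator, Subgroup.map_commutator, hzmap, Subgroup.map_bot] at h3
      exact h3
    have h4 := stab_HU hcon hst A hAT hA4 (X.map f) (hmapS X) h1' h2'
    rw [← T_le f hfi, hTPmap]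
    exact h4
  have HL : ∀ B : Subgroup ↥(S : Subgroup G),
      ⁅B, B⁆ ≤ Subgroup.centralizer (B : Set ↥(S : Subgroup G)) → ⁅AP, B⁆ ≤ B → zOf B ≤ TP →
      (∀ A₁ : Subgroup ↥(S : Subgroup G), A₁ ≤ AP →
        B ≤ Subgroup.normalizer (A₁ : Set ↥(S : Subgroup G)) → ⁅B, ⁅A₁, A₁⁆⁆ = ⊥ →
        ⁅B, A₁⁆ ≤ zOf B) → B ≤ TP := by
    intro B hB2 hAB hZB htest
    have hB2' : ⁅B.map f, B.map f⁆ ≤ Subgroup.centralizer ((B.map f : Subgroup G) : Set G) := by
      rw [← Subgroup.map_commutator, ← T_cent f hfi]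
      exact hB2
    have hAB' : ⁅A, B.map f⁆ ≤ B.map f := by
      rw [← hAPmap, ← Subgroup.map_commutator]
      exact Subgroup.map_mono hAB
    have hZB' : zOf (B.map f) ≤ T := by
      rw [← T_zOf f hfi, ← hTPmap]
      exact Subgroup.map_mono hZB
    have htest' : ∀ A₁ : Subgroup G, A₁ ≤ A →
        B.map f ≤ Subgroup.normalizer (A₁ : Set G) → ⁅B.map f, ⁅A₁, A₁⁆⁆ = ⊥ →
        ⁅B.map f, A₁⁆ ≤ zOf (B.map f) := by
      intro A₁ hA₁A hBN hc
      set A₁P : Subgroup ↥(S : Subgroup G) := A₁.subgroupOf (S : Subgroup G) with hA₁P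
      have hA₁map : A₁P.map f = A₁ :=
        Subgroup.map_subgroupOf_eq_of_le ((hA₁A.trans hAT).trans hTS)
      have e1 : A₁P ≤ AP := by
        rw [← T_le f hfi, hA₁map, hAPmap]; exact hA₁A
      have e2 : B ≤ Subgroup.normalizer (A₁P : Set ↥(S : Subgroup G)) := by
        rw [T_norm f hfi, hA₁map]; exact hBN
      have e3 : ⁅B, ⁅A₁P, A₁P⁆⁆ = ⊥ := by
        rw [← T_bot f hfi, Subgroup.map_commutator, Subgroup.map_commutator, hA₁map]
        exact hc
      have e4 := Subgroup.map_mono (f := f) (htest A₁P e1 e2 e3)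
      rw [Subgroup.map_commutator, hA₁map, T_zOf f hfi] at e4
      exact e4
    have h4 := stab_HL hcon hst A hAT hA2 hA3 hA4 (B.map f) (hmapS B) hB2' hAB' hZB' htest'
    rw [← T_le f hfi, hTPmap]
    exact h4
  obtain ⟨hL, hU⟩ := ks_restrict AP TP hA2P hA3P HU HL
  have hTPp : IsPGroup p TP := hTp.comap_subtype
  have hinj : Set.InjOn f (TP : Set ↥(S : Subgroup G)) := hfi.injOn
  have hWL := isCharPFunctor_kInfLower.{u} p
  have hWU := isCharPFunctor_kInfUpper.{u} p
  have eL : inducedFunctor kInfLower (S : Subgroup G) = inducedFunctor kInfLower T := by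
    have h1 := indW_map hWL f TP hTPp hinj
    rw [hTPmap] at h1
    rw [h1]
    unfold inducedFunctor
    rw [hL]
  have eU : inducedFunctor kInfUpper (S : Subgroup G) = inducedFunctor kInfUpper T := by
    have h1 := indW_map hWU f TP hTPp hinj
    rw [hTPmap] at h1
    rw [h1]
    unfold inducedFunctor
    rw [hU]
  constructor
  · rw [eL]
    exact indW_normal_of_normal hWL T hTp
  · rw [eU]
    exact indW_normal_of_normal hWU T hTp

end main

end Cfsg.Agent.Helper10
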