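import Mathlib
import Cfsg.Agent.Lib.Helper10.SecFusion
import Cfsg.Agent.Lib.Helper10.SecInduced
import Cfsg.Agent.Lib.Helper1.ZJFusion

set_option autoImplicit false

/-! Control of strong fusion by a single isomorphism-invariant functor that is normal in the
constrained members of a section-closed class. -/

namespace Cfsg.Agent.Helper10

open Cfsg
open scoped commutatorElement

universe u

section single

variable {p : ℕ} [hp : Fact p.Prime] (W : ∀ (Q : Type u) [Group Q], Subgroup Q)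

theorem hfam_single (hW : IsCharPFunctor.{u} p W) :
    ∀ W' ∈ ({W} : Set (∀ (Q : Type u) [Group Q], Subgroup Q)), IsCharPFunctor.{u} p W' := by
  intro W' hW'
  rw [Set.mem_singleton_iff] at hW'
  subst hW'
  exact hW

theorem fcs_of_indW_normal {H : Type u} [Group H] [Finite H]
    (hN : ∀ S : Sylow p H, (inducedFunctor (G := H) W (S : Subgroup H)).Normal) :
    FamilyControlsStrongFusionIn p (indFam {W} H) ⊤ := by
  have S₀ : Sylow p H := default
  have hrelS : ¬ p ∣ (S₀ : Subgroup H).relIndex ⊤ := by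
    rw [Subgroup.relIndex_top_right]; exact S₀.not_dvd_index
  apply ncomp_to_fcs (S₀ : Subgroup H) le_top S₀.isPGroup' hrelS
  intro A g _ hA hgA
  refine NComp.single
    (N := ⊤ ⊓ Subgroup.normalizer ((inducedFunctor (G := H) W (S₀ : Subgroup H) : Subgroup H) : Set H))
    ⟨_, ⟨W, rfl, rfl⟩, rfl⟩ ⟨Subgroup.mem_top _, ?_⟩ hA hgA
  haveI := hN S₀
  rw [Subgroup.normalizer_eq_top]
  exact Subgroup.mem_top _

theorem single_fcs (𝒞 : ∀ (H : Type u) [Group H], Prop) (h𝒞 : SecClosed 𝒞)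
    (hW : IsCharPFunctor.{u} p W)
    (hloc : ∀ (H : Type u) [Group H] [Finite H], 𝒞 H → Constrained p H →
      ∀ S : Sylow p H, (inducedFunctor (G := H) W (S : Subgroup H)).Normal)
    (H : Type u) [Group H] [Finite H] (hH : 𝒞 H) :
    FamilyControlsStrongFusionIn p (indFam {W} H) ⊤ :=
  sec_fusion 𝒞 h𝒞 (hfam_single W hW) ⟨W, rfl⟩
    (fun H _ _ hH hc => fcs_of_indW_normal W (hloc H hH hc)) (Nat.card H) H le_rfl hH

theorem exists_mem_normalizer_of_fcs_single {H : Type u} [Group H] [Finite H] {M : Subgroup H}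
    (hW : IsCharPFunctor.{u} p W)
    (h : FamilyControlsStrongFusionIn p (indFam {W} H) M) (R : Subgroup H) (hRM : R ≤ M)
    (hRp : IsPGroup p R) (hRidx : ¬ p ∣ R.relIndex M) (A : Set H) (g : H) (hg : g ∈ M)
    (hA : A ⊆ (R : Set H)) (hgA : rcs g A ⊆ (R : Set H)) :
    ∃ n ∈ M ⊓ Subgroup.normalizer ((inducedFunctor (G := H) W R : Subgroup H) : Set H),
      ∀ a ∈ A, n⁻¹ * a * n = g⁻¹ * a * g := by
  have h1 := fcs_transfer (indFam_conj (H := H) (p := p) (hfam_single W hW)) h R hRM hRp hRidx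
    A g hg hA hgA
  obtain ⟨g', hg1, hg2⟩ := h1
  refine ⟨g', ?_, hg2⟩
  apply Cfsg.Agent.Helper1.ZJF.mem_of_nchain _ hg1
  rintro N ⟨W', ⟨W₀, hW₀, rfl⟩, rfl⟩
  rw [Set.mem_singleton_iff] at hW₀
  subst hW₀
  exact le_rfl

theorem controlsStrongFusion_of_fcs_single {H : Type u} [Group H] [Finite H]
    (hW : IsCharPFunctor.{u} p W)
    (h : FamilyControlsStrongFusionIn p (indFam {W} H) ⊤) (T : Sylow p H) :
    ControlsStrongFusion p (inducedFunctor (G := H) W (T : Subgroup H)) := by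
  refine ⟨T, indW_le _, fun A hA => ⟨hA, fun g hg => ?_⟩⟩
  have hrel : ¬ p ∣ (T : Subgroup H).relIndex ⊤ := by
    rw [Subgroup.relIndex_top_right]; exact T.not_dvd_index
  obtain ⟨n, hn, hnA⟩ := exists_mem_normalizer_of_fcs_single W hW h
    (T : Subgroup H) le_top T.isPGroup' hrel A g⁻¹ (Subgroup.mem_top _) hA
    (by
      rintro _ ⟨a, ha, rfl⟩
      have := hg ⟨a, ha, rfl⟩
      simpa using this)
  refine ⟨n⁻¹, Subgroup.inv_mem _ hn.2, fun a ha => ?_⟩
  have := hnA a ha
  rw [inv_inv] at this ⊢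
  exact this.symm

end single

end Cfsg.Agent.Helper10
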