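import Mathlib

/-! # S5286 piece LS-COUNT (helper10): a finite prefix-closed set of vertices of the Cayley tree of a
free group is a tree: `#edges + 1 = #vertices`. -/

set_option autoImplicit false

namespace Cfsg.Agent.Helper3.LS

universe u

section Word

variable {α : Type u} [DecidableEq α]

/-- multiplying by a generator either appends the letter or cancels the last letter -/
theorem count_mul_of (v : FreeGroup α) (x : α) :
    (v * FreeGroup.of x).toWord = v.toWord ++ [(x, true)] ∨
      v.toWord = (v * FreeGroup.of x).toWord ++ [(x, false)] := by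
  rw [FreeGroup.toWord_mul, FreeGroup.toWord_of]
  by_cases h : FreeGroup.IsReduced (v.toWord ++ [(x, true)])
  · left
    exact h.reduce_eq
  · right
    -- `v.toWord` ends with `(x, false)`
    have hv : FreeGroup.IsReduced v.toWord := FreeGroup.isReduced_toWord
    rcases List.eq_nil_or_concat v.toWord with hnil | ⟨L, a, hL⟩
    · exfalso
      apply h
      rw [hnil]
      exact FreeGroup.IsReduced.singleton
    · rw [hL, List.concat_eq_append] at h hv ⊢
      have ha : a = (x, false) := by
        by_contra hne
        apply h
        have h2 : FreeGroup.IsReduced ([a] ++ [(x, true)]) := by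
          show FreeGroup.IsReduced [a, (x, true)]
          rw [FreeGroup.isReduced_cons_cons]
          refine ⟨?_, FreeGroup.IsReduced.singleton⟩
          intro h1
          by_contra h3
          apply hne
          have : a.2 = false := by
            simpa using h3
          exact Prod.ext h1 this
        exact FreeGroup.IsReduced.append_overlap hv h2 (by simp)
      subst ha
      have hLr : FreeGroup.IsReduced L := hv.infix ⟨[], [(x, false)], by simp⟩
      have : FreeGroup.reduce (L ++ [(x, false)] ++ [(x, true)]) = L := by
        have hstep : FreeGroup.Red.Step (L ++ [(x, false)] ++ [(x, true)]) L := by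
          have := @FreeGroup.Red.Step.not α L [] x false
          simpa using this
        rw [FreeGroup.reduce.Step.eq hstep]
        exact hLr.reduce_eq
      rw [this]

/-- the two alternatives of `count_mul_of` exclude each other -/
theorem count_not_both (v : FreeGroup α) (x : α)
    (h1 : (v * FreeGroup.of x).toWord = v.toWord ++ [(x, true)])
    (h2 : v.toWord = (v * FreeGroup.of x).toWord ++ [(x, false)]) : False := by
  have := congrArg List.length h2
  rw [h1] at this
  simp at this

/-- LS-COUNT: a finite prefix-closed set of vertices is a tree: #edges + 1 = #vertices. -/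
theorem word_count (V : Finset (FreeGroup α)) (h1 : (1 : FreeGroup α) ∈ V)
    (hV : ∀ v ∈ V, ∀ u : FreeGroup α, u.toWord <+: v.toWord → u ∈ V) :
    Nat.card {e : FreeGroup α × α // e.1 ∈ V ∧ e.1 * FreeGroup.of e.2 ∈ V} + 1 = V.card := by
  classical
  set E := {e : FreeGroup α × α // e.1 ∈ V ∧ e.1 * FreeGroup.of e.2 ∈ V} with hE
  -- the longer endpoint of an edge
  let f : E → FreeGroup α := fun e =>
    if (e.1.1 * FreeGroup.of e.1.2).toWord = e.1.1.toWord ++ [(e.1.2, true)] then
      e.1.1 * FreeGroup.of e.1.2 else e.1.1
  have hfA : ∀ e : E, (e.1.1 * FreeGroup.of e.1.2).toWord = e.1.1.toWord ++ [(e.1.2, true)] →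
      f e = e.1.1 * FreeGroup.of e.1.2 := fun e h => if_pos h
  have hfB : ∀ e : E, ¬ (e.1.1 * FreeGroup.of e.1.2).toWord = e.1.1.toWord ++ [(e.1.2, true)] →
      f e = e.1.1 := fun e h => if_neg h
  -- the word of `f e`
  have hfw : ∀ e : E, ((f e).toWord = e.1.1.toWord ++ [(e.1.2, true)] ∧
      f e = e.1.1 * FreeGroup.of e.1.2) ∨
      ((f e).toWord = (e.1.1 * FreeGroup.of e.1.2).toWord ++ [(e.1.2, false)] ∧ f e = e.1.1) := by
    intro e
    by_cases h : (e.1.1 * FreeGroup.of e.1.2).toWord = e.1.1.toWord ++ [(e.1.2, true)]
    · left
      rw [hfA e h]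
      exact ⟨h, rfl⟩
    · right
      rw [hfB e h]
      rcases count_mul_of e.1.1 e.1.2 with h' | h'
      · exact absurd h' h
      · exact ⟨h', rfl⟩
  have hfV : ∀ e : E, f e ∈ V.erase 1 := by
    intro e
    rw [Finset.mem_erase]
    rcases hfw e with ⟨hw, he⟩ | ⟨hw, he⟩
    · refine ⟨?_, by rw [he]; exact e.2.2⟩
      intro h0
      rw [h0, FreeGroup.toWord_one] at hw
      simp at hw
    · refine ⟨?_, by rw [he]; exact e.2.1⟩
      intro h0
      rw [h0, FreeGroup.toWord_one] at hw
      simp at hw
  let g : E → {w // w ∈ V.erase 1} := fun e => ⟨f e, hfV e⟩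
  have hinj : Function.Injective g := by
    intro e e' hee
    have hff : f e = f e' := congrArg Subtype.val hee
    apply Subtype.ext
    rcases hfw e with ⟨hw, he⟩ | ⟨hw, he⟩ <;> rcases hfw e' with ⟨hw', he'⟩ | ⟨hw', he'⟩
    · rw [hff, hw'] at hw
      have hlast := List.append_inj' hw (by simp)
      have hx : e'.1.2 = e.1.2 := by
        have := hlast.2
        simpa using this
      have hv : e'.1.1 = e.1.1 := FreeGroup.toWord_injective hlast.1
      exact (Prod.ext hv hx).symm
    · rw [hff, hw'] at hw
      have hlast := List.append_inj' hw (by simp)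
      have := hlast.2
      simp at this
    · rw [hff, hw'] at hw
      have hlast := List.append_inj' hw (by simp)
      have := hlast.2
      simp at this
    · rw [hff, hw'] at hw
      have hlast := List.append_inj' hw (by simp)
      have hx : e'.1.2 = e.1.2 := by
        have := hlast.2
        simpa using this
      have hv : e.1.1 = e'.1.1 := by rw [← he, ← he', hff]
      exact Prod.ext hv hx.symm
  have hsurj : Function.Surjective g := by
    rintro ⟨w, hw⟩
    rw [Finset.mem_erase] at hw
    obtain ⟨hw1, hwV⟩ := hw
    have hwr : FreeGroup.IsReduced w.toWord := FreeGroup.isReduced_toWord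
    rcases List.eq_nil_or_concat w.toWord with hnil | ⟨L, a, hL⟩
    · exact absurd (FreeGroup.toWord_eq_nil_iff.1 hnil) hw1
    · rw [List.concat_eq_append] at hL
      obtain ⟨x, b⟩ := a
      have hLr : FreeGroup.IsReduced L := by
        rw [hL] at hwr
        exact hwr.infix ⟨[], [(x, b)], by simp⟩
      set u : FreeGroup α := FreeGroup.mk L with hu
      have huw : u.toWord = L := by
        rw [hu, FreeGroup.toWord_mk]
        exact hLr.reduce_eq
      have huV : u ∈ V := hV w hwV u (by rw [huw, hL]; exact List.prefix_append _ _)
      have hwmk : w = FreeGroup.mk (L ++ [(x, b)]) := by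
        rw [← hL]
        exact FreeGroup.mk_toWord.symm
      cases b with
      | true =>
        have hwu : w = u * FreeGroup.of x := by
          rw [hwmk, hu]
          rfl
        have hmem : u ∈ V ∧ u * FreeGroup.of x ∈ V := ⟨huV, by rw [← hwu]; exact hwV⟩
        refine ⟨⟨(u, x), hmem⟩, ?_⟩
        apply Subtype.ext
        show f ⟨(u, x), hmem⟩ = w
        have hA : (u * FreeGroup.of x).toWord = u.toWord ++ [(x, true)] := by
          rw [← hwu, hL, huw]
        rw [hfA ⟨(u, x), hmem⟩ hA]
        exact hwu.symm
      | false =>
        have huw' : u = w * FreeGroup.of x := by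
          rw [hwmk, hu]
          show FreeGroup.mk L = FreeGroup.mk (L ++ [(x, false)]) * FreeGroup.mk [(x, true)]
          rw [FreeGroup.mul_mk]
          apply (FreeGroup.reduce.exact _)
          have hstep : FreeGroup.Red.Step (L ++ [(x, false)] ++ [(x, true)]) L := by
            have := @FreeGroup.Red.Step.not α L [] x false
            simpa using this
          exact (FreeGroup.reduce.Step.eq hstep).symm
        have hmem : w ∈ V ∧ w * FreeGroup.of x ∈ V := ⟨hwV, by rw [← huw']; exact huV⟩
        refine ⟨⟨(w, x), hmem⟩, ?_⟩
        apply Subtype.ext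
        show f ⟨(w, x), hmem⟩ = w
        have hB : ¬ (w * FreeGroup.of x).toWord = w.toWord ++ [(x, true)] := by
          intro hA
          rw [← huw', huw, hL] at hA
          have := congrArg List.length hA
          simp at this
        exact hfB ⟨(w, x), hmem⟩ hB
  have hcard : Nat.card E = (V.erase 1).card := by
    rw [Nat.card_congr (Equiv.ofBijective g ⟨hinj, hsurj⟩), Nat.card_eq_fintype_card,
      Fintype.card_coe]
  rw [hcard]
  exact Finset.card_erase_add_one h1

end Word

end Cfsg.Agent.Helper3.LS
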