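import Mathlib
import Cfsg.Agent.Lib.Helper10.MannDefs
import Cfsg.Agent.Lib.Helper13.MANNITER
import Cfsg.Agent.Lib.Helper5.MANNABS

/-! # S4009 (Mann), piece MANN-CHAIN: index bookkeeping along the chain `[H, G, ..., G] N` -/

set_option autoImplicit false

namespace Cfsg.Agent.Helper10.Mann

open scoped commutatorElement

variable {G : Type*} [Group G]

section chain

variable [Finite G] {p : ℕ} [Fact p.Prime]

theorem p_dvd_relIndex_of_lt (hG : IsPGroup p G) {A B : Subgroup G} (h : A < B) :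
    p ∣ A.relIndex B := by
  have hB : IsPGroup p B := hG.to_subgroup B
  obtain ⟨n, hn⟩ := hB.index (A.subgroupOf B)
  have hne : A.relIndex B ≠ 1 := by
    intro h1
    rw [Subgroup.relIndex_eq_one] at h1
    exact (not_le_of_gt h) h1
  rw [Subgroup.relIndex, hn]
  rw [Subgroup.relIndex, hn] at hne
  cases n with
  | zero => exact absurd (pow_zero p) hne
  | succ n => exact dvd_pow_self p (Nat.succ_ne_zero n)

theorem chain_dvd_aux (hG : IsPGroup p G) (H N : Subgroup G) [H.Normal] [N.Normal] (j : ℕ)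
    (h : ¬ mIter H j ≤ N) (d : ℕ) (hd : d ≤ j + 1) :
    p ^ d ∣ (mIter H (j + 1) ⊔ N).relIndex (mIter H (j + 1 - d) ⊔ N) := by
  haveI : Group.IsNilpotent G := hG.isNilpotent
  induction d with
  | zero => simp
  | succ d ih =>
    have ih' := ih (by omega)
    obtain ⟨t, ht⟩ : ∃ t, j + 1 - (d + 1) = t := ⟨_, rfl⟩
    have ht1 : j + 1 - d = t + 1 := by omega
    rw [ht]
    rw [ht1] at ih'
    have htj : t ≤ j := by omega
    have hnt : ¬ mIter H t ≤ N := fun hle => h ((mIter_antitone H htj).trans hle)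
    have hlt := chain_lt H N t hnt
    have hp := p_dvd_relIndex_of_lt hG hlt
    have hle1 : mIter H (j + 1) ⊔ N ≤ mIter H (t + 1) ⊔ N :=
      sup_le_sup_right (mIter_antitone H (by omega)) N
    have hmul := Subgroup.relIndex_mul_relIndex (mIter H (j + 1) ⊔ N) (mIter H (t + 1) ⊔ N)
      (mIter H t ⊔ N) hle1 hlt.le
    rw [← hmul, pow_succ]
    exact mul_dvd_mul ih' hp

theorem chain_dvd (hG : IsPGroup p G) (H N : Subgroup G) [H.Normal] [N.Normal] (i j : ℕ)
    (hij : i ≤ j + 1) (h : ¬ mIter H j ≤ N) :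
    p ^ (j + 1 - i) ∣ (mIter H (j + 1) ⊔ N).relIndex (mIter H i ⊔ N) := by
  have := chain_dvd_aux hG H N j h (j + 1 - i) (by omega)
  have e : j + 1 - (j + 1 - i) = i := by omega
  rwa [e] at this

theorem exists_gen_of_relIndex_prime {A B : Subgroup G} (hAB : A ≤ B) (h : A.relIndex B = p) :
    ∃ y ∈ B, B = Subgroup.zpowers y ⊔ A := by
  have hp : p.Prime := Fact.out
  have hne : ¬ B ≤ A := by
    intro hle
    rw [← Subgroup.relIndex_eq_one, h] at hle
    exact hp.one_lt.ne' hle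
  obtain ⟨y, hyB, hyA⟩ := SetLike.not_le_iff_exists.mp hne
  refine ⟨y, hyB, ?_⟩
  have hle : Subgroup.zpowers y ⊔ A ≤ B := sup_le ((Subgroup.zpowers_le).mpr hyB) hAB
  have hmul := Subgroup.relIndex_mul_relIndex A (Subgroup.zpowers y ⊔ A) B le_sup_right hle
  rw [h] at hmul
  have h1 : A.relIndex (Subgroup.zpowers y ⊔ A) ≠ 1 := by
    intro h1
    rw [Subgroup.relIndex_eq_one] at h1
    exact hyA (h1 (le_sup_left (a := Subgroup.zpowers y) (Subgroup.mem_zpowers y)))
  have hd : A.relIndex (Subgroup.zpowers y ⊔ A) ∣ p := Dvd.intro _ hmul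
  have h2 : A.relIndex (Subgroup.zpowers y ⊔ A) = p := by
    rcases (Nat.dvd_prime hp).mp hd with h' | h'
    · exact absurd h' h1
    · exact h'
  rw [h2] at hmul
  have h3 : (Subgroup.zpowers y ⊔ A).relIndex B = 1 := by
    have := hp.pos
    nlinarith [Nat.eq_of_mul_eq_mul_left this (by rw [hmul, mul_one] :
      p * (Subgroup.zpowers y ⊔ A).relIndex B = p * 1)]
  rw [Subgroup.relIndex_eq_one] at h3
  exact le_antisymm h3 hle

theorem exists_two_gen_of_relIndex_sq {A B : Subgroup G} (hAB : A ≤ B)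
    (h : A.relIndex B = p ^ 2) : ∃ x ∈ B, ∃ y ∈ B, B = Subgroup.closure {x, y} ⊔ A := by
  have hp : p.Prime := Fact.out
  have hne : ¬ B ≤ A := by
    intro hle
    rw [← Subgroup.relIndex_eq_one, h] at hle
    have : 1 < p ^ 2 := Nat.one_lt_pow (by norm_num) hp.one_lt
    omega
  obtain ⟨x, hxB, hxA⟩ := SetLike.not_le_iff_exists.mp hne
  have hle : Subgroup.zpowers x ⊔ A ≤ B := sup_le ((Subgroup.zpowers_le).mpr hxB) hAB
  have hmul := Subgroup.relIndex_mul_relIndex A (Subgroup.zpowers x ⊔ A) B le_sup_right hle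
  rw [h] at hmul
  have h1 : A.relIndex (Subgroup.zpowers x ⊔ A) ≠ 1 := by
    intro h1
    rw [Subgroup.relIndex_eq_one] at h1
    exact hxA (h1 (le_sup_left (a := Subgroup.zpowers x) (Subgroup.mem_zpowers x)))
  have hcl : ∀ y : G, Subgroup.closure {x, y} = Subgroup.zpowers y ⊔ Subgroup.zpowers x := by
    intro y
    rw [Set.insert_eq, Subgroup.closure_union, Subgroup.zpowers_eq_closure,
      Subgroup.zpowers_eq_closure, sup_comm]
  have hd : A.relIndex (Subgroup.zpowers x ⊔ A) ∣ p ^ 2 := Dvd.intro _ hmul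
  obtain ⟨m, hm, hm2⟩ := (Nat.dvd_prime_pow hp).mp hd
  have hm0 : m ≠ 0 := by
    rintro rfl
    exact h1 (by simpa using hm2)
  have hm12 : m = 1 ∨ m = 2 := by omega
  rcases hm12 with rfl | rfl
  · -- second factor is p
    rw [hm2, pow_one] at hmul
    have h3 : (Subgroup.zpowers x ⊔ A).relIndex B = p := by
      have hpp := hp.pos
      exact Nat.eq_of_mul_eq_mul_left hpp (by rw [hmul]; ring)
    obtain ⟨y, hyB, hy⟩ := exists_gen_of_relIndex_prime hle h3
    refine ⟨x, hxB, y, hyB, ?_⟩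
    rw [hcl y, hy, sup_assoc]
  · rw [hm2] at hmul
    have h3 : (Subgroup.zpowers x ⊔ A).relIndex B = 1 := by
      have hpp : 0 < p ^ 2 := pow_pos hp.pos 2
      exact Nat.eq_of_mul_eq_mul_left hpp (by rw [hmul]; ring)
    rw [Subgroup.relIndex_eq_one] at h3
    refine ⟨x, hxB, x, hxB, ?_⟩
    rw [hcl x, sup_idem]
    exact le_antisymm h3 hle

theorem top_dvd_of_not_cycTop (hG : IsPGroup p G) (H : Subgroup G) [H.Normal] (h : ¬ CycTop H) :
    p ^ 2 ∣ (⁅H, (⊤ : Subgroup G)⁆ ⊔ ⁅H, H⁆).relIndex H := by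
  have hp : p.Prime := Fact.out
  have hle : ⁅H, (⊤ : Subgroup G)⁆ ⊔ ⁅H, H⁆ ≤ H :=
    sup_le (Subgroup.commutator_le_left H ⊤) (Subgroup.commutator_le_left H H)
  have hB : IsPGroup p H := hG.to_subgroup H
  obtain ⟨n, hn⟩ := hB.index ((⁅H, (⊤ : Subgroup G)⁆ ⊔ ⁅H, H⁆).subgroupOf H)
  have hn' : (⁅H, (⊤ : Subgroup G)⁆ ⊔ ⁅H, H⁆).relIndex H = p ^ n := hn
  by_contra hnd
  have hn2 : n < 2 := by
    by_contra h2
    exact hnd (by rw [hn']; exact pow_dvd_pow p (by omega))
  apply h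
  have hn01 : n = 0 ∨ n = 1 := by omega
  rcases hn01 with rfl | rfl
  · rw [pow_zero, Subgroup.relIndex_eq_one] at hn'
    refine ⟨1, H.one_mem, ?_⟩
    rw [Subgroup.zpowers_one_eq_bot, sup_assoc, bot_sup_eq]
    exact le_antisymm hn' hle
  · rw [pow_one] at hn'
    obtain ⟨y, hyH, hy⟩ := exists_gen_of_relIndex_prime hle hn'
    refine ⟨y, hyH, ?_⟩
    rw [sup_assoc]
    exact hy

end chain

end Cfsg.Agent.Helper10.Mann
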