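import Mathlib
import Cfsg.Agent.Lib.Helper10.MannDefs
import Cfsg.Agent.Lib.Helper10.MannChain
import Cfsg.Agent.Lib.Helper13.MANNITER
import Cfsg.Agent.Lib.Helper5.MANNABS
import Cfsg.Agent.Lib.Helper24.MANNCL2
import Cfsg.Agent.Lib.Helper24.MANNBOOKCore
import Cfsg.Agent.Lib.Helper16.MANNA012Core
import Cfsg.Agent.Lib.Helper16.MANNA012
import Cfsg.Agent.Lib.Helper25.MANNA4Core

/-! # S4009 (Mann): the level lemma and the bound -/

set_option autoImplicit false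
set_option linter.unusedSectionVars false

namespace Cfsg.Agent.Helper10.Mann

open scoped commutatorElement

variable {G : Type*} [Group G]

section level

variable [Finite G] {p : ℕ} [Fact p.Prime]

theorem cyc_of_minimal' (hG : IsPGroup p G) (H : Subgroup G) [H.Normal] (e : ℕ)
    (hH : H ≤ (⊤ : Subgroup G).lowerCentralSeries e) (hne : ⁅H, H⁆ ≠ ⊥)
    (hcard : (⁅H, H⁆).relIndex H = p ^ (e + 2)) :
    ∃ w ∈ ⁅H, H⁆, ⁅H, H⁆ = Subgroup.zpowers w ⊔ ⁅⁅H, H⁆, (⊤ : Subgroup G)⁆ :=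
  cyc_of_minimal_core hG
    (fun H N _ _ i j hij h => chain_dvd hG H N i j hij h)
    (fun H _ h => top_dvd_of_not_cycTop hG H h)
    (fun hAB h => exists_gen_of_relIndex_prime hAB h)
    (fun hAB h => exists_two_gen_of_relIndex_sq hAB h)
    H e hH hne hcard

theorem level (hG : IsPGroup p G) (H : Subgroup G) [H.Normal] (e : ℕ)
    (hH : H ≤ (⊤ : Subgroup G).lowerCentralSeries e) (hne : ⁅H, H⁆ ≠ ⊥) :
    p ^ (e + 2) ∣ (⁅H, H⁆).relIndex H ∧
      ((⁅H, H⁆).relIndex H = p ^ (e + 2) → CycTop ⁅H, H⁆) ∧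
      (CycTop H → ⁅H, H⁆ ≤ (⊤ : Subgroup G).lowerCentralSeries (2 * e + 2)) ∧
      ⁅H, H⁆ ≤ (⊤ : Subgroup G).lowerCentralSeries (2 * e + 1) := by
  have : Group.IsNilpotent G := hG.isNilpotent
  have hNH : ⁅H, H⁆ ≤ H := Subgroup.commutator_le_left H H
  refine ⟨?_, ?_, ?_, ?_⟩
  · -- divisibility
    have h0 : mIter H 0 ⊔ ⁅H, H⁆ = H := by
      rw [mIter_zero]; exact sup_eq_left.mpr hNH
    by_cases hc : CycTop H
    · obtain ⟨-, -, h3⟩ := cycTop_facts H e hH hc hne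
      have hd := chain_dvd hG H ⁅H, H⁆ 0 (e + 1) (by omega) h3
      rw [h0] at hd
      have hmul := Subgroup.relIndex_mul_relIndex ⁅H, H⁆ (mIter H (e + 1 + 1) ⊔ ⁅H, H⁆) H
        le_sup_right (by
          refine sup_le ?_ hNH
          calc mIter H (e + 1 + 1) ≤ mIter H 0 := mIter_antitone H (Nat.zero_le _)
            _ = H := rfl)
      rw [← hmul]
      have : e + 1 + 1 - 0 = e + 2 := by omega
      rw [this] at hd
      exact Dvd.dvd.mul_left hd _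
    · have h2 := not_mIter_le H e hH hne
      have htop := top_dvd_of_not_cycTop hG H hc
      have hd := chain_dvd hG H ⁅H, H⁆ 1 e (by omega) h2
      have e1 : mIter H 1 ⊔ ⁅H, H⁆ = ⁅H, (⊤ : Subgroup G)⁆ ⊔ ⁅H, H⁆ := rfl
      rw [e1] at hd
      have hH1 : ⁅H, (⊤ : Subgroup G)⁆ ⊔ ⁅H, H⁆ ≤ H :=
        sup_le (Subgroup.commutator_le_left H ⊤) hNH
      have hle : mIter H (e + 1) ⊔ ⁅H, H⁆ ≤ ⁅H, (⊤ : Subgroup G)⁆ ⊔ ⁅H, H⁆ := by
        refine sup_le ?_ le_sup_right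
        calc mIter H (e + 1) ≤ mIter H 1 := mIter_antitone H (by omega)
          _ = ⁅H, (⊤ : Subgroup G)⁆ := rfl
          _ ≤ _ := le_sup_left
      have hmul1 := Subgroup.relIndex_mul_relIndex (mIter H (e + 1) ⊔ ⁅H, H⁆)
        (⁅H, (⊤ : Subgroup G)⁆ ⊔ ⁅H, H⁆) H hle hH1
      have hmul2 := Subgroup.relIndex_mul_relIndex ⁅H, H⁆ (mIter H (e + 1) ⊔ ⁅H, H⁆) H
        le_sup_right (hle.trans hH1)
      rw [← hmul2, ← hmul1]
      have : e + 1 - 1 = e := by omega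
      rw [this] at hd
      have : p ^ (e + 2) = p ^ e * p ^ 2 := by ring
      rw [this]
      exact Dvd.dvd.mul_left (mul_dvd_mul hd htop) _
  · intro hcard
    obtain ⟨w, hw, hN⟩ := cyc_of_minimal' hG H e hH hne hcard
    refine ⟨w, hw, ?_⟩
    have h1 : ⁅⁅H, H⁆, ⁅H, H⁆⁆ ≤ ⁅⁅H, H⁆, (⊤ : Subgroup G)⁆ := Subgroup.commutator_mono le_rfl le_top
    calc ⁅H, H⁆ = Subgroup.zpowers w ⊔ ⁅⁅H, H⁆, (⊤ : Subgroup G)⁆ := hN
      _ = Subgroup.zpowers w ⊔ ⁅⁅H, H⁆, (⊤ : Subgroup G)⁆ ⊔ ⁅⁅H, H⁆, ⁅H, H⁆⁆ :=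
        (sup_eq_left.mpr (h1.trans le_sup_right)).symm
  · intro hc
    exact (cycTop_facts H e hH hc hne).2.1
  · exact comm_self_le_lcs H e hH

end level

theorem mann_bound {P : Type*} [Group P] [Finite P] (p : ℕ) [Fact p.Prime] (n k : ℕ)
    (hcard : Nat.card P = p ^ n) (hk : derivedSeries P k ≠ ⊥) : 2 ^ k + 2 * k ≤ n + 2 :=
  mann_bound_core p n k hcard
    (fun H _ e hH hne => level (IsPGroup.of_card hcard) H e hH hne) hk

end Cfsg.Agent.Helper10.Mann
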