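import Mathlib
import Cfsg.Prelude.Def_OddOrderLocal
import Cfsg.Agent.Lib.Helper16.OddAut
import Cfsg.Agent.Lib.Helper16.Homocyclic
import Cfsg.Agent.Lib.Helper20.ZModHom

set_option autoImplicit false

namespace Cfsg.Agent.Helper10

open Cfsg

/-- a group whose automorphism group is not a `2`-group has a nontrivial automorphism of odd
order -/
theorem exists_odd_aut {X : Type*} [Group X] [Finite X] (hA : ¬ IsPGroup 2 (MulAut X)) :
    ∃ (α : MulAut X) (r : ℕ), Odd r ∧ α ^ r = 1 ∧ α ≠ 1 := by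
  unfold IsPGroup at hA
  push Not at hA
  obtain ⟨g, hg⟩ := hA
  have h0 : orderOf g ≠ 0 := (orderOf_pos g).ne'
  obtain ⟨j, m, hm, hjm⟩ := Nat.exists_eq_two_pow_mul_odd h0
  refine ⟨g ^ 2 ^ j, m, hm, ?_, hg j⟩
  rw [← pow_mul, ← hjm, pow_orderOf_eq_one]

/-- `X = ⟨a⟩⟨b⟩` as a set -/
def TwoGen (X : Type*) [Group X] : Prop := ∃ a b : X, ∀ u : X, ∃ i j : ℕ, u = a ^ i * b ^ j

theorem twoGen_of_isMetacyclic {X : Type*} [Group X] [Finite X] (hm : IsMetacyclic X) : TwoGen X := by
  obtain ⟨N, hN, hNc, hQc⟩ := hm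
  obtain ⟨a, ha⟩ := IsCyclic.exists_generator (α := N)
  obtain ⟨bq, hbq⟩ := IsCyclic.exists_generator (α := X ⧸ N)
  obtain ⟨b, rfl⟩ := QuotientGroup.mk_surjective bq
  refine ⟨b, (a : X), fun u => ?_⟩
  have h1 := hbq (QuotientGroup.mk u)
  rw [← mem_powers_iff_mem_zpowers] at h1
  obtain ⟨j, hj⟩ := h1
  have hj' : ((b ^ j : X) : X ⧸ N) = (u : X ⧸ N) := by
    rw [QuotientGroup.mk_pow]; exact hj
  have h2 : (b ^ j)⁻¹ * u ∈ N := QuotientGroup.eq.mp hj'
  have h3 := ha ⟨(b ^ j)⁻¹ * u, h2⟩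
  rw [← mem_powers_iff_mem_zpowers] at h3
  obtain ⟨i, hi⟩ := h3
  refine ⟨j, i, ?_⟩
  have h4 : ((a : X)) ^ i = (b ^ j)⁻¹ * u := by
    have := congrArg (fun y : N => (y : X)) hi
    simpa using this
  rw [h4]; group

theorem TwoGen.quotient {X : Type*} [Group X] (h : TwoGen X) (K : Subgroup X) [K.Normal] :
    TwoGen (X ⧸ K) := by
  obtain ⟨a, b, hab⟩ := h
  refine ⟨(a : X ⧸ K), (b : X ⧸ K), fun u => ?_⟩
  obtain ⟨u, rfl⟩ := QuotientGroup.mk_surjective u
  obtain ⟨i, j, rfl⟩ := hab u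
  exact ⟨i, j, by simp⟩

theorem TwoGen.card_le {X : Type*} [Group X] [Finite X] (h : TwoGen X) (e : ℕ) (he : 0 < e)
    (hexp : ∀ u : X, u ^ e = 1) : Nat.card X ≤ e * e := by
  obtain ⟨a, b, hab⟩ := h
  haveI : NeZero e := ⟨he.ne'⟩
  have hsurj : Function.Surjective (fun q : Fin e × Fin e => a ^ (q.1 : ℕ) * b ^ (q.2 : ℕ)) := by
    intro u
    obtain ⟨i, j, rfl⟩ := hab u
    refine ⟨(⟨i % e, Nat.mod_lt _ he⟩, ⟨j % e, Nat.mod_lt _ he⟩), ?_⟩
    have h1 : ∀ (c : X) (k : ℕ), c ^ (k % e) = c ^ k := by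
      intro c k
      conv_rhs => rw [← Nat.div_add_mod k e, pow_add, pow_mul, hexp, one_pow, one_mul]
    simp only [h1]
  have := Nat.card_le_card_of_surjective _ hsurj
  simpa using this

/-- the unique involution of a cyclic `2`-group -/
theorem eq_pow_of_involution_mem_zpowers {X : Type*} [Group X] {x w : X} {n : ℕ} (hn : 1 ≤ n)
    (hx : orderOf x = 2 ^ n) (hw : w ∈ Subgroup.zpowers x) (hw2 : w ^ 2 = 1) (hw1 : w ≠ 1) :
    w = x ^ 2 ^ (n - 1) := by
  have hfin : IsOfFinOrder x := by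
    rw [← orderOf_pos_iff, hx]; positivity
  obtain ⟨i, hi⟩ := (hfin.mem_powers_iff_mem_zpowers).mpr hw
  have hi' : x ^ i = w := hi
  have h1 : x ^ (i * 2) = 1 := by rw [pow_mul, hi', hw2]
  have h2 : 2 ^ n ∣ i * 2 := hx ▸ orderOf_dvd_of_pow_eq_one h1
  obtain ⟨n', rfl⟩ : ∃ n', n = n' + 1 := ⟨n - 1, by omega⟩
  rw [pow_succ] at h2
  have h3 : 2 ^ n' ∣ i := Nat.dvd_of_mul_dvd_mul_right (by norm_num) h2
  obtain ⟨m, rfl⟩ := h3
  simp only [Nat.add_sub_cancel]
  set t := x ^ 2 ^ n' with ht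
  have ht2 : t ^ 2 = 1 := by
    rw [ht, ← pow_mul, ← pow_succ, ← hx, pow_orderOf_eq_one]
  have hw' : w = t ^ m := by rw [← hi', pow_mul]
  rcases Nat.even_or_odd' m with ⟨k, hk | hk⟩
  · exfalso; apply hw1
    rw [hw', hk, pow_mul, ht2, one_pow]
  · rw [hw', hk, pow_add, pow_mul, ht2, one_pow, one_mul, pow_one]

section abelian

variable {X : Type*} [CommGroup X] [Finite X]

/-- at most four elements of order dividing `2` -/
theorem card_ker_sq_le (h : TwoGen X) : Nat.card (powMonoidHom 2 : X →* X).ker ≤ 4 := by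
  obtain ⟨a, b, hab⟩ := h
  set f : X →* X := powMonoidHom 2 with hf
  have h1 := Subgroup.card_eq_card_quotient_mul_card_subgroup f.ker
  have h2 : Nat.card (X ⧸ f.ker) = Nat.card f.range :=
    Nat.card_congr (QuotientGroup.quotientKerEquivRange f).toEquiv
  have hsurj : Function.Surjective
      (fun q : Fin 2 × Fin 2 × f.range => a ^ (q.1 : ℕ) * b ^ (q.2.1 : ℕ) * (q.2.2 : X)) := by
    intro u
    obtain ⟨i, j, rfl⟩ := hab u
    refine ⟨(⟨i % 2, Nat.mod_lt _ (by norm_num)⟩, ⟨j % 2, Nat.mod_lt _ (by norm_num)⟩,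
      ⟨f (a ^ (i / 2) * b ^ (j / 2)), ⟨_, rfl⟩⟩), ?_⟩
    show a ^ (i % 2) * b ^ (j % 2) * f (a ^ (i / 2) * b ^ (j / 2)) = a ^ i * b ^ j
    rw [hf, powMonoidHom_apply, mul_pow, ← pow_mul, ← pow_mul]
    conv_rhs => rw [← Nat.mod_add_div i 2, ← Nat.mod_add_div j 2, pow_add, pow_add]
    rw [mul_comm (i / 2) 2, mul_comm (j / 2) 2]
    exact mul_mul_mul_comm _ _ _ _
  have h3 := Nat.card_le_card_of_surjective _ hsurj
  rw [Nat.card_prod, Nat.card_prod, Nat.card_fin] at h3
  have hpos : 0 < Nat.card f.range := Nat.card_pos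
  rw [h2] at h1
  rw [h1] at h3
  have h4 : Nat.card f.range * Nat.card f.ker ≤ Nat.card f.range * 4 := by
    calc Nat.card f.range * Nat.card f.ker ≤ 2 * (2 * Nat.card f.range) := h3
      _ = Nat.card f.range * 4 := by ring
  exact Nat.le_of_mul_le_mul_left h4 hpos

/-- an odd-order automorphism fixing one involution fixes all of them -/
theorem fix_all_involutions (h : TwoGen X) (α : MulAut X) (r : ℕ) (hr : Odd r) (hα : α ^ r = 1)
    (z : X) (hz1 : z ≠ 1) (hz2 : z * z = 1) (hαz : α z = z) :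
    ∀ t : X, t * t = 1 → α t = t := by
  classical
  intro t ht2
  by_contra hne
  have hker : ∀ w : X, w * w = 1 → w ∈ (powMonoidHom 2 : X →* X).ker := by
    intro w hw
    rw [MonoidHom.mem_ker, powMonoidHom_apply, pow_two]; exact hw
  set s := α t with hs
  have hs2 : s * s = 1 := by rw [hs, ← map_mul, ht2, map_one]
  have ht1 : t ≠ 1 := by
    intro h1; apply hne; rw [hs, h1, map_one]
  have htz : t ≠ z := by
    intro h1; apply hne; rw [hs, h1]; exact hαz
  have hs1 : s ≠ 1 := by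
    intro h1; apply ht1
    have : α t = α 1 := by rw [map_one]; exact h1
    exact α.injective this
  have hsz : s ≠ z := by
    intro h1; apply htz
    have : α t = α z := by rw [hαz]; exact h1
    exact α.injective this
  have hst : s ≠ t := hne
  have hq2 : (t * s) * (t * s) = 1 := by
    rw [mul_mul_mul_comm, ht2, hs2, one_mul]
  have hq1 : t * s ≠ 1 := by
    intro h1; apply hst
    have : t * s = t * t := by rw [h1, ht2]
    exact mul_left_cancel this
  have hqt : t * s ≠ t := by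
    intro h1; apply hs1
    have : t * s = t * 1 := by rw [h1, mul_one]
    exact mul_left_cancel this
  have hqs : t * s ≠ s := by
    intro h1; apply ht1
    have : t * s = 1 * s := by rw [h1, one_mul]
    exact mul_right_cancel this
  have hqz : t * s ≠ z := by
    intro h1
    apply hne
    apply Helper16.apply_eq_of_sq_apply_eq α r hr hα
    have h2 : α (t * s) = t * s := by rw [h1]; exact hαz
    rw [map_mul] at h2
    have h3 : s * α s = s * t := by rw [mul_comm s t]; exact h2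
    exact mul_left_cancel h3
  have hcard5 : ({1, z, t, s, t * s} : Finset X).card = 5 := by
    rw [Finset.card_insert_of_notMem, Finset.card_insert_of_notMem, Finset.card_insert_of_notMem,
      Finset.card_insert_of_notMem, Finset.card_singleton]
    · simp only [Finset.mem_singleton]; exact fun h => hqs h.symm
    · simp only [Finset.mem_insert, Finset.mem_singleton]
      rintro (h | h)
      · exact hst h.symm
      · exact hqt h.symm
    · simp only [Finset.mem_insert, Finset.mem_singleton]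
      rintro (h | h | h)
      · exact htz h.symm
      · exact hsz h.symm
      · exact hqz h.symm
    · simp only [Finset.mem_insert, Finset.mem_singleton]
      rintro (h | h | h | h)
      · exact hz1 h.symm
      · exact ht1 h.symm
      · exact hs1 h.symm
      · exact hq1 h.symm
  have hsub : (({1, z, t, s, t * s} : Finset X) : Set X) ⊆
      ((powMonoidHom 2 : X →* X).ker : Set X) := by
    intro w hw
    simp only [Finset.coe_insert, Finset.coe_singleton, Set.mem_insert_iff,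
      Set.mem_singleton_iff] at hw
    rcases hw with rfl | rfl | rfl | rfl | rfl
    · exact Subgroup.one_mem _
    · exact hker _ hz2
    · exact hker _ ht2
    · exact hker _ hs2
    · exact hker _ hq2
  have h5 := Set.ncard_le_ncard hsub (Set.toFinite _)
  rw [Set.ncard_coe_finset, hcard5] at h5
  have h4 := card_ker_sq_le h
  have h6 : Nat.card (powMonoidHom 2 : X →* X).ker = ((powMonoidHom 2 : X →* X).ker : Set X).ncard :=
    Nat.card_coe_set_eq _
  omega

/-- a nontrivial odd-order automorphism of a two-generated abelian `2`-group is fixed-point-free -/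
theorem no_fixed_of_odd_aut (hP : IsPGroup 2 X) (h : TwoGen X) (α : MulAut X) (r : ℕ) (hr : Odd r)
    (hα : α ^ r = 1) (hα1 : α ≠ 1) : ∀ u : X, α u = u → u = 1 := by
  have hinv : ∀ z : X, z * z = 1 → α z = z → z = 1 := by
    intro z hz2 hαz
    by_contra hz1
    apply hα1
    exact Helper16.odd_aut_eq_one_of_fix_involutions hP α r hr hα
      (fix_all_involutions h α r hr hα z hz1 hz2 hαz)
  have key : ∀ k : ℕ, ∀ u : X, u ^ 2 ^ k = 1 → α u = u → u = 1 := by
    intro k
    induction k with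
    | zero =>
      intro u hu _
      rw [pow_zero, pow_one] at hu
      exact hu
    | succ k ih =>
      intro u hu hαu
      have h1 : (u ^ 2) ^ 2 ^ k = 1 := by
        rw [← pow_mul, ← pow_succ']; exact hu
      have h2 : α (u ^ 2) = u ^ 2 := by rw [map_pow, hαu]
      have h3 := ih _ h1 h2
      rw [pow_two] at h3
      exact hinv u h3 hαu
  intro u hu
  obtain ⟨k, hk⟩ := hP u
  exact key k u hk hu

omit [Finite X] in
theorem exists_involution_pow (hP : IsPGroup 2 X) (w : X) (hw : w ≠ 1) :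
    ∃ m : ℕ, (w ^ 2 ^ m) ^ 2 = 1 ∧ w ^ 2 ^ m ≠ 1 := by
  have key : ∀ k : ℕ, ∀ w : X, w ^ 2 ^ k = 1 → w ≠ 1 →
      ∃ m : ℕ, (w ^ 2 ^ m) ^ 2 = 1 ∧ w ^ 2 ^ m ≠ 1 := by
    intro k
    induction k with
    | zero =>
      intro w hw hw1
      rw [pow_zero, pow_one] at hw
      exact absurd hw hw1
    | succ k ih =>
      intro w hw hw1
      by_cases h2 : w ^ 2 = 1
      · exact ⟨0, by rw [pow_zero, pow_one]; exact h2, by rw [pow_zero, pow_one]; exact hw1⟩
      · have h1 : (w ^ 2) ^ 2 ^ k = 1 := by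
          rw [← pow_mul, ← pow_succ']; exact hw
        obtain ⟨m, hm1, hm2⟩ := ih _ h1 h2
        refine ⟨m + 1, ?_, ?_⟩
        · rw [pow_succ' 2 m, pow_mul]; exact hm1
        · rw [pow_succ' 2 m, pow_mul]; exact hm2
  obtain ⟨k, hk⟩ := hP w
  exact key k w hk hw

/-- the abelian case: a two-generated abelian `2`-group with a nontrivial odd-order automorphism
is homocyclic of rank two, and the automorphism is fixed-point-free -/
theorem abelian_case (hP : IsPGroup 2 X) (h : TwoGen X) (α : MulAut X) (r : ℕ) (hr : Odd r)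
    (hα : α ^ r = 1) (hα1 : α ≠ 1) :
    ∃ n : ℕ, 1 ≤ n ∧ Nat.card X = 2 ^ n * 2 ^ n ∧ (∀ u : X, u ^ 2 ^ n = 1) ∧
      (∀ u : X, α u = u → u = 1) ∧
      Nonempty (X ≃* Multiplicative (ZMod (2 ^ n)) × Multiplicative (ZMod (2 ^ n))) := by
  have hfix := no_fixed_of_odd_aut hP h α r hr hα hα1
  obtain ⟨x, hx⟩ := Finite.exists_max (fun u : X => orderOf u)
  have hord : ∀ u : X, ∃ k, orderOf u = 2 ^ k := by
    intro u
    obtain ⟨k, hk⟩ := hP u
    obtain ⟨m, -, hm⟩ := (Nat.dvd_prime_pow Nat.prime_two).mp (orderOf_dvd_of_pow_eq_one hk)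
    exact ⟨m, hm⟩
  obtain ⟨n, hn⟩ := hord x
  have hexp : ∀ u : X, u ^ 2 ^ n = 1 := by
    intro u
    obtain ⟨k, hk⟩ := hord u
    have h1 := hx u
    simp only [hk, hn] at h1
    have h2 : k ≤ n := (Nat.pow_le_pow_iff_right (by norm_num)).mp h1
    apply orderOf_dvd_iff_pow_eq_one.mp
    rw [hk]
    exact pow_dvd_pow 2 h2
  have hn1 : 1 ≤ n := by
    by_contra h0
    have h0' : n = 0 := by omega
    apply hα1
    apply MulEquiv.ext
    intro u
    have h1 := hexp u
    rw [h0', pow_zero, pow_one] at h1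
    have h2 := hexp (α u)
    rw [h0', pow_zero, pow_one] at h2
    rw [h2, MulAut.one_apply, h1]
  set y := α x with hy
  have hyo : orderOf y = 2 ^ n := by rw [hy, MulEquiv.orderOf_eq, hn]
  have hdisj : ∀ w : X, w ∈ Subgroup.zpowers x → w ∈ Subgroup.zpowers y → w = 1 := by
    intro w hwx hwy
    by_contra hw1
    obtain ⟨m, hm2, hm1⟩ := exists_involution_pow hP w hw1
    have h1 := eq_pow_of_involution_mem_zpowers hn1 hn (Subgroup.pow_mem _ hwx _) hm2 hm1
    have h2 := eq_pow_of_involution_mem_zpowers hn1 hyo (Subgroup.pow_mem _ hwy _) hm2 hm1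
    apply hm1
    apply hfix
    conv_lhs => rw [h1]
    rw [map_pow, ← hy, ← h2]
  have hcard_le : Nat.card X ≤ 2 ^ n * 2 ^ n := TwoGen.card_le h (2 ^ n) (by positivity) hexp
  set φ : Subgroup.zpowers x × Subgroup.zpowers y →* X :=
    (Subgroup.zpowers x).subtype.coprod (Subgroup.zpowers y).subtype with hφ
  have hφa : ∀ q, φ q = (q.1 : X) * (q.2 : X) := by
    intro q
    rw [hφ, MonoidHom.coprod_apply]
    rfl
  have hinj : Function.Injective φ := by
    rw [injective_iff_map_eq_one]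
    rintro ⟨⟨a, ha⟩, ⟨b, hb⟩⟩ hab
    rw [hφa] at hab
    simp only at hab
    have h1 : a = b⁻¹ := eq_inv_of_mul_eq_one_left hab
    have ha1 : a = 1 := hdisj a ha (by rw [h1]; exact Subgroup.inv_mem _ hb)
    have hb1 : b = 1 := by
      rw [ha1, one_mul] at hab; exact hab
    subst ha1 hb1
    rfl
  have hcardprod : Nat.card (Subgroup.zpowers x × Subgroup.zpowers y) = 2 ^ n * 2 ^ n := by
    rw [Nat.card_prod, Nat.card_zpowers, Nat.card_zpowers, hn, hyo]
  have hbij : Function.Bijective φ :=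
    hinj.bijective_of_nat_card_le (by rw [hcardprod]; exact hcard_le)
  have hcard : Nat.card X = 2 ^ n * 2 ^ n := by
    rw [← hcardprod]
    exact (Nat.card_congr (Equiv.ofBijective φ hbij)).symm
  refine ⟨n, hn1, hcard, hexp, hfix, ?_⟩
  obtain ⟨e1⟩ := Helper20.nonempty_mulEquiv_zmod_of_card (H := Subgroup.zpowers x) (2 ^ n)
    (by rw [Nat.card_zpowers, hn])
  obtain ⟨e2⟩ := Helper20.nonempty_mulEquiv_zmod_of_card (H := Subgroup.zpowers y) (2 ^ n)
    (by rw [Nat.card_zpowers, hyo])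
  exact ⟨(MulEquiv.ofBijective φ hbij).symm.trans (MulEquiv.prodCongr e1 e2)⟩

end abelian

end Cfsg.Agent.Helper10
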