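import Mathlib
import Cfsg.Agent.Lib.Helper10.MetaTwo
import Cfsg.Agent.Lib.Helper16.OddUnique
import Cfsg.Agent.Lib.Helper16.Taussky
import Cfsg.Agent.Lib.Helper15.ExtraModule1

set_option autoImplicit false

namespace Cfsg.Agent.Helper10

open Cfsg
open scoped commutatorElement
open scoped IsMulCommutative

/-- an invariant character of exponent two of a fixed-point-free odd-order automorphism is
trivial -/
theorem chi_trivial {A T : Type*} [CommGroup A] [CommMonoid T] (σ : MulAut A) (r : ℕ)
    (hr : Odd r) (hσ : σ ^ r = 1) (hfix : ∀ a : A, σ a = a → a = 1) (χ : A →* T)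
    (hχσ : ∀ a, χ (σ a) = χ a) (hχ2 : ∀ a, χ a * χ a = 1) : ∀ a, χ a = 1 := by
  intro a
  have h1 : Helper15.ExtraMod.nrm r σ a = 1 := Helper15.ExtraMod.nrm_eq_one hσ hfix a
  have h2 : ∀ m : ℕ, χ ((σ ^ m) a) = χ a := by
    intro m
    induction m with
    | zero => simp
    | succ m ih => rw [pow_succ', MulAut.mul_apply, hχσ, ih]
  have h3 : χ (Helper15.ExtraMod.nrm r σ a) = χ a ^ r := by
    unfold Helper15.ExtraMod.nrm
    rw [map_prod]
    simp only [h2]
    rw [Finset.prod_const, Finset.card_range]
  rw [h1, map_one] at h3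
  obtain ⟨k, hk⟩ := hr
  rw [hk, pow_succ, pow_mul, pow_two, hχ2, one_pow, one_mul] at h3
  exact h3.symm

theorem abelianizationCongr_pow {Y : Type*} [Group Y] (α : MulAut Y) (j : ℕ) (u : Y) :
    ((MulEquiv.abelianizationCongr α : MulAut (Abelianization Y)) ^ j) (Abelianization.of u) =
      Abelianization.of ((α ^ j) u) := by
  induction j generalizing u with
  | zero => simp
  | succ j ih =>
    rw [pow_succ, pow_succ, MulAut.mul_apply, MulAut.mul_apply, abelianizationCongr_of, ih]

theorem abelianization_of_surjective (Y : Type*) [Group Y] :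
    Function.Surjective (Abelianization.of (G := Y)) := by
  intro a
  obtain ⟨u, rfl⟩ := QuotientGroup.mk_surjective a
  exact ⟨u, rfl⟩

theorem even_choose_two_pow {k : ℕ} (hk : 2 ≤ k) : ∃ m, 2 ^ k * (2 ^ k - 1) / 2 = 2 * m := by
  obtain ⟨k', rfl⟩ : ∃ k', k = k' + 2 := ⟨k - 2, by omega⟩
  refine ⟨2 ^ k' * (2 ^ (k' + 2) - 1), ?_⟩
  have h1 : 2 ^ (k' + 2) * (2 ^ (k' + 2) - 1) = 2 * (2 * (2 ^ k' * (2 ^ (k' + 2) - 1))) := by
    rw [pow_add]; ring
  rw [h1, Nat.mul_div_cancel_left _ (by norm_num : 0 < 2)]

/-- class two with derived group of order two, two-generated, with an odd-order automorphism: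
the abelianization has order four -/
theorem index_commutator_of_class_two {Y : Type*} [Group Y] [Finite Y] (hP : IsPGroup 2 Y)
    (h2g : TwoGen Y) (z : Y) (hz1 : z ≠ 1) (hz2 : z * z = 1)
    (hcomm : ∀ u v : Y, ⁅u, v⁆ = 1 ∨ ⁅u, v⁆ = z) (hna : ∃ u v : Y, ⁅u, v⁆ ≠ 1)
    (α : MulAut Y) (r : ℕ) (hr : Odd r) (hα : α ^ r = 1) (hα1 : α ≠ 1) :
    (commutator Y).index = 4 := by
  obtain ⟨u0, v0, huv0⟩ := hna
  have huv0z : ⁅u0, v0⁆ = z := (hcomm u0 v0).resolve_left huv0
  have hzc : ∀ g : Y, g * z = z * g := by
    intro g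
    have h1 : g * z * g⁻¹ = ⁅g * u0 * g⁻¹, g * v0 * g⁻¹⁆ := by
      rw [← huv0z]; simp only [commutatorElement_def]; group
    rcases hcomm (g * u0 * g⁻¹) (g * v0 * g⁻¹) with h2 | h2
    · exfalso; apply hz1
      rw [h2] at h1
      have h3 : z = g⁻¹ * (g * z * g⁻¹) * g := by group
      rw [h3, h1]; group
    · rw [h2] at h1
      calc g * z = (g * z * g⁻¹) * g := by group
        _ = z * g := by rw [h1]
  have hαz : α z = z := by
    have h1 : α z = ⁅α u0, α v0⁆ := by rw [← huv0z, map_commutatorElement]
    rcases hcomm (α u0) (α v0) with h2 | h2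
    · exfalso; apply hz1
      rw [h2] at h1
      exact α.injective (by rw [h1, map_one])
    · rw [h1, h2]
  have hCle : ∀ c ∈ commutator Y, c = 1 ∨ c = z := by
    intro c hc
    rw [commutator_eq_closure] at hc
    induction hc using Subgroup.closure_induction with
    | mem x hx => obtain ⟨u, v, rfl⟩ := hx; exact hcomm u v
    | one => left; rfl
    | mul x y _ _ hx hy =>
      rcases hx with rfl | rfl <;> rcases hy with rfl | rfl
      · left; simp
      · right; simp
      · right; simp
      · left; exact hz2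
    | inv x _ hx =>
      rcases hx with rfl | rfl
      · left; simp
      · right; exact inv_eq_of_mul_eq_one_right hz2
  have hzC : z ∈ commutator Y := by
    rw [← huv0z]
    exact Subgroup.commutator_mem_commutator (Subgroup.mem_top _) (Subgroup.mem_top _)
  have hzo : orderOf z = 2 := orderOf_eq_prime (by rw [pow_two]; exact hz2) hz1
  have hCz : commutator Y = Subgroup.zpowers z := by
    apply le_antisymm
    · intro c hc
      rcases hCle c hc with rfl | rfl
      · exact Subgroup.one_mem _
      · exact Subgroup.mem_zpowers _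
    · rw [Subgroup.zpowers_le]; exact hzC
  have hCcard : Nat.card (commutator Y) = 2 := by
    rw [hCz, Nat.card_zpowers, hzo]
  set β : MulAut (Abelianization Y) := MulEquiv.abelianizationCongr α with hβ
  have hsurj := abelianization_of_surjective Y
  have hβr : β ^ r = 1 := by
    apply MulEquiv.ext
    intro a
    obtain ⟨u, rfl⟩ := hsurj a
    rw [hβ, abelianizationCongr_pow, hα]; rfl
  have hβ1 : β ≠ 1 := by
    intro h1
    apply hα1
    apply MulEquiv.ext
    intro u
    rw [MulAut.one_apply]
    have h2 : Abelianization.of (α u) = Abelianization.of u := by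
      rw [← abelianizationCongr_of, ← hβ, h1]; rfl
    have h3 : u⁻¹ * α u ∈ commutator Y := by
      rw [← Abelianization.ker_of, MonoidHom.mem_ker, map_mul, map_inv, h2, inv_mul_cancel]
    rcases hCle _ h3 with h4 | h4
    · have h5 : α u = u * (u⁻¹ * α u) := by group
      rw [h5, h4, mul_one]
    · exfalso
      apply hz1
      apply Helper16.eq_one_of_odd_aut_stab α r hr hα u z hαz hz2
      rw [← h4]; group
  have h2gA : TwoGen (Abelianization Y) := by
    obtain ⟨a, b, hab⟩ := h2g
    refine ⟨Abelianization.of a, Abelianization.of b, fun q => ?_⟩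
    obtain ⟨u, rfl⟩ := hsurj q
    obtain ⟨i, j, rfl⟩ := hab u
    exact ⟨i, j, by simp⟩
  have hPA : IsPGroup 2 (Abelianization Y) := IsPGroup.of_surjective hP _ hsurj
  haveI : Finite (Abelianization Y) := Finite.of_surjective _ hsurj
  obtain ⟨k, hk1, hcardA, hexpA, hfixA, -⟩ := abelian_case hPA h2gA β r hr hβr hβ1
  have hidx : (commutator Y).index = 2 ^ k * 2 ^ k := by
    rw [Subgroup.index_eq_card]; exact hcardA
  have hk : k = 1 := by
    by_contra hk'
    have hk2 : 2 ≤ k := by omega
    have hpowC : ∀ u : Y, u ^ 2 ^ k ∈ commutator Y := by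
      intro u
      rw [← Abelianization.ker_of, MonoidHom.mem_ker, map_pow]; exact hexpA _
    have hpow : ∀ u : Y, u ^ 2 ^ k = 1 ∨ u ^ 2 ^ k = z := fun u => hCle _ (hpowC u)
    have hcen : ∀ u : Y, u ^ 2 ^ k ∈ Subgroup.center Y := by
      intro u
      rw [Subgroup.mem_center_iff]
      intro g
      rcases hpow u with h | h
      · rw [h]; simp
      · rw [h]; exact hzc g
    have hmulpow : ∀ u v : Y, (u * v) ^ 2 ^ k = u ^ 2 ^ k * v ^ 2 ^ k := by
      intro u v
      set ε := (u * v)⁻¹ * (v * u) with hε
      have h1 : v * u = u * v * ε := by rw [hε]; group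
      have h2 : ε = ⁅v⁻¹, u⁻¹⁆ := by rw [hε, commutatorElement_def]; group
      have h3 : ε = 1 ∨ ε = z := by rw [h2]; exact hcomm _ _
      have hεc : ∀ g : Y, Commute ε g := by
        intro g
        rcases h3 with h | h
        · rw [h]; exact Commute.one_left g
        · rw [h]; exact (hzc g).symm
      have hε2 : ε ^ 2 = 1 := by
        rcases h3 with h | h
        · rw [h]; simp
        · rw [h, pow_two]; exact hz2
      have h4 := Helper16.mul_pow_of_class_two h1 (hεc u) (hεc v) (2 ^ k)
      obtain ⟨m, hm⟩ := even_choose_two_pow hk2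
      rw [hm, pow_mul, hε2, one_pow, mul_one] at h4
      exact h4
    let θ : Y →* Subgroup.center Y :=
      { toFun := fun u => ⟨u ^ 2 ^ k, hcen u⟩
        map_one' := by ext; simp
        map_mul' := by
          intro u v
          ext
          exact hmulpow u v }
    have hθ : ∀ u : Y, ((θ u : Subgroup.center Y) : Y) = u ^ 2 ^ k := fun u => rfl
    set χ : Abelianization Y →* Subgroup.center Y :=
      Abelianization.lift (A := Subgroup.center Y) θ with hχ
    have hχσ : ∀ a, χ (β a) = χ a := by
      intro a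
      obtain ⟨u, rfl⟩ := hsurj a
      rw [hβ, abelianizationCongr_of, hχ, Abelianization.lift_apply_of,
        Abelianization.lift_apply_of]
      ext
      rw [hθ, hθ, ← map_pow]
      rcases hpow u with h | h
      · rw [h, map_one]
      · rw [h]; exact hαz
    have hχ2 : ∀ a, χ a * χ a = 1 := by
      intro a
      obtain ⟨u, rfl⟩ := hsurj a
      rw [hχ, Abelianization.lift_apply_of]
      ext
      rw [Subgroup.coe_mul, hθ, Subgroup.coe_one]
      rcases hpow u with h | h
      · rw [h, mul_one]
      · rw [h]; exact hz2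
    have hall := chi_trivial β r hr hβr hfixA χ hχσ hχ2
    have hexp : ∀ u : Y, u ^ 2 ^ k = 1 := by
      intro u
      have h1 := hall (Abelianization.of u)
      rw [hχ, Abelianization.lift_apply_of] at h1
      have h2 := congrArg Subtype.val h1
      exact h2
    have hle := TwoGen.card_le h2g (2 ^ k) (by positivity) hexp
    have hmul := (commutator Y).card_mul_index
    rw [hCcard, hidx] at hmul
    have hpos : 0 < 2 ^ k * 2 ^ k := by positivity
    omega
  rw [hidx, hk]; norm_num

end Cfsg.Agent.Helper10
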