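import Mathlib
import Cfsg.Agent.Lib.Helper10.MetaTwo2
import Cfsg.Agent.Lib.Helper14.Basic
import Cfsg.Agent.S4189

set_option autoImplicit false

namespace Cfsg.Agent.Helper10

open Cfsg
open scoped commutatorElement

/-- an odd-order automorphism of a `2`-group fixes every invariant cyclic subgroup pointwise -/
theorem aut_fix_of_cyclic {P : Type*} [Group P] [Finite P] (hP : IsPGroup 2 P)
    (C : Subgroup P) (hC : IsCyclic C) (α : MulAut P)
    (hα : ∀ x, α x ∈ C ↔ x ∈ C) (r : ℕ) (hr : Odd r) (hαr : α ^ r = 1) :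
    ∀ c ∈ C, α c = c := by
  haveI : Fact (Nat.Prime 2) := ⟨Nat.prime_two⟩
  set β : MulAut C := Cfsg.Agent.S4189.restrictAut α C hα with hβ
  have hβr : β ^ r = 1 := by
    ext x
    rw [hβ, Cfsg.Agent.S4189.restrictAut_pow, hαr]
    rfl
  obtain ⟨m, hm⟩ := (hP.to_subgroup C).exists_card_eq
  have hβ2 : ∃ k, β ^ (2 ^ k) = 1 := by
    have h1 : β ^ Nat.card (MulAut C) = 1 := pow_card_eq_one'
    rw [IsCyclic.card_mulAut, hm] at h1
    rcases Nat.eq_zero_or_pos m with h0 | h0
    · refine ⟨0, ?_⟩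
      rw [h0, pow_zero, Nat.totient_one] at h1
      simpa using h1
    · refine ⟨m - 1, ?_⟩
      rw [Nat.totient_prime_pow Nat.prime_two h0] at h1
      simpa using h1
  obtain ⟨k, hk⟩ := hβ2
  have hβ1 : β = 1 :=
    Helper14.eq_one_of_pow_eq_one_of_coprime hβr hk
      (Nat.Coprime.pow_right k (Nat.Coprime.symm hr.coprime_two_left))
  intro c hc
  have h1 : (β ⟨c, hc⟩ : P) = c := by rw [hβ1]; rfl
  exact h1

theorem pow_eq_one_of_aut_stab {P : Type*} [Group P] (α : MulAut P) (r : ℕ)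
    (hα : α ^ r = 1) (x c : P) (hc : α c = c) (hx : α x = x * c) : c ^ r = 1 := by
  have hcj : ∀ j : ℕ, (α ^ j) c = c := by
    intro j
    induction j with
    | zero => simp
    | succ j ih => rw [pow_succ, MulAut.mul_apply, hc, ih]
  have hxj : ∀ j : ℕ, (α ^ j) x = x * c ^ j := by
    intro j
    induction j with
    | zero => simp
    | succ j ih =>
      rw [pow_succ, MulAut.mul_apply, hx, map_mul, ih, hcj, mul_assoc, ← pow_succ]
  have h1 := hxj r
  rw [hα, MulAut.one_apply] at h1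
  have : x * 1 = x * c ^ r := by rw [mul_one]; exact h1
  exact (mul_left_cancel this).symm

theorem map_sq_zpowers {X : Type*} [Group X] (φ : X →* X) (c : X)
    (h : φ c ∈ Subgroup.zpowers c) :
    ∀ n ∈ Subgroup.zpowers (c ^ 2), φ n ∈ Subgroup.zpowers (c ^ 2) := by
  intro n hn
  obtain ⟨i, rfl⟩ := Subgroup.mem_zpowers_iff.mp hn
  obtain ⟨j, hj⟩ := Subgroup.mem_zpowers_iff.mp h
  rw [map_zpow, map_pow, ← hj]
  apply Subgroup.zpow_mem
  have h1 : (c ^ j) ^ 2 = (c ^ 2) ^ j := by
    rw [← zpow_natCast, ← zpow_natCast, ← zpow_mul, ← zpow_mul, mul_comm]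
  rw [h1]
  exact Subgroup.zpow_mem _ (Subgroup.mem_zpowers _) _

theorem quotientCongr_pow {X : Type*} [Group X] (K : Subgroup X) [K.Normal] (α : MulAut X)
    (he : K.map (α : X →* X) = K) (j : ℕ) (u : X) :
    ((QuotientGroup.congr K K α he : MulAut (X ⧸ K)) ^ j) (QuotientGroup.mk u) =
      QuotientGroup.mk ((α ^ j) u) := by
  induction j generalizing u with
  | zero => simp
  | succ j ih =>
    rw [pow_succ, pow_succ, MulAut.mul_apply, MulAut.mul_apply, QuotientGroup.congr_mk, ih]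

/-- a nonabelian metacyclic `2`-group with a nontrivial odd-order automorphism has
abelianization of order four -/
theorem index_commutator_of_metacyclic {X : Type*} [Group X] [Finite X] (hX : IsPGroup 2 X)
    (hm : IsMetacyclic X) (α : MulAut X) (r : ℕ) (hr : Odd r) (hαr : α ^ r = 1) (hα1 : α ≠ 1)
    (hna : ¬ ∀ u v : X, u * v = v * u) : (commutator X).index = 4 := by
  have h2g := twoGen_of_isMetacyclic hm
  obtain ⟨N, hN, hNc, hQc⟩ := hm
  have hCN : commutator X ≤ N := by
    apply Subgroup.Normal.quotient_commutative_iff_commutator_le.mp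
    exact IsCyclic.isMulCommutative
  have hCc : IsCyclic (commutator X) := Subgroup.isCyclic_of_le hCN
  obtain ⟨c₀, hc₀⟩ := (Subgroup.isCyclic_iff_exists_zpowers_eq_top (commutator X)).mp hCc
  have hc₀C : c₀ ∈ commutator X := by rw [← hc₀]; exact Subgroup.mem_zpowers _
  -- the commutator subgroup is invariant
  have hαC : ∀ x, α x ∈ commutator X ↔ x ∈ commutator X := by
    intro x
    have h1 := (inferInstance : (commutator X).Characteristic).fixed α
    conv_rhs => rw [← h1]
    rfl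
  have hfixC := aut_fix_of_cyclic hX (commutator X) hCc α hαC r hr hαr
  have hαc₀ : α c₀ = c₀ := hfixC c₀ hc₀C
  set K : Subgroup X := Subgroup.zpowers (c₀ ^ 2) with hK
  have hKC : K ≤ commutator X := by
    rw [hK, Subgroup.zpowers_le]
    exact Subgroup.pow_mem _ hc₀C 2
  have hKn : K.Normal := by
    refine ⟨fun n hn g => ?_⟩
    have h1 : (MulAut.conj g).toMonoidHom c₀ ∈ Subgroup.zpowers c₀ := by
      rw [hc₀]
      show (MulAut.conj g) c₀ ∈ commutator X
      rw [MulAut.conj_apply]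
      exact (inferInstance : (commutator X).Normal).conj_mem _ hc₀C g
    have h2 := map_sq_zpowers (MulAut.conj g).toMonoidHom c₀ h1 n hn
    exact h2
  have hKfix : ∀ n ∈ K, α n = n := fun n hn => hfixC n (hKC hn)
  have hKmap : K.map (α : X →* X) = K := by
    ext n
    constructor
    · rintro ⟨m, hm, rfl⟩
      show α m ∈ K
      rw [hKfix m hm]; exact hm
    · intro hn
      exact ⟨n, hn, hKfix n hn⟩
  -- c₀ is not in K
  have hc₀1 : c₀ ≠ 1 := by
    intro h1
    apply hna
    intro u v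
    have h2 : ⁅u, v⁆ ∈ commutator X :=
      Subgroup.commutator_mem_commutator (Subgroup.mem_top _) (Subgroup.mem_top _)
    rw [← hc₀, h1, Subgroup.zpowers_one_eq_bot, Subgroup.mem_bot] at h2
    exact commutatorElement_eq_one_iff_mul_comm.mp h2
  have hc₀K : c₀ ∉ K := by
    intro h1
    obtain ⟨i, hi⟩ := Subgroup.mem_zpowers_iff.mp h1
    have h2 : c₀ ^ (2 * i - 1) = 1 := by
      rw [zpow_sub, zpow_mul, zpow_one]
      have : (c₀ ^ (2 : ℤ)) = c₀ ^ 2 := by norm_cast
      rw [this, hi, mul_inv_cancel]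
    obtain ⟨k, hk⟩ := hX c₀
    have h3 : c₀ ^ (2 * i - 1).natAbs = 1 := by
      rcases Int.natAbs_eq (2 * i - 1) with h | h
      · rw [← zpow_natCast, ← h]; exact h2
      · have h4 : c₀ ^ (-(2 * i - 1)) = 1 := by rw [zpow_neg, h2, inv_one]
        rw [← zpow_natCast]
        have h5 : ((2 * i - 1).natAbs : ℤ) = -(2 * i - 1) := by omega
        rw [h5]; exact h4
    apply hc₀1
    apply Helper14.eq_one_of_pow_eq_one_of_coprime h3 hk
    apply Nat.Coprime.pow_right
    apply Nat.Coprime.symm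
    rw [Nat.coprime_two_left, Int.natAbs_odd]
    exact ⟨i - 1, by ring⟩
  -- pass to the quotient
  set z : X ⧸ K := QuotientGroup.mk c₀ with hz
  have hz1 : z ≠ 1 := by
    rw [hz, Ne, QuotientGroup.eq_one_iff]; exact hc₀K
  have hz2 : z * z = 1 := by
    rw [hz, ← QuotientGroup.mk_mul, QuotientGroup.eq_one_iff, ← pow_two]
    exact Subgroup.mem_zpowers _
  have hzpow : ∀ i : ℤ, z ^ i = 1 ∨ z ^ i = z := by
    intro i
    rcases Int.even_or_odd' i with ⟨j, rfl | rfl⟩
    · left; rw [zpow_mul, zpow_two, hz2, one_zpow]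
    · right; rw [zpow_add, zpow_mul, zpow_two, hz2, one_zpow, one_mul, zpow_one]
  have hcomm : ∀ u v : X ⧸ K, ⁅u, v⁆ = 1 ∨ ⁅u, v⁆ = z := by
    intro u v
    obtain ⟨u, rfl⟩ := QuotientGroup.mk_surjective u
    obtain ⟨v, rfl⟩ := QuotientGroup.mk_surjective v
    have h1 : ⁅u, v⁆ ∈ Subgroup.zpowers c₀ := by
      rw [hc₀]
      exact Subgroup.commutator_mem_commutator (Subgroup.mem_top _) (Subgroup.mem_top _)
    obtain ⟨i, hi⟩ := Subgroup.mem_zpowers_iff.mp h1
    have h2 : ⁅(QuotientGroup.mk u : X ⧸ K), QuotientGroup.mk v⁆ = z ^ i := by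
      rw [hz, ← QuotientGroup.mk_zpow, hi]
      simp only [commutatorElement_def, QuotientGroup.mk_mul, QuotientGroup.mk_inv]
    rw [h2]
    exact hzpow i
  have hnaY : ∃ u v : X ⧸ K, ⁅u, v⁆ ≠ 1 := by
    by_contra hcon
    push Not at hcon
    apply hc₀K
    have h1 : commutator X ≤ K := by
      rw [commutator_eq_closure, Subgroup.closure_le]
      rintro g ⟨u, v, rfl⟩
      have h2 := hcon (QuotientGroup.mk u) (QuotientGroup.mk v)
      rw [SetLike.mem_coe, ← QuotientGroup.eq_one_iff]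
      rw [← h2]
      simp only [commutatorElement_def, QuotientGroup.mk_mul, QuotientGroup.mk_inv]
    exact h1 hc₀C
  set β : MulAut (X ⧸ K) := QuotientGroup.congr K K α hKmap with hβ
  have hβr : β ^ r = 1 := by
    apply MulEquiv.ext
    intro a
    obtain ⟨u, rfl⟩ := QuotientGroup.mk_surjective a
    rw [hβ, quotientCongr_pow, hαr]; rfl
  have hβ1 : β ≠ 1 := by
    intro h1
    apply hα1
    apply MulEquiv.ext
    intro u
    rw [MulAut.one_apply]
    have h2 : (QuotientGroup.mk (α u) : X ⧸ K) = QuotientGroup.mk u := by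
      rw [← QuotientGroup.congr_mk K K α hKmap, ← hβ, h1]; rfl
    have h3 : u⁻¹ * α u ∈ K := by
      rw [← QuotientGroup.eq_one_iff, QuotientGroup.mk_mul, QuotientGroup.mk_inv, h2,
        inv_mul_cancel]
    have h4 : α u = u * (u⁻¹ * α u) := by group
    have h5 := pow_eq_one_of_aut_stab α r hαr u _ (hKfix _ h3) h4
    obtain ⟨k, hk⟩ := hX (u⁻¹ * α u)
    have h6 : u⁻¹ * α u = 1 :=
      Helper14.eq_one_of_pow_eq_one_of_coprime h5 hk
        (Nat.Coprime.pow_right k (Nat.Coprime.symm hr.coprime_two_left))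
    rw [h4, h6, mul_one]
  have h4 := index_commutator_of_class_two (hX.to_quotient K) (h2g.quotient K) z hz1 hz2 hcomm
    hnaY β r hr hβr hβ1
  rw [← Helper16.index_commutator_quotient K hKC]
  exact h4

end Cfsg.Agent.Helper10
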