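import Mathlib
import Cfsg.Prelude.Def_OddOrderLocal

set_option autoImplicit false

/-! Subgroups of a metacyclic subgroup are generated by two elements. -/

namespace Cfsg.Agent.Helper10

open Classical in
theorem exists_two_gen_of_metacyclic {G : Type*} [Group G] (S : Subgroup G)
    (hS : Cfsg.IsMetacyclic ↥S) (Q : Subgroup G) (hQ : Q ≤ S) :
    ∃ T : Finset ↥Q, T.card ≤ 2 ∧ Subgroup.closure (T : Set ↥Q) = ⊤ := by
  obtain ⟨N, hN, hNc, hSNc⟩ := hS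
  haveI := hN
  haveI := hNc
  haveI := hSNc
  set Q' : Subgroup ↥S := Q.subgroupOf S with hQ'
  haveI h1 : IsCyclic ↥(Q' ⊓ N) := Subgroup.isCyclic_of_le (inf_le_right : Q' ⊓ N ≤ N)
  obtain ⟨a, ha⟩ := IsCyclic.exists_generator (α := ↥(Q' ⊓ N))
  haveI h2 : IsCyclic ↥(Q'.map (QuotientGroup.mk' N)) := inferInstance
  obtain ⟨β, hβ⟩ := IsCyclic.exists_generator (α := ↥(Q'.map (QuotientGroup.mk' N)))
  obtain ⟨b, hbQ', hbβ⟩ := β.2
  have haQ' : (a : ↥S) ∈ Q' := (Subgroup.mem_inf.mp a.2).1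
  have haQ : ((a : ↥S) : G) ∈ Q := Subgroup.mem_subgroupOf.mp haQ'
  have hbQ : (b : G) ∈ Q := Subgroup.mem_subgroupOf.mp hbQ'
  have key : ∀ x : ↥S, x ∈ Q' → ∃ i j : ℤ, x = b ^ i * (a : ↥S) ^ j := by
    intro x hx
    have hxm : QuotientGroup.mk' N x ∈ Q'.map (QuotientGroup.mk' N) := ⟨x, hx, rfl⟩
    obtain ⟨i, hi⟩ := Subgroup.mem_zpowers_iff.mp (hβ ⟨_, hxm⟩)
    have hi' : (QuotientGroup.mk' N b) ^ i = QuotientGroup.mk' N x := by
      have := congrArg Subtype.val hi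
      rw [Subgroup.coe_zpow] at this
      rw [hbβ]; exact this
    rw [← map_zpow] at hi'
    have h3 : (b ^ i)⁻¹ * x ∈ N := QuotientGroup.eq.mp hi'
    have h4 : (b ^ i)⁻¹ * x ∈ Q' ⊓ N :=
      Subgroup.mem_inf.mpr ⟨Q'.mul_mem (Q'.inv_mem (Q'.zpow_mem hbQ' i)) hx, h3⟩
    obtain ⟨j, hj⟩ := Subgroup.mem_zpowers_iff.mp (ha ⟨_, h4⟩)
    refine ⟨i, j, ?_⟩
    have hj' : (a : ↥S) ^ j = (b ^ i)⁻¹ * x := by
      have := congrArg Subtype.val hj
      rw [Subgroup.coe_zpow] at this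
      exact this
    rw [hj']; group
  refine ⟨{⟨((a : ↥S) : G), haQ⟩, ⟨(b : G), hbQ⟩}, Finset.card_le_two, ?_⟩
  rw [eq_top_iff]
  intro x _
  obtain ⟨i, j, hij⟩ := key ⟨(x : G), hQ x.2⟩ (Subgroup.mem_subgroupOf.mpr x.2)
  have hx : x = (⟨(b : G), hbQ⟩ : ↥Q) ^ i * (⟨((a : ↥S) : G), haQ⟩ : ↥Q) ^ j := by
    apply Subtype.ext
    have := congrArg (fun t : ↥S => (t : G)) hij
    simp only [Subgroup.coe_mul, Subgroup.coe_zpow] at this ⊢
    exact this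
  rw [hx]
  apply Subgroup.mul_mem
  · apply Subgroup.zpow_mem
    apply Subgroup.subset_closure
    simp
  · apply Subgroup.zpow_mem
    apply Subgroup.subset_closure
    simp

end Cfsg.Agent.Helper10
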