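import Mathlib

/-!
Definitions for S4017, case `p = 2 ^ a - 1` (minimal counterexample configuration).
-/

namespace Cfsg.Agent.Helper10.Mix

/-- `y` has `p`-power order. -/
def IsPElt {G : Type*} [Group G] (p : ℕ) (y : G) : Prop := ∃ k : ℕ, orderOf y = p ^ k

/-- The standing configuration: `G` simple, `p + 1 = 2 ^ a` with `2 ^ a` the 2-part of `#G`,
`p`-subgroups abelian, every proper subgroup of even order is a `{2,p}`-group. -/
structure Cfg (G : Type*) [Group G] [Finite G] (p a : ℕ) : Prop where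
  hp : p.Prime
  ha : 2 ≤ a
  hpa : p + 1 = 2 ^ a
  simple : IsSimpleGroup G
  card2 : (Nat.card G).factorization 2 = a
  abel : ∀ H : Subgroup G, IsPGroup p H → ∀ x ∈ H, ∀ y ∈ H, x * y = y * x
  even : ∀ H : Subgroup G, H ≠ ⊤ → 2 ∣ Nat.card H →
    ∀ r : ℕ, r.Prime → r ∣ Nat.card H → r = 2 ∨ r = p

/-- Basic facts about a Sylow 2-subgroup `Q` in the configuration. -/
structure Base (G : Type*) [Group G] [Finite G] (p a : ℕ) (Q : Sylow 2 G) : Prop where
  exp2 : ∀ s ∈ Q, s * s = 1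
  singer : ∀ s ∈ Q, s ≠ 1 → ∀ s' ∈ Q, s' ≠ 1 →
    ∃ h ∈ Subgroup.normalizer ((Q : Subgroup G) : Set G), IsPElt p h ∧ h * s * h⁻¹ = s'
  fix_cent : ∀ h ∈ Subgroup.normalizer ((Q : Subgroup G) : Set G), IsPElt p h →
    ∀ t ∈ Q, t ≠ 1 → Commute h t → h ∈ Subgroup.centralizer ((Q : Subgroup G) : Set G)
  pc : ∀ t ∈ Q, t ≠ 1 → ∀ y z : G, IsPElt p y → IsPElt p z → Commute y t → Commute z t →
    Commute y z ∧ IsPElt p (y * z)
  split : ∀ t ∈ Q, t ≠ 1 → ∀ g : G, Commute g t →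
    ∃ y s, IsPElt p y ∧ Commute y t ∧ s ∈ Q ∧ g = y * s

/-- Every element of `Q` centralizes or inverts `b`, and some element inverts it. -/
def Eig {G : Type*} [Group G] (Q : Sylow 2 G) (b : G) : Prop :=
  (∀ s ∈ Q, Commute s b ∨ s * b * s⁻¹ = b⁻¹) ∧ ∃ s ∈ Q, s * b * s⁻¹ = b⁻¹

/-- Every `p`-element centralizing an involution of a Sylow 2-subgroup `Q` centralizes `Q`. -/
def Good (G : Type*) [Group G] (p : ℕ) : Prop :=
  ∀ (Q : Sylow 2 G) (t : G), t ∈ Q → t ≠ 1 → ∀ y : G, IsPElt p y → Commute y t →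
    y ∈ Subgroup.centralizer ((Q : Subgroup G) : Set G)

end Cfsg.Agent.Helper10.Mix
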