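import Mathlib
import Cfsg.Agent.Lib.Helper10.MixDefs

set_option autoImplicit false
set_option linter.unusedSectionVars false
set_option linter.style.haveILetI false

namespace Cfsg.Agent.Helper10.Mix

variable {G : Type*} [Group G] [Finite G] {p a : ℕ}

theorem Cfg.p_ne_two (c : Cfg G p a) : p ≠ 2 := by
  intro h
  have := c.hpa
  subst h
  have h2 : 2 ∣ 2 ^ a := dvd_pow_self 2 (by have := c.ha; omega)
  omega

theorem Cfg.three_le_p (c : Cfg G p a) : 3 ≤ p := by
  have h2 := c.hp.two_le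
  have := c.p_ne_two
  omega

theorem Cfg.odd_p (c : Cfg G p a) : Odd p := c.hp.odd_of_ne_two c.p_ne_two

theorem Cfg.card_pos (_c : Cfg G p a) : 0 < Nat.card G := Nat.card_pos

theorem Cfg.pow_dvd_card (c : Cfg G p a) : 2 ^ a ∣ Nat.card G := by
  have := Nat.ordProj_dvd (Nat.card G) 2
  rwa [c.card2] at this

theorem Cfg.four_dvd_card (c : Cfg G p a) : 4 ∣ Nat.card G := by
  refine dvd_trans ?_ c.pow_dvd_card
  have : (4 : ℕ) = 2 ^ 2 := by norm_num
  rw [this]
  exact pow_dvd_pow 2 c.ha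

theorem Cfg.two_dvd_card (c : Cfg G p a) : 2 ∣ Nat.card G :=
  dvd_trans (by norm_num) c.four_dvd_card

theorem Cfg.card_sylow2 (c : Cfg G p a) (Q : Sylow 2 G) : Nat.card Q = 2 ^ a := by
  haveI : Fact (Nat.Prime 2) := ⟨Nat.prime_two⟩
  rw [Sylow.card_eq_multiplicity, c.card2]

/-- `G` is not commutative. -/
theorem Cfg.not_comm (c : Cfg G p a) : ¬ ∀ x y : G, x * y = y * x := by
  intro hcomm
  haveI := c.simple
  letI : CommGroup G := { ‹Group G› with mul_comm := hcomm }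
  have hprime : (Nat.card G).Prime := by
    have := IsSimpleGroup.prime_card (α := G)
    simpa using this
  have h4 := c.four_dvd_card
  rcases (Nat.dvd_prime hprime).1 h4 with h | h
  · omega
  · rw [← h] at hprime
    exact absurd hprime (by norm_num)

theorem Cfg.center_eq_bot (c : Cfg G p a) : Subgroup.center G = ⊥ := by
  haveI := c.simple
  rcases (inferInstance : (Subgroup.center G).Normal).eq_bot_or_eq_top with h | h
  · exact h
  · exfalso
    apply c.not_comm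
    intro x y
    have hx : x ∈ Subgroup.center G := by rw [h]; trivial
    exact (Subgroup.mem_center_iff.1 hx y).symm

theorem Cfg.centralizer_ne_top (c : Cfg G p a) {g : G} (hg : g ≠ 1) :
    Subgroup.centralizer ({g} : Set G) ≠ ⊤ := by
  intro h
  apply hg
  have : g ∈ Subgroup.center G := by
    rw [Subgroup.mem_center_iff]
    intro x
    have hx : x ∈ Subgroup.centralizer ({g} : Set G) := by rw [h]; trivial
    exact (Subgroup.mem_centralizer_iff.1 hx g rfl).symm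
  rw [c.center_eq_bot] at this
  exact Subgroup.mem_bot.1 this

theorem Cfg.normalizer_ne_top (c : Cfg G p a) {H : Subgroup G} (h1 : H ≠ ⊥) (h2 : H ≠ ⊤) :
    Subgroup.normalizer (H : Set G) ≠ ⊤ := by
  intro h
  haveI := c.simple
  have hn : H.Normal := Subgroup.normalizer_eq_top_iff.1 h
  rcases hn.eq_bot_or_eq_top with h' | h'
  · exact h1 h'
  · exact h2 h'

/-- In a proper subgroup of even order, all element orders are `{2,p}`-numbers. -/
theorem Cfg.card_of_even (c : Cfg G p a) {H : Subgroup G} (hH : H ≠ ⊤) (h2 : 2 ∣ Nat.card H) :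
    ∃ i j : ℕ, i ≤ a ∧ Nat.card H = 2 ^ i * p ^ j := by
  have hpos : Nat.card H ≠ 0 := Nat.card_pos.ne'
  have hp2 := c.p_ne_two
  have hfac : ∀ r : ℕ, r.Prime → r ∣ Nat.card H → r = 2 ∨ r = p := c.even H hH h2
  refine ⟨(Nat.card H).factorization 2, (Nat.card H).factorization p, ?_, ?_⟩
  · have h1 : 2 ^ (Nat.card H).factorization 2 ∣ Nat.card G :=
      dvd_trans (Nat.ordProj_dvd _ 2) (Subgroup.card_subgroup_dvd_card H)
    have := (Nat.Prime.pow_dvd_iff_le_factorization Nat.prime_two Nat.card_pos.ne').1 h1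
    rwa [c.card2] at this
  · conv_lhs => rw [← Nat.prod_factorization_pow_eq_self hpos]
    have hsupp : (Nat.card H).factorization.support ⊆ {2, p} := by
      intro r hr
      have hr' := Nat.support_factorization (Nat.card H) ▸ hr
      have hrp : r.Prime := Nat.prime_of_mem_primeFactors hr'
      have hrd : r ∣ Nat.card H := Nat.dvd_of_mem_primeFactors hr'
      rcases hfac r hrp hrd with h | h <;> simp [h]
    rw [Finsupp.prod_of_support_subset _ hsupp _ (by intro i _; simp)]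
    rw [Finset.prod_pair (Ne.symm hp2)]

theorem Cfg.orderOf_of_mem (c : Cfg G p a) {H : Subgroup G} (hH : H ≠ ⊤) (h2 : 2 ∣ Nat.card H)
    {g : G} (hg : g ∈ H) : ∃ i j : ℕ, orderOf g = 2 ^ i * p ^ j := by
  obtain ⟨i, j, -, hc⟩ := c.card_of_even hH h2
  have hd : orderOf g ∣ 2 ^ i * p ^ j := by
    rw [← hc]
    have : orderOf (⟨g, hg⟩ : H) ∣ Nat.card H := orderOf_dvd_natCard _
    rwa [Subgroup.orderOf_mk] at this
  have hcop : Nat.Coprime (2 ^ i) (p ^ j) := by
    apply Nat.Coprime.pow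
    exact (Nat.coprime_primes Nat.prime_two c.hp).2 (Ne.symm c.p_ne_two)
  obtain ⟨d1, d2, h1, h2', h3⟩ := (Nat.dvd_mul).1 hd |>.imp fun _ => id
  obtain ⟨i', -, hi'⟩ := (Nat.dvd_prime_pow Nat.prime_two).1 h1
  obtain ⟨j', -, hj'⟩ := (Nat.dvd_prime_pow c.hp).1 h2'
  exact ⟨i', j', by rw [← h3, hi', hj']⟩

/-- 2-part / p-part decomposition of an element of order `2^i p^j`. -/
theorem exists_parts (hp : p.Prime) (hp2 : p ≠ 2) {g : G} {i j : ℕ}
    (h : orderOf g = 2 ^ i * p ^ j) :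
    ∃ u v : G, g = u * v ∧ Commute u v ∧ orderOf u = 2 ^ i ∧ orderOf v = p ^ j ∧
      u ∈ Subgroup.zpowers g ∧ v ∈ Subgroup.zpowers g := by
  have hcop : Nat.Coprime (2 ^ i) (p ^ j) := by
    apply Nat.Coprime.pow
    exact (Nat.coprime_primes Nat.prime_two hp).2 (Ne.symm hp2)
  -- Bezout: x * 2^i + y * p^j = 1 in ℤ
  have hb := Nat.gcd_eq_gcd_ab (2 ^ i) (p ^ j)
  rw [hcop] at hb
  set x := Nat.gcdA (2 ^ i) (p ^ j)
  set y := Nat.gcdB (2 ^ i) (p ^ j)
  -- u := g ^ (y * p^j)  (order 2^i), v := g ^ (x * 2^i) (order p^j)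
  refine ⟨g ^ ((p ^ j : ℕ) * y : ℤ), g ^ ((2 ^ i : ℕ) * x : ℤ), ?_, ?_, ?_, ?_, ?_, ?_⟩
  · rw [← zpow_add]
    have : ((p ^ j : ℕ) * y : ℤ) + ((2 ^ i : ℕ) * x : ℤ) = 1 := by
      push_cast at hb ⊢; linarith
    rw [this, zpow_one]
  · exact (Commute.refl g).zpow_zpow _ _
  · -- order of g ^ (p^j * y)
    have hpj : 0 < p ^ j := pow_pos hp.pos j
    have h1 : orderOf (g ^ (p ^ j)) = 2 ^ i := by
      rw [orderOf_pow' g hpj.ne', h, Nat.gcd_eq_right (Dvd.intro_left _ rfl)]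
      exact Nat.mul_div_cancel _ hpj
    have hy : Nat.Coprime (2 ^ i) y.natAbs := by
      -- from Bezout: y * p^j ≡ 1 mod 2^i
      have : IsCoprime ((2 ^ i : ℕ) : ℤ) y := by
        refine ⟨x, (p ^ j : ℕ), ?_⟩
        push_cast at hb ⊢; linarith
      exact Int.isCoprime_iff_gcd_eq_one.1 this
    rw [zpow_mul, zpow_natCast]
    have : orderOf ((g ^ p ^ j) ^ y) = orderOf (g ^ p ^ j) := by
      rcases Int.natAbs_eq y with hy' | hy'
      · rw [hy', zpow_natCast]
        exact (Nat.Coprime.orderOf_pow (by rw [h1]; exact hy))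
      · rw [hy', zpow_neg, zpow_natCast, orderOf_inv]
        exact (Nat.Coprime.orderOf_pow (by rw [h1]; exact hy))
    rw [this, h1]
  · have h1 : orderOf (g ^ (2 ^ i)) = p ^ j := by
      rw [orderOf_pow' g (by positivity), h, Nat.gcd_eq_right (Dvd.intro _ rfl)]
      exact Nat.mul_div_cancel_left _ (by positivity)
    have hx : Nat.Coprime (p ^ j) x.natAbs := by
      have : IsCoprime ((p ^ j : ℕ) : ℤ) x := by
        refine ⟨y, (2 ^ i : ℕ), ?_⟩
        push_cast at hb ⊢; linarith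
      exact Int.isCoprime_iff_gcd_eq_one.1 this
    rw [zpow_mul, zpow_natCast]
    have : orderOf ((g ^ 2 ^ i) ^ x) = orderOf (g ^ 2 ^ i) := by
      rcases Int.natAbs_eq x with hx' | hx'
      · rw [hx', zpow_natCast]
        exact (Nat.Coprime.orderOf_pow (by rw [h1]; exact hx))
      · rw [hx', zpow_neg, zpow_natCast, orderOf_inv]
        exact (Nat.Coprime.orderOf_pow (by rw [h1]; exact hx))
    rw [this, h1]
  · exact Subgroup.zpow_mem_zpowers g _
  · exact Subgroup.zpow_mem_zpowers g _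

/-- a 2-element normalizing a Sylow 2-subgroup lies in it -/
theorem mem_sylow2_of_normalizer (Q : Sylow 2 G) {g : G} {k : ℕ} (hg : orderOf g = 2 ^ k)
    (hgN : g ∈ Subgroup.normalizer ((Q : Subgroup G) : Set G)) : g ∈ Q := by
  haveI : Fact (Nat.Prime 2) := ⟨Nat.prime_two⟩
  have hz : IsPGroup 2 (Subgroup.zpowers g) := by
    apply IsPGroup.of_card (n := k)
    rw [Nat.card_zpowers, hg]
  have h := IsPGroup.inf_normalizer_sylow hz Q
  have hmem : g ∈ Subgroup.zpowers g ⊓ Subgroup.normalizer (Q : Set G) :=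
    ⟨Subgroup.mem_zpowers g, hgN⟩
  rw [h] at hmem
  exact hmem.2

/-! ### simple facts on `IsPElt` -/

theorem IsPElt.one : IsPElt p (1 : G) := ⟨0, by simp⟩

theorem IsPElt.inv {y : G} (h : IsPElt p y) : IsPElt p y⁻¹ := by
  obtain ⟨k, hk⟩ := h; exact ⟨k, by rw [orderOf_inv, hk]⟩

theorem IsPElt.conj {y : G} (h : IsPElt p y) (g : G) : IsPElt p (g * y * g⁻¹) := by
  obtain ⟨k, hk⟩ := h
  refine ⟨k, ?_⟩
  have : g * y * g⁻¹ = MulAut.conj g y := by simp [MulAut.conj_apply]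
  rw [this, MulEquiv.orderOf_eq, hk]

theorem IsPElt.pow (hp : p.Prime) {y : G} (h : IsPElt p y) (n : ℕ) : IsPElt p (y ^ n) := by
  obtain ⟨k, hk⟩ := h
  obtain ⟨m, -, hm⟩ := (Nat.dvd_prime_pow hp).1 (hk ▸ orderOf_pow_dvd (x := y) n)
  exact ⟨m, hm⟩

theorem IsPElt.zpowers_isPGroup {y : G} (h : IsPElt p y) : IsPGroup p (Subgroup.zpowers y) := by
  obtain ⟨k, hk⟩ := h
  apply IsPGroup.of_card (n := k)
  rw [Nat.card_zpowers, hk]

theorem isPElt_of_mem (hp : p.Prime) {H : Subgroup G} (hH : IsPGroup p H) {y : G} (hy : y ∈ H) :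
    IsPElt p y := by
  haveI : Fact p.Prime := ⟨hp⟩
  obtain ⟨k, hk⟩ := hH.exists_card_eq
  have hd : orderOf y ∣ p ^ k := by
    rw [← hk]
    have : orderOf (⟨y, hy⟩ : H) ∣ Nat.card H := orderOf_dvd_natCard _
    rwa [Subgroup.orderOf_mk] at this
  obtain ⟨m, -, hm⟩ := (Nat.dvd_prime_pow hp).1 hd
  exact ⟨m, hm⟩

theorem IsPElt.exists_sylow (hp : p.Prime) {y : G} (h : IsPElt p y) : ∃ P : Sylow p G, y ∈ P := by
  haveI : Fact p.Prime := ⟨hp⟩
  obtain ⟨P, hP⟩ := h.zpowers_isPGroup.exists_le_sylow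
  exact ⟨P, hP (Subgroup.mem_zpowers y)⟩

/-- a non-trivial `p`-element (p odd) is not its own inverse -/
theorem IsPElt.ne_inv (hp : p.Prime) (hp2 : p ≠ 2) {y : G} (h : IsPElt p y) (hy : y ≠ 1) :
    y ≠ y⁻¹ := by
  intro he
  obtain ⟨k, hk⟩ := h
  have h2 : y ^ 2 = 1 := by
    rw [pow_two]; nth_rewrite 2 [he]; exact mul_inv_cancel y
  have hd : p ^ k ∣ 2 := hk ▸ orderOf_dvd_of_pow_eq_one h2
  rcases Nat.eq_zero_or_pos k with hk0 | hk0
  · apply hy
    rw [← orderOf_eq_one_iff, hk, hk0, pow_zero]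
  · have : p ∣ 2 := dvd_trans (dvd_pow_self p hk0.ne') hd
    have := (Nat.prime_dvd_prime_iff_eq hp Nat.prime_two).1 this
    exact hp2 this

end Cfsg.Agent.Helper10.Mix
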