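import Mathlib
import Cfsg.Agent.Lib.Helper10.MixDefs
import Cfsg.Agent.Lib.Helper10.MixUtil

set_option autoImplicit false
set_option linter.unusedSectionVars false
set_option linter.style.haveILetI false

namespace Cfsg.Agent.Helper10.Mix

open scoped Pointwise

variable {G : Type*} [Group G] [Finite G] {p a : ℕ}

/-- If `P` is the only Sylow `p`-subgroup containing `b`, and `y` is a `p`-element commuting with
`b`, then `y ∈ P`. -/
theorem mem_of_commute_of_unique (hp : p.Prime) {b y : G} (hb : IsPElt p b) (hy : IsPElt p y)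
    (hyb : Commute y b) (P : Sylow p G) (huniq : ∀ P' : Sylow p G, b ∈ P' → P' = P) : y ∈ P := by
  haveI : Fact p.Prime := ⟨hp⟩
  have hle : Subgroup.zpowers y ≤
      Subgroup.normalizer ((Subgroup.zpowers b : Subgroup G) : Set G) := by
    rw [Subgroup.zpowers_le]
    apply Subgroup.centralizer_le_normalizer
    rw [Subgroup.mem_centralizer_iff]
    intro x hx
    obtain ⟨k, rfl⟩ := Subgroup.mem_zpowers_iff.1 hx
    exact ((hyb.zpow_right k).eq).symm
  have hpg : IsPGroup p (Subgroup.zpowers y ⊔ Subgroup.zpowers b : Subgroup G) :=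
    IsPGroup.to_sup_of_normal_right' hy.zpowers_isPGroup hb.zpowers_isPGroup hle
  obtain ⟨P', hP'⟩ := hpg.exists_le_sylow
  have hbP' : b ∈ P' := hP' (Subgroup.mem_sup_right (Subgroup.mem_zpowers b))
  have hyP' : y ∈ P' := hP' (Subgroup.mem_sup_left (Subgroup.mem_zpowers y))
  rw [huniq P' hbP'] at hyP'
  exact hyP'

/-- `x ∈ P ⊓ Q` with `P` a `p`-group (`p` odd) and `Q` of exponent 2 is trivial. -/
theorem eq_one_of_mem_of_mem (hp : p.Prime) (hp2 : p ≠ 2) {P : Sylow p G} {Q : Sylow 2 G}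
    (hexp : ∀ s ∈ Q, s * s = 1) {x : G} (hxP : x ∈ P) (hxQ : x ∈ Q) : x = 1 := by
  by_contra hx1
  have hpe : IsPElt p x := isPElt_of_mem hp P.isPGroup' hxP
  have := hpe.ne_inv hp hp2 hx1
  apply this
  exact eq_inv_of_mul_eq_one_left (hexp x hxQ)

/-- PIECE GOOD3 (with the pieces EIG and USYL as hypotheses). -/
theorem good_of_three_le_aux (c : Cfg G p a) (B : ∀ Q : Sylow 2 G, Base G p a Q) (h3 : 3 ≤ a)
    (hEIG : ∀ {Q : Sylow 2 G}, Base G p a Q → ∀ {t : G}, t ∈ Q → t ≠ 1 → ∀ {y : G}, IsPElt p y →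
      Commute y t → y ∉ Subgroup.centralizer ((Q : Subgroup G) : Set G) →
      ∃ b : G, b ≠ 1 ∧ IsPElt p b ∧ Commute b t ∧ Eig Q b)
    (hUSYL : ∀ {Q : Sylow 2 G}, (∀ s ∈ Q, s * s = 1) → ∀ {b : G}, b ≠ 1 → IsPElt p b → Eig Q b →
      ∃ P : Sylow p G, b ∈ P ∧ (∀ P' : Sylow p G, b ∈ P' → P' = P) ∧
        (Q : Subgroup G) ≤ Subgroup.normalizer ((P : Subgroup G) : Set G) ∧
        (∀ g ∈ Subgroup.normalizer ((P : Subgroup G) : Set G), IsPElt p g → g ∈ P) ∧
        (∀ g ∈ Subgroup.normalizer ((P : Subgroup G) : Set G), ∃ y ∈ P, ∃ s ∈ Q, g = y * s)) :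
    Good G p := by
  haveI : Fact p.Prime := ⟨c.hp⟩
  intro Q t ht ht1 y hy hyt
  by_contra hyQ
  have BQ := B Q
  obtain ⟨b, hb1, hb, hbt, hE⟩ := hEIG BQ ht ht1 hy hyt hyQ
  obtain ⟨P, hbP, huniq, hQN, hpN, -⟩ := hUSYL BQ.exp2 hb1 hb hE
  obtain ⟨s1, hs1Q, hs1⟩ := hE.2
  -- an element of Q outside {1, t, s1, t*s1}
  have hcardQ : Nat.card Q = 2 ^ a := c.card_sylow2 Q
  have h8 : 8 ≤ Nat.card Q := by
    rw [hcardQ]
    calc 8 = 2 ^ 3 := by norm_num
      _ ≤ 2 ^ a := Nat.pow_le_pow_right (by norm_num) h3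
  classical
  obtain ⟨s2, hs2Q, hs2⟩ : ∃ s2 ∈ Q, s2 ∉ ({1, t, s1, t * s1} : Finset G) := by
    by_contra hcon
    push_neg at hcon
    have hsub : ((Q : Subgroup G) : Set G) ⊆ (({1, t, s1, t * s1} : Finset G) : Set G) := by
      intro x hx
      exact Finset.mem_coe.2 (hcon x hx)
    have h1 : Nat.card Q ≤ Nat.card (({1, t, s1, t * s1} : Finset G) : Set G) :=
      Nat.card_mono (Finset.finite_toSet _) hsub
    rw [Nat.card_coe_set_eq (({1, t, s1, t * s1} : Finset G) : Set G),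
      Set.ncard_coe_finset] at h1
    have h2 : ({1, t, s1, t * s1} : Finset G).card ≤ 4 := Finset.card_le_four
    omega
  simp only [Finset.mem_insert, Finset.mem_singleton, not_or] at hs2
  obtain ⟨hs2a, hs2b, hs2c, hs2d⟩ := hs2
  -- s ∈ Q, s ≠ 1, s ≠ t, commuting with b
  obtain ⟨s, hsQ, hs1', hst, hsb⟩ : ∃ s ∈ Q, s ≠ 1 ∧ s ≠ t ∧ Commute s b := by
    rcases hE.1 s2 hs2Q with hc | hinv
    · exact ⟨s2, hs2Q, hs2a, hs2b, hc⟩
    · refine ⟨s2 * s1, Q.mul_mem hs2Q hs1Q, ?_, ?_, ?_⟩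
      · intro h
        apply hs2c
        have : s2 = s1⁻¹ := eq_inv_of_mul_eq_one_left h
        rw [this]
        exact (eq_inv_of_mul_eq_one_left (BQ.exp2 s1 hs1Q)).symm
      · intro h
        apply hs2d
        have h1 : s1 * s1 = 1 := BQ.exp2 s1 hs1Q
        calc s2 = s2 * (s1 * s1) := by rw [h1, mul_one]
          _ = (s2 * s1) * s1 := by rw [mul_assoc]
          _ = t * s1 := by rw [h]
      · -- (s2 s1) b (s2 s1)⁻¹ = b
        have : s2 * s1 * b * (s2 * s1)⁻¹ = b := by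
          have e1 : s2 * s1 * b * (s2 * s1)⁻¹ = s2 * (s1 * b * s1⁻¹) * s2⁻¹ := by group
          rw [e1, hs1]
          have e2 : s2 * b⁻¹ * s2⁻¹ = (s2 * b * s2⁻¹)⁻¹ := by group
          rw [e2, hinv, inv_inv]
        show s2 * s1 * b = b * (s2 * s1)
        calc s2 * s1 * b = (s2 * s1 * b * (s2 * s1)⁻¹) * (s2 * s1) := by group
          _ = b * (s2 * s1) := by rw [this]
  obtain ⟨h, hhN, hhp, hhts⟩ := BQ.singer t ht ht1 s hsQ hs1'
  -- h⁻¹ b h is a p-element commuting with t, hence lies in P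
  have hconj_p : IsPElt p (h⁻¹ * b * h) := by
    have := hb.conj h⁻¹
    rwa [inv_inv] at this
  have hconj_t : Commute (h⁻¹ * b * h) t := by
    have hsb' : s * b = b * s := hsb
    show h⁻¹ * b * h * t = t * (h⁻¹ * b * h)
    have ht' : t = h⁻¹ * s * h := by rw [← hhts]; group
    rw [ht']
    calc h⁻¹ * b * h * (h⁻¹ * s * h) = h⁻¹ * (b * s) * h := by group
      _ = h⁻¹ * (s * b) * h := by rw [hsb']
      _ = h⁻¹ * s * h * (h⁻¹ * b * h) := by group
  have hcb : Commute (h⁻¹ * b * h) b :=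
    (BQ.pc t ht ht1 (h⁻¹ * b * h) b hconj_p hb hconj_t hbt).1
  have hmemP : h⁻¹ * b * h ∈ P := mem_of_commute_of_unique c.hp hb hconj_p hcb P huniq
  -- hence b ∈ h • P, so h • P = P
  have hbhP : b ∈ h • P := by
    change b ∈ MulAut.conj h • (P : Subgroup G)
    rw [Subgroup.mem_pointwise_smul_iff_inv_smul_mem]
    have hmemP' : h⁻¹ * b * h ∈ (P : Subgroup G) := hmemP
    simpa [MulAut.smul_def, MulAut.conj_apply] using hmemP'
  have hhP : h • P = P := huniq (h • P) hbhP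
  have hhNP : h ∈ Subgroup.normalizer ((P : Subgroup G) : Set G) :=
    Sylow.smul_eq_iff_mem_normalizer.1 hhP
  have hhinP : h ∈ P := hpN h hhNP hhp
  -- the commutator h t h⁻¹ t⁻¹ lies in P ⊓ Q
  have hxQ : h * t * h⁻¹ * t⁻¹ ∈ Q := by
    rw [hhts]
    exact Q.mul_mem hsQ (Q.inv_mem ht)
  have hxP : h * t * h⁻¹ * t⁻¹ ∈ P := by
    have htN : t ∈ Subgroup.normalizer ((P : Subgroup G) : Set G) := hQN ht
    have h1 : t * h⁻¹ * t⁻¹ ∈ (P : Subgroup G) :=
      (Subgroup.mem_normalizer_iff.1 htN h⁻¹).1 (P.inv_mem hhinP)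
    have : h * t * h⁻¹ * t⁻¹ = h * (t * h⁻¹ * t⁻¹) := by group
    rw [this]
    exact P.mul_mem hhinP h1
  have hx1 := eq_one_of_mem_of_mem c.hp c.p_ne_two BQ.exp2 hxP hxQ
  apply hst
  rw [← hhts]
  calc h * t * h⁻¹ = (h * t * h⁻¹ * t⁻¹) * t := by group
    _ = t := by rw [hx1, one_mul]

end Cfsg.Agent.Helper10.Mix
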