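import Mathlib
import Cfsg.Agent.Lib.Helper10.MixDefs

set_option autoImplicit false
set_option linter.unusedSectionVars false
set_option linter.style.haveILetI false

namespace Cfsg.Agent.Helper10.Mix

universe u

/-- If `H ⊔ N = ⊤` with `N` normal then `#(G/N)` divides `#H`. -/
theorem card_quot_dvd_of_sup_eq_top {G : Type*} [Group G] [Finite G] (N : Subgroup G) [N.Normal]
    (H : Subgroup G) (h : H ⊔ N = ⊤) : Nat.card (G ⧸ N) ∣ Nat.card H := by
  have hmap : H.map (QuotientGroup.mk' N) = ⊤ := by
    rw [eq_top_iff]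
    intro q _
    obtain ⟨g, rfl⟩ := QuotientGroup.mk'_surjective N q
    have hg : g ∈ H ⊔ N := h ▸ Subgroup.mem_top g
    obtain ⟨y, hy, z, hz, rfl⟩ := Subgroup.mem_sup_of_normal_right.1 hg
    refine ⟨y, hy, ?_⟩
    simp only [QuotientGroup.mk'_apply, QuotientGroup.mk_mul]
    rw [(QuotientGroup.eq_one_iff z).2 hz, mul_one]
  have := Subgroup.card_map_dvd (H := H) (QuotientGroup.mk' N)
  rwa [hmap, Subgroup.card_top] at this

/-- If `K ⊔ L = ⊤` with `L` normal then `#G` divides `#L * #K`. -/
theorem card_dvd_mul_of_sup_eq_top {G : Type*} [Group G] [Finite G] (L : Subgroup G) [L.Normal]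
    (K : Subgroup G) (h : K ⊔ L = ⊤) : Nat.card G ∣ Nat.card L * Nat.card K := by
  have h1 := card_quot_dvd_of_sup_eq_top L K h
  have h2 : Nat.card G = Nat.card (G ⧸ L) * Nat.card L :=
    Subgroup.card_eq_card_quotient_mul_card_subgroup L
  rw [h2, mul_comm]
  exact Nat.mul_dvd_mul_left _ h1

/-! ### PIECE SIMPLE : a minimal counterexample is simple -/
theorem simple_of_min {G : Type u} [Group G] [Finite G] {p a r : ℕ} (hp : p.Prime) (hp2 : p ≠ 2)
    (ha : 2 ≤ a) (hpa : p + 1 = 2 ^ a) (hpG : p ∣ Nat.card G)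
    (card2 : (Nat.card G).factorization 2 = a)
    (even : ∀ H : Subgroup G, H ≠ ⊤ → 2 ∣ Nat.card H →
      ∀ r : ℕ, r.Prime → r ∣ Nat.card H → r = 2 ∨ r = p)
    (hr : r.Prime) (hrG : r ∣ Nat.card G) (hr2 : r ≠ 2) (hrp : r ≠ p)
    (hquot : ∀ N : Subgroup G, N.Normal → N ≠ ⊥ → IsPGroup p N → p ∣ Nat.card (G ⧸ N) →
      ∀ r' : ℕ, r'.Prime → r' ∣ Nat.card (G ⧸ N) → r' = 2 ∨ r' = p) :
    IsSimpleGroup G := by
  haveI : Fact p.Prime := ⟨hp⟩
  haveI : Fact r.Prime := ⟨hr⟩
  haveI : Fact (Nat.Prime 2) := ⟨Nat.prime_two⟩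
  have _ := hpa
  -- a subgroup of even order whose order is divisible by a prime outside {2,p} is everything
  have htop : ∀ (l : ℕ), l.Prime → l ≠ 2 → l ≠ p → ∀ H : Subgroup G, 2 ∣ Nat.card H →
      l ∣ Nat.card H → H = ⊤ := by
    intro l hl hl2 hlp H h2 hlH
    by_contra hH
    rcases even H hH h2 l hl hlH with h | h
    · exact hl2 h
    · exact hlp h
  have h2G : 2 ∣ Nat.card G := by
    have h1 : 2 ^ a ∣ Nat.card G := by
      have := Nat.ordProj_dvd (Nat.card G) 2
      rwa [card2] at this
    exact dvd_trans (dvd_pow_self 2 (by omega)) h1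
  have hnt : Nontrivial G := by
    rw [← Finite.one_lt_card_iff_nontrivial]
    have hpos : 0 < Nat.card G := Nat.card_pos
    have := Nat.le_of_dvd hpos h2G
    omega
  refine { toNontrivial := hnt, eq_bot_or_eq_top_of_normal := ?_ }
  intro N hN
  by_contra hcon
  push_neg at hcon
  obtain ⟨hNbot, hNtop⟩ := hcon
  haveI := hN
  have hcardN : Nat.card G = Nat.card (G ⧸ N) * Nat.card N :=
    Subgroup.card_eq_card_quotient_mul_card_subgroup N
  by_cases h2N : 2 ∣ Nat.card N
  · -- Case A : N has even order
    have hrN : ¬ r ∣ Nat.card N := by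
      intro h
      rcases even N hNtop h2N r hr h with h' | h'
      · exact hr2 h'
      · exact hrp h'
    have hrQ : r ∣ Nat.card (G ⧸ N) := by
      rw [hcardN] at hrG
      rcases (Nat.Prime.dvd_mul hr).1 hrG with h | h
      · exact h
      · exact absurd h hrN
    obtain ⟨P⟩ : Nonempty (Sylow 2 N) := inferInstance
    set T : Subgroup G := (P : Subgroup N).map N.subtype with hT
    have hfrat : Subgroup.normalizer (T : Set G) ⊔ N = ⊤ := Sylow.normalizer_sup_eq_top P
    have hcardT : Nat.card T = Nat.card (P : Subgroup N) :=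
      Subgroup.card_map_of_injective N.subtype_injective
    have h2T : 2 ∣ Nat.card T := by
      rw [hcardT]
      have := P.card_eq_multiplicity
      rw [this]
      apply dvd_pow_self
      intro h0
      have : ¬ 2 ∣ Nat.card N := by
        have hpos : Nat.card N ≠ 0 := Nat.card_pos.ne'
        exact (Nat.factorization_eq_zero_iff (Nat.card N) 2).1 h0 |>.resolve_left
          (fun h => h Nat.prime_two) |>.resolve_right hpos
      exact this h2N
    have hrNT : r ∣ Nat.card (Subgroup.normalizer (T : Set G)) :=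
      dvd_trans hrQ (card_quot_dvd_of_sup_eq_top N _ hfrat)
    have h2NT : 2 ∣ Nat.card (Subgroup.normalizer (T : Set G)) :=
      dvd_trans h2T (Subgroup.card_dvd_of_le Subgroup.le_normalizer)
    have hNTtop : Subgroup.normalizer (T : Set G) = ⊤ := htop r hr hr2 hrp _ h2NT hrNT
    haveI hTn : T.Normal := Subgroup.normalizer_eq_top_iff.1 hNTtop
    obtain ⟨x, hx⟩ := exists_prime_orderOf_dvd_card' (G := G) r hrG
    have hKtop : Subgroup.zpowers x ⊔ T = ⊤ := by
      apply htop r hr hr2 hrp
      · exact dvd_trans h2T (Subgroup.card_dvd_of_le le_sup_right)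
      · have : Nat.card (Subgroup.zpowers x) = r := by rw [Nat.card_zpowers, hx]
        rw [← this]
        exact Subgroup.card_dvd_of_le le_sup_left
    have hdvd := card_dvd_mul_of_sup_eq_top T (Subgroup.zpowers x) hKtop
    rw [Nat.card_zpowers, hx] at hdvd
    have hpd : p ∣ Nat.card T * r := dvd_trans hpG hdvd
    rcases (Nat.Prime.dvd_mul hp).1 hpd with h | h
    · -- p ∣ card T, a power of 2
      have hTp : IsPGroup 2 T := by
        have : IsPGroup 2 (P : Subgroup N) := P.isPGroup'
        exact this.map N.subtype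
      obtain ⟨k, hk⟩ := hTp.exists_card_eq
      rw [hk] at h
      have := (Nat.prime_dvd_prime_iff_eq hp Nat.prime_two).1 (hp.dvd_of_dvd_pow h)
      exact hp2 this
    · exact hrp ((Nat.prime_dvd_prime_iff_eq hp hr).1 h).symm
  · -- Case B : N has odd order; then N is a p-group
    have h2Q : 2 ∣ Nat.card (G ⧸ N) := by
      rw [hcardN] at h2G
      rcases (Nat.Prime.dvd_mul Nat.prime_two).1 h2G with h | h
      · exact h
      · exact absurd h h2N
    obtain ⟨s, hs⟩ := exists_prime_orderOf_dvd_card' (G := G) 2 h2G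
    have hNp : ∀ {l : ℕ}, l.Prime → l ∣ Nat.card N → l = p := by
      intro l hl hlN
      by_contra hlp
      have hl2 : l ≠ 2 := by
        intro h; rw [h] at hlN; exact h2N hlN
      haveI : Fact l.Prime := ⟨hl⟩
      obtain ⟨P⟩ : Nonempty (Sylow l N) := inferInstance
      set L : Subgroup G := (P : Subgroup N).map N.subtype with hL
      have hfrat : Subgroup.normalizer (L : Set G) ⊔ N = ⊤ := Sylow.normalizer_sup_eq_top P
      have hcardL : Nat.card L = Nat.card (P : Subgroup N) :=
        Subgroup.card_map_of_injective N.subtype_injective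
      have hLp : IsPGroup l L := by
        have : IsPGroup l (P : Subgroup N) := P.isPGroup'
        exact this.map N.subtype
      have hlL : l ∣ Nat.card L := by
        rw [hcardL]
        have := P.card_eq_multiplicity
        rw [this]
        apply dvd_pow_self
        intro h0
        have hpos : Nat.card N ≠ 0 := Nat.card_pos.ne'
        have : ¬ l ∣ Nat.card N :=
          (Nat.factorization_eq_zero_iff (Nat.card N) l).1 h0 |>.resolve_left
            (fun h => h hl) |>.resolve_right hpos
        exact this hlN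
      have h2NL : 2 ∣ Nat.card (Subgroup.normalizer (L : Set G)) :=
        dvd_trans h2Q (card_quot_dvd_of_sup_eq_top N _ hfrat)
      have hlNL : l ∣ Nat.card (Subgroup.normalizer (L : Set G)) :=
        dvd_trans hlL (Subgroup.card_dvd_of_le Subgroup.le_normalizer)
      have hNLtop : Subgroup.normalizer (L : Set G) = ⊤ := htop l hl hl2 hlp _ h2NL hlNL
      haveI hLn : L.Normal := Subgroup.normalizer_eq_top_iff.1 hNLtop
      have hKtop : Subgroup.zpowers s ⊔ L = ⊤ := by
        apply htop l hl hl2 hlp
        · have : Nat.card (Subgroup.zpowers s) = 2 := by rw [Nat.card_zpowers, hs]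
          rw [← this]
          exact Subgroup.card_dvd_of_le le_sup_left
        · exact dvd_trans hlL (Subgroup.card_dvd_of_le le_sup_right)
      have hdvd := card_dvd_mul_of_sup_eq_top L (Subgroup.zpowers s) hKtop
      rw [Nat.card_zpowers, hs] at hdvd
      have hpd : p ∣ Nat.card L * 2 := dvd_trans hpG hdvd
      rcases (Nat.Prime.dvd_mul hp).1 hpd with h | h
      · obtain ⟨k, hk⟩ := hLp.exists_card_eq
        rw [hk] at h
        exact hlp ((Nat.prime_dvd_prime_iff_eq hp hl).1 (hp.dvd_of_dvd_pow h)).symm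
      · exact hp2 ((Nat.prime_dvd_prime_iff_eq hp Nat.prime_two).1 h)
    have hNpg : IsPGroup p N := by
      have hpos : Nat.card N ≠ 0 := Nat.card_pos.ne'
      have := Nat.eq_prime_pow_of_unique_prime_dvd hpos (fun {d} hd hdN => hNp hd hdN)
      exact IsPGroup.of_card this
    have hrN : ¬ r ∣ Nat.card N := fun h => hrp (hNp hr h)
    have hrQ : r ∣ Nat.card (G ⧸ N) := by
      rw [hcardN] at hrG
      rcases (Nat.Prime.dvd_mul hr).1 hrG with h | h
      · exact h
      · exact absurd h hrN
    by_cases hpQ : p ∣ Nat.card (G ⧸ N)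
    · rcases hquot N hN hNbot hNpg hpQ r hr hrQ with h | h
      · exact hr2 h
      · exact hrp h
    · -- Schur-Zassenhaus
      have hcop : Nat.Coprime (Nat.card N) N.index := by
        obtain ⟨k, hk⟩ := hNpg.exists_card_eq
        rw [hk, Subgroup.index_eq_card]
        exact Nat.Coprime.pow_left k ((Nat.Prime.coprime_iff_not_dvd hp).2 hpQ)
      obtain ⟨K, hK⟩ := Subgroup.exists_right_complement'_of_coprime hcop
      have hcardK : Nat.card N * Nat.card K = Nat.card G := hK.card_mul
      have hKQ : Nat.card K = Nat.card (G ⧸ N) := by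
        have hpos : 0 < Nat.card N := Nat.card_pos
        have : Nat.card N * Nat.card K = Nat.card N * Nat.card (G ⧸ N) := by
          rw [hcardK, hcardN, mul_comm]
        exact Nat.eq_of_mul_eq_mul_left hpos this
      have hKtop : K = ⊤ := htop r hr hr2 hrp K (hKQ ▸ h2Q) (hKQ ▸ hrQ)
      rw [hKtop, Subgroup.isComplement'_top_right] at hK
      exact hNbot hK

end Cfsg.Agent.Helper10.Mix
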