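import Mathlib
import Cfsg.Agent.Lib.Helper10.MixDefs
import Cfsg.Agent.Lib.Helper10.MixUtil
import Cfsg.Agent.Lib.Helper21.MixORB
import Cfsg.Agent.S0071

set_option autoImplicit false
set_option linter.unusedSectionVars false
set_option linter.style.haveILetI false

namespace Cfsg.Agent.Helper10.Mix

variable {G : Type*} [Group G] [Finite G] {p a : ℕ}

/-- `G` is not a 2-group: a Sylow 2-subgroup is proper. -/
theorem Cfg.sylow2_ne_top (c : Cfg G p a) (Q : Sylow 2 G) : (Q : Subgroup G) ≠ ⊤ := by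
  haveI : Fact (Nat.Prime 2) := ⟨Nat.prime_two⟩
  intro h
  haveI := c.simple
  have hG : IsPGroup 2 G := by
    have : IsPGroup 2 (⊤ : Subgroup G) := h ▸ Q.isPGroup'
    exact this.of_equiv Subgroup.topEquiv
  have hnt := hG.center_nontrivial
  rw [c.center_eq_bot] at hnt
  exact not_nontrivial _ hnt

theorem Cfg.sylow2_ne_bot (c : Cfg G p a) (Q : Sylow 2 G) : (Q : Subgroup G) ≠ ⊥ := by
  intro h
  have h1 : Nat.card Q = 2 ^ a := c.card_sylow2 Q
  have h2 : Nat.card (Q : Subgroup G) = 1 := by rw [h]; exact Subgroup.card_bot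
  have h3 : Nat.card Q = Nat.card (Q : Subgroup G) := rfl
  have : 2 ^ a = 1 := by rw [← h1, h3, h2]
  have ha := c.ha
  have : 2 ^ 2 ≤ 2 ^ a := Nat.pow_le_pow_right (by norm_num) ha
  omega

theorem Cfg.exists_singer (c : Cfg G p a) (Q : Sylow 2 G) :
    ∃ x ∈ Subgroup.normalizer ((Q : Subgroup G) : Set G), IsPElt p x ∧
      ∀ s ∈ Q, s ≠ 1 → ∀ s' ∈ Q, s' ≠ 1 → ∃ i : ℕ, x ^ i * s * (x ^ i)⁻¹ = s' := by
  haveI : Fact (Nat.Prime 2) := ⟨Nat.prime_two⟩
  haveI := c.simple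
  have hno : ¬ ∃ N : Subgroup G, N.Normal ∧ N.IsComplement' (Q : Subgroup G) := by
    rintro ⟨N, hN, hc⟩
    rcases hN.eq_bot_or_eq_top with h | h
    · rw [h, Subgroup.isComplement'_bot_left] at hc
      exact c.sylow2_ne_top Q hc
    · rw [h, Subgroup.isComplement'_top_left] at hc
      exact c.sylow2_ne_bot Q hc
  have hS := (Cfsg.Agent.S0071.result Q).2
  have hex : ¬ ∀ Q0 : Subgroup G, Q0 ≤ (Q : Subgroup G) →
      ∀ g ∈ Subgroup.normalizer (Q0 : Set G), Nat.Coprime (orderOf g) 2 →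
        g ∈ Subgroup.centralizer (Q0 : Set G) := fun h => hno (hS h)
  push_neg at hex
  obtain ⟨Q0, hQ0, g, hgN, hcop, hgC⟩ := hex
  have hQ0bot : Q0 ≠ ⊥ := by
    intro h
    apply hgC
    rw [h, Subgroup.mem_centralizer_iff]
    intro x hx
    have : x = 1 := by simpa using hx
    rw [this, one_mul, mul_one]
  have hQ0top : Q0 ≠ ⊤ := by
    intro h
    apply c.sylow2_ne_top Q
    rw [h] at hQ0
    exact top_le_iff.1 hQ0
  have hNtop : Subgroup.normalizer (Q0 : Set G) ≠ ⊤ := c.normalizer_ne_top hQ0bot hQ0top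
  have hQ0p : IsPGroup 2 Q0 := Q.isPGroup'.to_le hQ0
  obtain ⟨j, hj⟩ := hQ0p.exists_card_eq
  have hj0 : j ≠ 0 := by
    intro h
    rw [h, pow_zero] at hj
    exact hQ0bot (Subgroup.card_eq_one.1 hj)
  have h2N : 2 ∣ Nat.card (Subgroup.normalizer (Q0 : Set G)) := by
    have h1 : Nat.card Q0 ∣ Nat.card (Subgroup.normalizer (Q0 : Set G)) :=
      Subgroup.card_dvd_of_le Subgroup.le_normalizer
    rw [hj] at h1
    exact dvd_trans (dvd_pow_self 2 hj0) h1
  obtain ⟨i, k, hik⟩ := c.orderOf_of_mem hNtop h2N hgN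
  have hi0 : i = 0 := by
    by_contra hi
    have : 2 ∣ orderOf g := by
      rw [hik]; exact dvd_mul_of_dvd_left (dvd_pow_self 2 hi) _
    have h2 : 2 ∣ Nat.gcd (orderOf g) 2 := Nat.dvd_gcd this dvd_rfl
    rw [hcop] at h2
    omega
  have hgp : IsPElt p g := ⟨k, by rw [hik, hi0, pow_zero, one_mul]⟩
  have hja : j ≤ a := by
    have h1 : Nat.card Q0 ∣ Nat.card (Q : Subgroup G) := Subgroup.card_dvd_of_le hQ0
    have h2 : Nat.card (Q : Subgroup G) = 2 ^ a := c.card_sylow2 Q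
    rw [hj, h2] at h1
    exact (Nat.pow_dvd_pow_iff_le_right (by norm_num)).1 h1
  obtain ⟨hjeq, htrans⟩ := orbit_aux c.hp c.hpa Q0 hj hja hgp hgN hgC
  have hQ0Q : Q0 = (Q : Subgroup G) := by
    apply Subgroup.eq_of_le_of_card_ge hQ0
    have h2 : Nat.card (Q : Subgroup G) = 2 ^ a := c.card_sylow2 Q
    rw [hj, h2, hjeq]
  subst hjeq
  refine ⟨g, ?_, hgp, ?_⟩
  · rw [← hQ0Q]; exact hgN
  · intro s hs hs1 s' hs' hs'1
    have hs0 : s ∈ Q0 := by rw [hQ0Q]; exact hs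
    have hs0' : s' ∈ Q0 := by rw [hQ0Q]; exact hs'
    exact htrans s hs0 hs1 s' hs0' hs'1

theorem Cfg.exp2 (c : Cfg G p a) (Q : Sylow 2 G) : ∀ s ∈ Q, s * s = 1 := by
  haveI : Fact (Nat.Prime 2) := ⟨Nat.prime_two⟩
  obtain ⟨x, -, -, htrans⟩ := c.exists_singer Q
  have h2 : 2 ∣ Nat.card (Q : Subgroup G) := by
    have : Nat.card (Q : Subgroup G) = 2 ^ a := c.card_sylow2 Q
    rw [this]
    exact dvd_pow_self 2 (by have := c.ha; omega)
  obtain ⟨t0, ht0⟩ := exists_prime_orderOf_dvd_card' (G := (Q : Subgroup G)) 2 h2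
  have ht0' : orderOf (t0 : G) = 2 := (Subgroup.orderOf_coe t0).trans ht0
  have ht01 : (t0 : G) ≠ 1 := by
    intro h
    rw [h, orderOf_one] at ht0'
    omega
  intro s hs
  by_cases hs1 : s = 1
  · rw [hs1, one_mul]
  · obtain ⟨i, hi⟩ := htrans (t0 : G) t0.2 ht01 s hs hs1
    have ho : orderOf s = 2 := by
      rw [← hi]
      have : orderOf (x ^ i * (t0 : G) * (x ^ i)⁻¹) = orderOf (t0 : G) := by
        have e : x ^ i * (t0 : G) * (x ^ i)⁻¹ = (MulAut.conj (x ^ i)) (t0 : G) := rfl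
        rw [e, MulEquiv.orderOf_eq]
      rw [this, ht0']
    have := pow_orderOf_eq_one s
    rw [ho, pow_two] at this
    exact this

theorem Cfg.fix_cent (c : Cfg G p a) (Q : Sylow 2 G) :
    ∀ h ∈ Subgroup.normalizer ((Q : Subgroup G) : Set G), IsPElt p h →
      ∀ t ∈ Q, t ≠ 1 → Commute h t → h ∈ Subgroup.centralizer ((Q : Subgroup G) : Set G) := by
  intro h hhN hhp t ht ht1 hht
  by_contra hC
  have hcard : Nat.card (Q : Subgroup G) = 2 ^ a := c.card_sylow2 Q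
  obtain ⟨-, htrans⟩ := orbit_aux c.hp c.hpa (Q : Subgroup G) hcard le_rfl hhp hhN hC
  -- an element of Q other than 1, t
  classical
  obtain ⟨s', hs'Q, hs'⟩ : ∃ s' ∈ Q, s' ∉ ({1, t} : Finset G) := by
    by_contra hcon
    push_neg at hcon
    have hsub : ((Q : Subgroup G) : Set G) ⊆ (({1, t} : Finset G) : Set G) := by
      intro x hx
      exact Finset.mem_coe.2 (hcon x hx)
    have h1 : Nat.card (Q : Subgroup G) ≤ Nat.card (({1, t} : Finset G) : Set G) :=
      Nat.card_mono (Finset.finite_toSet _) hsub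
    rw [Nat.card_coe_set_eq (({1, t} : Finset G) : Set G), Set.ncard_coe_finset] at h1
    have h2 : ({1, t} : Finset G).card ≤ 2 := Finset.card_le_two
    have h4 : 2 ^ 2 ≤ 2 ^ a := Nat.pow_le_pow_right (by norm_num) c.ha
    omega
  simp only [Finset.mem_insert, Finset.mem_singleton, not_or] at hs'
  obtain ⟨i, hi⟩ := htrans t ht ht1 s' hs'Q hs'.1
  apply hs'.2
  rw [← hi]
  have : Commute (h ^ i) t := hht.pow_left i
  calc h ^ i * t * (h ^ i)⁻¹ = t * h ^ i * (h ^ i)⁻¹ := by rw [this.eq]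
    _ = t := by group

end Cfsg.Agent.Helper10.Mix
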