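import Mathlib
import Cfsg.Agent.Lib.Helper10.MixDefs
import Cfsg.Agent.Lib.Helper10.MixUtil
import Cfsg.Agent.Lib.Helper10.MixSing
import Cfsg.Agent.Lib.Helper10.MixGood3
import Cfsg.Agent.Lib.Helper10.MixSimple
import Cfsg.Agent.Lib.Helper2.MixEIG
import Cfsg.Agent.Lib.Helper2.MixUSYL
import Cfsg.Agent.Lib.Helper2.MixV5
import Cfsg.Agent.Lib.Helper7.MixNC
import Cfsg.Agent.Lib.Helper7.MixC1
import Cfsg.Agent.Lib.Helper16.MixV12
import Cfsg.Agent.Lib.Helper16.MixV4
import Cfsg.Agent.Lib.Helper21.MixV3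
import Cfsg.Agent.Lib.Helper19.MixW1
import Cfsg.Agent.Lib.Helper19.MixW2
import Cfsg.Agent.Lib.Helper19.MixW3
import Cfsg.Agent.Lib.Helper23.MixRED

/-!
S4017, assembly of the pieces (see plans/S4017_Skel.lean.txt).
-/

set_option autoImplicit false

namespace Cfsg.Agent.Helper10.Mix

universe u

section trunk

variable {G : Type*} [Group G] [Finite G] {p a : ℕ}

theorem Cfg.base (c : Cfg G p a) (Q : Sylow 2 G) : Base G p a Q := by
  have hexp := c.exp2 Q
  have hfix := c.fix_cent Q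
  obtain ⟨x, hxN, hx, hxt⟩ := c.exists_singer Q
  refine ⟨hexp, ?_, hfix, ?_, ?_⟩
  · intro s hs hs1 s' hs' hs'1
    obtain ⟨i, hi⟩ := hxt s hs hs1 s' hs' hs'1
    exact ⟨x ^ i, Subgroup.pow_mem _ hxN i, hx.pow c.hp i, hi⟩
  · intro t ht ht1
    exact (c.pc_split Q hexp hfix ht ht1).1
  · intro t ht ht1
    exact (c.pc_split Q hexp hfix ht ht1).2

theorem good_of_three_le (c : Cfg G p a) (B : ∀ Q : Sylow 2 G, Base G p a Q) (h3 : 3 ≤ a) :
    Good G p :=
  good_of_three_le_aux c B h3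
    (fun {_} BQ {_} ht ht1 {_} hy hyt hyQ => exists_eig c BQ ht ht1 hy hyt hyQ)
    (fun {_} hexp {_} hb1 hb hE => eig_sylow c hexp hb1 hb hE)

theorem cfg_false (c : Cfg G p a) : False := by
  have B : ∀ Q : Sylow 2 G, Base G p a Q := fun Q => c.base Q
  by_cases hG : Good G p
  · exact count_false c B (no_pelt_commute c B hG)
  · rcases Nat.lt_or_ge a 3 with h | h
    · have ha2 : a = 2 := le_antisymm (by omega) c.ha
      subst ha2
      exact friendship_false c (fun Q => (B Q).exp2)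
        (unique_involution c B (bad_two_structure c B hG))
    · exact hG (good_of_three_le c B h)

end trunk

theorem main {G : Type u} [Group G] [Finite G]
    {p q : ℕ} (hp : p.Prime) (hq : q.Prime) (hpq : p ≠ q) (hp2 : p ≠ 2)
    (hpG : p ∣ Nat.card G) (hqG : q ∣ Nat.card G)
    (hmix : ∀ H : Subgroup G, H ≠ ⊤ → ¬ IsPGroup q H → q ∣ Nat.card H → p ∣ Nat.card H)
    (hlarge : q ^ (Nat.card G).factorization q - 1 < p ∨
      (p = q ^ (Nat.card G).factorization q - 1 ∧ ∀ P : Sylow p G, IsMulCommutative P)) :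
    ∀ r : ℕ, r.Prime → r ∣ Nat.card G → r = p ∨ r = q :=
  reduce (fun K _ _ p q hp hq hpq hpG hqG hmix hl => case1 hp hq hpq hpG hqG hmix hl)
    (fun K _ _ p a r hp hp2 ha hpa hpG hc he hr hrG hr2 hrp hquot =>
      simple_of_min hp hp2 ha hpa hpG hc he hr hrG hr2 hrp hquot)
    (fun K _ _ p a c => cfg_false c) hp hq hpq hp2 hpG hqG hmix hlarge

end Cfsg.Agent.Helper10.Mix
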