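import Mathlib

set_option autoImplicit false

namespace Cfsg.Agent.Helper10

/-- nilpotent endomorphism with `T^n v ∉ C` for an invariant subspace `C`: the quotient has dimension
at least `n + 1`. -/
theorem le_finrank_quotient_of_pow_notMem {F V : Type*} [Field F] [AddCommGroup V] [Module F V]
    [FiniteDimensional F V] (T : Module.End F V) (n : ℕ) (hT : T ^ (n + 1) = 0) (C : Submodule F V)
    (hC : C ≤ C.comap T) (v : V) (hv : (T ^ n) v ∉ C) : n + 1 ≤ Module.finrank F (V ⧸ C) := by
  set Tb : Module.End F (V ⧸ C) := C.mapQ C T hC with hTb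
  have hpow : ∀ k : ℕ, Tb ^ k = C.mapQ C (T ^ k) (C.le_comap_pow_of_le_comap hC k) := fun k =>
    (Submodule.mapQ_pow (p := C) hC k).symm
  have hnil : IsNilpotent Tb := by
    refine ⟨n + 1, ?_⟩
    rw [hpow]
    ext w
    simp [hT]
  have hchar := hnil.charpoly_eq_X_pow_finrank
  have hzero : Tb ^ Module.finrank F (V ⧸ C) = 0 := by
    have h := LinearMap.aeval_self_charpoly Tb
    rw [hchar] at h
    simpa using h
  by_contra hlt
  push Not at hlt
  have hle : Module.finrank F (V ⧸ C) ≤ n := by omega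
  have h0 : Tb ^ n = 0 := by
    obtain ⟨k, hk⟩ := Nat.exists_eq_add_of_le hle
    rw [hk, pow_add, hzero, zero_mul]
  have h1 : (Tb ^ n) (Submodule.Quotient.mk v) = Submodule.Quotient.mk ((T ^ n) v) := by
    rw [hpow]; rfl
  rw [h0] at h1
  have h2 : (Submodule.Quotient.mk ((T ^ n) v) : V ⧸ C) = 0 := by
    rw [← h1]; rfl
  exact hv ((Submodule.Quotient.mk_eq_zero C).mp h2)

end Cfsg.Agent.Helper10
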