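import Mathlib
import Cfsg.Agent.Lib.Helper10.NilpQuot

set_option autoImplicit false

namespace Cfsg.Agent.Helper10

open Polynomial in
theorem sub_one_pow_pred_eq_geom (p : ℕ) [Fact p.Prime] :
    ((X : (ZMod p)[X]) - 1) ^ (p - 1) = ∑ i ∈ Finset.range p, (X : (ZMod p)[X]) ^ i := by
  have hp : p - 1 + 1 = p := Nat.succ_pred_eq_of_pos (Fact.out : p.Prime).pos
  have h1 : ((X : (ZMod p)[X]) - 1) ^ p = X ^ p - 1 := by
    rw [sub_pow_char, one_pow]
  have h2 : ((X : (ZMod p)[X]) - 1) * ∑ i ∈ Finset.range p, (X : (ZMod p)[X]) ^ i = X ^ p - 1 :=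
    mul_geom_sum _ _
  have h3 : ((X : (ZMod p)[X]) - 1) * ((X : (ZMod p)[X]) - 1) ^ (p - 1) = X ^ p - 1 := by
    rw [← pow_succ', hp, h1]
  have hne : (X : (ZMod p)[X]) - 1 ≠ 0 := X_sub_C_ne_zero (1 : ZMod p)
  exact mul_left_cancel₀ hne (h3.trans h2.symm)

theorem index_ge_of_norm_notMem {M : Type*} [CommGroup M] [Finite M] {p : ℕ} [Fact p.Prime]
    (hexp : ∀ a : M, a ^ p = 1) (σ : M →* M) (hσ : ∀ a, σ^[p] a = a) (C : Subgroup M)
    (hC : ∀ a ∈ C, σ a ∈ C) (x : M) (hx : ∏ i ∈ Finset.range p, σ^[i] x ∉ C) : p ^ p ≤ C.index := by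
  classical
  have hp : p - 1 + 1 = p := Nat.succ_pred_eq_of_pos (Fact.out : p.Prime).pos
  have h0 : ∀ a : Additive M, p • a = 0 := fun a => by
    have := hexp a.toMul
    rw [← toMul_nsmul] at this
    exact this
  obtain ⟨inst⟩ : Nonempty (Module (ZMod p) (Additive M)) := ⟨AddCommGroup.zmodModule h0⟩
  obtain ⟨s, hs_apply⟩ : ∃ s : Additive M →ₗ[ZMod p] Additive M,
      ∀ v : Additive M, s v = Additive.ofMul (σ v.toMul) :=
    ⟨(MonoidHom.toAdditive σ).toZModLinearMap p, fun v => rfl⟩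
  have hs_iter : ∀ (k : ℕ) (v : Additive M), (s ^ k) v = Additive.ofMul (σ^[k] v.toMul) := by
    intro k
    induction k with
    | zero => intro v; simp
    | succ k ih =>
      intro v
      rw [pow_succ', Module.End.mul_apply, ih, hs_apply, Function.iterate_succ_apply']
      rfl
  have hsp : s ^ p = 1 := by
    ext v
    rw [hs_iter, hσ]
    rfl
  obtain ⟨T, hT⟩ : ∃ T : Additive M →ₗ[ZMod p] Additive M, T = s - 1 := ⟨_, rfl⟩
  have haeval1 : ∀ k : ℕ, Polynomial.aeval s (((Polynomial.X : Polynomial (ZMod p)) - 1) ^ k) = T ^ k := by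
    intro k
    simp [hT]
  have hTp : T ^ (p - 1 + 1) = 0 := by
    rw [hp, ← haeval1, sub_pow_char, one_pow]
    simp [hsp]
  have hTnorm : T ^ (p - 1) = ∑ i ∈ Finset.range p, s ^ i := by
    rw [← haeval1, sub_one_pow_pred_eq_geom]
    simp
  obtain ⟨C', hmem, h3⟩ : ∃ C' : Submodule (ZMod p) (Additive M),
      (∀ v : Additive M, v ∈ C' ↔ v.toMul ∈ C) ∧ Nat.card C' = Nat.card C :=
    ⟨AddSubgroup.toZModSubmodule p (Subgroup.toAddSubgroup C), fun v => Iff.rfl, rfl⟩
  have hC'T : C' ≤ C'.comap T := by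
    intro v hv
    rw [Submodule.mem_comap, hT, LinearMap.sub_apply]
    refine C'.sub_mem ?_ hv
    rw [hmem, hs_apply]
    exact hC _ ((hmem v).mp hv)
  have hv : (T ^ (p - 1)) (Additive.ofMul x) ∉ C' := by
    rw [hTnorm, LinearMap.sum_apply, hmem]
    have : (∑ i ∈ Finset.range p, (s ^ i) (Additive.ofMul x)).toMul = ∏ i ∈ Finset.range p, σ^[i] x := by
      rw [toMul_sum]
      refine Finset.prod_congr rfl fun i _ => ?_
      rw [hs_iter]
      rfl
    rw [this]
    exact hx
  have hfin := le_finrank_quotient_of_pow_notMem T (p - 1) hTp C' hC'T (Additive.ofMul x) hv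
  rw [hp] at hfin
  have hcardQ : Nat.card (Additive M ⧸ C') = p ^ Module.finrank (ZMod p) (Additive M ⧸ C') := by
    rw [Module.natCard_eq_pow_finrank (K := ZMod p), Nat.card_zmod]
  have h1 : Nat.card (Additive M) = Nat.card C' * Nat.card (Additive M ⧸ C') :=
    Submodule.card_eq_card_quotient_mul_card C'
  have h2 : Nat.card C * C.index = Nat.card M := C.card_mul_index
  have h4 : Nat.card (Additive M) = Nat.card M := rfl
  have hCpos : 0 < Nat.card C := Nat.card_pos
  have h5 : C.index = Nat.card (Additive M ⧸ C') := by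
    rw [h4, ← h2, h3] at h1
    exact Nat.eq_of_mul_eq_mul_left hCpos h1
  rw [h5, hcardQ]
  exact Nat.pow_le_pow_right (Fact.out : p.Prime).pos hfin

/-- in a finite elementary abelian `p`-group a nontrivial element lies outside some subgroup of index `p` -/
theorem exists_index_p_notMem {M : Type*} [CommGroup M] [Finite M] {p : ℕ} [Fact p.Prime]
    (hexp : ∀ a : M, a ^ p = 1) (n : M) (hn : n ≠ 1) : ∃ H : Subgroup M, H.index = p ∧ n ∉ H := by
  classical
  have h0 : ∀ a : Additive M, p • a = 0 := fun a => by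
    have := hexp a.toMul
    rw [← toMul_nsmul] at this
    exact this
  obtain ⟨inst⟩ : Nonempty (Module (ZMod p) (Additive M)) := ⟨AddCommGroup.zmodModule h0⟩
  have hne : Additive.ofMul n ≠ 0 := fun h => hn (by simpa using congrArg Additive.toMul h)
  obtain ⟨φ, hφ⟩ : ∃ φ : Module.Dual (ZMod p) (Additive M), φ (Additive.ofMul n) ≠ 0 := by
    by_contra hcon
    push Not at hcon
    exact hne ((Module.forall_dual_apply_eq_zero_iff (ZMod p) _).mp hcon)
  let ψ : M →* Multiplicative (ZMod p) := AddMonoidHom.toMultiplicativeRight φ.toAddMonoidHom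
  have hψ : ∀ a : M, ψ a = Multiplicative.ofAdd (φ (Additive.ofMul a)) := fun a => rfl
  refine ⟨ψ.ker, ?_, ?_⟩
  · rw [Subgroup.index_ker]
    have hdvd : Nat.card ψ.range ∣ Nat.card (Multiplicative (ZMod p)) := Subgroup.card_subgroup_dvd_card _
    have hcard : Nat.card (Multiplicative (ZMod p)) = p := by
      rw [Nat.card_eq_fintype_card, Fintype.card_multiplicative, ZMod.card]
    rw [hcard] at hdvd
    rcases (Nat.dvd_prime (Fact.out : p.Prime)).mp hdvd with h1 | h1
    · exfalso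
      have hbot : ψ.range = ⊥ := Subgroup.card_eq_one.mp h1
      have hmem : ψ n ∈ ψ.range := ⟨n, rfl⟩
      rw [hbot, Subgroup.mem_bot, hψ] at hmem
      exact hφ (by simpa using congrArg Multiplicative.toAdd hmem)
    · exact h1
  · intro hmem
    rw [MonoidHom.mem_ker, hψ] at hmem
    exact hφ (by simpa using congrArg Multiplicative.toAdd hmem)

end Cfsg.Agent.Helper10
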