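import Mathlib
import Cfsg.Agent.Lib.Helper14.CosetNorm

set_option autoImplicit false

namespace Cfsg.Agent.Helper10

open Cfsg

section abstractSplit

variable {Γ M : Type*} [Group Γ] [Finite Γ] [CommGroup M] [Finite M] [MulDistribMulAction Γ M]

/-- a `Γ`-fixed element of a `p`-group `M` whose norm over a subgroup of index prime to `p` is
trivial is itself trivial -/
theorem eq_one_of_cosetNorm_eq_one {p : ℕ} [Fact p.Prime] (hM : IsPGroup p M) (T : Subgroup Γ)
    (hT : (T.index).Coprime p) (c : M) (hc : ∀ g : Γ, g • c = c)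
    (h1 : Helper14.cosetNorm (⊤ : Subgroup Γ) T c = 1) : c = 1 := by
  rw [Helper14.cosetNorm_of_fixed (fun a _ => hc a), Subgroup.relIndex_top_right] at h1
  obtain ⟨k, hk⟩ := hM c
  exact Helper14.eq_one_of_pow_eq_one_of_coprime h1 hk (Nat.Coprime.pow_right k hT)

/-- every `T`-fixed element of `M` is the product of a `Γ`-fixed element and a `T`-fixed element of
trivial norm, when `T` has index prime to `p` and `M` is a `p`-group -/
theorem exists_fixed_mul_cosetNorm_eq_one {p : ℕ} [Fact p.Prime] (hM : IsPGroup p M) (T : Subgroup Γ)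
    (hT : (T.index).Coprime p) (u : M) (hu : ∀ t ∈ T, t • u = u) :
    ∃ c k : M, (∀ g : Γ, g • c = c) ∧ (∀ t ∈ T, t • k = k) ∧
      Helper14.cosetNorm (⊤ : Subgroup Γ) T k = 1 ∧ u = c * k := by
  obtain ⟨e, he⟩ := IsPGroup.iff_card.mp hM
  have hcop : (Nat.card M).Coprime T.index := by
    rw [he]
    exact Nat.Coprime.pow_left e hT.symm
  have hbij := Nat.Coprime.pow_left_bijective (G := M) hcop
  obtain ⟨c, hc⟩ := hbij.2 (Helper14.cosetNorm (⊤ : Subgroup Γ) T u)
  simp only at hc
  have hfix : ∀ g : Γ, g • Helper14.cosetNorm (⊤ : Subgroup Γ) T u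
      = Helper14.cosetNorm (⊤ : Subgroup Γ) T u :=
    fun g => Helper14.smul_cosetNorm hu (Subgroup.mem_top g)
  have hcfix : ∀ g : Γ, g • c = c := by
    intro g
    apply hbij.1
    simp only
    rw [← smul_pow', hc, hfix g]
  have hnc : Helper14.cosetNorm (⊤ : Subgroup Γ) T c = c ^ T.index := by
    rw [Helper14.cosetNorm_of_fixed (fun a _ => hcfix a), Subgroup.relIndex_top_right]
  refine ⟨c, c⁻¹ * u, hcfix, ?_, ?_, by group⟩
  · intro t ht
    rw [smul_mul', smul_inv', hcfix t, hu t ht]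
  · have h2 : Helper14.cosetNorm (⊤ : Subgroup Γ) T (c * (c⁻¹ * u))
        = Helper14.cosetNorm (⊤ : Subgroup Γ) T u := by
      congr 1
      group
    rw [Helper14.cosetNorm_mul, hnc, hc] at h2
    exact mul_eq_left.mp h2

end abstractSplit

section concreteSplit

variable {Γ : Type*} [Group Γ] [Finite Γ]

/-- For an abelian normal `p`-subgroup `V` and a Sylow `p`-subgroup `T`, the central part
`V ∩ Z(Γ)` is a direct factor of `C_V(T)` (elementwise form). -/
theorem exists_compl_inf_center' {p : ℕ} [Fact p.Prime] (T : Sylow p Γ) (V : Subgroup Γ)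
    [hVn : V.Normal] (hVc : ∀ a ∈ V, ∀ b ∈ V, a * b = b * a) (hVp : IsPGroup p V) :
    ∃ K : Subgroup Γ, K ≤ V ⊓ Subgroup.centralizer ((T : Subgroup Γ) : Set Γ) ∧
      (V ⊓ Subgroup.center Γ) ⊓ K = ⊥ ∧
      ∀ x ∈ V ⊓ Subgroup.centralizer ((T : Subgroup Γ) : Set Γ),
        ∃ c ∈ V ⊓ Subgroup.center Γ, ∃ k ∈ K, x = c * k := by
  letI : CommGroup ↥V :=
    { (inferInstance : Group ↥V) with mul_comm := fun a b => Subtype.ext (hVc a a.2 b b.2) }
  letI : MulDistribMulAction Γ ↥V :=
    MulDistribMulAction.compHom ↥V (MulAut.conjNormal : Γ →* MulAut ↥V)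
  have hsmul : ∀ (g : Γ) (u : ↥V), ((g • u : ↥V) : Γ) = g * u * g⁻¹ :=
    fun g u => MulAut.conjNormal_apply g u
  have hTidx : ((T : Subgroup Γ).index).Coprime p :=
    ((Nat.Prime.coprime_iff_not_dvd Fact.out).mpr T.not_dvd_index).symm
  -- the norm map as a homomorphism
  let φ : ↥V →* ↥V := MonoidHom.mk' (Helper14.cosetNorm (⊤ : Subgroup Γ) (T : Subgroup Γ))
    (Helper14.cosetNorm_mul _ _)
  have hfixT : ∀ u : ↥V, (∀ t ∈ (T : Subgroup Γ), t • u = u) ↔
      (u : Γ) ∈ Subgroup.centralizer ((T : Subgroup Γ) : Set Γ) := by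
    intro u
    constructor
    · intro h t ht
      have := congrArg (Subtype.val) (h t ht)
      rw [hsmul] at this
      calc t * (u : Γ) = t * u * t⁻¹ * t := by group
        _ = u * t := by rw [this]
    · intro h t ht
      apply Subtype.ext
      rw [hsmul, h t ht]
      group
  have hfixG : ∀ u : ↥V, (∀ g : Γ, g • u = u) ↔ (u : Γ) ∈ Subgroup.center Γ := by
    intro u
    constructor
    · intro h
      rw [Subgroup.mem_center_iff]
      intro g
      have := congrArg (Subtype.val) (h g)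
      rw [hsmul] at this
      calc g * (u : Γ) = g * u * g⁻¹ * g := by group
        _ = u * g := by rw [this]
    · intro h g
      apply Subtype.ext
      rw [hsmul, Subgroup.mem_center_iff.mp h g]
      group
  refine ⟨(φ.ker.map V.subtype) ⊓ Subgroup.centralizer ((T : Subgroup Γ) : Set Γ), ?_, ?_, ?_⟩
  · refine le_inf (inf_le_left.trans ?_) inf_le_right
    exact Subgroup.map_subtype_le _
  · rw [eq_bot_iff]
    rintro x ⟨⟨hxV, hxc⟩, ⟨hxk, -⟩⟩
    obtain ⟨u, hu, rfl⟩ := hxk
    have h1 : Helper14.cosetNorm (⊤ : Subgroup Γ) (T : Subgroup Γ) u = 1 := hu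
    have hu1 := eq_one_of_cosetNorm_eq_one hVp (T : Subgroup Γ) hTidx u ((hfixG u).mpr hxc) h1
    rw [hu1]
    simp
  · rintro x ⟨hxV, hxT⟩
    obtain ⟨c, k, hc, hk, hnk, huck⟩ := exists_fixed_mul_cosetNorm_eq_one hVp (T : Subgroup Γ)
      hTidx (⟨x, hxV⟩ : ↥V) ((hfixT ⟨x, hxV⟩).mpr hxT)
    have hx : x = (c : Γ) * (k : Γ) := by
      have := congrArg Subtype.val huck
      simpa using this
    refine ⟨c, ⟨c.2, (hfixG c).mp hc⟩, k, ⟨⟨k, ?_, rfl⟩, (hfixT k).mp hk⟩, hx⟩
    exact hnk

/-- For an abelian normal `p`-subgroup `V` and a Sylow `p`-subgroup `T`, the central part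
`V ∩ Z(Γ)` is a direct factor of `C_V(T)`. -/
theorem exists_compl_inf_center {p : ℕ} [Fact p.Prime] (T : Sylow p Γ) (V : Subgroup Γ)
    [hVn : V.Normal] (hVc : ∀ a ∈ V, ∀ b ∈ V, a * b = b * a) (hVp : IsPGroup p V) :
    ∃ K : Subgroup Γ, K ≤ V ⊓ Subgroup.centralizer ((T : Subgroup Γ) : Set Γ) ∧
      (V ⊓ Subgroup.center Γ) ⊓ K = ⊥ ∧
      (V ⊓ Subgroup.center Γ) ⊔ K = V ⊓ Subgroup.centralizer ((T : Subgroup Γ) : Set Γ) := by
  obtain ⟨K, hK1, hK2, hK3⟩ := exists_compl_inf_center' T V hVc hVp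
  refine ⟨K, hK1, hK2, le_antisymm ?_ ?_⟩
  · exact sup_le (inf_le_inf_left _ (Subgroup.center_le_centralizer _)) hK1
  · intro x hx
    obtain ⟨c, hc, k, hk, rfl⟩ := hK3 x hx
    exact Subgroup.mul_mem_sup hc hk

end concreteSplit

section cocycle

variable {Γ M : Type*} [Group Γ] [Finite Γ] [CommGroup M] [Finite M] [MulDistribMulAction Γ M]

/-- restriction to a subgroup of index prime to `p` is injective on first cohomology with values
in a `p`-group: a crossed homomorphism trivial on `T` is principal -/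
theorem exists_coboundary_of_trivial_on_sylow {p : ℕ} [Fact p.Prime] (hM : IsPGroup p M)
    (T : Subgroup Γ) (hT : (T.index).Coprime p) (v : Γ → M)
    (hv : ∀ g h : Γ, v (g * h) = v g * g • v h) (hvT : ∀ t ∈ T, v t = 1) :
    ∃ a : M, ∀ g : Γ, v g = a * (g • a)⁻¹ := by
  classical
  letI := Fintype.ofFinite (Γ ⧸ T)
  have hcoset : ∀ x y : Γ, x⁻¹ * y ∈ T → v y = v x := by
    intro x y hxy
    have : y = x * (x⁻¹ * y) := by group
    rw [this, hv, hvT _ hxy, smul_one, mul_one]
  set b : M := ∏ q : Γ ⧸ T, v (Quotient.out q) with hb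
  have hkey : ∀ h : Γ, b = (v h) ^ T.index * h • b := by
    intro h
    have h1 : ∏ q : Γ ⧸ T, v (h * Quotient.out q) = (v h) ^ T.index * h • b := by
      have : ∀ q : Γ ⧸ T, v (h * Quotient.out q) = v h * h • v (Quotient.out q) := fun q => hv _ _
      rw [Finset.prod_congr rfl (fun q _ => this q), Finset.prod_mul_distrib, Finset.prod_const,
        Finset.card_univ, hb, Finset.smul_prod']
      congr 2
      rw [← Nat.card_eq_fintype_card]
      rfl
    have h2 : ∏ q : Γ ⧸ T, v (h * Quotient.out q) = ∏ q : Γ ⧸ T, v (Quotient.out (h • q)) := by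
      apply Finset.prod_congr rfl
      intro q _
      symm
      apply hcoset
      have hq : h • q = QuotientGroup.mk (h * Quotient.out q) := by
        conv_lhs => rw [← QuotientGroup.out_eq' q]
        rfl
      have h3 : (QuotientGroup.mk (h * Quotient.out q) : Γ ⧸ T)
          = QuotientGroup.mk (Quotient.out (h • q)) := by
        rw [← hq]; exact (QuotientGroup.out_eq' _).symm
      exact QuotientGroup.eq.mp h3
    have h4 : ∏ q : Γ ⧸ T, v (Quotient.out (h • q)) = b :=
      Equiv.prod_comp (MulAction.toPerm h) (fun q : Γ ⧸ T => v (Quotient.out q))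
    rw [← h1, h2, h4]
  obtain ⟨e, he⟩ := IsPGroup.iff_card.mp hM
  have hcop : (Nat.card M).Coprime T.index := by
    rw [he]
    exact Nat.Coprime.pow_left e hT.symm
  have hbij := Nat.Coprime.pow_left_bijective (G := M) hcop
  obtain ⟨a, ha⟩ := hbij.2 b
  simp only at ha
  refine ⟨a, fun g => ?_⟩
  apply hbij.1
  simp only
  have h5 := hkey g
  rw [mul_pow, inv_pow, ← smul_pow', ha]
  rw [eq_mul_inv_iff_mul_eq]
  exact h5.symm

end cocycle

end Cfsg.Agent.Helper10
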