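import Mathlib

set_option autoImplicit false
set_option maxRecDepth 8000

/-!
Arithmetic classification of the numbers in (3640, 6233) (generated by helper10 for S0983).
-/

namespace Cfsg.Agent.Helper10.Ord83

/-- The arithmetic alternatives. -/
def Cls (n : ℕ) : Prop :=
  (∃ p : ℕ, p.Prime ∧ p ∣ n ∧ n < p ^ 3) ∨
  (∃ p q a b : ℕ, p.Prime ∧ q.Prime ∧ n = p ^ a * q ^ b) ∨
  (∃ m : ℕ, Odd m ∧ 3 ≤ m ∧ n = 2 * m) ∨
  (Even n ∧ ¬ (12 ∣ n ∨ 16 ∣ n ∨ 56 ∣ n)) ∨
  (∃ p : ℕ, n.minFac = p ∧ ¬ p ^ 3 ∣ n ∧ ¬ 12 ∣ n) ∨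
  n ∈ ([3696, 3744, 3780, 3840, 3861, 3900, 3920, 3960, 4032, 4056, 4116, 4160, 4200, 4212, 4224, 4312, 4320, 4356, 4368, 4400, 4455, 4480, 4500, 4536, 4576, 4620, 4680, 4704, 4725, 4752, 4800, 4860, 4928, 4992, 5040, 5049, 5096, 5100, 5148, 5200, 5265, 5280, 5292, 5304, 5376, 5400, 5440, 5460, 5508, 5544, 5600, 5616, 5712, 5760, 5808, 5824, 5880, 5940, 5967, 5984, 6000, 6048, 6084, 6120, 6160] : List ℕ)

theorem cls_3641_3748 (n : ℕ) (h1 : 3641 ≤ n) (h2 : n ≤ 3748) : Cls n := by
  unfold Cls
  interval_cases n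
  · exact Or.inl ⟨331, by norm_num, by norm_num, by norm_num⟩
  · exact Or.inl ⟨607, by norm_num, by norm_num, by norm_num⟩
  · exact Or.inl ⟨3643, by norm_num, by norm_num, by norm_num⟩
  · exact Or.inl ⟨911, by norm_num, by norm_num, by norm_num⟩
  · exact Or.inr (Or.inl ⟨3, 5, 6, 1, by norm_num, by norm_num, by norm_num⟩)
  · exact Or.inl ⟨1823, by norm_num, by norm_num, by norm_num⟩
  · exact Or.inl ⟨521, by norm_num, by norm_num, by norm_num⟩
  · exact Or.inl ⟨19, by norm_num, by norm_num, by norm_num⟩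
  · exact Or.inl ⟨41, by norm_num, by norm_num, by norm_num⟩
  · exact Or.inl ⟨73, by norm_num, by norm_num, by norm_num⟩
  · exact Or.inl ⟨1217, by norm_num, by norm_num, by norm_num⟩
  · exact Or.inl ⟨83, by norm_num, by norm_num, by norm_num⟩
  · exact Or.inl ⟨281, by norm_num, by norm_num, by norm_num⟩
  · exact Or.inl ⟨29, by norm_num, by norm_num, by norm_num⟩
  · exact Or.inl ⟨17, by norm_num, by norm_num, by norm_num⟩
  · exact Or.inl ⟨457, by norm_num, by norm_num, by norm_num⟩
  · exact Or.inl ⟨23, by norm_num, by norm_num, by norm_num⟩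
  · exact Or.inl ⟨31, by norm_num, by norm_num, by norm_num⟩
  · exact Or.inl ⟨3659, by norm_num, by norm_num, by norm_num⟩
  · exact Or.inl ⟨61, by norm_num, by norm_num, by norm_num⟩
  · exact Or.inl ⟨523, by norm_num, by norm_num, by norm_num⟩
  · exact Or.inl ⟨1831, by norm_num, by norm_num, by norm_num⟩
  · exact Or.inl ⟨37, by norm_num, by norm_num, by norm_num⟩
  · exact Or.inl ⟨229, by norm_num, by norm_num, by norm_num⟩
  · exact Or.inl ⟨733, by norm_num, by norm_num, by norm_num⟩
  · exact Or.inl ⟨47, by norm_num, by norm_num, by norm_num⟩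
  · exact Or.inl ⟨19, by norm_num, by norm_num, by norm_num⟩
  · exact Or.inl ⟨131, by norm_num, by norm_num, by norm_num⟩
  · exact Or.inl ⟨1223, by norm_num, by norm_num, by norm_num⟩
  · exact Or.inl ⟨367, by norm_num, by norm_num, by norm_num⟩
  · exact Or.inl ⟨3671, by norm_num, by norm_num, by norm_num⟩
  · exact Or.inl ⟨17, by norm_num, by norm_num, by norm_num⟩
  · exact Or.inl ⟨3673, by norm_num, by norm_num, by norm_num⟩
  · exact Or.inl ⟨167, by norm_num, by norm_num, by norm_num⟩
  · exact Or.inr (Or.inr (Or.inr (Or.inr (Or.inl ⟨3, by norm_num, by norm_num, by norm_num⟩))))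
  · exact Or.inl ⟨919, by norm_num, by norm_num, by norm_num⟩
  · exact Or.inl ⟨3677, by norm_num, by norm_num, by norm_num⟩
  · exact Or.inl ⟨613, by norm_num, by norm_num, by norm_num⟩
  · exact Or.inl ⟨283, by norm_num, by norm_num, by norm_num⟩
  · exact Or.inl ⟨23, by norm_num, by norm_num, by norm_num⟩
  · exact Or.inl ⟨409, by norm_num, by norm_num, by norm_num⟩
  · exact Or.inl ⟨263, by norm_num, by norm_num, by norm_num⟩
  · exact Or.inl ⟨29, by norm_num, by norm_num, by norm_num⟩
  · exact Or.inl ⟨307, by norm_num, by norm_num, by norm_num⟩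
  · exact Or.inl ⟨67, by norm_num, by norm_num, by norm_num⟩
  · exact Or.inl ⟨19, by norm_num, by norm_num, by norm_num⟩
  · exact Or.inl ⟨1229, by norm_num, by norm_num, by norm_num⟩
  · exact Or.inl ⟨461, by norm_num, by norm_num, by norm_num⟩
  · exact Or.inl ⟨17, by norm_num, by norm_num, by norm_num⟩
  · exact Or.inl ⟨41, by norm_num, by norm_num, by norm_num⟩
  · exact Or.inl ⟨3691, by norm_num, by norm_num, by norm_num⟩
  · exact Or.inl ⟨71, by norm_num, by norm_num, by norm_num⟩
  · exact Or.inl ⟨1231, by norm_num, by norm_num, by norm_num⟩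
  · exact Or.inl ⟨1847, by norm_num, by norm_num, by norm_num⟩
  · exact Or.inl ⟨739, by norm_num, by norm_num, by norm_num⟩
  · exact Or.inr (Or.inr (Or.inr (Or.inr (Or.inr (by decide)))))
  · exact Or.inl ⟨3697, by norm_num, by norm_num, by norm_num⟩
  · exact Or.inl ⟨43, by norm_num, by norm_num, by norm_num⟩
  · exact Or.inl ⟨137, by norm_num, by norm_num, by norm_num⟩
  · exact Or.inl ⟨37, by norm_num, by norm_num, by norm_num⟩
  · exact Or.inl ⟨3701, by norm_num, by norm_num, by norm_num⟩
  · exact Or.inl ⟨617, by norm_num, by norm_num, by norm_num⟩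
  · exact Or.inl ⟨23, by norm_num, by norm_num, by norm_num⟩
  · exact Or.inl ⟨463, by norm_num, by norm_num, by norm_num⟩
  · exact Or.inl ⟨19, by norm_num, by norm_num, by norm_num⟩
  · exact Or.inl ⟨17, by norm_num, by norm_num, by norm_num⟩
  · exact Or.inl ⟨337, by norm_num, by norm_num, by norm_num⟩
  · exact Or.inl ⟨103, by norm_num, by norm_num, by norm_num⟩
  · exact Or.inl ⟨3709, by norm_num, by norm_num, by norm_num⟩
  · exact Or.inl ⟨53, by norm_num, by norm_num, by norm_num⟩
  · exact Or.inl ⟨1237, by norm_num, by norm_num, by norm_num⟩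
  · exact Or.inl ⟨29, by norm_num, by norm_num, by norm_num⟩
  · exact Or.inl ⟨47, by norm_num, by norm_num, by norm_num⟩
  · exact Or.inl ⟨619, by norm_num, by norm_num, by norm_num⟩
  · exact Or.inl ⟨743, by norm_num, by norm_num, by norm_num⟩
  · exact Or.inl ⟨929, by norm_num, by norm_num, by norm_num⟩
  · exact Or.inl ⟨59, by norm_num, by norm_num, by norm_num⟩
  · exact Or.inr (Or.inr (Or.inl ⟨1859, by decide, by norm_num, by norm_num⟩))
  · exact Or.inl ⟨3719, by norm_num, by norm_num, by norm_num⟩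
  · exact Or.inl ⟨31, by norm_num, by norm_num, by norm_num⟩
  · exact Or.inl ⟨61, by norm_num, by norm_num, by norm_num⟩
  · exact Or.inl ⟨1861, by norm_num, by norm_num, by norm_num⟩
  · exact Or.inl ⟨17, by norm_num, by norm_num, by norm_num⟩
  · exact Or.inl ⟨19, by norm_num, by norm_num, by norm_num⟩
  · exact Or.inl ⟨149, by norm_num, by norm_num, by norm_num⟩
  · exact Or.inl ⟨23, by norm_num, by norm_num, by norm_num⟩
  · exact Or.inl ⟨3727, by norm_num, by norm_num, by norm_num⟩
  · exact Or.inl ⟨233, by norm_num, by norm_num, by norm_num⟩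
  · exact Or.inl ⟨113, by norm_num, by norm_num, by norm_num⟩
  · exact Or.inl ⟨373, by norm_num, by norm_num, by norm_num⟩
  · exact Or.inl ⟨41, by norm_num, by norm_num, by norm_num⟩
  · exact Or.inl ⟨311, by norm_num, by norm_num, by norm_num⟩
  · exact Or.inl ⟨3733, by norm_num, by norm_num, by norm_num⟩
  · exact Or.inl ⟨1867, by norm_num, by norm_num, by norm_num⟩
  · exact Or.inl ⟨83, by norm_num, by norm_num, by norm_num⟩
  · exact Or.inl ⟨467, by norm_num, by norm_num, by norm_num⟩
  · exact Or.inl ⟨37, by norm_num, by norm_num, by norm_num⟩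
  · exact Or.inl ⟨89, by norm_num, by norm_num, by norm_num⟩
  · exact Or.inl ⟨3739, by norm_num, by norm_num, by norm_num⟩
  · exact Or.inl ⟨17, by norm_num, by norm_num, by norm_num⟩
  · exact Or.inl ⟨29, by norm_num, by norm_num, by norm_num⟩
  · exact Or.inl ⟨1871, by norm_num, by norm_num, by norm_num⟩
  · exact Or.inl ⟨19, by norm_num, by norm_num, by norm_num⟩
  · exact Or.inr (Or.inr (Or.inr (Or.inr (Or.inr (by decide)))))
  · exact Or.inl ⟨107, by norm_num, by norm_num, by norm_num⟩
  · exact Or.inl ⟨1873, by norm_num, by norm_num, by norm_num⟩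
  · exact Or.inl ⟨1249, by norm_num, by norm_num, by norm_num⟩
  · exact Or.inl ⟨937, by norm_num, by norm_num, by norm_num⟩

theorem cls_3749_3856 (n : ℕ) (h1 : 3749 ≤ n) (h2 : n ≤ 3856) : Cls n := by
  unfold Cls
  interval_cases n
  · exact Or.inl ⟨23, by norm_num, by norm_num, by norm_num⟩
  · exact Or.inr (Or.inr (Or.inl ⟨1875, by decide, by norm_num, by norm_num⟩))
  · exact Or.inl ⟨31, by norm_num, by norm_num, by norm_num⟩
  · exact Or.inl ⟨67, by norm_num, by norm_num, by norm_num⟩
  · exact Or.inl ⟨139, by norm_num, by norm_num, by norm_num⟩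
  · exact Or.inl ⟨1877, by norm_num, by norm_num, by norm_num⟩
  · exact Or.inl ⟨751, by norm_num, by norm_num, by norm_num⟩
  · exact Or.inl ⟨313, by norm_num, by norm_num, by norm_num⟩
  · exact Or.inl ⟨17, by norm_num, by norm_num, by norm_num⟩
  · exact Or.inl ⟨1879, by norm_num, by norm_num, by norm_num⟩
  · exact Or.inl ⟨179, by norm_num, by norm_num, by norm_num⟩
  · exact Or.inl ⟨47, by norm_num, by norm_num, by norm_num⟩
  · exact Or.inl ⟨3761, by norm_num, by norm_num, by norm_num⟩
  · exact Or.inl ⟨19, by norm_num, by norm_num, by norm_num⟩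
  · exact Or.inl ⟨53, by norm_num, by norm_num, by norm_num⟩
  · exact Or.inl ⟨941, by norm_num, by norm_num, by norm_num⟩
  · exact Or.inl ⟨251, by norm_num, by norm_num, by norm_num⟩
  · exact Or.inl ⟨269, by norm_num, by norm_num, by norm_num⟩
  · exact Or.inl ⟨3767, by norm_num, by norm_num, by norm_num⟩
  · exact Or.inl ⟨157, by norm_num, by norm_num, by norm_num⟩
  · exact Or.inl ⟨3769, by norm_num, by norm_num, by norm_num⟩
  · exact Or.inl ⟨29, by norm_num, by norm_num, by norm_num⟩
  · exact Or.inl ⟨419, by norm_num, by norm_num, by norm_num⟩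
  · exact Or.inl ⟨23, by norm_num, by norm_num, by norm_num⟩
  · exact Or.inr (Or.inl ⟨7, 11, 3, 1, by norm_num, by norm_num, by norm_num⟩)
  · exact Or.inl ⟨17, by norm_num, by norm_num, by norm_num⟩
  · exact Or.inl ⟨151, by norm_num, by norm_num, by norm_num⟩
  · exact Or.inl ⟨59, by norm_num, by norm_num, by norm_num⟩
  · exact Or.inl ⟨1259, by norm_num, by norm_num, by norm_num⟩
  · exact Or.inl ⟨1889, by norm_num, by norm_num, by norm_num⟩
  · exact Or.inl ⟨3779, by norm_num, by norm_num, by norm_num⟩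
  · exact Or.inr (Or.inr (Or.inr (Or.inr (Or.inr (by decide)))))
  · exact Or.inl ⟨19, by norm_num, by norm_num, by norm_num⟩
  · exact Or.inl ⟨31, by norm_num, by norm_num, by norm_num⟩
  · exact Or.inl ⟨97, by norm_num, by norm_num, by norm_num⟩
  · exact Or.inl ⟨43, by norm_num, by norm_num, by norm_num⟩
  · exact Or.inl ⟨757, by norm_num, by norm_num, by norm_num⟩
  · exact Or.inl ⟨631, by norm_num, by norm_num, by norm_num⟩
  · exact Or.inl ⟨541, by norm_num, by norm_num, by norm_num⟩
  · exact Or.inl ⟨947, by norm_num, by norm_num, by norm_num⟩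
  · exact Or.inl ⟨421, by norm_num, by norm_num, by norm_num⟩
  · exact Or.inl ⟨379, by norm_num, by norm_num, by norm_num⟩
  · exact Or.inl ⟨17, by norm_num, by norm_num, by norm_num⟩
  · exact Or.inl ⟨79, by norm_num, by norm_num, by norm_num⟩
  · exact Or.inl ⟨3793, by norm_num, by norm_num, by norm_num⟩
  · exact Or.inl ⟨271, by norm_num, by norm_num, by norm_num⟩
  · exact Or.inl ⟨23, by norm_num, by norm_num, by norm_num⟩
  · exact Or.inl ⟨73, by norm_num, by norm_num, by norm_num⟩
  · exact Or.inl ⟨3797, by norm_num, by norm_num, by norm_num⟩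
  · exact Or.inl ⟨211, by norm_num, by norm_num, by norm_num⟩
  · exact Or.inl ⟨29, by norm_num, by norm_num, by norm_num⟩
  · exact Or.inl ⟨19, by norm_num, by norm_num, by norm_num⟩
  · exact Or.inl ⟨181, by norm_num, by norm_num, by norm_num⟩
  · exact Or.inl ⟨1901, by norm_num, by norm_num, by norm_num⟩
  · exact Or.inl ⟨3803, by norm_num, by norm_num, by norm_num⟩
  · exact Or.inl ⟨317, by norm_num, by norm_num, by norm_num⟩
  · exact Or.inl ⟨761, by norm_num, by norm_num, by norm_num⟩
  · exact Or.inl ⟨173, by norm_num, by norm_num, by norm_num⟩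
  · exact Or.inl ⟨47, by norm_num, by norm_num, by norm_num⟩
  · exact Or.inl ⟨17, by norm_num, by norm_num, by norm_num⟩
  · exact Or.inl ⟨293, by norm_num, by norm_num, by norm_num⟩
  · exact Or.inl ⟨127, by norm_num, by norm_num, by norm_num⟩
  · exact Or.inl ⟨37, by norm_num, by norm_num, by norm_num⟩
  · exact Or.inl ⟨953, by norm_num, by norm_num, by norm_num⟩
  · exact Or.inl ⟨31, by norm_num, by norm_num, by norm_num⟩
  · exact Or.inl ⟨1907, by norm_num, by norm_num, by norm_num⟩
  · exact Or.inl ⟨109, by norm_num, by norm_num, by norm_num⟩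
  · exact Or.inl ⟨53, by norm_num, by norm_num, by norm_num⟩
  · exact Or.inl ⟨347, by norm_num, by norm_num, by norm_num⟩
  · exact Or.inl ⟨23, by norm_num, by norm_num, by norm_num⟩
  · exact Or.inl ⟨19, by norm_num, by norm_num, by norm_num⟩
  · exact Or.inl ⟨191, by norm_num, by norm_num, by norm_num⟩
  · exact Or.inl ⟨3821, by norm_num, by norm_num, by norm_num⟩
  · exact Or.inr (Or.inr (Or.inl ⟨1911, by decide, by norm_num, by norm_num⟩))
  · exact Or.inl ⟨3823, by norm_num, by norm_num, by norm_num⟩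
  · exact Or.inl ⟨239, by norm_num, by norm_num, by norm_num⟩
  · exact Or.inl ⟨17, by norm_num, by norm_num, by norm_num⟩
  · exact Or.inl ⟨1913, by norm_num, by norm_num, by norm_num⟩
  · exact Or.inl ⟨43, by norm_num, by norm_num, by norm_num⟩
  · exact Or.inl ⟨29, by norm_num, by norm_num, by norm_num⟩
  · exact Or.inl ⟨547, by norm_num, by norm_num, by norm_num⟩
  · exact Or.inl ⟨383, by norm_num, by norm_num, by norm_num⟩
  · exact Or.inl ⟨1277, by norm_num, by norm_num, by norm_num⟩
  · exact Or.inl ⟨479, by norm_num, by norm_num, by norm_num⟩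
  · exact Or.inl ⟨3833, by norm_num, by norm_num, by norm_num⟩
  · exact Or.inl ⟨71, by norm_num, by norm_num, by norm_num⟩
  · exact Or.inl ⟨59, by norm_num, by norm_num, by norm_num⟩
  · exact Or.inl ⟨137, by norm_num, by norm_num, by norm_num⟩
  · exact Or.inl ⟨1279, by norm_num, by norm_num, by norm_num⟩
  · exact Or.inl ⟨19, by norm_num, by norm_num, by norm_num⟩
  · exact Or.inl ⟨349, by norm_num, by norm_num, by norm_num⟩
  · exact Or.inr (Or.inr (Or.inr (Or.inr (Or.inr (by decide)))))
  · exact Or.inl ⟨23, by norm_num, by norm_num, by norm_num⟩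
  · exact Or.inl ⟨17, by norm_num, by norm_num, by norm_num⟩
  · exact Or.inl ⟨61, by norm_num, by norm_num, by norm_num⟩
  · exact Or.inl ⟨31, by norm_num, by norm_num, by norm_num⟩
  · exact Or.inl ⟨769, by norm_num, by norm_num, by norm_num⟩
  · exact Or.inl ⟨641, by norm_num, by norm_num, by norm_num⟩
  · exact Or.inl ⟨3847, by norm_num, by norm_num, by norm_num⟩
  · exact Or.inl ⟨37, by norm_num, by norm_num, by norm_num⟩
  · exact Or.inl ⟨1283, by norm_num, by norm_num, by norm_num⟩
  · exact Or.inr (Or.inr (Or.inl ⟨1925, by decide, by norm_num, by norm_num⟩))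
  · exact Or.inl ⟨3851, by norm_num, by norm_num, by norm_num⟩
  · exact Or.inl ⟨107, by norm_num, by norm_num, by norm_num⟩
  · exact Or.inl ⟨3853, by norm_num, by norm_num, by norm_num⟩
  · exact Or.inl ⟨41, by norm_num, by norm_num, by norm_num⟩
  · exact Or.inl ⟨257, by norm_num, by norm_num, by norm_num⟩
  · exact Or.inl ⟨241, by norm_num, by norm_num, by norm_num⟩

theorem cls_3857_3964 (n : ℕ) (h1 : 3857 ≤ n) (h2 : n ≤ 3964) : Cls n := by
  unfold Cls
  interval_cases n
  · exact Or.inl ⟨19, by norm_num, by norm_num, by norm_num⟩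
  · exact Or.inl ⟨643, by norm_num, by norm_num, by norm_num⟩
  · exact Or.inl ⟨17, by norm_num, by norm_num, by norm_num⟩
  · exact Or.inl ⟨193, by norm_num, by norm_num, by norm_num⟩
  · exact Or.inr (Or.inr (Or.inr (Or.inr (Or.inr (by decide)))))
  · exact Or.inl ⟨1931, by norm_num, by norm_num, by norm_num⟩
  · exact Or.inl ⟨3863, by norm_num, by norm_num, by norm_num⟩
  · exact Or.inl ⟨23, by norm_num, by norm_num, by norm_num⟩
  · exact Or.inl ⟨773, by norm_num, by norm_num, by norm_num⟩
  · exact Or.inl ⟨1933, by norm_num, by norm_num, by norm_num⟩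
  · exact Or.inl ⟨1289, by norm_num, by norm_num, by norm_num⟩
  · exact Or.inl ⟨967, by norm_num, by norm_num, by norm_num⟩
  · exact Or.inl ⟨53, by norm_num, by norm_num, by norm_num⟩
  · exact Or.inl ⟨43, by norm_num, by norm_num, by norm_num⟩
  · exact Or.inl ⟨79, by norm_num, by norm_num, by norm_num⟩
  · exact Or.inr (Or.inl ⟨2, 11, 5, 2, by norm_num, by norm_num, by norm_num⟩)
  · exact Or.inl ⟨1291, by norm_num, by norm_num, by norm_num⟩
  · exact Or.inl ⟨149, by norm_num, by norm_num, by norm_num⟩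
  · exact Or.inl ⟨31, by norm_num, by norm_num, by norm_num⟩
  · exact Or.inl ⟨17, by norm_num, by norm_num, by norm_num⟩
  · exact Or.inl ⟨3877, by norm_num, by norm_num, by norm_num⟩
  · exact Or.inl ⟨277, by norm_num, by norm_num, by norm_num⟩
  · exact Or.inl ⟨431, by norm_num, by norm_num, by norm_num⟩
  · exact Or.inl ⟨97, by norm_num, by norm_num, by norm_num⟩
  · exact Or.inl ⟨3881, by norm_num, by norm_num, by norm_num⟩
  · exact Or.inl ⟨647, by norm_num, by norm_num, by norm_num⟩
  · exact Or.inl ⟨353, by norm_num, by norm_num, by norm_num⟩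
  · exact Or.inl ⟨971, by norm_num, by norm_num, by norm_num⟩
  · exact Or.inl ⟨37, by norm_num, by norm_num, by norm_num⟩
  · exact Or.inl ⟨29, by norm_num, by norm_num, by norm_num⟩
  · exact Or.inl ⟨23, by norm_num, by norm_num, by norm_num⟩
  · exact Or.inr (Or.inl ⟨2, 3, 4, 5, by norm_num, by norm_num, by norm_num⟩)
  · exact Or.inl ⟨3889, by norm_num, by norm_num, by norm_num⟩
  · exact Or.inl ⟨389, by norm_num, by norm_num, by norm_num⟩
  · exact Or.inl ⟨1297, by norm_num, by norm_num, by norm_num⟩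
  · exact Or.inl ⟨139, by norm_num, by norm_num, by norm_num⟩
  · exact Or.inl ⟨17, by norm_num, by norm_num, by norm_num⟩
  · exact Or.inl ⟨59, by norm_num, by norm_num, by norm_num⟩
  · exact Or.inl ⟨19, by norm_num, by norm_num, by norm_num⟩
  · exact Or.inl ⟨487, by norm_num, by norm_num, by norm_num⟩
  · exact Or.inl ⟨433, by norm_num, by norm_num, by norm_num⟩
  · exact Or.inl ⟨1949, by norm_num, by norm_num, by norm_num⟩
  · exact Or.inl ⟨557, by norm_num, by norm_num, by norm_num⟩
  · exact Or.inr (Or.inr (Or.inr (Or.inr (Or.inr (by decide)))))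
  · exact Or.inl ⟨47, by norm_num, by norm_num, by norm_num⟩
  · exact Or.inl ⟨1951, by norm_num, by norm_num, by norm_num⟩
  · exact Or.inl ⟨1301, by norm_num, by norm_num, by norm_num⟩
  · exact Or.inl ⟨61, by norm_num, by norm_num, by norm_num⟩
  · exact Or.inl ⟨71, by norm_num, by norm_num, by norm_num⟩
  · exact Or.inl ⟨31, by norm_num, by norm_num, by norm_num⟩
  · exact Or.inl ⟨3907, by norm_num, by norm_num, by norm_num⟩
  · exact Or.inl ⟨977, by norm_num, by norm_num, by norm_num⟩
  · exact Or.inl ⟨1303, by norm_num, by norm_num, by norm_num⟩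
  · exact Or.inl ⟨17, by norm_num, by norm_num, by norm_num⟩
  · exact Or.inl ⟨3911, by norm_num, by norm_num, by norm_num⟩
  · exact Or.inl ⟨163, by norm_num, by norm_num, by norm_num⟩
  · exact Or.inl ⟨43, by norm_num, by norm_num, by norm_num⟩
  · exact Or.inl ⟨19, by norm_num, by norm_num, by norm_num⟩
  · exact Or.inl ⟨29, by norm_num, by norm_num, by norm_num⟩
  · exact Or.inl ⟨89, by norm_num, by norm_num, by norm_num⟩
  · exact Or.inl ⟨3917, by norm_num, by norm_num, by norm_num⟩
  · exact Or.inl ⟨653, by norm_num, by norm_num, by norm_num⟩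
  · exact Or.inl ⟨3919, by norm_num, by norm_num, by norm_num⟩
  · exact Or.inr (Or.inr (Or.inr (Or.inr (Or.inr (by decide)))))
  · exact Or.inl ⟨1307, by norm_num, by norm_num, by norm_num⟩
  · exact Or.inl ⟨37, by norm_num, by norm_num, by norm_num⟩
  · exact Or.inl ⟨3923, by norm_num, by norm_num, by norm_num⟩
  · exact Or.inl ⟨109, by norm_num, by norm_num, by norm_num⟩
  · exact Or.inl ⟨157, by norm_num, by norm_num, by norm_num⟩
  · exact Or.inl ⟨151, by norm_num, by norm_num, by norm_num⟩
  · exact Or.inl ⟨17, by norm_num, by norm_num, by norm_num⟩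
  · exact Or.inl ⟨491, by norm_num, by norm_num, by norm_num⟩
  · exact Or.inl ⟨3929, by norm_num, by norm_num, by norm_num⟩
  · exact Or.inl ⟨131, by norm_num, by norm_num, by norm_num⟩
  · exact Or.inl ⟨3931, by norm_num, by norm_num, by norm_num⟩
  · exact Or.inl ⟨983, by norm_num, by norm_num, by norm_num⟩
  · exact Or.inl ⟨19, by norm_num, by norm_num, by norm_num⟩
  · exact Or.inl ⟨281, by norm_num, by norm_num, by norm_num⟩
  · exact Or.inl ⟨787, by norm_num, by norm_num, by norm_num⟩
  · exact Or.inl ⟨41, by norm_num, by norm_num, by norm_num⟩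
  · exact Or.inl ⟨31, by norm_num, by norm_num, by norm_num⟩
  · exact Or.inl ⟨179, by norm_num, by norm_num, by norm_num⟩
  · exact Or.inl ⟨101, by norm_num, by norm_num, by norm_num⟩
  · exact Or.inl ⟨197, by norm_num, by norm_num, by norm_num⟩
  · exact Or.inl ⟨563, by norm_num, by norm_num, by norm_num⟩
  · exact Or.inl ⟨73, by norm_num, by norm_num, by norm_num⟩
  · exact Or.inl ⟨3943, by norm_num, by norm_num, by norm_num⟩
  · exact Or.inl ⟨17, by norm_num, by norm_num, by norm_num⟩
  · exact Or.inl ⟨263, by norm_num, by norm_num, by norm_num⟩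
  · exact Or.inl ⟨1973, by norm_num, by norm_num, by norm_num⟩
  · exact Or.inl ⟨3947, by norm_num, by norm_num, by norm_num⟩
  · exact Or.inl ⟨47, by norm_num, by norm_num, by norm_num⟩
  · exact Or.inl ⟨359, by norm_num, by norm_num, by norm_num⟩
  · exact Or.inl ⟨79, by norm_num, by norm_num, by norm_num⟩
  · exact Or.inl ⟨439, by norm_num, by norm_num, by norm_num⟩
  · exact Or.inl ⟨19, by norm_num, by norm_num, by norm_num⟩
  · exact Or.inl ⟨59, by norm_num, by norm_num, by norm_num⟩
  · exact Or.inl ⟨659, by norm_num, by norm_num, by norm_num⟩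
  · exact Or.inl ⟨113, by norm_num, by norm_num, by norm_num⟩
  · exact Or.inl ⟨23, by norm_num, by norm_num, by norm_num⟩
  · exact Or.inl ⟨1319, by norm_num, by norm_num, by norm_num⟩
  · exact Or.inl ⟨1979, by norm_num, by norm_num, by norm_num⟩
  · exact Or.inl ⟨37, by norm_num, by norm_num, by norm_num⟩
  · exact Or.inr (Or.inr (Or.inr (Or.inr (Or.inr (by decide)))))
  · exact Or.inl ⟨17, by norm_num, by norm_num, by norm_num⟩
  · exact Or.inl ⟨283, by norm_num, by norm_num, by norm_num⟩
  · exact Or.inl ⟨1321, by norm_num, by norm_num, by norm_num⟩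
  · exact Or.inl ⟨991, by norm_num, by norm_num, by norm_num⟩

theorem cls_3965_4072 (n : ℕ) (h1 : 3965 ≤ n) (h2 : n ≤ 4072) : Cls n := by
  unfold Cls
  interval_cases n
  · exact Or.inl ⟨61, by norm_num, by norm_num, by norm_num⟩
  · exact Or.inl ⟨661, by norm_num, by norm_num, by norm_num⟩
  · exact Or.inl ⟨3967, by norm_num, by norm_num, by norm_num⟩
  · exact Or.inl ⟨31, by norm_num, by norm_num, by norm_num⟩
  · exact Or.inr (Or.inl ⟨3, 7, 4, 2, by norm_num, by norm_num, by norm_num⟩)
  · exact Or.inl ⟨397, by norm_num, by norm_num, by norm_num⟩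
  · exact Or.inl ⟨19, by norm_num, by norm_num, by norm_num⟩
  · exact Or.inl ⟨331, by norm_num, by norm_num, by norm_num⟩
  · exact Or.inl ⟨29, by norm_num, by norm_num, by norm_num⟩
  · exact Or.inl ⟨1987, by norm_num, by norm_num, by norm_num⟩
  · exact Or.inl ⟨53, by norm_num, by norm_num, by norm_num⟩
  · exact Or.inl ⟨71, by norm_num, by norm_num, by norm_num⟩
  · exact Or.inl ⟨41, by norm_num, by norm_num, by norm_num⟩
  · exact Or.inl ⟨17, by norm_num, by norm_num, by norm_num⟩
  · exact Or.inl ⟨23, by norm_num, by norm_num, by norm_num⟩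
  · exact Or.inl ⟨199, by norm_num, by norm_num, by norm_num⟩
  · exact Or.inl ⟨1327, by norm_num, by norm_num, by norm_num⟩
  · exact Or.inl ⟨181, by norm_num, by norm_num, by norm_num⟩
  · exact Or.inl ⟨569, by norm_num, by norm_num, by norm_num⟩
  · exact Or.inl ⟨83, by norm_num, by norm_num, by norm_num⟩
  · exact Or.inl ⟨797, by norm_num, by norm_num, by norm_num⟩
  · exact Or.inl ⟨1993, by norm_num, by norm_num, by norm_num⟩
  · exact Or.inl ⟨443, by norm_num, by norm_num, by norm_num⟩
  · exact Or.inl ⟨997, by norm_num, by norm_num, by norm_num⟩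
  · exact Or.inl ⟨3989, by norm_num, by norm_num, by norm_num⟩
  · exact Or.inl ⟨19, by norm_num, by norm_num, by norm_num⟩
  · exact Or.inl ⟨307, by norm_num, by norm_num, by norm_num⟩
  · exact Or.inl ⟨499, by norm_num, by norm_num, by norm_num⟩
  · exact Or.inr (Or.inl ⟨3, 11, 1, 3, by norm_num, by norm_num, by norm_num⟩)
  · exact Or.inl ⟨1997, by norm_num, by norm_num, by norm_num⟩
  · exact Or.inl ⟨17, by norm_num, by norm_num, by norm_num⟩
  · exact Or.inl ⟨37, by norm_num, by norm_num, by norm_num⟩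
  · exact Or.inl ⟨571, by norm_num, by norm_num, by norm_num⟩
  · exact Or.inl ⟨1999, by norm_num, by norm_num, by norm_num⟩
  · exact Or.inl ⟨31, by norm_num, by norm_num, by norm_num⟩
  · exact Or.inr (Or.inl ⟨2, 5, 5, 3, by norm_num, by norm_num, by norm_num⟩)
  · exact Or.inl ⟨4001, by norm_num, by norm_num, by norm_num⟩
  · exact Or.inl ⟨23, by norm_num, by norm_num, by norm_num⟩
  · exact Or.inl ⟨4003, by norm_num, by norm_num, by norm_num⟩
  · exact Or.inr (Or.inr (Or.inr (Or.inl ⟨by decide, by omega⟩)))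
  · exact Or.inl ⟨89, by norm_num, by norm_num, by norm_num⟩
  · exact Or.inl ⟨2003, by norm_num, by norm_num, by norm_num⟩
  · exact Or.inl ⟨4007, by norm_num, by norm_num, by norm_num⟩
  · exact Or.inl ⟨167, by norm_num, by norm_num, by norm_num⟩
  · exact Or.inl ⟨19, by norm_num, by norm_num, by norm_num⟩
  · exact Or.inl ⟨401, by norm_num, by norm_num, by norm_num⟩
  · exact Or.inl ⟨191, by norm_num, by norm_num, by norm_num⟩
  · exact Or.inl ⟨17, by norm_num, by norm_num, by norm_num⟩
  · exact Or.inl ⟨4013, by norm_num, by norm_num, by norm_num⟩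
  · exact Or.inl ⟨223, by norm_num, by norm_num, by norm_num⟩
  · exact Or.inl ⟨73, by norm_num, by norm_num, by norm_num⟩
  · exact Or.inl ⟨251, by norm_num, by norm_num, by norm_num⟩
  · exact Or.inl ⟨103, by norm_num, by norm_num, by norm_num⟩
  · exact Or.inl ⟨41, by norm_num, by norm_num, by norm_num⟩
  · exact Or.inl ⟨4019, by norm_num, by norm_num, by norm_num⟩
  · exact Or.inl ⟨67, by norm_num, by norm_num, by norm_num⟩
  · exact Or.inl ⟨4021, by norm_num, by norm_num, by norm_num⟩
  · exact Or.inl ⟨2011, by norm_num, by norm_num, by norm_num⟩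
  · exact Or.inl ⟨149, by norm_num, by norm_num, by norm_num⟩
  · exact Or.inl ⟨503, by norm_num, by norm_num, by norm_num⟩
  · exact Or.inl ⟨23, by norm_num, by norm_num, by norm_num⟩
  · exact Or.inl ⟨61, by norm_num, by norm_num, by norm_num⟩
  · exact Or.inl ⟨4027, by norm_num, by norm_num, by norm_num⟩
  · exact Or.inl ⟨19, by norm_num, by norm_num, by norm_num⟩
  · exact Or.inl ⟨17, by norm_num, by norm_num, by norm_num⟩
  · exact Or.inl ⟨31, by norm_num, by norm_num, by norm_num⟩
  · exact Or.inl ⟨29, by norm_num, by norm_num, by norm_num⟩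
  · exact Or.inr (Or.inr (Or.inr (Or.inr (Or.inr (by decide)))))
  · exact Or.inl ⟨37, by norm_num, by norm_num, by norm_num⟩
  · exact Or.inl ⟨2017, by norm_num, by norm_num, by norm_num⟩
  · exact Or.inl ⟨269, by norm_num, by norm_num, by norm_num⟩
  · exact Or.inl ⟨1009, by norm_num, by norm_num, by norm_num⟩
  · exact Or.inl ⟨367, by norm_num, by norm_num, by norm_num⟩
  · exact Or.inl ⟨673, by norm_num, by norm_num, by norm_num⟩
  · exact Or.inl ⟨577, by norm_num, by norm_num, by norm_num⟩
  · exact Or.inl ⟨101, by norm_num, by norm_num, by norm_num⟩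
  · exact Or.inl ⟨449, by norm_num, by norm_num, by norm_num⟩
  · exact Or.inl ⟨43, by norm_num, by norm_num, by norm_num⟩
  · exact Or.inl ⟨311, by norm_num, by norm_num, by norm_num⟩
  · exact Or.inl ⟨337, by norm_num, by norm_num, by norm_num⟩
  · exact Or.inl ⟨809, by norm_num, by norm_num, by norm_num⟩
  · exact Or.inl ⟨17, by norm_num, by norm_num, by norm_num⟩
  · exact Or.inl ⟨19, by norm_num, by norm_num, by norm_num⟩
  · exact Or.inl ⟨23, by norm_num, by norm_num, by norm_num⟩
  · exact Or.inl ⟨4049, by norm_num, by norm_num, by norm_num⟩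
  · exact Or.inr (Or.inr (Or.inl ⟨2025, by decide, by norm_num, by norm_num⟩))
  · exact Or.inl ⟨4051, by norm_num, by norm_num, by norm_num⟩
  · exact Or.inl ⟨1013, by norm_num, by norm_num, by norm_num⟩
  · exact Or.inl ⟨193, by norm_num, by norm_num, by norm_num⟩
  · exact Or.inl ⟨2027, by norm_num, by norm_num, by norm_num⟩
  · exact Or.inl ⟨811, by norm_num, by norm_num, by norm_num⟩
  · exact Or.inr (Or.inr (Or.inr (Or.inr (Or.inr (by decide)))))
  · exact Or.inl ⟨4057, by norm_num, by norm_num, by norm_num⟩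
  · exact Or.inl ⟨2029, by norm_num, by norm_num, by norm_num⟩
  · exact Or.inl ⟨41, by norm_num, by norm_num, by norm_num⟩
  · exact Or.inl ⟨29, by norm_num, by norm_num, by norm_num⟩
  · exact Or.inl ⟨31, by norm_num, by norm_num, by norm_num⟩
  · exact Or.inl ⟨677, by norm_num, by norm_num, by norm_num⟩
  · exact Or.inl ⟨17, by norm_num, by norm_num, by norm_num⟩
  · exact Or.inl ⟨127, by norm_num, by norm_num, by norm_num⟩
  · exact Or.inl ⟨271, by norm_num, by norm_num, by norm_num⟩
  · exact Or.inl ⟨19, by norm_num, by norm_num, by norm_num⟩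
  · exact Or.inl ⟨83, by norm_num, by norm_num, by norm_num⟩
  · exact Or.inl ⟨113, by norm_num, by norm_num, by norm_num⟩
  · exact Or.inl ⟨313, by norm_num, by norm_num, by norm_num⟩
  · exact Or.inl ⟨37, by norm_num, by norm_num, by norm_num⟩
  · exact Or.inl ⟨23, by norm_num, by norm_num, by norm_num⟩
  · exact Or.inl ⟨509, by norm_num, by norm_num, by norm_num⟩

theorem cls_4073_4180 (n : ℕ) (h1 : 4073 ≤ n) (h2 : n ≤ 4180) : Cls n := by
  unfold Cls
  interval_cases n
  · exact Or.inl ⟨4073, by norm_num, by norm_num, by norm_num⟩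
  · exact Or.inl ⟨97, by norm_num, by norm_num, by norm_num⟩
  · exact Or.inl ⟨163, by norm_num, by norm_num, by norm_num⟩
  · exact Or.inl ⟨1019, by norm_num, by norm_num, by norm_num⟩
  · exact Or.inl ⟨151, by norm_num, by norm_num, by norm_num⟩
  · exact Or.inl ⟨2039, by norm_num, by norm_num, by norm_num⟩
  · exact Or.inl ⟨4079, by norm_num, by norm_num, by norm_num⟩
  · exact Or.inl ⟨17, by norm_num, by norm_num, by norm_num⟩
  · exact Or.inl ⟨53, by norm_num, by norm_num, by norm_num⟩
  · exact Or.inl ⟨157, by norm_num, by norm_num, by norm_num⟩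
  · exact Or.inl ⟨1361, by norm_num, by norm_num, by norm_num⟩
  · exact Or.inl ⟨1021, by norm_num, by norm_num, by norm_num⟩
  · exact Or.inl ⟨19, by norm_num, by norm_num, by norm_num⟩
  · exact Or.inl ⟨227, by norm_num, by norm_num, by norm_num⟩
  · exact Or.inl ⟨61, by norm_num, by norm_num, by norm_num⟩
  · exact Or.inl ⟨73, by norm_num, by norm_num, by norm_num⟩
  · exact Or.inl ⟨29, by norm_num, by norm_num, by norm_num⟩
  · exact Or.inl ⟨409, by norm_num, by norm_num, by norm_num⟩
  · exact Or.inl ⟨4091, by norm_num, by norm_num, by norm_num⟩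
  · exact Or.inl ⟨31, by norm_num, by norm_num, by norm_num⟩
  · exact Or.inl ⟨4093, by norm_num, by norm_num, by norm_num⟩
  · exact Or.inl ⟨23, by norm_num, by norm_num, by norm_num⟩
  · exact Or.inr (Or.inr (Or.inr (Or.inr (Or.inl ⟨3, by norm_num, by norm_num, by norm_num⟩))))
  · exact Or.inr (Or.inl ⟨2, 3, 12, 0, by norm_num, by norm_num, by norm_num⟩)
  · exact Or.inl ⟨17, by norm_num, by norm_num, by norm_num⟩
  · exact Or.inl ⟨683, by norm_num, by norm_num, by norm_num⟩
  · exact Or.inl ⟨4099, by norm_num, by norm_num, by norm_num⟩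
  · exact Or.inl ⟨41, by norm_num, by norm_num, by norm_num⟩
  · exact Or.inl ⟨1367, by norm_num, by norm_num, by norm_num⟩
  · exact Or.inl ⟨293, by norm_num, by norm_num, by norm_num⟩
  · exact Or.inl ⟨373, by norm_num, by norm_num, by norm_num⟩
  · exact Or.inl ⟨19, by norm_num, by norm_num, by norm_num⟩
  · exact Or.inl ⟨821, by norm_num, by norm_num, by norm_num⟩
  · exact Or.inl ⟨2053, by norm_num, by norm_num, by norm_num⟩
  · exact Or.inl ⟨37, by norm_num, by norm_num, by norm_num⟩
  · exact Or.inl ⟨79, by norm_num, by norm_num, by norm_num⟩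
  · exact Or.inl ⟨587, by norm_num, by norm_num, by norm_num⟩
  · exact Or.inl ⟨137, by norm_num, by norm_num, by norm_num⟩
  · exact Or.inl ⟨4111, by norm_num, by norm_num, by norm_num⟩
  · exact Or.inl ⟨257, by norm_num, by norm_num, by norm_num⟩
  · exact Or.inl ⟨457, by norm_num, by norm_num, by norm_num⟩
  · exact Or.inl ⟨17, by norm_num, by norm_num, by norm_num⟩
  · exact Or.inl ⟨823, by norm_num, by norm_num, by norm_num⟩
  · exact Or.inr (Or.inr (Or.inr (Or.inr (Or.inr (by decide)))))
  · exact Or.inl ⟨23, by norm_num, by norm_num, by norm_num⟩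
  · exact Or.inl ⟨29, by norm_num, by norm_num, by norm_num⟩
  · exact Or.inl ⟨1373, by norm_num, by norm_num, by norm_num⟩
  · exact Or.inl ⟨103, by norm_num, by norm_num, by norm_num⟩
  · exact Or.inl ⟨317, by norm_num, by norm_num, by norm_num⟩
  · exact Or.inl ⟨229, by norm_num, by norm_num, by norm_num⟩
  · exact Or.inl ⟨19, by norm_num, by norm_num, by norm_num⟩
  · exact Or.inl ⟨1031, by norm_num, by norm_num, by norm_num⟩
  · exact Or.inr (Or.inr (Or.inr (Or.inr (Or.inl ⟨3, by norm_num, by norm_num, by norm_num⟩))))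
  · exact Or.inl ⟨2063, by norm_num, by norm_num, by norm_num⟩
  · exact Or.inl ⟨4127, by norm_num, by norm_num, by norm_num⟩
  · exact Or.inl ⟨43, by norm_num, by norm_num, by norm_num⟩
  · exact Or.inl ⟨4129, by norm_num, by norm_num, by norm_num⟩
  · exact Or.inl ⟨59, by norm_num, by norm_num, by norm_num⟩
  · exact Or.inl ⟨17, by norm_num, by norm_num, by norm_num⟩
  · exact Or.inl ⟨1033, by norm_num, by norm_num, by norm_num⟩
  · exact Or.inl ⟨4133, by norm_num, by norm_num, by norm_num⟩
  · exact Or.inl ⟨53, by norm_num, by norm_num, by norm_num⟩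
  · exact Or.inl ⟨827, by norm_num, by norm_num, by norm_num⟩
  · exact Or.inl ⟨47, by norm_num, by norm_num, by norm_num⟩
  · exact Or.inl ⟨197, by norm_num, by norm_num, by norm_num⟩
  · exact Or.inl ⟨2069, by norm_num, by norm_num, by norm_num⟩
  · exact Or.inl ⟨4139, by norm_num, by norm_num, by norm_num⟩
  · exact Or.inl ⟨23, by norm_num, by norm_num, by norm_num⟩
  · exact Or.inl ⟨41, by norm_num, by norm_num, by norm_num⟩
  · exact Or.inl ⟨19, by norm_num, by norm_num, by norm_num⟩
  · exact Or.inl ⟨1381, by norm_num, by norm_num, by norm_num⟩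
  · exact Or.inl ⟨37, by norm_num, by norm_num, by norm_num⟩
  · exact Or.inl ⟨829, by norm_num, by norm_num, by norm_num⟩
  · exact Or.inl ⟨691, by norm_num, by norm_num, by norm_num⟩
  · exact Or.inl ⟨29, by norm_num, by norm_num, by norm_num⟩
  · exact Or.inl ⟨17, by norm_num, by norm_num, by norm_num⟩
  · exact Or.inl ⟨461, by norm_num, by norm_num, by norm_num⟩
  · exact Or.inl ⟨83, by norm_num, by norm_num, by norm_num⟩
  · exact Or.inl ⟨593, by norm_num, by norm_num, by norm_num⟩
  · exact Or.inl ⟨173, by norm_num, by norm_num, by norm_num⟩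
  · exact Or.inl ⟨4153, by norm_num, by norm_num, by norm_num⟩
  · exact Or.inl ⟨31, by norm_num, by norm_num, by norm_num⟩
  · exact Or.inl ⟨277, by norm_num, by norm_num, by norm_num⟩
  · exact Or.inl ⟨1039, by norm_num, by norm_num, by norm_num⟩
  · exact Or.inl ⟨4157, by norm_num, by norm_num, by norm_num⟩
  · exact Or.inr (Or.inr (Or.inl ⟨2079, by decide, by norm_num, by norm_num⟩))
  · exact Or.inl ⟨4159, by norm_num, by norm_num, by norm_num⟩
  · exact Or.inr (Or.inr (Or.inr (Or.inr (Or.inr (by decide)))))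
  · exact Or.inl ⟨19, by norm_num, by norm_num, by norm_num⟩
  · exact Or.inl ⟨2081, by norm_num, by norm_num, by norm_num⟩
  · exact Or.inl ⟨23, by norm_num, by norm_num, by norm_num⟩
  · exact Or.inl ⟨347, by norm_num, by norm_num, by norm_num⟩
  · exact Or.inl ⟨17, by norm_num, by norm_num, by norm_num⟩
  · exact Or.inl ⟨2083, by norm_num, by norm_num, by norm_num⟩
  · exact Or.inl ⟨463, by norm_num, by norm_num, by norm_num⟩
  · exact Or.inl ⟨521, by norm_num, by norm_num, by norm_num⟩
  · exact Or.inl ⟨379, by norm_num, by norm_num, by norm_num⟩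
  · exact Or.inl ⟨139, by norm_num, by norm_num, by norm_num⟩
  · exact Or.inl ⟨43, by norm_num, by norm_num, by norm_num⟩
  · exact Or.inl ⟨149, by norm_num, by norm_num, by norm_num⟩
  · exact Or.inl ⟨107, by norm_num, by norm_num, by norm_num⟩
  · exact Or.inl ⟨2087, by norm_num, by norm_num, by norm_num⟩
  · exact Or.inl ⟨167, by norm_num, by norm_num, by norm_num⟩
  · exact Or.inl ⟨29, by norm_num, by norm_num, by norm_num⟩
  · exact Or.inl ⟨4177, by norm_num, by norm_num, by norm_num⟩
  · exact Or.inl ⟨2089, by norm_num, by norm_num, by norm_num⟩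
  · exact Or.inl ⟨199, by norm_num, by norm_num, by norm_num⟩
  · exact Or.inl ⟨19, by norm_num, by norm_num, by norm_num⟩

theorem cls_4181_4288 (n : ℕ) (h1 : 4181 ≤ n) (h2 : n ≤ 4288) : Cls n := by
  unfold Cls
  interval_cases n
  · exact Or.inl ⟨37, by norm_num, by norm_num, by norm_num⟩
  · exact Or.inl ⟨17, by norm_num, by norm_num, by norm_num⟩
  · exact Or.inl ⟨47, by norm_num, by norm_num, by norm_num⟩
  · exact Or.inl ⟨523, by norm_num, by norm_num, by norm_num⟩
  · exact Or.inl ⟨31, by norm_num, by norm_num, by norm_num⟩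
  · exact Or.inl ⟨23, by norm_num, by norm_num, by norm_num⟩
  · exact Or.inl ⟨53, by norm_num, by norm_num, by norm_num⟩
  · exact Or.inl ⟨349, by norm_num, by norm_num, by norm_num⟩
  · exact Or.inl ⟨59, by norm_num, by norm_num, by norm_num⟩
  · exact Or.inl ⟨419, by norm_num, by norm_num, by norm_num⟩
  · exact Or.inl ⟨127, by norm_num, by norm_num, by norm_num⟩
  · exact Or.inl ⟨131, by norm_num, by norm_num, by norm_num⟩
  · exact Or.inl ⟨599, by norm_num, by norm_num, by norm_num⟩
  · exact Or.inl ⟨233, by norm_num, by norm_num, by norm_num⟩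
  · exact Or.inl ⟨839, by norm_num, by norm_num, by norm_num⟩
  · exact Or.inl ⟨1049, by norm_num, by norm_num, by norm_num⟩
  · exact Or.inl ⟨1399, by norm_num, by norm_num, by norm_num⟩
  · exact Or.inl ⟨2099, by norm_num, by norm_num, by norm_num⟩
  · exact Or.inl ⟨17, by norm_num, by norm_num, by norm_num⟩
  · exact Or.inr (Or.inr (Or.inr (Or.inr (Or.inr (by decide)))))
  · exact Or.inl ⟨4201, by norm_num, by norm_num, by norm_num⟩
  · exact Or.inl ⟨191, by norm_num, by norm_num, by norm_num⟩
  · exact Or.inl ⟨467, by norm_num, by norm_num, by norm_num⟩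
  · exact Or.inl ⟨1051, by norm_num, by norm_num, by norm_num⟩
  · exact Or.inl ⟨29, by norm_num, by norm_num, by norm_num⟩
  · exact Or.inl ⟨701, by norm_num, by norm_num, by norm_num⟩
  · exact Or.inl ⟨601, by norm_num, by norm_num, by norm_num⟩
  · exact Or.inl ⟨263, by norm_num, by norm_num, by norm_num⟩
  · exact Or.inl ⟨23, by norm_num, by norm_num, by norm_num⟩
  · exact Or.inl ⟨421, by norm_num, by norm_num, by norm_num⟩
  · exact Or.inl ⟨4211, by norm_num, by norm_num, by norm_num⟩
  · exact Or.inr (Or.inr (Or.inr (Or.inr (Or.inr (by decide)))))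
  · exact Or.inl ⟨383, by norm_num, by norm_num, by norm_num⟩
  · exact Or.inl ⟨43, by norm_num, by norm_num, by norm_num⟩
  · exact Or.inl ⟨281, by norm_num, by norm_num, by norm_num⟩
  · exact Or.inl ⟨17, by norm_num, by norm_num, by norm_num⟩
  · exact Or.inl ⟨4217, by norm_num, by norm_num, by norm_num⟩
  · exact Or.inl ⟨19, by norm_num, by norm_num, by norm_num⟩
  · exact Or.inl ⟨4219, by norm_num, by norm_num, by norm_num⟩
  · exact Or.inl ⟨211, by norm_num, by norm_num, by norm_num⟩
  · exact Or.inl ⟨67, by norm_num, by norm_num, by norm_num⟩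
  · exact Or.inl ⟨2111, by norm_num, by norm_num, by norm_num⟩
  · exact Or.inl ⟨41, by norm_num, by norm_num, by norm_num⟩
  · exact Or.inr (Or.inr (Or.inr (Or.inr (Or.inr (by decide)))))
  · exact Or.inr (Or.inl ⟨5, 13, 2, 2, by norm_num, by norm_num, by norm_num⟩)
  · exact Or.inl ⟨2113, by norm_num, by norm_num, by norm_num⟩
  · exact Or.inl ⟨1409, by norm_num, by norm_num, by norm_num⟩
  · exact Or.inl ⟨151, by norm_num, by norm_num, by norm_num⟩
  · exact Or.inl ⟨4229, by norm_num, by norm_num, by norm_num⟩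
  · exact Or.inl ⟨47, by norm_num, by norm_num, by norm_num⟩
  · exact Or.inl ⟨4231, by norm_num, by norm_num, by norm_num⟩
  · exact Or.inl ⟨23, by norm_num, by norm_num, by norm_num⟩
  · exact Or.inl ⟨17, by norm_num, by norm_num, by norm_num⟩
  · exact Or.inl ⟨29, by norm_num, by norm_num, by norm_num⟩
  · exact Or.inr (Or.inr (Or.inr (Or.inr (Or.inl ⟨5, by norm_num, by norm_num, by norm_num⟩))))
  · exact Or.inl ⟨353, by norm_num, by norm_num, by norm_num⟩
  · exact Or.inl ⟨19, by norm_num, by norm_num, by norm_num⟩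
  · exact Or.inl ⟨163, by norm_num, by norm_num, by norm_num⟩
  · exact Or.inl ⟨157, by norm_num, by norm_num, by norm_num⟩
  · exact Or.inl ⟨53, by norm_num, by norm_num, by norm_num⟩
  · exact Or.inl ⟨4241, by norm_num, by norm_num, by norm_num⟩
  · exact Or.inl ⟨101, by norm_num, by norm_num, by norm_num⟩
  · exact Or.inl ⟨4243, by norm_num, by norm_num, by norm_num⟩
  · exact Or.inl ⟨1061, by norm_num, by norm_num, by norm_num⟩
  · exact Or.inl ⟨283, by norm_num, by norm_num, by norm_num⟩
  · exact Or.inl ⟨193, by norm_num, by norm_num, by norm_num⟩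
  · exact Or.inl ⟨31, by norm_num, by norm_num, by norm_num⟩
  · exact Or.inl ⟨59, by norm_num, by norm_num, by norm_num⟩
  · exact Or.inl ⟨607, by norm_num, by norm_num, by norm_num⟩
  · exact Or.inl ⟨17, by norm_num, by norm_num, by norm_num⟩
  · exact Or.inl ⟨109, by norm_num, by norm_num, by norm_num⟩
  · exact Or.inl ⟨1063, by norm_num, by norm_num, by norm_num⟩
  · exact Or.inl ⟨4253, by norm_num, by norm_num, by norm_num⟩
  · exact Or.inl ⟨709, by norm_num, by norm_num, by norm_num⟩
  · exact Or.inl ⟨23, by norm_num, by norm_num, by norm_num⟩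
  · exact Or.inl ⟨19, by norm_num, by norm_num, by norm_num⟩
  · exact Or.inl ⟨43, by norm_num, by norm_num, by norm_num⟩
  · exact Or.inl ⟨2129, by norm_num, by norm_num, by norm_num⟩
  · exact Or.inl ⟨4259, by norm_num, by norm_num, by norm_num⟩
  · exact Or.inl ⟨71, by norm_num, by norm_num, by norm_num⟩
  · exact Or.inl ⟨4261, by norm_num, by norm_num, by norm_num⟩
  · exact Or.inl ⟨2131, by norm_num, by norm_num, by norm_num⟩
  · exact Or.inl ⟨29, by norm_num, by norm_num, by norm_num⟩
  · exact Or.inl ⟨41, by norm_num, by norm_num, by norm_num⟩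
  · exact Or.inl ⟨853, by norm_num, by norm_num, by norm_num⟩
  · exact Or.inl ⟨79, by norm_num, by norm_num, by norm_num⟩
  · exact Or.inl ⟨17, by norm_num, by norm_num, by norm_num⟩
  · exact Or.inl ⟨97, by norm_num, by norm_num, by norm_num⟩
  · exact Or.inl ⟨1423, by norm_num, by norm_num, by norm_num⟩
  · exact Or.inl ⟨61, by norm_num, by norm_num, by norm_num⟩
  · exact Or.inl ⟨4271, by norm_num, by norm_num, by norm_num⟩
  · exact Or.inl ⟨89, by norm_num, by norm_num, by norm_num⟩
  · exact Or.inl ⟨4273, by norm_num, by norm_num, by norm_num⟩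
  · exact Or.inl ⟨2137, by norm_num, by norm_num, by norm_num⟩
  · exact Or.inl ⟨19, by norm_num, by norm_num, by norm_num⟩
  · exact Or.inl ⟨1069, by norm_num, by norm_num, by norm_num⟩
  · exact Or.inl ⟨47, by norm_num, by norm_num, by norm_num⟩
  · exact Or.inl ⟨23, by norm_num, by norm_num, by norm_num⟩
  · exact Or.inl ⟨389, by norm_num, by norm_num, by norm_num⟩
  · exact Or.inl ⟨107, by norm_num, by norm_num, by norm_num⟩
  · exact Or.inl ⟨1427, by norm_num, by norm_num, by norm_num⟩
  · exact Or.inl ⟨2141, by norm_num, by norm_num, by norm_num⟩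
  · exact Or.inl ⟨4283, by norm_num, by norm_num, by norm_num⟩
  · exact Or.inl ⟨17, by norm_num, by norm_num, by norm_num⟩
  · exact Or.inl ⟨857, by norm_num, by norm_num, by norm_num⟩
  · exact Or.inl ⟨2143, by norm_num, by norm_num, by norm_num⟩
  · exact Or.inl ⟨1429, by norm_num, by norm_num, by norm_num⟩
  · exact Or.inl ⟨67, by norm_num, by norm_num, by norm_num⟩

theorem cls_4289_4396 (n : ℕ) (h1 : 4289 ≤ n) (h2 : n ≤ 4396) : Cls n := by
  unfold Cls
  interval_cases n
  · exact Or.inl ⟨4289, by norm_num, by norm_num, by norm_num⟩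
  · exact Or.inr (Or.inr (Or.inl ⟨2145, by decide, by norm_num, by norm_num⟩))
  · exact Or.inl ⟨613, by norm_num, by norm_num, by norm_num⟩
  · exact Or.inl ⟨29, by norm_num, by norm_num, by norm_num⟩
  · exact Or.inl ⟨53, by norm_num, by norm_num, by norm_num⟩
  · exact Or.inl ⟨19, by norm_num, by norm_num, by norm_num⟩
  · exact Or.inl ⟨859, by norm_num, by norm_num, by norm_num⟩
  · exact Or.inl ⟨179, by norm_num, by norm_num, by norm_num⟩
  · exact Or.inl ⟨4297, by norm_num, by norm_num, by norm_num⟩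
  · exact Or.inl ⟨307, by norm_num, by norm_num, by norm_num⟩
  · exact Or.inl ⟨1433, by norm_num, by norm_num, by norm_num⟩
  · exact Or.inl ⟨43, by norm_num, by norm_num, by norm_num⟩
  · exact Or.inl ⟨17, by norm_num, by norm_num, by norm_num⟩
  · exact Or.inl ⟨239, by norm_num, by norm_num, by norm_num⟩
  · exact Or.inl ⟨331, by norm_num, by norm_num, by norm_num⟩
  · exact Or.inl ⟨269, by norm_num, by norm_num, by norm_num⟩
  · exact Or.inl ⟨41, by norm_num, by norm_num, by norm_num⟩
  · exact Or.inl ⟨2153, by norm_num, by norm_num, by norm_num⟩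
  · exact Or.inl ⟨59, by norm_num, by norm_num, by norm_num⟩
  · exact Or.inl ⟨359, by norm_num, by norm_num, by norm_num⟩
  · exact Or.inl ⟨31, by norm_num, by norm_num, by norm_num⟩
  · exact Or.inl ⟨431, by norm_num, by norm_num, by norm_num⟩
  · exact Or.inl ⟨479, by norm_num, by norm_num, by norm_num⟩
  · exact Or.inr (Or.inr (Or.inr (Or.inr (Or.inr (by decide)))))
  · exact Or.inl ⟨19, by norm_num, by norm_num, by norm_num⟩
  · exact Or.inl ⟨719, by norm_num, by norm_num, by norm_num⟩
  · exact Or.inl ⟨863, by norm_num, by norm_num, by norm_num⟩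
  · exact Or.inl ⟨83, by norm_num, by norm_num, by norm_num⟩
  · exact Or.inl ⟨1439, by norm_num, by norm_num, by norm_num⟩
  · exact Or.inl ⟨17, by norm_num, by norm_num, by norm_num⟩
  · exact Or.inl ⟨617, by norm_num, by norm_num, by norm_num⟩
  · exact Or.inr (Or.inr (Or.inr (Or.inr (Or.inr (by decide)))))
  · exact Or.inl ⟨29, by norm_num, by norm_num, by norm_num⟩
  · exact Or.inl ⟨2161, by norm_num, by norm_num, by norm_num⟩
  · exact Or.inl ⟨131, by norm_num, by norm_num, by norm_num⟩
  · exact Or.inl ⟨23, by norm_num, by norm_num, by norm_num⟩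
  · exact Or.inl ⟨173, by norm_num, by norm_num, by norm_num⟩
  · exact Or.inl ⟨103, by norm_num, by norm_num, by norm_num⟩
  · exact Or.inl ⟨4327, by norm_num, by norm_num, by norm_num⟩
  · exact Or.inl ⟨541, by norm_num, by norm_num, by norm_num⟩
  · exact Or.inl ⟨37, by norm_num, by norm_num, by norm_num⟩
  · exact Or.inl ⟨433, by norm_num, by norm_num, by norm_num⟩
  · exact Or.inl ⟨61, by norm_num, by norm_num, by norm_num⟩
  · exact Or.inl ⟨19, by norm_num, by norm_num, by norm_num⟩
  · exact Or.inl ⟨619, by norm_num, by norm_num, by norm_num⟩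
  · exact Or.inl ⟨197, by norm_num, by norm_num, by norm_num⟩
  · exact Or.inl ⟨17, by norm_num, by norm_num, by norm_num⟩
  · exact Or.inl ⟨271, by norm_num, by norm_num, by norm_num⟩
  · exact Or.inl ⟨4337, by norm_num, by norm_num, by norm_num⟩
  · exact Or.inl ⟨241, by norm_num, by norm_num, by norm_num⟩
  · exact Or.inl ⟨4339, by norm_num, by norm_num, by norm_num⟩
  · exact Or.inl ⟨31, by norm_num, by norm_num, by norm_num⟩
  · exact Or.inl ⟨1447, by norm_num, by norm_num, by norm_num⟩
  · exact Or.inl ⟨167, by norm_num, by norm_num, by norm_num⟩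
  · exact Or.inl ⟨43, by norm_num, by norm_num, by norm_num⟩
  · exact Or.inl ⟨181, by norm_num, by norm_num, by norm_num⟩
  · exact Or.inl ⟨79, by norm_num, by norm_num, by norm_num⟩
  · exact Or.inl ⟨41, by norm_num, by norm_num, by norm_num⟩
  · exact Or.inl ⟨23, by norm_num, by norm_num, by norm_num⟩
  · exact Or.inl ⟨1087, by norm_num, by norm_num, by norm_num⟩
  · exact Or.inl ⟨4349, by norm_num, by norm_num, by norm_num⟩
  · exact Or.inl ⟨29, by norm_num, by norm_num, by norm_num⟩
  · exact Or.inl ⟨19, by norm_num, by norm_num, by norm_num⟩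
  · exact Or.inl ⟨17, by norm_num, by norm_num, by norm_num⟩
  · exact Or.inl ⟨1451, by norm_num, by norm_num, by norm_num⟩
  · exact Or.inl ⟨311, by norm_num, by norm_num, by norm_num⟩
  · exact Or.inl ⟨67, by norm_num, by norm_num, by norm_num⟩
  · exact Or.inr (Or.inr (Or.inr (Or.inr (Or.inr (by decide)))))
  · exact Or.inl ⟨4357, by norm_num, by norm_num, by norm_num⟩
  · exact Or.inl ⟨2179, by norm_num, by norm_num, by norm_num⟩
  · exact Or.inl ⟨1453, by norm_num, by norm_num, by norm_num⟩
  · exact Or.inl ⟨109, by norm_num, by norm_num, by norm_num⟩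
  · exact Or.inl ⟨89, by norm_num, by norm_num, by norm_num⟩
  · exact Or.inl ⟨727, by norm_num, by norm_num, by norm_num⟩
  · exact Or.inl ⟨4363, by norm_num, by norm_num, by norm_num⟩
  · exact Or.inl ⟨1091, by norm_num, by norm_num, by norm_num⟩
  · exact Or.inl ⟨97, by norm_num, by norm_num, by norm_num⟩
  · exact Or.inl ⟨37, by norm_num, by norm_num, by norm_num⟩
  · exact Or.inl ⟨397, by norm_num, by norm_num, by norm_num⟩
  · exact Or.inr (Or.inr (Or.inr (Or.inr (Or.inr (by decide)))))
  · exact Or.inl ⟨17, by norm_num, by norm_num, by norm_num⟩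
  · exact Or.inl ⟨19, by norm_num, by norm_num, by norm_num⟩
  · exact Or.inl ⟨31, by norm_num, by norm_num, by norm_num⟩
  · exact Or.inl ⟨1093, by norm_num, by norm_num, by norm_num⟩
  · exact Or.inl ⟨4373, by norm_num, by norm_num, by norm_num⟩
  · exact Or.inr (Or.inl ⟨2, 3, 1, 7, by norm_num, by norm_num, by norm_num⟩)
  · exact Or.inr (Or.inl ⟨5, 7, 4, 1, by norm_num, by norm_num, by norm_num⟩)
  · exact Or.inl ⟨547, by norm_num, by norm_num, by norm_num⟩
  · exact Or.inl ⟨1459, by norm_num, by norm_num, by norm_num⟩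
  · exact Or.inl ⟨199, by norm_num, by norm_num, by norm_num⟩
  · exact Or.inl ⟨29, by norm_num, by norm_num, by norm_num⟩
  · exact Or.inl ⟨73, by norm_num, by norm_num, by norm_num⟩
  · exact Or.inl ⟨337, by norm_num, by norm_num, by norm_num⟩
  · exact Or.inl ⟨313, by norm_num, by norm_num, by norm_num⟩
  · exact Or.inl ⟨487, by norm_num, by norm_num, by norm_num⟩
  · exact Or.inl ⟨137, by norm_num, by norm_num, by norm_num⟩
  · exact Or.inl ⟨877, by norm_num, by norm_num, by norm_num⟩
  · exact Or.inl ⟨17, by norm_num, by norm_num, by norm_num⟩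
  · exact Or.inl ⟨41, by norm_num, by norm_num, by norm_num⟩
  · exact Or.inl ⟨1097, by norm_num, by norm_num, by norm_num⟩
  · exact Or.inl ⟨19, by norm_num, by norm_num, by norm_num⟩
  · exact Or.inl ⟨439, by norm_num, by norm_num, by norm_num⟩
  · exact Or.inl ⟨4391, by norm_num, by norm_num, by norm_num⟩
  · exact Or.inl ⟨61, by norm_num, by norm_num, by norm_num⟩
  · exact Or.inl ⟨23, by norm_num, by norm_num, by norm_num⟩
  · exact Or.inr (Or.inl ⟨2, 13, 1, 3, by norm_num, by norm_num, by norm_num⟩)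
  · exact Or.inl ⟨293, by norm_num, by norm_num, by norm_num⟩
  · exact Or.inl ⟨157, by norm_num, by norm_num, by norm_num⟩

theorem cls_4397_4504 (n : ℕ) (h1 : 4397 ≤ n) (h2 : n ≤ 4504) : Cls n := by
  unfold Cls
  interval_cases n
  · exact Or.inl ⟨4397, by norm_num, by norm_num, by norm_num⟩
  · exact Or.inl ⟨733, by norm_num, by norm_num, by norm_num⟩
  · exact Or.inl ⟨53, by norm_num, by norm_num, by norm_num⟩
  · exact Or.inr (Or.inr (Or.inr (Or.inr (Or.inr (by decide)))))
  · exact Or.inl ⟨163, by norm_num, by norm_num, by norm_num⟩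
  · exact Or.inl ⟨31, by norm_num, by norm_num, by norm_num⟩
  · exact Or.inl ⟨17, by norm_num, by norm_num, by norm_num⟩
  · exact Or.inl ⟨367, by norm_num, by norm_num, by norm_num⟩
  · exact Or.inl ⟨881, by norm_num, by norm_num, by norm_num⟩
  · exact Or.inl ⟨2203, by norm_num, by norm_num, by norm_num⟩
  · exact Or.inl ⟨113, by norm_num, by norm_num, by norm_num⟩
  · exact Or.inl ⟨19, by norm_num, by norm_num, by norm_num⟩
  · exact Or.inl ⟨4409, by norm_num, by norm_num, by norm_num⟩
  · exact Or.inr (Or.inr (Or.inl ⟨2205, by decide, by norm_num, by norm_num⟩))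
  · exact Or.inl ⟨401, by norm_num, by norm_num, by norm_num⟩
  · exact Or.inl ⟨1103, by norm_num, by norm_num, by norm_num⟩
  · exact Or.inl ⟨1471, by norm_num, by norm_num, by norm_num⟩
  · exact Or.inl ⟨2207, by norm_num, by norm_num, by norm_num⟩
  · exact Or.inl ⟨883, by norm_num, by norm_num, by norm_num⟩
  · exact Or.inl ⟨23, by norm_num, by norm_num, by norm_num⟩
  · exact Or.inl ⟨631, by norm_num, by norm_num, by norm_num⟩
  · exact Or.inl ⟨47, by norm_num, by norm_num, by norm_num⟩
  · exact Or.inl ⟨491, by norm_num, by norm_num, by norm_num⟩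
  · exact Or.inl ⟨17, by norm_num, by norm_num, by norm_num⟩
  · exact Or.inl ⟨4421, by norm_num, by norm_num, by norm_num⟩
  · exact Or.inl ⟨67, by norm_num, by norm_num, by norm_num⟩
  · exact Or.inl ⟨4423, by norm_num, by norm_num, by norm_num⟩
  · exact Or.inl ⟨79, by norm_num, by norm_num, by norm_num⟩
  · exact Or.inl ⟨59, by norm_num, by norm_num, by norm_num⟩
  · exact Or.inl ⟨2213, by norm_num, by norm_num, by norm_num⟩
  · exact Or.inl ⟨19, by norm_num, by norm_num, by norm_num⟩
  · exact Or.inl ⟨41, by norm_num, by norm_num, by norm_num⟩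
  · exact Or.inl ⟨43, by norm_num, by norm_num, by norm_num⟩
  · exact Or.inl ⟨443, by norm_num, by norm_num, by norm_num⟩
  · exact Or.inl ⟨211, by norm_num, by norm_num, by norm_num⟩
  · exact Or.inl ⟨277, by norm_num, by norm_num, by norm_num⟩
  · exact Or.inl ⟨31, by norm_num, by norm_num, by norm_num⟩
  · exact Or.inl ⟨739, by norm_num, by norm_num, by norm_num⟩
  · exact Or.inl ⟨887, by norm_num, by norm_num, by norm_num⟩
  · exact Or.inl ⟨1109, by norm_num, by norm_num, by norm_num⟩
  · exact Or.inl ⟨17, by norm_num, by norm_num, by norm_num⟩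
  · exact Or.inl ⟨317, by norm_num, by norm_num, by norm_num⟩
  · exact Or.inl ⟨23, by norm_num, by norm_num, by norm_num⟩
  · exact Or.inl ⟨37, by norm_num, by norm_num, by norm_num⟩
  · exact Or.inl ⟨4441, by norm_num, by norm_num, by norm_num⟩
  · exact Or.inl ⟨2221, by norm_num, by norm_num, by norm_num⟩
  · exact Or.inl ⟨1481, by norm_num, by norm_num, by norm_num⟩
  · exact Or.inl ⟨101, by norm_num, by norm_num, by norm_num⟩
  · exact Or.inl ⟨127, by norm_num, by norm_num, by norm_num⟩
  · exact Or.inl ⟨19, by norm_num, by norm_num, by norm_num⟩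
  · exact Or.inl ⟨4447, by norm_num, by norm_num, by norm_num⟩
  · exact Or.inl ⟨139, by norm_num, by norm_num, by norm_num⟩
  · exact Or.inl ⟨1483, by norm_num, by norm_num, by norm_num⟩
  · exact Or.inl ⟨89, by norm_num, by norm_num, by norm_num⟩
  · exact Or.inl ⟨4451, by norm_num, by norm_num, by norm_num⟩
  · exact Or.inl ⟨53, by norm_num, by norm_num, by norm_num⟩
  · exact Or.inl ⟨61, by norm_num, by norm_num, by norm_num⟩
  · exact Or.inl ⟨17, by norm_num, by norm_num, by norm_num⟩
  · exact Or.inr (Or.inr (Or.inr (Or.inr (Or.inr (by decide)))))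
  · exact Or.inl ⟨557, by norm_num, by norm_num, by norm_num⟩
  · exact Or.inl ⟨4457, by norm_num, by norm_num, by norm_num⟩
  · exact Or.inl ⟨743, by norm_num, by norm_num, by norm_num⟩
  · exact Or.inr (Or.inl ⟨7, 13, 3, 1, by norm_num, by norm_num, by norm_num⟩)
  · exact Or.inl ⟨223, by norm_num, by norm_num, by norm_num⟩
  · exact Or.inl ⟨1487, by norm_num, by norm_num, by norm_num⟩
  · exact Or.inl ⟨23, by norm_num, by norm_num, by norm_num⟩
  · exact Or.inl ⟨4463, by norm_num, by norm_num, by norm_num⟩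
  · exact Or.inl ⟨31, by norm_num, by norm_num, by norm_num⟩
  · exact Or.inl ⟨19, by norm_num, by norm_num, by norm_num⟩
  · exact Or.inl ⟨29, by norm_num, by norm_num, by norm_num⟩
  · exact Or.inl ⟨1489, by norm_num, by norm_num, by norm_num⟩
  · exact Or.inl ⟨1117, by norm_num, by norm_num, by norm_num⟩
  · exact Or.inl ⟨41, by norm_num, by norm_num, by norm_num⟩
  · exact Or.inl ⟨149, by norm_num, by norm_num, by norm_num⟩
  · exact Or.inl ⟨17, by norm_num, by norm_num, by norm_num⟩
  · exact Or.inl ⟨43, by norm_num, by norm_num, by norm_num⟩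
  · exact Or.inl ⟨71, by norm_num, by norm_num, by norm_num⟩
  · exact Or.inl ⟨2237, by norm_num, by norm_num, by norm_num⟩
  · exact Or.inl ⟨179, by norm_num, by norm_num, by norm_num⟩
  · exact Or.inl ⟨373, by norm_num, by norm_num, by norm_num⟩
  · exact Or.inl ⟨37, by norm_num, by norm_num, by norm_num⟩
  · exact Or.inl ⟨2239, by norm_num, by norm_num, by norm_num⟩
  · exact Or.inl ⟨1493, by norm_num, by norm_num, by norm_num⟩
  · exact Or.inr (Or.inr (Or.inr (Or.inr (Or.inr (by decide)))))
  · exact Or.inl ⟨4481, by norm_num, by norm_num, by norm_num⟩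
  · exact Or.inl ⟨83, by norm_num, by norm_num, by norm_num⟩
  · exact Or.inl ⟨4483, by norm_num, by norm_num, by norm_num⟩
  · exact Or.inl ⟨19, by norm_num, by norm_num, by norm_num⟩
  · exact Or.inl ⟨23, by norm_num, by norm_num, by norm_num⟩
  · exact Or.inl ⟨2243, by norm_num, by norm_num, by norm_num⟩
  · exact Or.inl ⟨641, by norm_num, by norm_num, by norm_num⟩
  · exact Or.inl ⟨17, by norm_num, by norm_num, by norm_num⟩
  · exact Or.inl ⟨67, by norm_num, by norm_num, by norm_num⟩
  · exact Or.inl ⟨449, by norm_num, by norm_num, by norm_num⟩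
  · exact Or.inl ⟨499, by norm_num, by norm_num, by norm_num⟩
  · exact Or.inl ⟨1123, by norm_num, by norm_num, by norm_num⟩
  · exact Or.inl ⟨4493, by norm_num, by norm_num, by norm_num⟩
  · exact Or.inl ⟨107, by norm_num, by norm_num, by norm_num⟩
  · exact Or.inl ⟨29, by norm_num, by norm_num, by norm_num⟩
  · exact Or.inl ⟨281, by norm_num, by norm_num, by norm_num⟩
  · exact Or.inl ⟨1499, by norm_num, by norm_num, by norm_num⟩
  · exact Or.inl ⟨173, by norm_num, by norm_num, by norm_num⟩
  · exact Or.inl ⟨409, by norm_num, by norm_num, by norm_num⟩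
  · exact Or.inr (Or.inr (Or.inr (Or.inr (Or.inr (by decide)))))
  · exact Or.inl ⟨643, by norm_num, by norm_num, by norm_num⟩
  · exact Or.inl ⟨2251, by norm_num, by norm_num, by norm_num⟩
  · exact Or.inl ⟨19, by norm_num, by norm_num, by norm_num⟩
  · exact Or.inl ⟨563, by norm_num, by norm_num, by norm_num⟩

theorem cls_4505_4612 (n : ℕ) (h1 : 4505 ≤ n) (h2 : n ≤ 4612) : Cls n := by
  unfold Cls
  interval_cases n
  · exact Or.inl ⟨17, by norm_num, by norm_num, by norm_num⟩
  · exact Or.inl ⟨751, by norm_num, by norm_num, by norm_num⟩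
  · exact Or.inl ⟨4507, by norm_num, by norm_num, by norm_num⟩
  · exact Or.inl ⟨23, by norm_num, by norm_num, by norm_num⟩
  · exact Or.inl ⟨167, by norm_num, by norm_num, by norm_num⟩
  · exact Or.inl ⟨41, by norm_num, by norm_num, by norm_num⟩
  · exact Or.inl ⟨347, by norm_num, by norm_num, by norm_num⟩
  · exact Or.inl ⟨47, by norm_num, by norm_num, by norm_num⟩
  · exact Or.inl ⟨4513, by norm_num, by norm_num, by norm_num⟩
  · exact Or.inl ⟨37, by norm_num, by norm_num, by norm_num⟩
  · exact Or.inl ⟨43, by norm_num, by norm_num, by norm_num⟩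
  · exact Or.inl ⟨1129, by norm_num, by norm_num, by norm_num⟩
  · exact Or.inl ⟨4517, by norm_num, by norm_num, by norm_num⟩
  · exact Or.inl ⟨251, by norm_num, by norm_num, by norm_num⟩
  · exact Or.inl ⟨4519, by norm_num, by norm_num, by norm_num⟩
  · exact Or.inl ⟨113, by norm_num, by norm_num, by norm_num⟩
  · exact Or.inl ⟨137, by norm_num, by norm_num, by norm_num⟩
  · exact Or.inl ⟨17, by norm_num, by norm_num, by norm_num⟩
  · exact Or.inl ⟨4523, by norm_num, by norm_num, by norm_num⟩
  · exact Or.inl ⟨29, by norm_num, by norm_num, by norm_num⟩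
  · exact Or.inl ⟨181, by norm_num, by norm_num, by norm_num⟩
  · exact Or.inl ⟨31, by norm_num, by norm_num, by norm_num⟩
  · exact Or.inl ⟨503, by norm_num, by norm_num, by norm_num⟩
  · exact Or.inl ⟨283, by norm_num, by norm_num, by norm_num⟩
  · exact Or.inl ⟨647, by norm_num, by norm_num, by norm_num⟩
  · exact Or.inl ⟨151, by norm_num, by norm_num, by norm_num⟩
  · exact Or.inl ⟨23, by norm_num, by norm_num, by norm_num⟩
  · exact Or.inl ⟨103, by norm_num, by norm_num, by norm_num⟩
  · exact Or.inl ⟨1511, by norm_num, by norm_num, by norm_num⟩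
  · exact Or.inl ⟨2267, by norm_num, by norm_num, by norm_num⟩
  · exact Or.inl ⟨907, by norm_num, by norm_num, by norm_num⟩
  · exact Or.inr (Or.inr (Or.inr (Or.inr (Or.inr (by decide)))))
  · exact Or.inl ⟨349, by norm_num, by norm_num, by norm_num⟩
  · exact Or.inl ⟨2269, by norm_num, by norm_num, by norm_num⟩
  · exact Or.inl ⟨17, by norm_num, by norm_num, by norm_num⟩
  · exact Or.inl ⟨227, by norm_num, by norm_num, by norm_num⟩
  · exact Or.inl ⟨19, by norm_num, by norm_num, by norm_num⟩
  · exact Or.inl ⟨757, by norm_num, by norm_num, by norm_num⟩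
  · exact Or.inl ⟨59, by norm_num, by norm_num, by norm_num⟩
  · exact Or.inl ⟨71, by norm_num, by norm_num, by norm_num⟩
  · exact Or.inl ⟨101, by norm_num, by norm_num, by norm_num⟩
  · exact Or.inl ⟨2273, by norm_num, by norm_num, by norm_num⟩
  · exact Or.inl ⟨4547, by norm_num, by norm_num, by norm_num⟩
  · exact Or.inl ⟨379, by norm_num, by norm_num, by norm_num⟩
  · exact Or.inl ⟨4549, by norm_num, by norm_num, by norm_num⟩
  · exact Or.inr (Or.inr (Or.inl ⟨2275, by decide, by norm_num, by norm_num⟩))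
  · exact Or.inl ⟨37, by norm_num, by norm_num, by norm_num⟩
  · exact Or.inl ⟨569, by norm_num, by norm_num, by norm_num⟩
  · exact Or.inl ⟨29, by norm_num, by norm_num, by norm_num⟩
  · exact Or.inl ⟨23, by norm_num, by norm_num, by norm_num⟩
  · exact Or.inl ⟨911, by norm_num, by norm_num, by norm_num⟩
  · exact Or.inl ⟨17, by norm_num, by norm_num, by norm_num⟩
  · exact Or.inl ⟨31, by norm_num, by norm_num, by norm_num⟩
  · exact Or.inl ⟨43, by norm_num, by norm_num, by norm_num⟩
  · exact Or.inl ⟨47, by norm_num, by norm_num, by norm_num⟩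
  · exact Or.inl ⟨19, by norm_num, by norm_num, by norm_num⟩
  · exact Or.inl ⟨4561, by norm_num, by norm_num, by norm_num⟩
  · exact Or.inl ⟨2281, by norm_num, by norm_num, by norm_num⟩
  · exact Or.inr (Or.inl ⟨3, 13, 3, 2, by norm_num, by norm_num, by norm_num⟩)
  · exact Or.inl ⟨163, by norm_num, by norm_num, by norm_num⟩
  · exact Or.inl ⟨83, by norm_num, by norm_num, by norm_num⟩
  · exact Or.inl ⟨761, by norm_num, by norm_num, by norm_num⟩
  · exact Or.inl ⟨4567, by norm_num, by norm_num, by norm_num⟩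
  · exact Or.inl ⟨571, by norm_num, by norm_num, by norm_num⟩
  · exact Or.inl ⟨1523, by norm_num, by norm_num, by norm_num⟩
  · exact Or.inl ⟨457, by norm_num, by norm_num, by norm_num⟩
  · exact Or.inl ⟨653, by norm_num, by norm_num, by norm_num⟩
  · exact Or.inl ⟨127, by norm_num, by norm_num, by norm_num⟩
  · exact Or.inl ⟨17, by norm_num, by norm_num, by norm_num⟩
  · exact Or.inl ⟨2287, by norm_num, by norm_num, by norm_num⟩
  · exact Or.inl ⟨61, by norm_num, by norm_num, by norm_num⟩
  · exact Or.inr (Or.inr (Or.inr (Or.inr (Or.inr (by decide)))))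
  · exact Or.inl ⟨23, by norm_num, by norm_num, by norm_num⟩
  · exact Or.inl ⟨109, by norm_num, by norm_num, by norm_num⟩
  · exact Or.inl ⟨19, by norm_num, by norm_num, by norm_num⟩
  · exact Or.inl ⟨229, by norm_num, by norm_num, by norm_num⟩
  · exact Or.inl ⟨509, by norm_num, by norm_num, by norm_num⟩
  · exact Or.inl ⟨29, by norm_num, by norm_num, by norm_num⟩
  · exact Or.inl ⟨4583, by norm_num, by norm_num, by norm_num⟩
  · exact Or.inl ⟨191, by norm_num, by norm_num, by norm_num⟩
  · exact Or.inl ⟨131, by norm_num, by norm_num, by norm_num⟩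
  · exact Or.inl ⟨2293, by norm_num, by norm_num, by norm_num⟩
  · exact Or.inl ⟨139, by norm_num, by norm_num, by norm_num⟩
  · exact Or.inl ⟨31, by norm_num, by norm_num, by norm_num⟩
  · exact Or.inl ⟨353, by norm_num, by norm_num, by norm_num⟩
  · exact Or.inl ⟨17, by norm_num, by norm_num, by norm_num⟩
  · exact Or.inl ⟨4591, by norm_num, by norm_num, by norm_num⟩
  · exact Or.inl ⟨41, by norm_num, by norm_num, by norm_num⟩
  · exact Or.inl ⟨1531, by norm_num, by norm_num, by norm_num⟩
  · exact Or.inl ⟨2297, by norm_num, by norm_num, by norm_num⟩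
  · exact Or.inl ⟨919, by norm_num, by norm_num, by norm_num⟩
  · exact Or.inl ⟨383, by norm_num, by norm_num, by norm_num⟩
  · exact Or.inl ⟨4597, by norm_num, by norm_num, by norm_num⟩
  · exact Or.inl ⟨19, by norm_num, by norm_num, by norm_num⟩
  · exact Or.inl ⟨73, by norm_num, by norm_num, by norm_num⟩
  · exact Or.inl ⟨23, by norm_num, by norm_num, by norm_num⟩
  · exact Or.inl ⟨43, by norm_num, by norm_num, by norm_num⟩
  · exact Or.inl ⟨59, by norm_num, by norm_num, by norm_num⟩
  · exact Or.inl ⟨4603, by norm_num, by norm_num, by norm_num⟩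
  · exact Or.inl ⟨1151, by norm_num, by norm_num, by norm_num⟩
  · exact Or.inl ⟨307, by norm_num, by norm_num, by norm_num⟩
  · exact Or.inl ⟨47, by norm_num, by norm_num, by norm_num⟩
  · exact Or.inl ⟨17, by norm_num, by norm_num, by norm_num⟩
  · exact Or.inr (Or.inl ⟨2, 3, 9, 2, by norm_num, by norm_num, by norm_num⟩)
  · exact Or.inl ⟨419, by norm_num, by norm_num, by norm_num⟩
  · exact Or.inl ⟨461, by norm_num, by norm_num, by norm_num⟩
  · exact Or.inl ⟨29, by norm_num, by norm_num, by norm_num⟩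
  · exact Or.inl ⟨1153, by norm_num, by norm_num, by norm_num⟩

theorem cls_4613_4720 (n : ℕ) (h1 : 4613 ≤ n) (h2 : n ≤ 4720) : Cls n := by
  unfold Cls
  interval_cases n
  · exact Or.inl ⟨659, by norm_num, by norm_num, by norm_num⟩
  · exact Or.inl ⟨769, by norm_num, by norm_num, by norm_num⟩
  · exact Or.inl ⟨71, by norm_num, by norm_num, by norm_num⟩
  · exact Or.inl ⟨577, by norm_num, by norm_num, by norm_num⟩
  · exact Or.inl ⟨19, by norm_num, by norm_num, by norm_num⟩
  · exact Or.inl ⟨2309, by norm_num, by norm_num, by norm_num⟩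
  · exact Or.inl ⟨31, by norm_num, by norm_num, by norm_num⟩
  · exact Or.inr (Or.inr (Or.inr (Or.inr (Or.inr (by decide)))))
  · exact Or.inl ⟨4621, by norm_num, by norm_num, by norm_num⟩
  · exact Or.inl ⟨2311, by norm_num, by norm_num, by norm_num⟩
  · exact Or.inl ⟨23, by norm_num, by norm_num, by norm_num⟩
  · exact Or.inl ⟨17, by norm_num, by norm_num, by norm_num⟩
  · exact Or.inl ⟨37, by norm_num, by norm_num, by norm_num⟩
  · exact Or.inl ⟨257, by norm_num, by norm_num, by norm_num⟩
  · exact Or.inl ⟨661, by norm_num, by norm_num, by norm_num⟩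
  · exact Or.inl ⟨89, by norm_num, by norm_num, by norm_num⟩
  · exact Or.inl ⟨1543, by norm_num, by norm_num, by norm_num⟩
  · exact Or.inl ⟨463, by norm_num, by norm_num, by norm_num⟩
  · exact Or.inl ⟨421, by norm_num, by norm_num, by norm_num⟩
  · exact Or.inl ⟨193, by norm_num, by norm_num, by norm_num⟩
  · exact Or.inl ⟨41, by norm_num, by norm_num, by norm_num⟩
  · exact Or.inl ⟨331, by norm_num, by norm_num, by norm_num⟩
  · exact Or.inl ⟨103, by norm_num, by norm_num, by norm_num⟩
  · exact Or.inl ⟨19, by norm_num, by norm_num, by norm_num⟩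
  · exact Or.inl ⟨4637, by norm_num, by norm_num, by norm_num⟩
  · exact Or.inl ⟨773, by norm_num, by norm_num, by norm_num⟩
  · exact Or.inl ⟨4639, by norm_num, by norm_num, by norm_num⟩
  · exact Or.inl ⟨29, by norm_num, by norm_num, by norm_num⟩
  · exact Or.inl ⟨17, by norm_num, by norm_num, by norm_num⟩
  · exact Or.inl ⟨211, by norm_num, by norm_num, by norm_num⟩
  · exact Or.inl ⟨4643, by norm_num, by norm_num, by norm_num⟩
  · exact Or.inl ⟨43, by norm_num, by norm_num, by norm_num⟩
  · exact Or.inl ⟨929, by norm_num, by norm_num, by norm_num⟩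
  · exact Or.inl ⟨23, by norm_num, by norm_num, by norm_num⟩
  · exact Or.inl ⟨1549, by norm_num, by norm_num, by norm_num⟩
  · exact Or.inl ⟨83, by norm_num, by norm_num, by norm_num⟩
  · exact Or.inl ⟨4649, by norm_num, by norm_num, by norm_num⟩
  · exact Or.inl ⟨31, by norm_num, by norm_num, by norm_num⟩
  · exact Or.inl ⟨4651, by norm_num, by norm_num, by norm_num⟩
  · exact Or.inl ⟨1163, by norm_num, by norm_num, by norm_num⟩
  · exact Or.inl ⟨47, by norm_num, by norm_num, by norm_num⟩
  · exact Or.inl ⟨179, by norm_num, by norm_num, by norm_num⟩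
  · exact Or.inl ⟨19, by norm_num, by norm_num, by norm_num⟩
  · exact Or.inl ⟨97, by norm_num, by norm_num, by norm_num⟩
  · exact Or.inl ⟨4657, by norm_num, by norm_num, by norm_num⟩
  · exact Or.inl ⟨17, by norm_num, by norm_num, by norm_num⟩
  · exact Or.inl ⟨1553, by norm_num, by norm_num, by norm_num⟩
  · exact Or.inl ⟨233, by norm_num, by norm_num, by norm_num⟩
  · exact Or.inl ⟨59, by norm_num, by norm_num, by norm_num⟩
  · exact Or.inl ⟨37, by norm_num, by norm_num, by norm_num⟩
  · exact Or.inl ⟨4663, by norm_num, by norm_num, by norm_num⟩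
  · exact Or.inl ⟨53, by norm_num, by norm_num, by norm_num⟩
  · exact Or.inl ⟨311, by norm_num, by norm_num, by norm_num⟩
  · exact Or.inl ⟨2333, by norm_num, by norm_num, by norm_num⟩
  · exact Or.inl ⟨359, by norm_num, by norm_num, by norm_num⟩
  · exact Or.inl ⟨389, by norm_num, by norm_num, by norm_num⟩
  · exact Or.inl ⟨23, by norm_num, by norm_num, by norm_num⟩
  · exact Or.inl ⟨467, by norm_num, by norm_num, by norm_num⟩
  · exact Or.inl ⟨173, by norm_num, by norm_num, by norm_num⟩
  · exact Or.inl ⟨73, by norm_num, by norm_num, by norm_num⟩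
  · exact Or.inl ⟨4673, by norm_num, by norm_num, by norm_num⟩
  · exact Or.inl ⟨19, by norm_num, by norm_num, by norm_num⟩
  · exact Or.inl ⟨17, by norm_num, by norm_num, by norm_num⟩
  · exact Or.inl ⟨167, by norm_num, by norm_num, by norm_num⟩
  · exact Or.inl ⟨1559, by norm_num, by norm_num, by norm_num⟩
  · exact Or.inl ⟨2339, by norm_num, by norm_num, by norm_num⟩
  · exact Or.inl ⟨4679, by norm_num, by norm_num, by norm_num⟩
  · exact Or.inr (Or.inr (Or.inr (Or.inr (Or.inr (by decide)))))
  · exact Or.inl ⟨31, by norm_num, by norm_num, by norm_num⟩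
  · exact Or.inl ⟨2341, by norm_num, by norm_num, by norm_num⟩
  · exact Or.inl ⟨223, by norm_num, by norm_num, by norm_num⟩
  · exact Or.inl ⟨1171, by norm_num, by norm_num, by norm_num⟩
  · exact Or.inl ⟨937, by norm_num, by norm_num, by norm_num⟩
  · exact Or.inl ⟨71, by norm_num, by norm_num, by norm_num⟩
  · exact Or.inl ⟨43, by norm_num, by norm_num, by norm_num⟩
  · exact Or.inl ⟨293, by norm_num, by norm_num, by norm_num⟩
  · exact Or.inl ⟨521, by norm_num, by norm_num, by norm_num⟩
  · exact Or.inl ⟨67, by norm_num, by norm_num, by norm_num⟩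
  · exact Or.inl ⟨4691, by norm_num, by norm_num, by norm_num⟩
  · exact Or.inl ⟨17, by norm_num, by norm_num, by norm_num⟩
  · exact Or.inl ⟨19, by norm_num, by norm_num, by norm_num⟩
  · exact Or.inl ⟨2347, by norm_num, by norm_num, by norm_num⟩
  · exact Or.inl ⟨313, by norm_num, by norm_num, by norm_num⟩
  · exact Or.inl ⟨587, by norm_num, by norm_num, by norm_num⟩
  · exact Or.inl ⟨61, by norm_num, by norm_num, by norm_num⟩
  · exact Or.inl ⟨29, by norm_num, by norm_num, by norm_num⟩
  · exact Or.inl ⟨37, by norm_num, by norm_num, by norm_num⟩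
  · exact Or.inl ⟨47, by norm_num, by norm_num, by norm_num⟩
  · exact Or.inl ⟨1567, by norm_num, by norm_num, by norm_num⟩
  · exact Or.inl ⟨2351, by norm_num, by norm_num, by norm_num⟩
  · exact Or.inl ⟨4703, by norm_num, by norm_num, by norm_num⟩
  · exact Or.inr (Or.inr (Or.inr (Or.inr (Or.inr (by decide)))))
  · exact Or.inl ⟨941, by norm_num, by norm_num, by norm_num⟩
  · exact Or.inl ⟨181, by norm_num, by norm_num, by norm_num⟩
  · exact Or.inl ⟨523, by norm_num, by norm_num, by norm_num⟩
  · exact Or.inl ⟨107, by norm_num, by norm_num, by norm_num⟩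
  · exact Or.inl ⟨17, by norm_num, by norm_num, by norm_num⟩
  · exact Or.inl ⟨157, by norm_num, by norm_num, by norm_num⟩
  · exact Or.inl ⟨673, by norm_num, by norm_num, by norm_num⟩
  · exact Or.inl ⟨19, by norm_num, by norm_num, by norm_num⟩
  · exact Or.inl ⟨1571, by norm_num, by norm_num, by norm_num⟩
  · exact Or.inl ⟨2357, by norm_num, by norm_num, by norm_num⟩
  · exact Or.inl ⟨23, by norm_num, by norm_num, by norm_num⟩
  · exact Or.inl ⟨131, by norm_num, by norm_num, by norm_num⟩
  · exact Or.inl ⟨53, by norm_num, by norm_num, by norm_num⟩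
  · exact Or.inl ⟨337, by norm_num, by norm_num, by norm_num⟩
  · exact Or.inr (Or.inr (Or.inr (Or.inr (Or.inl ⟨3, by norm_num, by norm_num, by norm_num⟩))))
  · exact Or.inl ⟨59, by norm_num, by norm_num, by norm_num⟩

theorem cls_4721_4828 (n : ℕ) (h1 : 4721 ≤ n) (h2 : n ≤ 4828) : Cls n := by
  unfold Cls
  interval_cases n
  · exact Or.inl ⟨4721, by norm_num, by norm_num, by norm_num⟩
  · exact Or.inl ⟨787, by norm_num, by norm_num, by norm_num⟩
  · exact Or.inl ⟨4723, by norm_num, by norm_num, by norm_num⟩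
  · exact Or.inl ⟨1181, by norm_num, by norm_num, by norm_num⟩
  · exact Or.inr (Or.inr (Or.inr (Or.inr (Or.inr (by decide)))))
  · exact Or.inl ⟨17, by norm_num, by norm_num, by norm_num⟩
  · exact Or.inl ⟨29, by norm_num, by norm_num, by norm_num⟩
  · exact Or.inl ⟨197, by norm_num, by norm_num, by norm_num⟩
  · exact Or.inl ⟨4729, by norm_num, by norm_num, by norm_num⟩
  · exact Or.inl ⟨43, by norm_num, by norm_num, by norm_num⟩
  · exact Or.inl ⟨19, by norm_num, by norm_num, by norm_num⟩
  · exact Or.inr (Or.inr (Or.inr (Or.inl ⟨by decide, by omega⟩)))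
  · exact Or.inl ⟨4733, by norm_num, by norm_num, by norm_num⟩
  · exact Or.inl ⟨263, by norm_num, by norm_num, by norm_num⟩
  · exact Or.inl ⟨947, by norm_num, by norm_num, by norm_num⟩
  · exact Or.inl ⟨37, by norm_num, by norm_num, by norm_num⟩
  · exact Or.inl ⟨1579, by norm_num, by norm_num, by norm_num⟩
  · exact Or.inl ⟨23, by norm_num, by norm_num, by norm_num⟩
  · exact Or.inl ⟨677, by norm_num, by norm_num, by norm_num⟩
  · exact Or.inl ⟨79, by norm_num, by norm_num, by norm_num⟩
  · exact Or.inl ⟨431, by norm_num, by norm_num, by norm_num⟩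
  · exact Or.inl ⟨2371, by norm_num, by norm_num, by norm_num⟩
  · exact Or.inl ⟨17, by norm_num, by norm_num, by norm_num⟩
  · exact Or.inl ⟨593, by norm_num, by norm_num, by norm_num⟩
  · exact Or.inl ⟨73, by norm_num, by norm_num, by norm_num⟩
  · exact Or.inl ⟨113, by norm_num, by norm_num, by norm_num⟩
  · exact Or.inl ⟨47, by norm_num, by norm_num, by norm_num⟩
  · exact Or.inl ⟨1187, by norm_num, by norm_num, by norm_num⟩
  · exact Or.inl ⟨1583, by norm_num, by norm_num, by norm_num⟩
  · exact Or.inl ⟨19, by norm_num, by norm_num, by norm_num⟩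
  · exact Or.inl ⟨4751, by norm_num, by norm_num, by norm_num⟩
  · exact Or.inr (Or.inr (Or.inr (Or.inr (Or.inr (by decide)))))
  · exact Or.inl ⟨97, by norm_num, by norm_num, by norm_num⟩
  · exact Or.inl ⟨2377, by norm_num, by norm_num, by norm_num⟩
  · exact Or.inl ⟨317, by norm_num, by norm_num, by norm_num⟩
  · exact Or.inl ⟨29, by norm_num, by norm_num, by norm_num⟩
  · exact Or.inl ⟨67, by norm_num, by norm_num, by norm_num⟩
  · exact Or.inl ⟨61, by norm_num, by norm_num, by norm_num⟩
  · exact Or.inl ⟨4759, by norm_num, by norm_num, by norm_num⟩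
  · exact Or.inl ⟨17, by norm_num, by norm_num, by norm_num⟩
  · exact Or.inl ⟨23, by norm_num, by norm_num, by norm_num⟩
  · exact Or.inl ⟨2381, by norm_num, by norm_num, by norm_num⟩
  · exact Or.inl ⟨433, by norm_num, by norm_num, by norm_num⟩
  · exact Or.inl ⟨397, by norm_num, by norm_num, by norm_num⟩
  · exact Or.inl ⟨953, by norm_num, by norm_num, by norm_num⟩
  · exact Or.inl ⟨2383, by norm_num, by norm_num, by norm_num⟩
  · exact Or.inl ⟨227, by norm_num, by norm_num, by norm_num⟩
  · exact Or.inl ⟨149, by norm_num, by norm_num, by norm_num⟩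
  · exact Or.inl ⟨19, by norm_num, by norm_num, by norm_num⟩
  · exact Or.inl ⟨53, by norm_num, by norm_num, by norm_num⟩
  · exact Or.inl ⟨367, by norm_num, by norm_num, by norm_num⟩
  · exact Or.inl ⟨1193, by norm_num, by norm_num, by norm_num⟩
  · exact Or.inl ⟨37, by norm_num, by norm_num, by norm_num⟩
  · exact Or.inl ⟨31, by norm_num, by norm_num, by norm_num⟩
  · exact Or.inl ⟨191, by norm_num, by norm_num, by norm_num⟩
  · exact Or.inl ⟨199, by norm_num, by norm_num, by norm_num⟩
  · exact Or.inl ⟨17, by norm_num, by norm_num, by norm_num⟩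
  · exact Or.inl ⟨2389, by norm_num, by norm_num, by norm_num⟩
  · exact Or.inl ⟨59, by norm_num, by norm_num, by norm_num⟩
  · exact Or.inl ⟨239, by norm_num, by norm_num, by norm_num⟩
  · exact Or.inl ⟨683, by norm_num, by norm_num, by norm_num⟩
  · exact Or.inl ⟨797, by norm_num, by norm_num, by norm_num⟩
  · exact Or.inl ⟨4783, by norm_num, by norm_num, by norm_num⟩
  · exact Or.inl ⟨23, by norm_num, by norm_num, by norm_num⟩
  · exact Or.inl ⟨29, by norm_num, by norm_num, by norm_num⟩
  · exact Or.inl ⟨2393, by norm_num, by norm_num, by norm_num⟩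
  · exact Or.inl ⟨4787, by norm_num, by norm_num, by norm_num⟩
  · exact Or.inl ⟨19, by norm_num, by norm_num, by norm_num⟩
  · exact Or.inl ⟨4789, by norm_num, by norm_num, by norm_num⟩
  · exact Or.inl ⟨479, by norm_num, by norm_num, by norm_num⟩
  · exact Or.inl ⟨1597, by norm_num, by norm_num, by norm_num⟩
  · exact Or.inl ⟨599, by norm_num, by norm_num, by norm_num⟩
  · exact Or.inl ⟨4793, by norm_num, by norm_num, by norm_num⟩
  · exact Or.inl ⟨17, by norm_num, by norm_num, by norm_num⟩
  · exact Or.inl ⟨137, by norm_num, by norm_num, by norm_num⟩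
  · exact Or.inl ⟨109, by norm_num, by norm_num, by norm_num⟩
  · exact Or.inl ⟨41, by norm_num, by norm_num, by norm_num⟩
  · exact Or.inl ⟨2399, by norm_num, by norm_num, by norm_num⟩
  · exact Or.inl ⟨4799, by norm_num, by norm_num, by norm_num⟩
  · exact Or.inr (Or.inr (Or.inr (Or.inr (Or.inr (by decide)))))
  · exact Or.inl ⟨4801, by norm_num, by norm_num, by norm_num⟩
  · exact Or.inr (Or.inl ⟨2, 7, 1, 4, by norm_num, by norm_num, by norm_num⟩)
  · exact Or.inl ⟨1601, by norm_num, by norm_num, by norm_num⟩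
  · exact Or.inl ⟨1201, by norm_num, by norm_num, by norm_num⟩
  · exact Or.inl ⟨31, by norm_num, by norm_num, by norm_num⟩
  · exact Or.inl ⟨89, by norm_num, by norm_num, by norm_num⟩
  · exact Or.inl ⟨19, by norm_num, by norm_num, by norm_num⟩
  · exact Or.inl ⟨601, by norm_num, by norm_num, by norm_num⟩
  · exact Or.inl ⟨229, by norm_num, by norm_num, by norm_num⟩
  · exact Or.inl ⟨37, by norm_num, by norm_num, by norm_num⟩
  · exact Or.inl ⟨17, by norm_num, by norm_num, by norm_num⟩
  · exact Or.inl ⟨401, by norm_num, by norm_num, by norm_num⟩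
  · exact Or.inl ⟨4813, by norm_num, by norm_num, by norm_num⟩
  · exact Or.inl ⟨29, by norm_num, by norm_num, by norm_num⟩
  · exact Or.inl ⟨107, by norm_num, by norm_num, by norm_num⟩
  · exact Or.inl ⟨43, by norm_num, by norm_num, by norm_num⟩
  · exact Or.inl ⟨4817, by norm_num, by norm_num, by norm_num⟩
  · exact Or.inl ⟨73, by norm_num, by norm_num, by norm_num⟩
  · exact Or.inl ⟨61, by norm_num, by norm_num, by norm_num⟩
  · exact Or.inl ⟨241, by norm_num, by norm_num, by norm_num⟩
  · exact Or.inl ⟨1607, by norm_num, by norm_num, by norm_num⟩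
  · exact Or.inl ⟨2411, by norm_num, by norm_num, by norm_num⟩
  · exact Or.inl ⟨53, by norm_num, by norm_num, by norm_num⟩
  · exact Or.inl ⟨67, by norm_num, by norm_num, by norm_num⟩
  · exact Or.inl ⟨193, by norm_num, by norm_num, by norm_num⟩
  · exact Or.inl ⟨19, by norm_num, by norm_num, by norm_num⟩
  · exact Or.inl ⟨1609, by norm_num, by norm_num, by norm_num⟩
  · exact Or.inl ⟨17, by norm_num, by norm_num, by norm_num⟩

theorem cls_4829_4936 (n : ℕ) (h1 : 4829 ≤ n) (h2 : n ≤ 4936) : Cls n := by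
  unfold Cls
  interval_cases n
  · exact Or.inl ⟨439, by norm_num, by norm_num, by norm_num⟩
  · exact Or.inl ⟨23, by norm_num, by norm_num, by norm_num⟩
  · exact Or.inl ⟨4831, by norm_num, by norm_num, by norm_num⟩
  · exact Or.inl ⟨151, by norm_num, by norm_num, by norm_num⟩
  · exact Or.inl ⟨179, by norm_num, by norm_num, by norm_num⟩
  · exact Or.inl ⟨2417, by norm_num, by norm_num, by norm_num⟩
  · exact Or.inl ⟨967, by norm_num, by norm_num, by norm_num⟩
  · exact Or.inl ⟨31, by norm_num, by norm_num, by norm_num⟩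
  · exact Or.inl ⟨691, by norm_num, by norm_num, by norm_num⟩
  · exact Or.inl ⟨41, by norm_num, by norm_num, by norm_num⟩
  · exact Or.inl ⟨1613, by norm_num, by norm_num, by norm_num⟩
  · exact Or.inr (Or.inr (Or.inr (Or.inl ⟨by decide, by omega⟩)))
  · exact Or.inl ⟨47, by norm_num, by norm_num, by norm_num⟩
  · exact Or.inl ⟨269, by norm_num, by norm_num, by norm_num⟩
  · exact Or.inl ⟨29, by norm_num, by norm_num, by norm_num⟩
  · exact Or.inl ⟨173, by norm_num, by norm_num, by norm_num⟩
  · exact Or.inl ⟨17, by norm_num, by norm_num, by norm_num⟩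
  · exact Or.inl ⟨2423, by norm_num, by norm_num, by norm_num⟩
  · exact Or.inl ⟨37, by norm_num, by norm_num, by norm_num⟩
  · exact Or.inl ⟨101, by norm_num, by norm_num, by norm_num⟩
  · exact Or.inl ⟨373, by norm_num, by norm_num, by norm_num⟩
  · exact Or.inl ⟨97, by norm_num, by norm_num, by norm_num⟩
  · exact Or.inr (Or.inr (Or.inr (Or.inr (Or.inl ⟨3, by norm_num, by norm_num, by norm_num⟩))))
  · exact Or.inl ⟨1213, by norm_num, by norm_num, by norm_num⟩
  · exact Or.inl ⟨23, by norm_num, by norm_num, by norm_num⟩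
  · exact Or.inl ⟨809, by norm_num, by norm_num, by norm_num⟩
  · exact Or.inl ⟨971, by norm_num, by norm_num, by norm_num⟩
  · exact Or.inl ⟨607, by norm_num, by norm_num, by norm_num⟩
  · exact Or.inl ⟨1619, by norm_num, by norm_num, by norm_num⟩
  · exact Or.inl ⟨347, by norm_num, by norm_num, by norm_num⟩
  · exact Or.inl ⟨43, by norm_num, by norm_num, by norm_num⟩
  · exact Or.inr (Or.inr (Or.inr (Or.inr (Or.inr (by decide)))))
  · exact Or.inl ⟨4861, by norm_num, by norm_num, by norm_num⟩
  · exact Or.inl ⟨17, by norm_num, by norm_num, by norm_num⟩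
  · exact Or.inl ⟨1621, by norm_num, by norm_num, by norm_num⟩
  · exact Or.inl ⟨19, by norm_num, by norm_num, by norm_num⟩
  · exact Or.inl ⟨139, by norm_num, by norm_num, by norm_num⟩
  · exact Or.inl ⟨811, by norm_num, by norm_num, by norm_num⟩
  · exact Or.inl ⟨31, by norm_num, by norm_num, by norm_num⟩
  · exact Or.inl ⟨1217, by norm_num, by norm_num, by norm_num⟩
  · exact Or.inl ⟨541, by norm_num, by norm_num, by norm_num⟩
  · exact Or.inl ⟨487, by norm_num, by norm_num, by norm_num⟩
  · exact Or.inl ⟨4871, by norm_num, by norm_num, by norm_num⟩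
  · exact Or.inl ⟨29, by norm_num, by norm_num, by norm_num⟩
  · exact Or.inl ⟨443, by norm_num, by norm_num, by norm_num⟩
  · exact Or.inl ⟨2437, by norm_num, by norm_num, by norm_num⟩
  · exact Or.inr (Or.inr (Or.inr (Or.inr (Or.inl ⟨3, by norm_num, by norm_num, by norm_num⟩))))
  · exact Or.inl ⟨23, by norm_num, by norm_num, by norm_num⟩
  · exact Or.inl ⟨4877, by norm_num, by norm_num, by norm_num⟩
  · exact Or.inl ⟨271, by norm_num, by norm_num, by norm_num⟩
  · exact Or.inl ⟨17, by norm_num, by norm_num, by norm_num⟩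
  · exact Or.inl ⟨61, by norm_num, by norm_num, by norm_num⟩
  · exact Or.inl ⟨1627, by norm_num, by norm_num, by norm_num⟩
  · exact Or.inl ⟨2441, by norm_num, by norm_num, by norm_num⟩
  · exact Or.inl ⟨19, by norm_num, by norm_num, by norm_num⟩
  · exact Or.inl ⟨37, by norm_num, by norm_num, by norm_num⟩
  · exact Or.inl ⟨977, by norm_num, by norm_num, by norm_num⟩
  · exact Or.inl ⟨349, by norm_num, by norm_num, by norm_num⟩
  · exact Or.inl ⟨181, by norm_num, by norm_num, by norm_num⟩
  · exact Or.inl ⟨47, by norm_num, by norm_num, by norm_num⟩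
  · exact Or.inl ⟨4889, by norm_num, by norm_num, by norm_num⟩
  · exact Or.inl ⟨163, by norm_num, by norm_num, by norm_num⟩
  · exact Or.inl ⟨67, by norm_num, by norm_num, by norm_num⟩
  · exact Or.inl ⟨1223, by norm_num, by norm_num, by norm_num⟩
  · exact Or.inl ⟨233, by norm_num, by norm_num, by norm_num⟩
  · exact Or.inl ⟨2447, by norm_num, by norm_num, by norm_num⟩
  · exact Or.inl ⟨89, by norm_num, by norm_num, by norm_num⟩
  · exact Or.inl ⟨17, by norm_num, by norm_num, by norm_num⟩
  · exact Or.inl ⟨59, by norm_num, by norm_num, by norm_num⟩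
  · exact Or.inl ⟨31, by norm_num, by norm_num, by norm_num⟩
  · exact Or.inl ⟨23, by norm_num, by norm_num, by norm_num⟩
  · exact Or.inr (Or.inr (Or.inr (Or.inl ⟨by decide, by omega⟩)))
  · exact Or.inl ⟨29, by norm_num, by norm_num, by norm_num⟩
  · exact Or.inl ⟨19, by norm_num, by norm_num, by norm_num⟩
  · exact Or.inl ⟨4903, by norm_num, by norm_num, by norm_num⟩
  · exact Or.inl ⟨613, by norm_num, by norm_num, by norm_num⟩
  · exact Or.inl ⟨109, by norm_num, by norm_num, by norm_num⟩
  · exact Or.inl ⟨223, by norm_num, by norm_num, by norm_num⟩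
  · exact Or.inl ⟨701, by norm_num, by norm_num, by norm_num⟩
  · exact Or.inl ⟨409, by norm_num, by norm_num, by norm_num⟩
  · exact Or.inl ⟨4909, by norm_num, by norm_num, by norm_num⟩
  · exact Or.inl ⟨491, by norm_num, by norm_num, by norm_num⟩
  · exact Or.inl ⟨1637, by norm_num, by norm_num, by norm_num⟩
  · exact Or.inl ⟨307, by norm_num, by norm_num, by norm_num⟩
  · exact Or.inr (Or.inl ⟨17, 2, 3, 0, by norm_num, by norm_num, by norm_num⟩)
  · exact Or.inr (Or.inr (Or.inl ⟨2457, by decide, by norm_num, by norm_num⟩))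
  · exact Or.inl ⟨983, by norm_num, by norm_num, by norm_num⟩
  · exact Or.inl ⟨1229, by norm_num, by norm_num, by norm_num⟩
  · exact Or.inl ⟨149, by norm_num, by norm_num, by norm_num⟩
  · exact Or.inl ⟨2459, by norm_num, by norm_num, by norm_num⟩
  · exact Or.inl ⟨4919, by norm_num, by norm_num, by norm_num⟩
  · exact Or.inl ⟨41, by norm_num, by norm_num, by norm_num⟩
  · exact Or.inl ⟨19, by norm_num, by norm_num, by norm_num⟩
  · exact Or.inl ⟨23, by norm_num, by norm_num, by norm_num⟩
  · exact Or.inl ⟨547, by norm_num, by norm_num, by norm_num⟩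
  · exact Or.inl ⟨1231, by norm_num, by norm_num, by norm_num⟩
  · exact Or.inl ⟨197, by norm_num, by norm_num, by norm_num⟩
  · exact Or.inl ⟨821, by norm_num, by norm_num, by norm_num⟩
  · exact Or.inl ⟨379, by norm_num, by norm_num, by norm_num⟩
  · exact Or.inr (Or.inr (Or.inr (Or.inr (Or.inr (by decide)))))
  · exact Or.inl ⟨31, by norm_num, by norm_num, by norm_num⟩
  · exact Or.inl ⟨29, by norm_num, by norm_num, by norm_num⟩
  · exact Or.inl ⟨4931, by norm_num, by norm_num, by norm_num⟩
  · exact Or.inl ⟨137, by norm_num, by norm_num, by norm_num⟩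
  · exact Or.inl ⟨4933, by norm_num, by norm_num, by norm_num⟩
  · exact Or.inl ⟨2467, by norm_num, by norm_num, by norm_num⟩
  · exact Or.inl ⟨47, by norm_num, by norm_num, by norm_num⟩
  · exact Or.inl ⟨617, by norm_num, by norm_num, by norm_num⟩

theorem cls_4937_5044 (n : ℕ) (h1 : 4937 ≤ n) (h2 : n ≤ 5044) : Cls n := by
  unfold Cls
  interval_cases n
  · exact Or.inl ⟨4937, by norm_num, by norm_num, by norm_num⟩
  · exact Or.inl ⟨823, by norm_num, by norm_num, by norm_num⟩
  · exact Or.inl ⟨449, by norm_num, by norm_num, by norm_num⟩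
  · exact Or.inl ⟨19, by norm_num, by norm_num, by norm_num⟩
  · exact Or.inl ⟨61, by norm_num, by norm_num, by norm_num⟩
  · exact Or.inl ⟨353, by norm_num, by norm_num, by norm_num⟩
  · exact Or.inl ⟨4943, by norm_num, by norm_num, by norm_num⟩
  · exact Or.inl ⟨103, by norm_num, by norm_num, by norm_num⟩
  · exact Or.inl ⟨23, by norm_num, by norm_num, by norm_num⟩
  · exact Or.inl ⟨2473, by norm_num, by norm_num, by norm_num⟩
  · exact Or.inl ⟨97, by norm_num, by norm_num, by norm_num⟩
  · exact Or.inl ⟨1237, by norm_num, by norm_num, by norm_num⟩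
  · exact Or.inl ⟨101, by norm_num, by norm_num, by norm_num⟩
  · exact Or.inr (Or.inr (Or.inl ⟨2475, by decide, by norm_num, by norm_num⟩))
  · exact Or.inl ⟨4951, by norm_num, by norm_num, by norm_num⟩
  · exact Or.inl ⟨619, by norm_num, by norm_num, by norm_num⟩
  · exact Or.inl ⟨127, by norm_num, by norm_num, by norm_num⟩
  · exact Or.inl ⟨2477, by norm_num, by norm_num, by norm_num⟩
  · exact Or.inl ⟨991, by norm_num, by norm_num, by norm_num⟩
  · exact Or.inl ⟨59, by norm_num, by norm_num, by norm_num⟩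
  · exact Or.inl ⟨4957, by norm_num, by norm_num, by norm_num⟩
  · exact Or.inl ⟨37, by norm_num, by norm_num, by norm_num⟩
  · exact Or.inl ⟨19, by norm_num, by norm_num, by norm_num⟩
  · exact Or.inl ⟨31, by norm_num, by norm_num, by norm_num⟩
  · exact Or.inl ⟨41, by norm_num, by norm_num, by norm_num⟩
  · exact Or.inl ⟨827, by norm_num, by norm_num, by norm_num⟩
  · exact Or.inl ⟨709, by norm_num, by norm_num, by norm_num⟩
  · exact Or.inl ⟨73, by norm_num, by norm_num, by norm_num⟩
  · exact Or.inl ⟨331, by norm_num, by norm_num, by norm_num⟩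
  · exact Or.inl ⟨191, by norm_num, by norm_num, by norm_num⟩
  · exact Or.inl ⟨4967, by norm_num, by norm_num, by norm_num⟩
  · exact Or.inl ⟨23, by norm_num, by norm_num, by norm_num⟩
  · exact Or.inl ⟨4969, by norm_num, by norm_num, by norm_num⟩
  · exact Or.inl ⟨71, by norm_num, by norm_num, by norm_num⟩
  · exact Or.inl ⟨1657, by norm_num, by norm_num, by norm_num⟩
  · exact Or.inl ⟨113, by norm_num, by norm_num, by norm_num⟩
  · exact Or.inl ⟨4973, by norm_num, by norm_num, by norm_num⟩
  · exact Or.inl ⟨829, by norm_num, by norm_num, by norm_num⟩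
  · exact Or.inl ⟨199, by norm_num, by norm_num, by norm_num⟩
  · exact Or.inl ⟨311, by norm_num, by norm_num, by norm_num⟩
  · exact Or.inl ⟨79, by norm_num, by norm_num, by norm_num⟩
  · exact Or.inl ⟨19, by norm_num, by norm_num, by norm_num⟩
  · exact Or.inl ⟨383, by norm_num, by norm_num, by norm_num⟩
  · exact Or.inl ⟨83, by norm_num, by norm_num, by norm_num⟩
  · exact Or.inl ⟨293, by norm_num, by norm_num, by norm_num⟩
  · exact Or.inl ⟨47, by norm_num, by norm_num, by norm_num⟩
  · exact Or.inl ⟨151, by norm_num, by norm_num, by norm_num⟩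
  · exact Or.inl ⟨89, by norm_num, by norm_num, by norm_num⟩
  · exact Or.inl ⟨997, by norm_num, by norm_num, by norm_num⟩
  · exact Or.inl ⟨277, by norm_num, by norm_num, by norm_num⟩
  · exact Or.inl ⟨4987, by norm_num, by norm_num, by norm_num⟩
  · exact Or.inl ⟨29, by norm_num, by norm_num, by norm_num⟩
  · exact Or.inl ⟨1663, by norm_num, by norm_num, by norm_num⟩
  · exact Or.inl ⟨499, by norm_num, by norm_num, by norm_num⟩
  · exact Or.inl ⟨23, by norm_num, by norm_num, by norm_num⟩
  · exact Or.inr (Or.inr (Or.inr (Or.inr (Or.inr (by decide)))))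
  · exact Or.inl ⟨4993, by norm_num, by norm_num, by norm_num⟩
  · exact Or.inl ⟨227, by norm_num, by norm_num, by norm_num⟩
  · exact Or.inl ⟨37, by norm_num, by norm_num, by norm_num⟩
  · exact Or.inl ⟨1249, by norm_num, by norm_num, by norm_num⟩
  · exact Or.inl ⟨19, by norm_num, by norm_num, by norm_num⟩
  · exact Or.inr (Or.inr (Or.inl ⟨2499, by decide, by norm_num, by norm_num⟩))
  · exact Or.inl ⟨4999, by norm_num, by norm_num, by norm_num⟩
  · exact Or.inr (Or.inl ⟨2, 5, 3, 4, by norm_num, by norm_num, by norm_num⟩)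
  · exact Or.inl ⟨1667, by norm_num, by norm_num, by norm_num⟩
  · exact Or.inl ⟨41, by norm_num, by norm_num, by norm_num⟩
  · exact Or.inl ⟨5003, by norm_num, by norm_num, by norm_num⟩
  · exact Or.inl ⟨139, by norm_num, by norm_num, by norm_num⟩
  · exact Or.inr (Or.inr (Or.inr (Or.inr (Or.inl ⟨5, by norm_num, by norm_num, by norm_num⟩))))
  · exact Or.inl ⟨2503, by norm_num, by norm_num, by norm_num⟩
  · exact Or.inl ⟨1669, by norm_num, by norm_num, by norm_num⟩
  · exact Or.inl ⟨313, by norm_num, by norm_num, by norm_num⟩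
  · exact Or.inl ⟨5009, by norm_num, by norm_num, by norm_num⟩
  · exact Or.inl ⟨167, by norm_num, by norm_num, by norm_num⟩
  · exact Or.inl ⟨5011, by norm_num, by norm_num, by norm_num⟩
  · exact Or.inl ⟨179, by norm_num, by norm_num, by norm_num⟩
  · exact Or.inl ⟨557, by norm_num, by norm_num, by norm_num⟩
  · exact Or.inl ⟨23, by norm_num, by norm_num, by norm_num⟩
  · exact Or.inl ⟨59, by norm_num, by norm_num, by norm_num⟩
  · exact Or.inl ⟨19, by norm_num, by norm_num, by norm_num⟩
  · exact Or.inl ⟨29, by norm_num, by norm_num, by norm_num⟩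
  · exact Or.inl ⟨193, by norm_num, by norm_num, by norm_num⟩
  · exact Or.inl ⟨239, by norm_num, by norm_num, by norm_num⟩
  · exact Or.inl ⟨251, by norm_num, by norm_num, by norm_num⟩
  · exact Or.inl ⟨5021, by norm_num, by norm_num, by norm_num⟩
  · exact Or.inl ⟨31, by norm_num, by norm_num, by norm_num⟩
  · exact Or.inl ⟨5023, by norm_num, by norm_num, by norm_num⟩
  · exact Or.inl ⟨157, by norm_num, by norm_num, by norm_num⟩
  · exact Or.inl ⟨67, by norm_num, by norm_num, by norm_num⟩
  · exact Or.inl ⟨359, by norm_num, by norm_num, by norm_num⟩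
  · exact Or.inl ⟨457, by norm_num, by norm_num, by norm_num⟩
  · exact Or.inl ⟨419, by norm_num, by norm_num, by norm_num⟩
  · exact Or.inl ⟨47, by norm_num, by norm_num, by norm_num⟩
  · exact Or.inl ⟨503, by norm_num, by norm_num, by norm_num⟩
  · exact Or.inl ⟨43, by norm_num, by norm_num, by norm_num⟩
  · exact Or.inl ⟨37, by norm_num, by norm_num, by norm_num⟩
  · exact Or.inl ⟨719, by norm_num, by norm_num, by norm_num⟩
  · exact Or.inl ⟨839, by norm_num, by norm_num, by norm_num⟩
  · exact Or.inl ⟨19, by norm_num, by norm_num, by norm_num⟩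
  · exact Or.inl ⟨1259, by norm_num, by norm_num, by norm_num⟩
  · exact Or.inl ⟨23, by norm_num, by norm_num, by norm_num⟩
  · exact Or.inl ⟨229, by norm_num, by norm_num, by norm_num⟩
  · exact Or.inl ⟨5039, by norm_num, by norm_num, by norm_num⟩
  · exact Or.inr (Or.inr (Or.inr (Or.inr (Or.inr (by decide)))))
  · exact Or.inl ⟨71, by norm_num, by norm_num, by norm_num⟩
  · exact Or.inl ⟨2521, by norm_num, by norm_num, by norm_num⟩
  · exact Or.inl ⟨41, by norm_num, by norm_num, by norm_num⟩
  · exact Or.inl ⟨97, by norm_num, by norm_num, by norm_num⟩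

theorem cls_5045_5152 (n : ℕ) (h1 : 5045 ≤ n) (h2 : n ≤ 5152) : Cls n := by
  unfold Cls
  interval_cases n
  · exact Or.inl ⟨1009, by norm_num, by norm_num, by norm_num⟩
  · exact Or.inl ⟨29, by norm_num, by norm_num, by norm_num⟩
  · exact Or.inl ⟨103, by norm_num, by norm_num, by norm_num⟩
  · exact Or.inl ⟨631, by norm_num, by norm_num, by norm_num⟩
  · exact Or.inr (Or.inr (Or.inr (Or.inr (Or.inr (by decide)))))
  · exact Or.inl ⟨101, by norm_num, by norm_num, by norm_num⟩
  · exact Or.inl ⟨5051, by norm_num, by norm_num, by norm_num⟩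
  · exact Or.inl ⟨421, by norm_num, by norm_num, by norm_num⟩
  · exact Or.inl ⟨31, by norm_num, by norm_num, by norm_num⟩
  · exact Or.inl ⟨19, by norm_num, by norm_num, by norm_num⟩
  · exact Or.inl ⟨337, by norm_num, by norm_num, by norm_num⟩
  · exact Or.inl ⟨79, by norm_num, by norm_num, by norm_num⟩
  · exact Or.inl ⟨389, by norm_num, by norm_num, by norm_num⟩
  · exact Or.inl ⟨281, by norm_num, by norm_num, by norm_num⟩
  · exact Or.inl ⟨5059, by norm_num, by norm_num, by norm_num⟩
  · exact Or.inl ⟨23, by norm_num, by norm_num, by norm_num⟩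
  · exact Or.inl ⟨241, by norm_num, by norm_num, by norm_num⟩
  · exact Or.inl ⟨2531, by norm_num, by norm_num, by norm_num⟩
  · exact Or.inl ⟨61, by norm_num, by norm_num, by norm_num⟩
  · exact Or.inl ⟨211, by norm_num, by norm_num, by norm_num⟩
  · exact Or.inl ⟨1013, by norm_num, by norm_num, by norm_num⟩
  · exact Or.inl ⟨149, by norm_num, by norm_num, by norm_num⟩
  · exact Or.inl ⟨563, by norm_num, by norm_num, by norm_num⟩
  · exact Or.inl ⟨181, by norm_num, by norm_num, by norm_num⟩
  · exact Or.inl ⟨37, by norm_num, by norm_num, by norm_num⟩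
  · exact Or.inr (Or.inr (Or.inl ⟨2535, by decide, by norm_num, by norm_num⟩))
  · exact Or.inl ⟨461, by norm_num, by norm_num, by norm_num⟩
  · exact Or.inl ⟨317, by norm_num, by norm_num, by norm_num⟩
  · exact Or.inl ⟨19, by norm_num, by norm_num, by norm_num⟩
  · exact Or.inl ⟨43, by norm_num, by norm_num, by norm_num⟩
  · exact Or.inl ⟨29, by norm_num, by norm_num, by norm_num⟩
  · exact Or.inl ⟨47, by norm_num, by norm_num, by norm_num⟩
  · exact Or.inl ⟨5077, by norm_num, by norm_num, by norm_num⟩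
  · exact Or.inl ⟨2539, by norm_num, by norm_num, by norm_num⟩
  · exact Or.inl ⟨1693, by norm_num, by norm_num, by norm_num⟩
  · exact Or.inl ⟨127, by norm_num, by norm_num, by norm_num⟩
  · exact Or.inl ⟨5081, by norm_num, by norm_num, by norm_num⟩
  · exact Or.inr (Or.inr (Or.inl ⟨2541, by decide, by norm_num, by norm_num⟩))
  · exact Or.inl ⟨23, by norm_num, by norm_num, by norm_num⟩
  · exact Or.inl ⟨31, by norm_num, by norm_num, by norm_num⟩
  · exact Or.inl ⟨113, by norm_num, by norm_num, by norm_num⟩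
  · exact Or.inl ⟨2543, by norm_num, by norm_num, by norm_num⟩
  · exact Or.inl ⟨5087, by norm_num, by norm_num, by norm_num⟩
  · exact Or.inl ⟨53, by norm_num, by norm_num, by norm_num⟩
  · exact Or.inl ⟨727, by norm_num, by norm_num, by norm_num⟩
  · exact Or.inl ⟨509, by norm_num, by norm_num, by norm_num⟩
  · exact Or.inl ⟨1697, by norm_num, by norm_num, by norm_num⟩
  · exact Or.inl ⟨19, by norm_num, by norm_num, by norm_num⟩
  · exact Or.inl ⟨463, by norm_num, by norm_num, by norm_num⟩
  · exact Or.inl ⟨283, by norm_num, by norm_num, by norm_num⟩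
  · exact Or.inl ⟨1019, by norm_num, by norm_num, by norm_num⟩
  · exact Or.inr (Or.inr (Or.inr (Or.inr (Or.inr (by decide)))))
  · exact Or.inl ⟨1699, by norm_num, by norm_num, by norm_num⟩
  · exact Or.inl ⟨2549, by norm_num, by norm_num, by norm_num⟩
  · exact Or.inl ⟨5099, by norm_num, by norm_num, by norm_num⟩
  · exact Or.inr (Or.inr (Or.inr (Or.inr (Or.inr (by decide)))))
  · exact Or.inl ⟨5101, by norm_num, by norm_num, by norm_num⟩
  · exact Or.inl ⟨2551, by norm_num, by norm_num, by norm_num⟩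
  · exact Or.inr (Or.inl ⟨3, 7, 6, 1, by norm_num, by norm_num, by norm_num⟩)
  · exact Or.inl ⟨29, by norm_num, by norm_num, by norm_num⟩
  · exact Or.inl ⟨1021, by norm_num, by norm_num, by norm_num⟩
  · exact Or.inl ⟨23, by norm_num, by norm_num, by norm_num⟩
  · exact Or.inl ⟨5107, by norm_num, by norm_num, by norm_num⟩
  · exact Or.inl ⟨1277, by norm_num, by norm_num, by norm_num⟩
  · exact Or.inl ⟨131, by norm_num, by norm_num, by norm_num⟩
  · exact Or.inl ⟨73, by norm_num, by norm_num, by norm_num⟩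
  · exact Or.inl ⟨19, by norm_num, by norm_num, by norm_num⟩
  · exact Or.inl ⟨71, by norm_num, by norm_num, by norm_num⟩
  · exact Or.inl ⟨5113, by norm_num, by norm_num, by norm_num⟩
  · exact Or.inl ⟨2557, by norm_num, by norm_num, by norm_num⟩
  · exact Or.inl ⟨31, by norm_num, by norm_num, by norm_num⟩
  · exact Or.inl ⟨1279, by norm_num, by norm_num, by norm_num⟩
  · exact Or.inl ⟨43, by norm_num, by norm_num, by norm_num⟩
  · exact Or.inl ⟨853, by norm_num, by norm_num, by norm_num⟩
  · exact Or.inl ⟨5119, by norm_num, by norm_num, by norm_num⟩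
  · exact Or.inr (Or.inl ⟨2, 5, 10, 1, by norm_num, by norm_num, by norm_num⟩)
  · exact Or.inl ⟨569, by norm_num, by norm_num, by norm_num⟩
  · exact Or.inl ⟨197, by norm_num, by norm_num, by norm_num⟩
  · exact Or.inl ⟨47, by norm_num, by norm_num, by norm_num⟩
  · exact Or.inl ⟨61, by norm_num, by norm_num, by norm_num⟩
  · exact Or.inl ⟨41, by norm_num, by norm_num, by norm_num⟩
  · exact Or.inl ⟨233, by norm_num, by norm_num, by norm_num⟩
  · exact Or.inl ⟨1709, by norm_num, by norm_num, by norm_num⟩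
  · exact Or.inl ⟨641, by norm_num, by norm_num, by norm_num⟩
  · exact Or.inl ⟨23, by norm_num, by norm_num, by norm_num⟩
  · exact Or.inl ⟨19, by norm_num, by norm_num, by norm_num⟩
  · exact Or.inl ⟨733, by norm_num, by norm_num, by norm_num⟩
  · exact Or.inl ⟨1283, by norm_num, by norm_num, by norm_num⟩
  · exact Or.inl ⟨29, by norm_num, by norm_num, by norm_num⟩
  · exact Or.inl ⟨151, by norm_num, by norm_num, by norm_num⟩
  · exact Or.inl ⟨79, by norm_num, by norm_num, by norm_num⟩
  · exact Or.inl ⟨107, by norm_num, by norm_num, by norm_num⟩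
  · exact Or.inl ⟨467, by norm_num, by norm_num, by norm_num⟩
  · exact Or.inl ⟨367, by norm_num, by norm_num, by norm_num⟩
  · exact Or.inl ⟨571, by norm_num, by norm_num, by norm_num⟩
  · exact Or.inl ⟨257, by norm_num, by norm_num, by norm_num⟩
  · exact Or.inl ⟨53, by norm_num, by norm_num, by norm_num⟩
  · exact Or.inl ⟨857, by norm_num, by norm_num, by norm_num⟩
  · exact Or.inl ⟨37, by norm_num, by norm_num, by norm_num⟩
  · exact Or.inl ⟨643, by norm_num, by norm_num, by norm_num⟩
  · exact Or.inr (Or.inr (Or.inr (Or.inr (Or.inl ⟨3, by norm_num, by norm_num, by norm_num⟩))))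
  · exact Or.inl ⟨31, by norm_num, by norm_num, by norm_num⟩
  · exact Or.inl ⟨5147, by norm_num, by norm_num, by norm_num⟩
  · exact Or.inr (Or.inr (Or.inr (Or.inr (Or.inr (by decide)))))
  · exact Or.inl ⟨19, by norm_num, by norm_num, by norm_num⟩
  · exact Or.inl ⟨103, by norm_num, by norm_num, by norm_num⟩
  · exact Or.inl ⟨101, by norm_num, by norm_num, by norm_num⟩
  · exact Or.inl ⟨23, by norm_num, by norm_num, by norm_num⟩

theorem cls_5153_5260 (n : ℕ) (h1 : 5153 ≤ n) (h2 : n ≤ 5260) : Cls n := by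
  unfold Cls
  interval_cases n
  · exact Or.inl ⟨5153, by norm_num, by norm_num, by norm_num⟩
  · exact Or.inl ⟨859, by norm_num, by norm_num, by norm_num⟩
  · exact Or.inl ⟨1031, by norm_num, by norm_num, by norm_num⟩
  · exact Or.inl ⟨1289, by norm_num, by norm_num, by norm_num⟩
  · exact Or.inl ⟨191, by norm_num, by norm_num, by norm_num⟩
  · exact Or.inl ⟨2579, by norm_num, by norm_num, by norm_num⟩
  · exact Or.inl ⟨67, by norm_num, by norm_num, by norm_num⟩
  · exact Or.inl ⟨43, by norm_num, by norm_num, by norm_num⟩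
  · exact Or.inl ⟨397, by norm_num, by norm_num, by norm_num⟩
  · exact Or.inl ⟨29, by norm_num, by norm_num, by norm_num⟩
  · exact Or.inl ⟨1721, by norm_num, by norm_num, by norm_num⟩
  · exact Or.inl ⟨1291, by norm_num, by norm_num, by norm_num⟩
  · exact Or.inl ⟨1033, by norm_num, by norm_num, by norm_num⟩
  · exact Or.inl ⟨41, by norm_num, by norm_num, by norm_num⟩
  · exact Or.inl ⟨5167, by norm_num, by norm_num, by norm_num⟩
  · exact Or.inl ⟨19, by norm_num, by norm_num, by norm_num⟩
  · exact Or.inl ⟨1723, by norm_num, by norm_num, by norm_num⟩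
  · exact Or.inl ⟨47, by norm_num, by norm_num, by norm_num⟩
  · exact Or.inl ⟨5171, by norm_num, by norm_num, by norm_num⟩
  · exact Or.inl ⟨431, by norm_num, by norm_num, by norm_num⟩
  · exact Or.inl ⟨739, by norm_num, by norm_num, by norm_num⟩
  · exact Or.inl ⟨199, by norm_num, by norm_num, by norm_num⟩
  · exact Or.inl ⟨23, by norm_num, by norm_num, by norm_num⟩
  · exact Or.inl ⟨647, by norm_num, by norm_num, by norm_num⟩
  · exact Or.inl ⟨31, by norm_num, by norm_num, by norm_num⟩
  · exact Or.inl ⟨863, by norm_num, by norm_num, by norm_num⟩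
  · exact Or.inl ⟨5179, by norm_num, by norm_num, by norm_num⟩
  · exact Or.inl ⟨37, by norm_num, by norm_num, by norm_num⟩
  · exact Or.inl ⟨157, by norm_num, by norm_num, by norm_num⟩
  · exact Or.inl ⟨2591, by norm_num, by norm_num, by norm_num⟩
  · exact Or.inl ⟨71, by norm_num, by norm_num, by norm_num⟩
  · exact Or.inr (Or.inl ⟨2, 3, 6, 4, by norm_num, by norm_num, by norm_num⟩)
  · exact Or.inl ⟨61, by norm_num, by norm_num, by norm_num⟩
  · exact Or.inl ⟨2593, by norm_num, by norm_num, by norm_num⟩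
  · exact Or.inl ⟨19, by norm_num, by norm_num, by norm_num⟩
  · exact Or.inl ⟨1297, by norm_num, by norm_num, by norm_num⟩
  · exact Or.inl ⟨5189, by norm_num, by norm_num, by norm_num⟩
  · exact Or.inl ⟨173, by norm_num, by norm_num, by norm_num⟩
  · exact Or.inl ⟨29, by norm_num, by norm_num, by norm_num⟩
  · exact Or.inl ⟨59, by norm_num, by norm_num, by norm_num⟩
  · exact Or.inl ⟨577, by norm_num, by norm_num, by norm_num⟩
  · exact Or.inl ⟨53, by norm_num, by norm_num, by norm_num⟩
  · exact Or.inl ⟨1039, by norm_num, by norm_num, by norm_num⟩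
  · exact Or.inl ⟨433, by norm_num, by norm_num, by norm_num⟩
  · exact Or.inl ⟨5197, by norm_num, by norm_num, by norm_num⟩
  · exact Or.inl ⟨23, by norm_num, by norm_num, by norm_num⟩
  · exact Or.inl ⟨1733, by norm_num, by norm_num, by norm_num⟩
  · exact Or.inr (Or.inr (Or.inr (Or.inr (Or.inr (by decide)))))
  · exact Or.inl ⟨743, by norm_num, by norm_num, by norm_num⟩
  · exact Or.inr (Or.inr (Or.inl ⟨2601, by decide, by norm_num, by norm_num⟩))
  · exact Or.inl ⟨43, by norm_num, by norm_num, by norm_num⟩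
  · exact Or.inl ⟨1301, by norm_num, by norm_num, by norm_num⟩
  · exact Or.inl ⟨347, by norm_num, by norm_num, by norm_num⟩
  · exact Or.inl ⟨19, by norm_num, by norm_num, by norm_num⟩
  · exact Or.inl ⟨41, by norm_num, by norm_num, by norm_num⟩
  · exact Or.inl ⟨31, by norm_num, by norm_num, by norm_num⟩
  · exact Or.inl ⟨5209, by norm_num, by norm_num, by norm_num⟩
  · exact Or.inl ⟨521, by norm_num, by norm_num, by norm_num⟩
  · exact Or.inl ⟨193, by norm_num, by norm_num, by norm_num⟩
  · exact Or.inl ⟨1303, by norm_num, by norm_num, by norm_num⟩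
  · exact Or.inl ⟨401, by norm_num, by norm_num, by norm_num⟩
  · exact Or.inl ⟨79, by norm_num, by norm_num, by norm_num⟩
  · exact Or.inl ⟨149, by norm_num, by norm_num, by norm_num⟩
  · exact Or.inl ⟨163, by norm_num, by norm_num, by norm_num⟩
  · exact Or.inl ⟨37, by norm_num, by norm_num, by norm_num⟩
  · exact Or.inl ⟨2609, by norm_num, by norm_num, by norm_num⟩
  · exact Or.inl ⟨307, by norm_num, by norm_num, by norm_num⟩
  · exact Or.inl ⟨29, by norm_num, by norm_num, by norm_num⟩
  · exact Or.inl ⟨23, by norm_num, by norm_num, by norm_num⟩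
  · exact Or.inl ⟨373, by norm_num, by norm_num, by norm_num⟩
  · exact Or.inl ⟨1741, by norm_num, by norm_num, by norm_num⟩
  · exact Or.inl ⟨653, by norm_num, by norm_num, by norm_num⟩
  · exact Or.inl ⟨19, by norm_num, by norm_num, by norm_num⟩
  · exact Or.inl ⟨67, by norm_num, by norm_num, by norm_num⟩
  · exact Or.inl ⟨5227, by norm_num, by norm_num, by norm_num⟩
  · exact Or.inl ⟨1307, by norm_num, by norm_num, by norm_num⟩
  · exact Or.inl ⟨83, by norm_num, by norm_num, by norm_num⟩
  · exact Or.inl ⟨523, by norm_num, by norm_num, by norm_num⟩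
  · exact Or.inl ⟨5231, by norm_num, by norm_num, by norm_num⟩
  · exact Or.inl ⟨109, by norm_num, by norm_num, by norm_num⟩
  · exact Or.inl ⟨5233, by norm_num, by norm_num, by norm_num⟩
  · exact Or.inl ⟨2617, by norm_num, by norm_num, by norm_num⟩
  · exact Or.inl ⟨349, by norm_num, by norm_num, by norm_num⟩
  · exact Or.inr (Or.inr (Or.inr (Or.inl ⟨by decide, by omega⟩)))
  · exact Or.inl ⟨5237, by norm_num, by norm_num, by norm_num⟩
  · exact Or.inl ⟨97, by norm_num, by norm_num, by norm_num⟩
  · exact Or.inl ⟨31, by norm_num, by norm_num, by norm_num⟩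
  · exact Or.inl ⟨131, by norm_num, by norm_num, by norm_num⟩
  · exact Or.inl ⟨1747, by norm_num, by norm_num, by norm_num⟩
  · exact Or.inl ⟨2621, by norm_num, by norm_num, by norm_num⟩
  · exact Or.inl ⟨107, by norm_num, by norm_num, by norm_num⟩
  · exact Or.inl ⟨19, by norm_num, by norm_num, by norm_num⟩
  · exact Or.inl ⟨1049, by norm_num, by norm_num, by norm_num⟩
  · exact Or.inl ⟨43, by norm_num, by norm_num, by norm_num⟩
  · exact Or.inl ⟨53, by norm_num, by norm_num, by norm_num⟩
  · exact Or.inl ⟨41, by norm_num, by norm_num, by norm_num⟩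
  · exact Or.inl ⟨29, by norm_num, by norm_num, by norm_num⟩
  · exact Or.inr (Or.inr (Or.inl ⟨2625, by decide, by norm_num, by norm_num⟩))
  · exact Or.inl ⟨59, by norm_num, by norm_num, by norm_num⟩
  · exact Or.inl ⟨101, by norm_num, by norm_num, by norm_num⟩
  · exact Or.inl ⟨103, by norm_num, by norm_num, by norm_num⟩
  · exact Or.inl ⟨37, by norm_num, by norm_num, by norm_num⟩
  · exact Or.inl ⟨1051, by norm_num, by norm_num, by norm_num⟩
  · exact Or.inl ⟨73, by norm_num, by norm_num, by norm_num⟩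
  · exact Or.inl ⟨751, by norm_num, by norm_num, by norm_num⟩
  · exact Or.inl ⟨239, by norm_num, by norm_num, by norm_num⟩
  · exact Or.inl ⟨1753, by norm_num, by norm_num, by norm_num⟩
  · exact Or.inl ⟨263, by norm_num, by norm_num, by norm_num⟩

theorem cls_5261_5368 (n : ℕ) (h1 : 5261 ≤ n) (h2 : n ≤ 5368) : Cls n := by
  unfold Cls
  interval_cases n
  · exact Or.inl ⟨5261, by norm_num, by norm_num, by norm_num⟩
  · exact Or.inl ⟨877, by norm_num, by norm_num, by norm_num⟩
  · exact Or.inl ⟨19, by norm_num, by norm_num, by norm_num⟩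
  · exact Or.inl ⟨47, by norm_num, by norm_num, by norm_num⟩
  · exact Or.inr (Or.inr (Or.inr (Or.inr (Or.inr (by decide)))))
  · exact Or.inl ⟨2633, by norm_num, by norm_num, by norm_num⟩
  · exact Or.inl ⟨23, by norm_num, by norm_num, by norm_num⟩
  · exact Or.inl ⟨439, by norm_num, by norm_num, by norm_num⟩
  · exact Or.inl ⟨479, by norm_num, by norm_num, by norm_num⟩
  · exact Or.inl ⟨31, by norm_num, by norm_num, by norm_num⟩
  · exact Or.inl ⟨251, by norm_num, by norm_num, by norm_num⟩
  · exact Or.inl ⟨659, by norm_num, by norm_num, by norm_num⟩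
  · exact Or.inl ⟨5273, by norm_num, by norm_num, by norm_num⟩
  · exact Or.inl ⟨293, by norm_num, by norm_num, by norm_num⟩
  · exact Or.inl ⟨211, by norm_num, by norm_num, by norm_num⟩
  · exact Or.inl ⟨1319, by norm_num, by norm_num, by norm_num⟩
  · exact Or.inl ⟨1759, by norm_num, by norm_num, by norm_num⟩
  · exact Or.inl ⟨29, by norm_num, by norm_num, by norm_num⟩
  · exact Or.inl ⟨5279, by norm_num, by norm_num, by norm_num⟩
  · exact Or.inr (Or.inr (Or.inr (Or.inr (Or.inr (by decide)))))
  · exact Or.inl ⟨5281, by norm_num, by norm_num, by norm_num⟩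
  · exact Or.inl ⟨19, by norm_num, by norm_num, by norm_num⟩
  · exact Or.inl ⟨587, by norm_num, by norm_num, by norm_num⟩
  · exact Or.inl ⟨1321, by norm_num, by norm_num, by norm_num⟩
  · exact Or.inl ⟨151, by norm_num, by norm_num, by norm_num⟩
  · exact Or.inl ⟨881, by norm_num, by norm_num, by norm_num⟩
  · exact Or.inl ⟨311, by norm_num, by norm_num, by norm_num⟩
  · exact Or.inl ⟨661, by norm_num, by norm_num, by norm_num⟩
  · exact Or.inl ⟨41, by norm_num, by norm_num, by norm_num⟩
  · exact Or.inl ⟨23, by norm_num, by norm_num, by norm_num⟩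
  · exact Or.inl ⟨37, by norm_num, by norm_num, by norm_num⟩
  · exact Or.inr (Or.inr (Or.inr (Or.inr (Or.inr (by decide)))))
  · exact Or.inl ⟨67, by norm_num, by norm_num, by norm_num⟩
  · exact Or.inl ⟨2647, by norm_num, by norm_num, by norm_num⟩
  · exact Or.inl ⟨353, by norm_num, by norm_num, by norm_num⟩
  · exact Or.inl ⟨331, by norm_num, by norm_num, by norm_num⟩
  · exact Or.inl ⟨5297, by norm_num, by norm_num, by norm_num⟩
  · exact Or.inl ⟨883, by norm_num, by norm_num, by norm_num⟩
  · exact Or.inl ⟨757, by norm_num, by norm_num, by norm_num⟩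
  · exact Or.inl ⟨53, by norm_num, by norm_num, by norm_num⟩
  · exact Or.inl ⟨19, by norm_num, by norm_num, by norm_num⟩
  · exact Or.inl ⟨241, by norm_num, by norm_num, by norm_num⟩
  · exact Or.inl ⟨5303, by norm_num, by norm_num, by norm_num⟩
  · exact Or.inr (Or.inr (Or.inr (Or.inr (Or.inr (by decide)))))
  · exact Or.inl ⟨1061, by norm_num, by norm_num, by norm_num⟩
  · exact Or.inl ⟨379, by norm_num, by norm_num, by norm_num⟩
  · exact Or.inl ⟨29, by norm_num, by norm_num, by norm_num⟩
  · exact Or.inl ⟨1327, by norm_num, by norm_num, by norm_num⟩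
  · exact Or.inl ⟨5309, by norm_num, by norm_num, by norm_num⟩
  · exact Or.inl ⟨59, by norm_num, by norm_num, by norm_num⟩
  · exact Or.inl ⟨47, by norm_num, by norm_num, by norm_num⟩
  · exact Or.inl ⟨83, by norm_num, by norm_num, by norm_num⟩
  · exact Or.inl ⟨23, by norm_num, by norm_num, by norm_num⟩
  · exact Or.inl ⟨2657, by norm_num, by norm_num, by norm_num⟩
  · exact Or.inl ⟨1063, by norm_num, by norm_num, by norm_num⟩
  · exact Or.inl ⟨443, by norm_num, by norm_num, by norm_num⟩
  · exact Or.inl ⟨409, by norm_num, by norm_num, by norm_num⟩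
  · exact Or.inl ⟨2659, by norm_num, by norm_num, by norm_num⟩
  · exact Or.inl ⟨197, by norm_num, by norm_num, by norm_num⟩
  · exact Or.inl ⟨19, by norm_num, by norm_num, by norm_num⟩
  · exact Or.inl ⟨313, by norm_num, by norm_num, by norm_num⟩
  · exact Or.inl ⟨887, by norm_num, by norm_num, by norm_num⟩
  · exact Or.inl ⟨5323, by norm_num, by norm_num, by norm_num⟩
  · exact Or.inr (Or.inl ⟨2, 11, 2, 3, by norm_num, by norm_num, by norm_num⟩)
  · exact Or.inl ⟨71, by norm_num, by norm_num, by norm_num⟩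
  · exact Or.inl ⟨2663, by norm_num, by norm_num, by norm_num⟩
  · exact Or.inl ⟨761, by norm_num, by norm_num, by norm_num⟩
  · exact Or.inl ⟨37, by norm_num, by norm_num, by norm_num⟩
  · exact Or.inl ⟨73, by norm_num, by norm_num, by norm_num⟩
  · exact Or.inl ⟨41, by norm_num, by norm_num, by norm_num⟩
  · exact Or.inl ⟨1777, by norm_num, by norm_num, by norm_num⟩
  · exact Or.inl ⟨31, by norm_num, by norm_num, by norm_num⟩
  · exact Or.inl ⟨5333, by norm_num, by norm_num, by norm_num⟩
  · exact Or.inl ⟨127, by norm_num, by norm_num, by norm_num⟩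
  · exact Or.inl ⟨97, by norm_num, by norm_num, by norm_num⟩
  · exact Or.inl ⟨23, by norm_num, by norm_num, by norm_num⟩
  · exact Or.inl ⟨593, by norm_num, by norm_num, by norm_num⟩
  · exact Or.inl ⟨157, by norm_num, by norm_num, by norm_num⟩
  · exact Or.inl ⟨19, by norm_num, by norm_num, by norm_num⟩
  · exact Or.inl ⟨89, by norm_num, by norm_num, by norm_num⟩
  · exact Or.inl ⟨109, by norm_num, by norm_num, by norm_num⟩
  · exact Or.inl ⟨2671, by norm_num, by norm_num, by norm_num⟩
  · exact Or.inl ⟨137, by norm_num, by norm_num, by norm_num⟩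
  · exact Or.inl ⟨167, by norm_num, by norm_num, by norm_num⟩
  · exact Or.inl ⟨1069, by norm_num, by norm_num, by norm_num⟩
  · exact Or.inr (Or.inr (Or.inl ⟨2673, by decide, by norm_num, by norm_num⟩))
  · exact Or.inl ⟨5347, by norm_num, by norm_num, by norm_num⟩
  · exact Or.inl ⟨191, by norm_num, by norm_num, by norm_num⟩
  · exact Or.inl ⟨1783, by norm_num, by norm_num, by norm_num⟩
  · exact Or.inl ⟨107, by norm_num, by norm_num, by norm_num⟩
  · exact Or.inl ⟨5351, by norm_num, by norm_num, by norm_num⟩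
  · exact Or.inl ⟨223, by norm_num, by norm_num, by norm_num⟩
  · exact Or.inl ⟨53, by norm_num, by norm_num, by norm_num⟩
  · exact Or.inl ⟨2677, by norm_num, by norm_num, by norm_num⟩
  · exact Or.inr (Or.inr (Or.inr (Or.inr (Or.inl ⟨3, by norm_num, by norm_num, by norm_num⟩))))
  · exact Or.inl ⟨103, by norm_num, by norm_num, by norm_num⟩
  · exact Or.inl ⟨487, by norm_num, by norm_num, by norm_num⟩
  · exact Or.inl ⟨19, by norm_num, by norm_num, by norm_num⟩
  · exact Or.inl ⟨23, by norm_num, by norm_num, by norm_num⟩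
  · exact Or.inl ⟨67, by norm_num, by norm_num, by norm_num⟩
  · exact Or.inl ⟨1787, by norm_num, by norm_num, by norm_num⟩
  · exact Or.inl ⟨383, by norm_num, by norm_num, by norm_num⟩
  · exact Or.inl ⟨31, by norm_num, by norm_num, by norm_num⟩
  · exact Or.inl ⟨149, by norm_num, by norm_num, by norm_num⟩
  · exact Or.inl ⟨29, by norm_num, by norm_num, by norm_num⟩
  · exact Or.inl ⟨2683, by norm_num, by norm_num, by norm_num⟩
  · exact Or.inl ⟨1789, by norm_num, by norm_num, by norm_num⟩
  · exact Or.inl ⟨61, by norm_num, by norm_num, by norm_num⟩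

theorem cls_5369_5476 (n : ℕ) (h1 : 5369 ≤ n) (h2 : n ≤ 5476) : Cls n := by
  unfold Cls
  interval_cases n
  · exact Or.inl ⟨59, by norm_num, by norm_num, by norm_num⟩
  · exact Or.inl ⟨179, by norm_num, by norm_num, by norm_num⟩
  · exact Or.inl ⟨41, by norm_num, by norm_num, by norm_num⟩
  · exact Or.inl ⟨79, by norm_num, by norm_num, by norm_num⟩
  · exact Or.inl ⟨199, by norm_num, by norm_num, by norm_num⟩
  · exact Or.inl ⟨2687, by norm_num, by norm_num, by norm_num⟩
  · exact Or.inl ⟨43, by norm_num, by norm_num, by norm_num⟩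
  · exact Or.inr (Or.inr (Or.inr (Or.inr (Or.inr (by decide)))))
  · exact Or.inl ⟨19, by norm_num, by norm_num, by norm_num⟩
  · exact Or.inl ⟨2689, by norm_num, by norm_num, by norm_num⟩
  · exact Or.inl ⟨163, by norm_num, by norm_num, by norm_num⟩
  · exact Or.inl ⟨269, by norm_num, by norm_num, by norm_num⟩
  · exact Or.inl ⟨5381, by norm_num, by norm_num, by norm_num⟩
  · exact Or.inl ⟨23, by norm_num, by norm_num, by norm_num⟩
  · exact Or.inl ⟨769, by norm_num, by norm_num, by norm_num⟩
  · exact Or.inl ⟨673, by norm_num, by norm_num, by norm_num⟩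
  · exact Or.inl ⟨359, by norm_num, by norm_num, by norm_num⟩
  · exact Or.inl ⟨2693, by norm_num, by norm_num, by norm_num⟩
  · exact Or.inl ⟨5387, by norm_num, by norm_num, by norm_num⟩
  · exact Or.inl ⟨449, by norm_num, by norm_num, by norm_num⟩
  · exact Or.inl ⟨317, by norm_num, by norm_num, by norm_num⟩
  · exact Or.inr (Or.inr (Or.inl ⟨2695, by decide, by norm_num, by norm_num⟩))
  · exact Or.inl ⟨599, by norm_num, by norm_num, by norm_num⟩
  · exact Or.inl ⟨337, by norm_num, by norm_num, by norm_num⟩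
  · exact Or.inl ⟨5393, by norm_num, by norm_num, by norm_num⟩
  · exact Or.inl ⟨29, by norm_num, by norm_num, by norm_num⟩
  · exact Or.inl ⟨83, by norm_num, by norm_num, by norm_num⟩
  · exact Or.inl ⟨19, by norm_num, by norm_num, by norm_num⟩
  · exact Or.inl ⟨257, by norm_num, by norm_num, by norm_num⟩
  · exact Or.inl ⟨2699, by norm_num, by norm_num, by norm_num⟩
  · exact Or.inl ⟨5399, by norm_num, by norm_num, by norm_num⟩
  · exact Or.inr (Or.inr (Or.inr (Or.inr (Or.inr (by decide)))))
  · exact Or.inl ⟨491, by norm_num, by norm_num, by norm_num⟩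
  · exact Or.inl ⟨37, by norm_num, by norm_num, by norm_num⟩
  · exact Or.inl ⟨1801, by norm_num, by norm_num, by norm_num⟩
  · exact Or.inl ⟨193, by norm_num, by norm_num, by norm_num⟩
  · exact Or.inl ⟨23, by norm_num, by norm_num, by norm_num⟩
  · exact Or.inl ⟨53, by norm_num, by norm_num, by norm_num⟩
  · exact Or.inl ⟨5407, by norm_num, by norm_num, by norm_num⟩
  · exact Or.inr (Or.inl ⟨2, 13, 5, 2, by norm_num, by norm_num, by norm_num⟩)
  · exact Or.inl ⟨601, by norm_num, by norm_num, by norm_num⟩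
  · exact Or.inl ⟨541, by norm_num, by norm_num, by norm_num⟩
  · exact Or.inl ⟨773, by norm_num, by norm_num, by norm_num⟩
  · exact Or.inl ⟨41, by norm_num, by norm_num, by norm_num⟩
  · exact Or.inl ⟨5413, by norm_num, by norm_num, by norm_num⟩
  · exact Or.inl ⟨2707, by norm_num, by norm_num, by norm_num⟩
  · exact Or.inl ⟨19, by norm_num, by norm_num, by norm_num⟩
  · exact Or.inl ⟨677, by norm_num, by norm_num, by norm_num⟩
  · exact Or.inl ⟨5417, by norm_num, by norm_num, by norm_num⟩
  · exact Or.inl ⟨43, by norm_num, by norm_num, by norm_num⟩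
  · exact Or.inl ⟨5419, by norm_num, by norm_num, by norm_num⟩
  · exact Or.inl ⟨271, by norm_num, by norm_num, by norm_num⟩
  · exact Or.inl ⟨139, by norm_num, by norm_num, by norm_num⟩
  · exact Or.inl ⟨2711, by norm_num, by norm_num, by norm_num⟩
  · exact Or.inl ⟨29, by norm_num, by norm_num, by norm_num⟩
  · exact Or.inl ⟨113, by norm_num, by norm_num, by norm_num⟩
  · exact Or.inl ⟨31, by norm_num, by norm_num, by norm_num⟩
  · exact Or.inl ⟨2713, by norm_num, by norm_num, by norm_num⟩
  · exact Or.inl ⟨67, by norm_num, by norm_num, by norm_num⟩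
  · exact Or.inl ⟨23, by norm_num, by norm_num, by norm_num⟩
  · exact Or.inl ⟨61, by norm_num, by norm_num, by norm_num⟩
  · exact Or.inl ⟨181, by norm_num, by norm_num, by norm_num⟩
  · exact Or.inl ⟨5431, by norm_num, by norm_num, by norm_num⟩
  · exact Or.inl ⟨97, by norm_num, by norm_num, by norm_num⟩
  · exact Or.inl ⟨1811, by norm_num, by norm_num, by norm_num⟩
  · exact Or.inl ⟨19, by norm_num, by norm_num, by norm_num⟩
  · exact Or.inl ⟨1087, by norm_num, by norm_num, by norm_num⟩
  · exact Or.inl ⟨151, by norm_num, by norm_num, by norm_num⟩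
  · exact Or.inl ⟨5437, by norm_num, by norm_num, by norm_num⟩
  · exact Or.inl ⟨2719, by norm_num, by norm_num, by norm_num⟩
  · exact Or.inl ⟨37, by norm_num, by norm_num, by norm_num⟩
  · exact Or.inr (Or.inr (Or.inr (Or.inr (Or.inr (by decide)))))
  · exact Or.inl ⟨5441, by norm_num, by norm_num, by norm_num⟩
  · exact Or.inl ⟨907, by norm_num, by norm_num, by norm_num⟩
  · exact Or.inl ⟨5443, by norm_num, by norm_num, by norm_num⟩
  · exact Or.inl ⟨1361, by norm_num, by norm_num, by norm_num⟩
  · exact Or.inr (Or.inr (Or.inr (Or.inr (Or.inl ⟨3, by norm_num, by norm_num, by norm_num⟩))))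
  · exact Or.inl ⟨389, by norm_num, by norm_num, by norm_num⟩
  · exact Or.inl ⟨419, by norm_num, by norm_num, by norm_num⟩
  · exact Or.inl ⟨227, by norm_num, by norm_num, by norm_num⟩
  · exact Or.inl ⟨5449, by norm_num, by norm_num, by norm_num⟩
  · exact Or.inl ⟨109, by norm_num, by norm_num, by norm_num⟩
  · exact Or.inl ⟨23, by norm_num, by norm_num, by norm_num⟩
  · exact Or.inl ⟨29, by norm_num, by norm_num, by norm_num⟩
  · exact Or.inl ⟨19, by norm_num, by norm_num, by norm_num⟩
  · exact Or.inl ⟨101, by norm_num, by norm_num, by norm_num⟩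
  · exact Or.inl ⟨1091, by norm_num, by norm_num, by norm_num⟩
  · exact Or.inl ⟨31, by norm_num, by norm_num, by norm_num⟩
  · exact Or.inl ⟨107, by norm_num, by norm_num, by norm_num⟩
  · exact Or.inl ⟨2729, by norm_num, by norm_num, by norm_num⟩
  · exact Or.inl ⟨53, by norm_num, by norm_num, by norm_num⟩
  · exact Or.inr (Or.inr (Or.inr (Or.inr (Or.inr (by decide)))))
  · exact Or.inl ⟨43, by norm_num, by norm_num, by norm_num⟩
  · exact Or.inl ⟨2731, by norm_num, by norm_num, by norm_num⟩
  · exact Or.inl ⟨607, by norm_num, by norm_num, by norm_num⟩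
  · exact Or.inl ⟨683, by norm_num, by norm_num, by norm_num⟩
  · exact Or.inl ⟨1093, by norm_num, by norm_num, by norm_num⟩
  · exact Or.inl ⟨911, by norm_num, by norm_num, by norm_num⟩
  · exact Or.inl ⟨71, by norm_num, by norm_num, by norm_num⟩
  · exact Or.inl ⟨1367, by norm_num, by norm_num, by norm_num⟩
  · exact Or.inl ⟨1823, by norm_num, by norm_num, by norm_num⟩
  · exact Or.inl ⟨547, by norm_num, by norm_num, by norm_num⟩
  · exact Or.inl ⟨5471, by norm_num, by norm_num, by norm_num⟩
  · exact Or.inl ⟨19, by norm_num, by norm_num, by norm_num⟩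
  · exact Or.inl ⟨421, by norm_num, by norm_num, by norm_num⟩
  · exact Or.inl ⟨23, by norm_num, by norm_num, by norm_num⟩
  · exact Or.inl ⟨73, by norm_num, by norm_num, by norm_num⟩
  · exact Or.inl ⟨37, by norm_num, by norm_num, by norm_num⟩

theorem cls_5477_5584 (n : ℕ) (h1 : 5477 ≤ n) (h2 : n ≤ 5584) : Cls n := by
  unfold Cls
  interval_cases n
  · exact Or.inl ⟨5477, by norm_num, by norm_num, by norm_num⟩
  · exact Or.inl ⟨83, by norm_num, by norm_num, by norm_num⟩
  · exact Or.inl ⟨5479, by norm_num, by norm_num, by norm_num⟩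
  · exact Or.inl ⟨137, by norm_num, by norm_num, by norm_num⟩
  · exact Or.inl ⟨29, by norm_num, by norm_num, by norm_num⟩
  · exact Or.inl ⟨2741, by norm_num, by norm_num, by norm_num⟩
  · exact Or.inl ⟨5483, by norm_num, by norm_num, by norm_num⟩
  · exact Or.inl ⟨457, by norm_num, by norm_num, by norm_num⟩
  · exact Or.inl ⟨1097, by norm_num, by norm_num, by norm_num⟩
  · exact Or.inl ⟨211, by norm_num, by norm_num, by norm_num⟩
  · exact Or.inl ⟨31, by norm_num, by norm_num, by norm_num⟩
  · exact Or.inr (Or.inl ⟨2, 7, 4, 3, by norm_num, by norm_num, by norm_num⟩)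
  · exact Or.inl ⟨499, by norm_num, by norm_num, by norm_num⟩
  · exact Or.inl ⟨61, by norm_num, by norm_num, by norm_num⟩
  · exact Or.inl ⟨19, by norm_num, by norm_num, by norm_num⟩
  · exact Or.inl ⟨1373, by norm_num, by norm_num, by norm_num⟩
  · exact Or.inl ⟨1831, by norm_num, by norm_num, by norm_num⟩
  · exact Or.inl ⟨41, by norm_num, by norm_num, by norm_num⟩
  · exact Or.inl ⟨157, by norm_num, by norm_num, by norm_num⟩
  · exact Or.inl ⟨229, by norm_num, by norm_num, by norm_num⟩
  · exact Or.inl ⟨23, by norm_num, by norm_num, by norm_num⟩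
  · exact Or.inl ⟨2749, by norm_num, by norm_num, by norm_num⟩
  · exact Or.inl ⟨47, by norm_num, by norm_num, by norm_num⟩
  · exact Or.inr (Or.inr (Or.inr (Or.inl ⟨by decide, by omega⟩)))
  · exact Or.inl ⟨5501, by norm_num, by norm_num, by norm_num⟩
  · exact Or.inl ⟨131, by norm_num, by norm_num, by norm_num⟩
  · exact Or.inl ⟨5503, by norm_num, by norm_num, by norm_num⟩
  · exact Or.inl ⟨43, by norm_num, by norm_num, by norm_num⟩
  · exact Or.inl ⟨367, by norm_num, by norm_num, by norm_num⟩
  · exact Or.inl ⟨2753, by norm_num, by norm_num, by norm_num⟩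
  · exact Or.inl ⟨5507, by norm_num, by norm_num, by norm_num⟩
  · exact Or.inr (Or.inr (Or.inr (Or.inr (Or.inr (by decide)))))
  · exact Or.inl ⟨787, by norm_num, by norm_num, by norm_num⟩
  · exact Or.inl ⟨19, by norm_num, by norm_num, by norm_num⟩
  · exact Or.inl ⟨167, by norm_num, by norm_num, by norm_num⟩
  · exact Or.inl ⟨53, by norm_num, by norm_num, by norm_num⟩
  · exact Or.inl ⟨37, by norm_num, by norm_num, by norm_num⟩
  · exact Or.inl ⟨919, by norm_num, by norm_num, by norm_num⟩
  · exact Or.inl ⟨1103, by norm_num, by norm_num, by norm_num⟩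
  · exact Or.inl ⟨197, by norm_num, by norm_num, by norm_num⟩
  · exact Or.inl ⟨613, by norm_num, by norm_num, by norm_num⟩
  · exact Or.inl ⟨31, by norm_num, by norm_num, by norm_num⟩
  · exact Or.inl ⟨5519, by norm_num, by norm_num, by norm_num⟩
  · exact Or.inl ⟨23, by norm_num, by norm_num, by norm_num⟩
  · exact Or.inl ⟨5521, by norm_num, by norm_num, by norm_num⟩
  · exact Or.inl ⟨251, by norm_num, by norm_num, by norm_num⟩
  · exact Or.inl ⟨263, by norm_num, by norm_num, by norm_num⟩
  · exact Or.inl ⟨1381, by norm_num, by norm_num, by norm_num⟩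
  · exact Or.inr (Or.inr (Or.inr (Or.inr (Or.inl ⟨5, by norm_num, by norm_num, by norm_num⟩))))
  · exact Or.inl ⟨307, by norm_num, by norm_num, by norm_num⟩
  · exact Or.inl ⟨5527, by norm_num, by norm_num, by norm_num⟩
  · exact Or.inl ⟨691, by norm_num, by norm_num, by norm_num⟩
  · exact Or.inl ⟨19, by norm_num, by norm_num, by norm_num⟩
  · exact Or.inl ⟨79, by norm_num, by norm_num, by norm_num⟩
  · exact Or.inl ⟨5531, by norm_num, by norm_num, by norm_num⟩
  · exact Or.inl ⟨461, by norm_num, by norm_num, by norm_num⟩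
  · exact Or.inl ⟨503, by norm_num, by norm_num, by norm_num⟩
  · exact Or.inl ⟨2767, by norm_num, by norm_num, by norm_num⟩
  · exact Or.inl ⟨41, by norm_num, by norm_num, by norm_num⟩
  · exact Or.inl ⟨173, by norm_num, by norm_num, by norm_num⟩
  · exact Or.inl ⟨113, by norm_num, by norm_num, by norm_num⟩
  · exact Or.inl ⟨71, by norm_num, by norm_num, by norm_num⟩
  · exact Or.inl ⟨29, by norm_num, by norm_num, by norm_num⟩
  · exact Or.inl ⟨277, by norm_num, by norm_num, by norm_num⟩
  · exact Or.inl ⟨1847, by norm_num, by norm_num, by norm_num⟩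
  · exact Or.inl ⟨163, by norm_num, by norm_num, by norm_num⟩
  · exact Or.inl ⟨23, by norm_num, by norm_num, by norm_num⟩
  · exact Or.inr (Or.inr (Or.inr (Or.inr (Or.inr (by decide)))))
  · exact Or.inl ⟨1109, by norm_num, by norm_num, by norm_num⟩
  · exact Or.inl ⟨47, by norm_num, by norm_num, by norm_num⟩
  · exact Or.inl ⟨43, by norm_num, by norm_num, by norm_num⟩
  · exact Or.inl ⟨19, by norm_num, by norm_num, by norm_num⟩
  · exact Or.inl ⟨31, by norm_num, by norm_num, by norm_num⟩
  · exact Or.inl ⟨37, by norm_num, by norm_num, by norm_num⟩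
  · exact Or.inl ⟨61, by norm_num, by norm_num, by norm_num⟩
  · exact Or.inl ⟨347, by norm_num, by norm_num, by norm_num⟩
  · exact Or.inl ⟨617, by norm_num, by norm_num, by norm_num⟩
  · exact Or.inl ⟨2777, by norm_num, by norm_num, by norm_num⟩
  · exact Or.inl ⟨101, by norm_num, by norm_num, by norm_num⟩
  · exact Or.inl ⟨463, by norm_num, by norm_num, by norm_num⟩
  · exact Or.inl ⟨5557, by norm_num, by norm_num, by norm_num⟩
  · exact Or.inl ⟨397, by norm_num, by norm_num, by norm_num⟩
  · exact Or.inl ⟨109, by norm_num, by norm_num, by norm_num⟩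
  · exact Or.inl ⟨139, by norm_num, by norm_num, by norm_num⟩
  · exact Or.inl ⟨67, by norm_num, by norm_num, by norm_num⟩
  · exact Or.inl ⟨103, by norm_num, by norm_num, by norm_num⟩
  · exact Or.inl ⟨5563, by norm_num, by norm_num, by norm_num⟩
  · exact Or.inl ⟨107, by norm_num, by norm_num, by norm_num⟩
  · exact Or.inl ⟨53, by norm_num, by norm_num, by norm_num⟩
  · exact Or.inl ⟨23, by norm_num, by norm_num, by norm_num⟩
  · exact Or.inl ⟨19, by norm_num, by norm_num, by norm_num⟩
  · exact Or.inl ⟨29, by norm_num, by norm_num, by norm_num⟩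
  · exact Or.inl ⟨5569, by norm_num, by norm_num, by norm_num⟩
  · exact Or.inl ⟨557, by norm_num, by norm_num, by norm_num⟩
  · exact Or.inl ⟨619, by norm_num, by norm_num, by norm_num⟩
  · exact Or.inl ⟨199, by norm_num, by norm_num, by norm_num⟩
  · exact Or.inl ⟨5573, by norm_num, by norm_num, by norm_num⟩
  · exact Or.inl ⟨929, by norm_num, by norm_num, by norm_num⟩
  · exact Or.inl ⟨223, by norm_num, by norm_num, by norm_num⟩
  · exact Or.inl ⟨41, by norm_num, by norm_num, by norm_num⟩
  · exact Or.inr (Or.inr (Or.inr (Or.inr (Or.inl ⟨3, by norm_num, by norm_num, by norm_num⟩))))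
  · exact Or.inl ⟨2789, by norm_num, by norm_num, by norm_num⟩
  · exact Or.inl ⟨797, by norm_num, by norm_num, by norm_num⟩
  · exact Or.inl ⟨31, by norm_num, by norm_num, by norm_num⟩
  · exact Or.inl ⟨5581, by norm_num, by norm_num, by norm_num⟩
  · exact Or.inl ⟨2791, by norm_num, by norm_num, by norm_num⟩
  · exact Or.inl ⟨1861, by norm_num, by norm_num, by norm_num⟩
  · exact Or.inl ⟨349, by norm_num, by norm_num, by norm_num⟩

theorem cls_5585_5692 (n : ℕ) (h1 : 5585 ≤ n) (h2 : n ≤ 5692) : Cls n := by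
  unfold Cls
  interval_cases n
  · exact Or.inl ⟨1117, by norm_num, by norm_num, by norm_num⟩
  · exact Or.inl ⟨19, by norm_num, by norm_num, by norm_num⟩
  · exact Or.inl ⟨37, by norm_num, by norm_num, by norm_num⟩
  · exact Or.inl ⟨127, by norm_num, by norm_num, by norm_num⟩
  · exact Or.inl ⟨23, by norm_num, by norm_num, by norm_num⟩
  · exact Or.inl ⟨43, by norm_num, by norm_num, by norm_num⟩
  · exact Or.inl ⟨5591, by norm_num, by norm_num, by norm_num⟩
  · exact Or.inl ⟨233, by norm_num, by norm_num, by norm_num⟩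
  · exact Or.inl ⟨47, by norm_num, by norm_num, by norm_num⟩
  · exact Or.inl ⟨2797, by norm_num, by norm_num, by norm_num⟩
  · exact Or.inl ⟨373, by norm_num, by norm_num, by norm_num⟩
  · exact Or.inl ⟨1399, by norm_num, by norm_num, by norm_num⟩
  · exact Or.inl ⟨29, by norm_num, by norm_num, by norm_num⟩
  · exact Or.inl ⟨311, by norm_num, by norm_num, by norm_num⟩
  · exact Or.inl ⟨509, by norm_num, by norm_num, by norm_num⟩
  · exact Or.inr (Or.inr (Or.inr (Or.inr (Or.inr (by decide)))))
  · exact Or.inl ⟨1867, by norm_num, by norm_num, by norm_num⟩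
  · exact Or.inl ⟨2801, by norm_num, by norm_num, by norm_num⟩
  · exact Or.inl ⟨431, by norm_num, by norm_num, by norm_num⟩
  · exact Or.inl ⟨467, by norm_num, by norm_num, by norm_num⟩
  · exact Or.inl ⟨19, by norm_num, by norm_num, by norm_num⟩
  · exact Or.inl ⟨2803, by norm_num, by norm_num, by norm_num⟩
  · exact Or.inl ⟨89, by norm_num, by norm_num, by norm_num⟩
  · exact Or.inl ⟨701, by norm_num, by norm_num, by norm_num⟩
  · exact Or.inl ⟨71, by norm_num, by norm_num, by norm_num⟩
  · exact Or.inr (Or.inr (Or.inl ⟨2805, by decide, by norm_num, by norm_num⟩))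
  · exact Or.inl ⟨31, by norm_num, by norm_num, by norm_num⟩
  · exact Or.inl ⟨23, by norm_num, by norm_num, by norm_num⟩
  · exact Or.inl ⟨1871, by norm_num, by norm_num, by norm_num⟩
  · exact Or.inl ⟨401, by norm_num, by norm_num, by norm_num⟩
  · exact Or.inl ⟨1123, by norm_num, by norm_num, by norm_num⟩
  · exact Or.inr (Or.inr (Or.inr (Or.inr (Or.inr (by decide)))))
  · exact Or.inl ⟨41, by norm_num, by norm_num, by norm_num⟩
  · exact Or.inl ⟨53, by norm_num, by norm_num, by norm_num⟩
  · exact Or.inl ⟨1873, by norm_num, by norm_num, by norm_num⟩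
  · exact Or.inl ⟨281, by norm_num, by norm_num, by norm_num⟩
  · exact Or.inl ⟨73, by norm_num, by norm_num, by norm_num⟩
  · exact Or.inl ⟨937, by norm_num, by norm_num, by norm_num⟩
  · exact Or.inl ⟨5623, by norm_num, by norm_num, by norm_num⟩
  · exact Or.inl ⟨19, by norm_num, by norm_num, by norm_num⟩
  · exact Or.inr (Or.inl ⟨3, 5, 2, 4, by norm_num, by norm_num, by norm_num⟩)
  · exact Or.inl ⟨29, by norm_num, by norm_num, by norm_num⟩
  · exact Or.inl ⟨331, by norm_num, by norm_num, by norm_num⟩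
  · exact Or.inl ⟨67, by norm_num, by norm_num, by norm_num⟩
  · exact Or.inl ⟨433, by norm_num, by norm_num, by norm_num⟩
  · exact Or.inl ⟨563, by norm_num, by norm_num, by norm_num⟩
  · exact Or.inl ⟨1877, by norm_num, by norm_num, by norm_num⟩
  · exact Or.inr (Or.inl ⟨2, 11, 9, 1, by norm_num, by norm_num, by norm_num⟩)
  · exact Or.inl ⟨43, by norm_num, by norm_num, by norm_num⟩
  · exact Or.inl ⟨313, by norm_num, by norm_num, by norm_num⟩
  · exact Or.inl ⟨23, by norm_num, by norm_num, by norm_num⟩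
  · exact Or.inl ⟨1409, by norm_num, by norm_num, by norm_num⟩
  · exact Or.inl ⟨1879, by norm_num, by norm_num, by norm_num⟩
  · exact Or.inl ⟨2819, by norm_num, by norm_num, by norm_num⟩
  · exact Or.inl ⟨5639, by norm_num, by norm_num, by norm_num⟩
  · exact Or.inl ⟨47, by norm_num, by norm_num, by norm_num⟩
  · exact Or.inl ⟨5641, by norm_num, by norm_num, by norm_num⟩
  · exact Or.inl ⟨31, by norm_num, by norm_num, by norm_num⟩
  · exact Or.inl ⟨19, by norm_num, by norm_num, by norm_num⟩
  · exact Or.inl ⟨83, by norm_num, by norm_num, by norm_num⟩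
  · exact Or.inl ⟨1129, by norm_num, by norm_num, by norm_num⟩
  · exact Or.inl ⟨941, by norm_num, by norm_num, by norm_num⟩
  · exact Or.inl ⟨5647, by norm_num, by norm_num, by norm_num⟩
  · exact Or.inl ⟨353, by norm_num, by norm_num, by norm_num⟩
  · exact Or.inl ⟨269, by norm_num, by norm_num, by norm_num⟩
  · exact Or.inl ⟨113, by norm_num, by norm_num, by norm_num⟩
  · exact Or.inl ⟨5651, by norm_num, by norm_num, by norm_num⟩
  · exact Or.inl ⟨157, by norm_num, by norm_num, by norm_num⟩
  · exact Or.inl ⟨5653, by norm_num, by norm_num, by norm_num⟩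
  · exact Or.inl ⟨257, by norm_num, by norm_num, by norm_num⟩
  · exact Or.inl ⟨29, by norm_num, by norm_num, by norm_num⟩
  · exact Or.inl ⟨101, by norm_num, by norm_num, by norm_num⟩
  · exact Or.inl ⟨5657, by norm_num, by norm_num, by norm_num⟩
  · exact Or.inl ⟨23, by norm_num, by norm_num, by norm_num⟩
  · exact Or.inl ⟨5659, by norm_num, by norm_num, by norm_num⟩
  · exact Or.inl ⟨283, by norm_num, by norm_num, by norm_num⟩
  · exact Or.inl ⟨37, by norm_num, by norm_num, by norm_num⟩
  · exact Or.inl ⟨19, by norm_num, by norm_num, by norm_num⟩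
  · exact Or.inl ⟨809, by norm_num, by norm_num, by norm_num⟩
  · exact Or.inl ⟨59, by norm_num, by norm_num, by norm_num⟩
  · exact Or.inl ⟨103, by norm_num, by norm_num, by norm_num⟩
  · exact Or.inl ⟨2833, by norm_num, by norm_num, by norm_num⟩
  · exact Or.inl ⟨1889, by norm_num, by norm_num, by norm_num⟩
  · exact Or.inl ⟨109, by norm_num, by norm_num, by norm_num⟩
  · exact Or.inl ⟨5669, by norm_num, by norm_num, by norm_num⟩
  · exact Or.inr (Or.inr (Or.inl ⟨2835, by decide, by norm_num, by norm_num⟩))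
  · exact Or.inl ⟨53, by norm_num, by norm_num, by norm_num⟩
  · exact Or.inl ⟨709, by norm_num, by norm_num, by norm_num⟩
  · exact Or.inl ⟨31, by norm_num, by norm_num, by norm_num⟩
  · exact Or.inl ⟨2837, by norm_num, by norm_num, by norm_num⟩
  · exact Or.inl ⟨227, by norm_num, by norm_num, by norm_num⟩
  · exact Or.inl ⟨43, by norm_num, by norm_num, by norm_num⟩
  · exact Or.inl ⟨811, by norm_num, by norm_num, by norm_num⟩
  · exact Or.inl ⟨167, by norm_num, by norm_num, by norm_num⟩
  · exact Or.inl ⟨631, by norm_num, by norm_num, by norm_num⟩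
  · exact Or.inl ⟨71, by norm_num, by norm_num, by norm_num⟩
  · exact Or.inl ⟨19, by norm_num, by norm_num, by norm_num⟩
  · exact Or.inl ⟨947, by norm_num, by norm_num, by norm_num⟩
  · exact Or.inl ⟨5683, by norm_num, by norm_num, by norm_num⟩
  · exact Or.inl ⟨29, by norm_num, by norm_num, by norm_num⟩
  · exact Or.inl ⟨379, by norm_num, by norm_num, by norm_num⟩
  · exact Or.inl ⟨2843, by norm_num, by norm_num, by norm_num⟩
  · exact Or.inl ⟨47, by norm_num, by norm_num, by norm_num⟩
  · exact Or.inl ⟨79, by norm_num, by norm_num, by norm_num⟩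
  · exact Or.inl ⟨5689, by norm_num, by norm_num, by norm_num⟩
  · exact Or.inl ⟨569, by norm_num, by norm_num, by norm_num⟩
  · exact Or.inl ⟨271, by norm_num, by norm_num, by norm_num⟩
  · exact Or.inl ⟨1423, by norm_num, by norm_num, by norm_num⟩

theorem cls_5693_5800 (n : ℕ) (h1 : 5693 ≤ n) (h2 : n ≤ 5800) : Cls n := by
  unfold Cls
  interval_cases n
  · exact Or.inl ⟨5693, by norm_num, by norm_num, by norm_num⟩
  · exact Or.inl ⟨73, by norm_num, by norm_num, by norm_num⟩
  · exact Or.inl ⟨67, by norm_num, by norm_num, by norm_num⟩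
  · exact Or.inl ⟨89, by norm_num, by norm_num, by norm_num⟩
  · exact Or.inl ⟨211, by norm_num, by norm_num, by norm_num⟩
  · exact Or.inl ⟨37, by norm_num, by norm_num, by norm_num⟩
  · exact Or.inl ⟨41, by norm_num, by norm_num, by norm_num⟩
  · exact Or.inl ⟨19, by norm_num, by norm_num, by norm_num⟩
  · exact Or.inl ⟨5701, by norm_num, by norm_num, by norm_num⟩
  · exact Or.inl ⟨2851, by norm_num, by norm_num, by norm_num⟩
  · exact Or.inl ⟨1901, by norm_num, by norm_num, by norm_num⟩
  · exact Or.inl ⟨23, by norm_num, by norm_num, by norm_num⟩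
  · exact Or.inl ⟨163, by norm_num, by norm_num, by norm_num⟩
  · exact Or.inl ⟨317, by norm_num, by norm_num, by norm_num⟩
  · exact Or.inl ⟨439, by norm_num, by norm_num, by norm_num⟩
  · exact Or.inl ⟨1427, by norm_num, by norm_num, by norm_num⟩
  · exact Or.inl ⟨173, by norm_num, by norm_num, by norm_num⟩
  · exact Or.inl ⟨571, by norm_num, by norm_num, by norm_num⟩
  · exact Or.inl ⟨5711, by norm_num, by norm_num, by norm_num⟩
  · exact Or.inr (Or.inr (Or.inr (Or.inr (Or.inr (by decide)))))
  · exact Or.inl ⟨29, by norm_num, by norm_num, by norm_num⟩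
  · exact Or.inl ⟨2857, by norm_num, by norm_num, by norm_num⟩
  · exact Or.inl ⟨127, by norm_num, by norm_num, by norm_num⟩
  · exact Or.inl ⟨1429, by norm_num, by norm_num, by norm_num⟩
  · exact Or.inl ⟨5717, by norm_num, by norm_num, by norm_num⟩
  · exact Or.inl ⟨953, by norm_num, by norm_num, by norm_num⟩
  · exact Or.inl ⟨19, by norm_num, by norm_num, by norm_num⟩
  · exact Or.inr (Or.inr (Or.inr (Or.inl ⟨by decide, by omega⟩)))
  · exact Or.inl ⟨1907, by norm_num, by norm_num, by norm_num⟩
  · exact Or.inl ⟨2861, by norm_num, by norm_num, by norm_num⟩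
  · exact Or.inl ⟨59, by norm_num, by norm_num, by norm_num⟩
  · exact Or.inl ⟨53, by norm_num, by norm_num, by norm_num⟩
  · exact Or.inl ⟨229, by norm_num, by norm_num, by norm_num⟩
  · exact Or.inl ⟨409, by norm_num, by norm_num, by norm_num⟩
  · exact Or.inl ⟨23, by norm_num, by norm_num, by norm_num⟩
  · exact Or.inl ⟨179, by norm_num, by norm_num, by norm_num⟩
  · exact Or.inl ⟨337, by norm_num, by norm_num, by norm_num⟩
  · exact Or.inl ⟨191, by norm_num, by norm_num, by norm_num⟩
  · exact Or.inl ⟨521, by norm_num, by norm_num, by norm_num⟩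
  · exact Or.inl ⟨1433, by norm_num, by norm_num, by norm_num⟩
  · exact Or.inr (Or.inr (Or.inr (Or.inr (Or.inl ⟨3, by norm_num, by norm_num, by norm_num⟩))))
  · exact Or.inl ⟨47, by norm_num, by norm_num, by norm_num⟩
  · exact Or.inl ⟨31, by norm_num, by norm_num, by norm_num⟩
  · exact Or.inl ⟨239, by norm_num, by norm_num, by norm_num⟩
  · exact Or.inl ⟨5737, by norm_num, by norm_num, by norm_num⟩
  · exact Or.inl ⟨19, by norm_num, by norm_num, by norm_num⟩
  · exact Or.inl ⟨1913, by norm_num, by norm_num, by norm_num⟩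
  · exact Or.inl ⟨41, by norm_num, by norm_num, by norm_num⟩
  · exact Or.inl ⟨5741, by norm_num, by norm_num, by norm_num⟩
  · exact Or.inl ⟨29, by norm_num, by norm_num, by norm_num⟩
  · exact Or.inl ⟨5743, by norm_num, by norm_num, by norm_num⟩
  · exact Or.inl ⟨359, by norm_num, by norm_num, by norm_num⟩
  · exact Or.inl ⟨383, by norm_num, by norm_num, by norm_num⟩
  · exact Or.inr (Or.inr (Or.inl ⟨2873, by decide, by norm_num, by norm_num⟩))
  · exact Or.inl ⟨821, by norm_num, by norm_num, by norm_num⟩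
  · exact Or.inl ⟨479, by norm_num, by norm_num, by norm_num⟩
  · exact Or.inl ⟨5749, by norm_num, by norm_num, by norm_num⟩
  · exact Or.inl ⟨23, by norm_num, by norm_num, by norm_num⟩
  · exact Or.inl ⟨71, by norm_num, by norm_num, by norm_num⟩
  · exact Or.inl ⟨719, by norm_num, by norm_num, by norm_num⟩
  · exact Or.inl ⟨523, by norm_num, by norm_num, by norm_num⟩
  · exact Or.inl ⟨137, by norm_num, by norm_num, by norm_num⟩
  · exact Or.inl ⟨1151, by norm_num, by norm_num, by norm_num⟩
  · exact Or.inl ⟨1439, by norm_num, by norm_num, by norm_num⟩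
  · exact Or.inl ⟨19, by norm_num, by norm_num, by norm_num⟩
  · exact Or.inl ⟨2879, by norm_num, by norm_num, by norm_num⟩
  · exact Or.inl ⟨443, by norm_num, by norm_num, by norm_num⟩
  · exact Or.inr (Or.inr (Or.inr (Or.inr (Or.inr (by decide)))))
  · exact Or.inl ⟨823, by norm_num, by norm_num, by norm_num⟩
  · exact Or.inl ⟨43, by norm_num, by norm_num, by norm_num⟩
  · exact Or.inl ⟨113, by norm_num, by norm_num, by norm_num⟩
  · exact Or.inl ⟨131, by norm_num, by norm_num, by norm_num⟩
  · exact Or.inl ⟨1153, by norm_num, by norm_num, by norm_num⟩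
  · exact Or.inl ⟨31, by norm_num, by norm_num, by norm_num⟩
  · exact Or.inl ⟨73, by norm_num, by norm_num, by norm_num⟩
  · exact Or.inl ⟨103, by norm_num, by norm_num, by norm_num⟩
  · exact Or.inl ⟨641, by norm_num, by norm_num, by norm_num⟩
  · exact Or.inl ⟨577, by norm_num, by norm_num, by norm_num⟩
  · exact Or.inl ⟨29, by norm_num, by norm_num, by norm_num⟩
  · exact Or.inl ⟨37, by norm_num, by norm_num, by norm_num⟩
  · exact Or.inl ⟨23, by norm_num, by norm_num, by norm_num⟩
  · exact Or.inl ⟨2887, by norm_num, by norm_num, by norm_num⟩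
  · exact Or.inr (Or.inr (Or.inr (Or.inr (Or.inl ⟨3, by norm_num, by norm_num, by norm_num⟩))))
  · exact Or.inl ⟨19, by norm_num, by norm_num, by norm_num⟩
  · exact Or.inl ⟨53, by norm_num, by norm_num, by norm_num⟩
  · exact Or.inl ⟨107, by norm_num, by norm_num, by norm_num⟩
  · exact Or.inl ⟨5779, by norm_num, by norm_num, by norm_num⟩
  · exact Or.inr (Or.inr (Or.inr (Or.inl ⟨by decide, by omega⟩)))
  · exact Or.inl ⟨41, by norm_num, by norm_num, by norm_num⟩
  · exact Or.inl ⟨59, by norm_num, by norm_num, by norm_num⟩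
  · exact Or.inl ⟨5783, by norm_num, by norm_num, by norm_num⟩
  · exact Or.inl ⟨241, by norm_num, by norm_num, by norm_num⟩
  · exact Or.inl ⟨89, by norm_num, by norm_num, by norm_num⟩
  · exact Or.inl ⟨263, by norm_num, by norm_num, by norm_num⟩
  · exact Or.inl ⟨643, by norm_num, by norm_num, by norm_num⟩
  · exact Or.inl ⟨1447, by norm_num, by norm_num, by norm_num⟩
  · exact Or.inl ⟨827, by norm_num, by norm_num, by norm_num⟩
  · exact Or.inl ⟨193, by norm_num, by norm_num, by norm_num⟩
  · exact Or.inl ⟨5791, by norm_num, by norm_num, by norm_num⟩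
  · exact Or.inl ⟨181, by norm_num, by norm_num, by norm_num⟩
  · exact Or.inl ⟨1931, by norm_num, by norm_num, by norm_num⟩
  · exact Or.inl ⟨2897, by norm_num, by norm_num, by norm_num⟩
  · exact Or.inl ⟨19, by norm_num, by norm_num, by norm_num⟩
  · exact Or.inl ⟨23, by norm_num, by norm_num, by norm_num⟩
  · exact Or.inl ⟨31, by norm_num, by norm_num, by norm_num⟩
  · exact Or.inl ⟨223, by norm_num, by norm_num, by norm_num⟩
  · exact Or.inl ⟨1933, by norm_num, by norm_num, by norm_num⟩
  · exact Or.inl ⟨29, by norm_num, by norm_num, by norm_num⟩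

theorem cls_5801_5908 (n : ℕ) (h1 : 5801 ≤ n) (h2 : n ≤ 5908) : Cls n := by
  unfold Cls
  interval_cases n
  · exact Or.inl ⟨5801, by norm_num, by norm_num, by norm_num⟩
  · exact Or.inl ⟨967, by norm_num, by norm_num, by norm_num⟩
  · exact Or.inl ⟨829, by norm_num, by norm_num, by norm_num⟩
  · exact Or.inl ⟨1451, by norm_num, by norm_num, by norm_num⟩
  · exact Or.inl ⟨43, by norm_num, by norm_num, by norm_num⟩
  · exact Or.inl ⟨2903, by norm_num, by norm_num, by norm_num⟩
  · exact Or.inl ⟨5807, by norm_num, by norm_num, by norm_num⟩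
  · exact Or.inr (Or.inr (Or.inr (Or.inr (Or.inr (by decide)))))
  · exact Or.inl ⟨37, by norm_num, by norm_num, by norm_num⟩
  · exact Or.inl ⟨83, by norm_num, by norm_num, by norm_num⟩
  · exact Or.inl ⟨149, by norm_num, by norm_num, by norm_num⟩
  · exact Or.inl ⟨1453, by norm_num, by norm_num, by norm_num⟩
  · exact Or.inl ⟨5813, by norm_num, by norm_num, by norm_num⟩
  · exact Or.inl ⟨19, by norm_num, by norm_num, by norm_num⟩
  · exact Or.inl ⟨1163, by norm_num, by norm_num, by norm_num⟩
  · exact Or.inl ⟨727, by norm_num, by norm_num, by norm_num⟩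
  · exact Or.inl ⟨277, by norm_num, by norm_num, by norm_num⟩
  · exact Or.inl ⟨2909, by norm_num, by norm_num, by norm_num⟩
  · exact Or.inl ⟨23, by norm_num, by norm_num, by norm_num⟩
  · exact Or.inl ⟨97, by norm_num, by norm_num, by norm_num⟩
  · exact Or.inl ⟨5821, by norm_num, by norm_num, by norm_num⟩
  · exact Or.inl ⟨41, by norm_num, by norm_num, by norm_num⟩
  · exact Or.inl ⟨647, by norm_num, by norm_num, by norm_num⟩
  · exact Or.inr (Or.inr (Or.inr (Or.inr (Or.inr (by decide)))))
  · exact Or.inl ⟨233, by norm_num, by norm_num, by norm_num⟩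
  · exact Or.inl ⟨971, by norm_num, by norm_num, by norm_num⟩
  · exact Or.inl ⟨5827, by norm_num, by norm_num, by norm_num⟩
  · exact Or.inl ⟨31, by norm_num, by norm_num, by norm_num⟩
  · exact Or.inl ⟨29, by norm_num, by norm_num, by norm_num⟩
  · exact Or.inl ⟨53, by norm_num, by norm_num, by norm_num⟩
  · exact Or.inr (Or.inl ⟨7, 17, 3, 1, by norm_num, by norm_num, by norm_num⟩)
  · exact Or.inr (Or.inl ⟨2, 3, 3, 6, by norm_num, by norm_num, by norm_num⟩)
  · exact Or.inl ⟨19, by norm_num, by norm_num, by norm_num⟩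
  · exact Or.inl ⟨2917, by norm_num, by norm_num, by norm_num⟩
  · exact Or.inl ⟨389, by norm_num, by norm_num, by norm_num⟩
  · exact Or.inl ⟨1459, by norm_num, by norm_num, by norm_num⟩
  · exact Or.inl ⟨449, by norm_num, by norm_num, by norm_num⟩
  · exact Or.inl ⟨139, by norm_num, by norm_num, by norm_num⟩
  · exact Or.inl ⟨5839, by norm_num, by norm_num, by norm_num⟩
  · exact Or.inl ⟨73, by norm_num, by norm_num, by norm_num⟩
  · exact Or.inl ⟨59, by norm_num, by norm_num, by norm_num⟩
  · exact Or.inl ⟨23, by norm_num, by norm_num, by norm_num⟩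
  · exact Or.inl ⟨5843, by norm_num, by norm_num, by norm_num⟩
  · exact Or.inl ⟨487, by norm_num, by norm_num, by norm_num⟩
  · exact Or.inl ⟨167, by norm_num, by norm_num, by norm_num⟩
  · exact Or.inl ⟨37, by norm_num, by norm_num, by norm_num⟩
  · exact Or.inl ⟨1949, by norm_num, by norm_num, by norm_num⟩
  · exact Or.inl ⟨43, by norm_num, by norm_num, by norm_num⟩
  · exact Or.inl ⟨5849, by norm_num, by norm_num, by norm_num⟩
  · exact Or.inr (Or.inr (Or.inl ⟨2925, by decide, by norm_num, by norm_num⟩))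
  · exact Or.inl ⟨5851, by norm_num, by norm_num, by norm_num⟩
  · exact Or.inl ⟨19, by norm_num, by norm_num, by norm_num⟩
  · exact Or.inl ⟨1951, by norm_num, by norm_num, by norm_num⟩
  · exact Or.inl ⟨2927, by norm_num, by norm_num, by norm_num⟩
  · exact Or.inl ⟨1171, by norm_num, by norm_num, by norm_num⟩
  · exact Or.inl ⟨61, by norm_num, by norm_num, by norm_num⟩
  · exact Or.inl ⟨5857, by norm_num, by norm_num, by norm_num⟩
  · exact Or.inl ⟨29, by norm_num, by norm_num, by norm_num⟩
  · exact Or.inl ⟨31, by norm_num, by norm_num, by norm_num⟩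
  · exact Or.inl ⟨293, by norm_num, by norm_num, by norm_num⟩
  · exact Or.inl ⟨5861, by norm_num, by norm_num, by norm_num⟩
  · exact Or.inl ⟨977, by norm_num, by norm_num, by norm_num⟩
  · exact Or.inl ⟨41, by norm_num, by norm_num, by norm_num⟩
  · exact Or.inl ⟨733, by norm_num, by norm_num, by norm_num⟩
  · exact Or.inl ⟨23, by norm_num, by norm_num, by norm_num⟩
  · exact Or.inl ⟨419, by norm_num, by norm_num, by norm_num⟩
  · exact Or.inl ⟨5867, by norm_num, by norm_num, by norm_num⟩
  · exact Or.inl ⟨163, by norm_num, by norm_num, by norm_num⟩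
  · exact Or.inl ⟨5869, by norm_num, by norm_num, by norm_num⟩
  · exact Or.inl ⟨587, by norm_num, by norm_num, by norm_num⟩
  · exact Or.inl ⟨19, by norm_num, by norm_num, by norm_num⟩
  · exact Or.inl ⟨367, by norm_num, by norm_num, by norm_num⟩
  · exact Or.inl ⟨839, by norm_num, by norm_num, by norm_num⟩
  · exact Or.inl ⟨89, by norm_num, by norm_num, by norm_num⟩
  · exact Or.inl ⟨47, by norm_num, by norm_num, by norm_num⟩
  · exact Or.inl ⟨113, by norm_num, by norm_num, by norm_num⟩
  · exact Or.inl ⟨653, by norm_num, by norm_num, by norm_num⟩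
  · exact Or.inl ⟨2939, by norm_num, by norm_num, by norm_num⟩
  · exact Or.inl ⟨5879, by norm_num, by norm_num, by norm_num⟩
  · exact Or.inr (Or.inr (Or.inr (Or.inr (Or.inr (by decide)))))
  · exact Or.inl ⟨5881, by norm_num, by norm_num, by norm_num⟩
  · exact Or.inl ⟨173, by norm_num, by norm_num, by norm_num⟩
  · exact Or.inl ⟨37, by norm_num, by norm_num, by norm_num⟩
  · exact Or.inl ⟨1471, by norm_num, by norm_num, by norm_num⟩
  · exact Or.inl ⟨107, by norm_num, by norm_num, by norm_num⟩
  · exact Or.inl ⟨109, by norm_num, by norm_num, by norm_num⟩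
  · exact Or.inl ⟨29, by norm_num, by norm_num, by norm_num⟩
  · exact Or.inl ⟨23, by norm_num, by norm_num, by norm_num⟩
  · exact Or.inl ⟨151, by norm_num, by norm_num, by norm_num⟩
  · exact Or.inl ⟨19, by norm_num, by norm_num, by norm_num⟩
  · exact Or.inl ⟨43, by norm_num, by norm_num, by norm_num⟩
  · exact Or.inl ⟨491, by norm_num, by norm_num, by norm_num⟩
  · exact Or.inl ⟨71, by norm_num, by norm_num, by norm_num⟩
  · exact Or.inl ⟨421, by norm_num, by norm_num, by norm_num⟩
  · exact Or.inl ⟨131, by norm_num, by norm_num, by norm_num⟩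
  · exact Or.inl ⟨67, by norm_num, by norm_num, by norm_num⟩
  · exact Or.inl ⟨5897, by norm_num, by norm_num, by norm_num⟩
  · exact Or.inl ⟨983, by norm_num, by norm_num, by norm_num⟩
  · exact Or.inl ⟨347, by norm_num, by norm_num, by norm_num⟩
  · exact Or.inl ⟨59, by norm_num, by norm_num, by norm_num⟩
  · exact Or.inl ⟨281, by norm_num, by norm_num, by norm_num⟩
  · exact Or.inl ⟨227, by norm_num, by norm_num, by norm_num⟩
  · exact Or.inl ⟨5903, by norm_num, by norm_num, by norm_num⟩
  · exact Or.inl ⟨41, by norm_num, by norm_num, by norm_num⟩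
  · exact Or.inl ⟨1181, by norm_num, by norm_num, by norm_num⟩
  · exact Or.inl ⟨2953, by norm_num, by norm_num, by norm_num⟩
  · exact Or.inl ⟨179, by norm_num, by norm_num, by norm_num⟩
  · exact Or.inl ⟨211, by norm_num, by norm_num, by norm_num⟩

theorem cls_5909_6016 (n : ℕ) (h1 : 5909 ≤ n) (h2 : n ≤ 6016) : Cls n := by
  unfold Cls
  interval_cases n
  · exact Or.inl ⟨19, by norm_num, by norm_num, by norm_num⟩
  · exact Or.inl ⟨197, by norm_num, by norm_num, by norm_num⟩
  · exact Or.inl ⟨23, by norm_num, by norm_num, by norm_num⟩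
  · exact Or.inl ⟨739, by norm_num, by norm_num, by norm_num⟩
  · exact Or.inl ⟨73, by norm_num, by norm_num, by norm_num⟩
  · exact Or.inl ⟨2957, by norm_num, by norm_num, by norm_num⟩
  · exact Or.inr (Or.inr (Or.inr (Or.inr (Or.inl ⟨5, by norm_num, by norm_num, by norm_num⟩))))
  · exact Or.inl ⟨29, by norm_num, by norm_num, by norm_num⟩
  · exact Or.inl ⟨61, by norm_num, by norm_num, by norm_num⟩
  · exact Or.inl ⟨269, by norm_num, by norm_num, by norm_num⟩
  · exact Or.inl ⟨1973, by norm_num, by norm_num, by norm_num⟩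
  · exact Or.inl ⟨37, by norm_num, by norm_num, by norm_num⟩
  · exact Or.inl ⟨31, by norm_num, by norm_num, by norm_num⟩
  · exact Or.inl ⟨47, by norm_num, by norm_num, by norm_num⟩
  · exact Or.inl ⟨5923, by norm_num, by norm_num, by norm_num⟩
  · exact Or.inl ⟨1481, by norm_num, by norm_num, by norm_num⟩
  · exact Or.inl ⟨79, by norm_num, by norm_num, by norm_num⟩
  · exact Or.inl ⟨2963, by norm_num, by norm_num, by norm_num⟩
  · exact Or.inl ⟨5927, by norm_num, by norm_num, by norm_num⟩
  · exact Or.inl ⟨19, by norm_num, by norm_num, by norm_num⟩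
  · exact Or.inr (Or.inl ⟨7, 11, 2, 2, by norm_num, by norm_num, by norm_num⟩)
  · exact Or.inl ⟨593, by norm_num, by norm_num, by norm_num⟩
  · exact Or.inl ⟨659, by norm_num, by norm_num, by norm_num⟩
  · exact Or.inl ⟨1483, by norm_num, by norm_num, by norm_num⟩
  · exact Or.inl ⟨349, by norm_num, by norm_num, by norm_num⟩
  · exact Or.inl ⟨23, by norm_num, by norm_num, by norm_num⟩
  · exact Or.inl ⟨1187, by norm_num, by norm_num, by norm_num⟩
  · exact Or.inl ⟨53, by norm_num, by norm_num, by norm_num⟩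
  · exact Or.inl ⟨1979, by norm_num, by norm_num, by norm_num⟩
  · exact Or.inl ⟨2969, by norm_num, by norm_num, by norm_num⟩
  · exact Or.inl ⟨5939, by norm_num, by norm_num, by norm_num⟩
  · exact Or.inr (Or.inr (Or.inr (Or.inr (Or.inr (by decide)))))
  · exact Or.inl ⟨457, by norm_num, by norm_num, by norm_num⟩
  · exact Or.inl ⟨2971, by norm_num, by norm_num, by norm_num⟩
  · exact Or.inl ⟨283, by norm_num, by norm_num, by norm_num⟩
  · exact Or.inl ⟨743, by norm_num, by norm_num, by norm_num⟩
  · exact Or.inl ⟨29, by norm_num, by norm_num, by norm_num⟩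
  · exact Or.inl ⟨991, by norm_num, by norm_num, by norm_num⟩
  · exact Or.inl ⟨19, by norm_num, by norm_num, by norm_num⟩
  · exact Or.inl ⟨1487, by norm_num, by norm_num, by norm_num⟩
  · exact Or.inl ⟨661, by norm_num, by norm_num, by norm_num⟩
  · exact Or.inr (Or.inr (Or.inl ⟨2975, by decide, by norm_num, by norm_num⟩))
  · exact Or.inl ⟨541, by norm_num, by norm_num, by norm_num⟩
  · exact Or.inl ⟨31, by norm_num, by norm_num, by norm_num⟩
  · exact Or.inl ⟨5953, by norm_num, by norm_num, by norm_num⟩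
  · exact Or.inl ⟨229, by norm_num, by norm_num, by norm_num⟩
  · exact Or.inl ⟨397, by norm_num, by norm_num, by norm_num⟩
  · exact Or.inl ⟨1489, by norm_num, by norm_num, by norm_num⟩
  · exact Or.inl ⟨23, by norm_num, by norm_num, by norm_num⟩
  · exact Or.inl ⟨331, by norm_num, by norm_num, by norm_num⟩
  · exact Or.inl ⟨59, by norm_num, by norm_num, by norm_num⟩
  · exact Or.inl ⟨149, by norm_num, by norm_num, by norm_num⟩
  · exact Or.inl ⟨1987, by norm_num, by norm_num, by norm_num⟩
  · exact Or.inl ⟨271, by norm_num, by norm_num, by norm_num⟩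
  · exact Or.inl ⟨67, by norm_num, by norm_num, by norm_num⟩
  · exact Or.inl ⟨71, by norm_num, by norm_num, by norm_num⟩
  · exact Or.inl ⟨1193, by norm_num, by norm_num, by norm_num⟩
  · exact Or.inl ⟨19, by norm_num, by norm_num, by norm_num⟩
  · exact Or.inr (Or.inr (Or.inr (Or.inr (Or.inr (by decide)))))
  · exact Or.inl ⟨373, by norm_num, by norm_num, by norm_num⟩
  · exact Or.inl ⟨47, by norm_num, by norm_num, by norm_num⟩
  · exact Or.inl ⟨199, by norm_num, by norm_num, by norm_num⟩
  · exact Or.inl ⟨853, by norm_num, by norm_num, by norm_num⟩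
  · exact Or.inl ⟨1493, by norm_num, by norm_num, by norm_num⟩
  · exact Or.inl ⟨181, by norm_num, by norm_num, by norm_num⟩
  · exact Or.inl ⟨29, by norm_num, by norm_num, by norm_num⟩
  · exact Or.inl ⟨239, by norm_num, by norm_num, by norm_num⟩
  · exact Or.inl ⟨83, by norm_num, by norm_num, by norm_num⟩
  · exact Or.inl ⟨43, by norm_num, by norm_num, by norm_num⟩
  · exact Or.inl ⟨61, by norm_num, by norm_num, by norm_num⟩
  · exact Or.inl ⟨1993, by norm_num, by norm_num, by norm_num⟩
  · exact Or.inl ⟨23, by norm_num, by norm_num, by norm_num⟩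
  · exact Or.inl ⟨5981, by norm_num, by norm_num, by norm_num⟩
  · exact Or.inl ⟨997, by norm_num, by norm_num, by norm_num⟩
  · exact Or.inl ⟨31, by norm_num, by norm_num, by norm_num⟩
  · exact Or.inr (Or.inr (Or.inr (Or.inr (Or.inr (by decide)))))
  · exact Or.inl ⟨19, by norm_num, by norm_num, by norm_num⟩
  · exact Or.inl ⟨41, by norm_num, by norm_num, by norm_num⟩
  · exact Or.inl ⟨5987, by norm_num, by norm_num, by norm_num⟩
  · exact Or.inl ⟨499, by norm_num, by norm_num, by norm_num⟩
  · exact Or.inl ⟨53, by norm_num, by norm_num, by norm_num⟩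
  · exact Or.inl ⟨599, by norm_num, by norm_num, by norm_num⟩
  · exact Or.inl ⟨1997, by norm_num, by norm_num, by norm_num⟩
  · exact Or.inl ⟨107, by norm_num, by norm_num, by norm_num⟩
  · exact Or.inl ⟨461, by norm_num, by norm_num, by norm_num⟩
  · exact Or.inl ⟨37, by norm_num, by norm_num, by norm_num⟩
  · exact Or.inl ⟨109, by norm_num, by norm_num, by norm_num⟩
  · exact Or.inl ⟨1499, by norm_num, by norm_num, by norm_num⟩
  · exact Or.inl ⟨1999, by norm_num, by norm_num, by norm_num⟩
  · exact Or.inl ⟨2999, by norm_num, by norm_num, by norm_num⟩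
  · exact Or.inl ⟨857, by norm_num, by norm_num, by norm_num⟩
  · exact Or.inr (Or.inr (Or.inr (Or.inr (Or.inr (by decide)))))
  · exact Or.inl ⟨353, by norm_num, by norm_num, by norm_num⟩
  · exact Or.inl ⟨3001, by norm_num, by norm_num, by norm_num⟩
  · exact Or.inl ⟨23, by norm_num, by norm_num, by norm_num⟩
  · exact Or.inl ⟨19, by norm_num, by norm_num, by norm_num⟩
  · exact Or.inl ⟨1201, by norm_num, by norm_num, by norm_num⟩
  · exact Or.inr (Or.inr (Or.inl ⟨3003, by decide, by norm_num, by norm_num⟩))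
  · exact Or.inl ⟨6007, by norm_num, by norm_num, by norm_num⟩
  · exact Or.inl ⟨751, by norm_num, by norm_num, by norm_num⟩
  · exact Or.inl ⟨2003, by norm_num, by norm_num, by norm_num⟩
  · exact Or.inl ⟨601, by norm_num, by norm_num, by norm_num⟩
  · exact Or.inl ⟨6011, by norm_num, by norm_num, by norm_num⟩
  · exact Or.inl ⟨167, by norm_num, by norm_num, by norm_num⟩
  · exact Or.inl ⟨859, by norm_num, by norm_num, by norm_num⟩
  · exact Or.inl ⟨31, by norm_num, by norm_num, by norm_num⟩
  · exact Or.inl ⟨401, by norm_num, by norm_num, by norm_num⟩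
  · exact Or.inl ⟨47, by norm_num, by norm_num, by norm_num⟩

theorem cls_6017_6124 (n : ℕ) (h1 : 6017 ≤ n) (h2 : n ≤ 6124) : Cls n := by
  unfold Cls
  interval_cases n
  · exact Or.inl ⟨547, by norm_num, by norm_num, by norm_num⟩
  · exact Or.inl ⟨59, by norm_num, by norm_num, by norm_num⟩
  · exact Or.inl ⟨463, by norm_num, by norm_num, by norm_num⟩
  · exact Or.inl ⟨43, by norm_num, by norm_num, by norm_num⟩
  · exact Or.inl ⟨223, by norm_num, by norm_num, by norm_num⟩
  · exact Or.inl ⟨3011, by norm_num, by norm_num, by norm_num⟩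
  · exact Or.inl ⟨19, by norm_num, by norm_num, by norm_num⟩
  · exact Or.inl ⟨251, by norm_num, by norm_num, by norm_num⟩
  · exact Or.inl ⟨241, by norm_num, by norm_num, by norm_num⟩
  · exact Or.inl ⟨23, by norm_num, by norm_num, by norm_num⟩
  · exact Or.inl ⟨41, by norm_num, by norm_num, by norm_num⟩
  · exact Or.inl ⟨137, by norm_num, by norm_num, by norm_num⟩
  · exact Or.inl ⟨6029, by norm_num, by norm_num, by norm_num⟩
  · exact Or.inl ⟨67, by norm_num, by norm_num, by norm_num⟩
  · exact Or.inl ⟨37, by norm_num, by norm_num, by norm_num⟩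
  · exact Or.inl ⟨29, by norm_num, by norm_num, by norm_num⟩
  · exact Or.inl ⟨2011, by norm_num, by norm_num, by norm_num⟩
  · exact Or.inl ⟨431, by norm_num, by norm_num, by norm_num⟩
  · exact Or.inl ⟨71, by norm_num, by norm_num, by norm_num⟩
  · exact Or.inl ⟨503, by norm_num, by norm_num, by norm_num⟩
  · exact Or.inl ⟨6037, by norm_num, by norm_num, by norm_num⟩
  · exact Or.inl ⟨3019, by norm_num, by norm_num, by norm_num⟩
  · exact Or.inl ⟨61, by norm_num, by norm_num, by norm_num⟩
  · exact Or.inl ⟨151, by norm_num, by norm_num, by norm_num⟩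
  · exact Or.inl ⟨863, by norm_num, by norm_num, by norm_num⟩
  · exact Or.inl ⟨19, by norm_num, by norm_num, by norm_num⟩
  · exact Or.inl ⟨6043, by norm_num, by norm_num, by norm_num⟩
  · exact Or.inl ⟨1511, by norm_num, by norm_num, by norm_num⟩
  · exact Or.inl ⟨31, by norm_num, by norm_num, by norm_num⟩
  · exact Or.inl ⟨3023, by norm_num, by norm_num, by norm_num⟩
  · exact Or.inl ⟨6047, by norm_num, by norm_num, by norm_num⟩
  · exact Or.inr (Or.inr (Or.inr (Or.inr (Or.inr (by decide)))))
  · exact Or.inl ⟨23, by norm_num, by norm_num, by norm_num⟩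
  · exact Or.inr (Or.inr (Or.inl ⟨3025, by decide, by norm_num, by norm_num⟩))
  · exact Or.inl ⟨2017, by norm_num, by norm_num, by norm_num⟩
  · exact Or.inl ⟨89, by norm_num, by norm_num, by norm_num⟩
  · exact Or.inl ⟨6053, by norm_num, by norm_num, by norm_num⟩
  · exact Or.inl ⟨1009, by norm_num, by norm_num, by norm_num⟩
  · exact Or.inl ⟨173, by norm_num, by norm_num, by norm_num⟩
  · exact Or.inl ⟨757, by norm_num, by norm_num, by norm_num⟩
  · exact Or.inl ⟨673, by norm_num, by norm_num, by norm_num⟩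
  · exact Or.inl ⟨233, by norm_num, by norm_num, by norm_num⟩
  · exact Or.inl ⟨73, by norm_num, by norm_num, by norm_num⟩
  · exact Or.inl ⟨101, by norm_num, by norm_num, by norm_num⟩
  · exact Or.inl ⟨19, by norm_num, by norm_num, by norm_num⟩
  · exact Or.inl ⟨433, by norm_num, by norm_num, by norm_num⟩
  · exact Or.inl ⟨43, by norm_num, by norm_num, by norm_num⟩
  · exact Or.inl ⟨379, by norm_num, by norm_num, by norm_num⟩
  · exact Or.inl ⟨1213, by norm_num, by norm_num, by norm_num⟩
  · exact Or.inl ⟨337, by norm_num, by norm_num, by norm_num⟩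
  · exact Or.inl ⟨6067, by norm_num, by norm_num, by norm_num⟩
  · exact Or.inl ⟨37, by norm_num, by norm_num, by norm_num⟩
  · exact Or.inr (Or.inr (Or.inr (Or.inr (Or.inl ⟨3, by norm_num, by norm_num, by norm_num⟩))))
  · exact Or.inl ⟨607, by norm_num, by norm_num, by norm_num⟩
  · exact Or.inl ⟨467, by norm_num, by norm_num, by norm_num⟩
  · exact Or.inl ⟨23, by norm_num, by norm_num, by norm_num⟩
  · exact Or.inl ⟨6073, by norm_num, by norm_num, by norm_num⟩
  · exact Or.inl ⟨3037, by norm_num, by norm_num, by norm_num⟩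
  · exact Or.inr (Or.inl ⟨3, 5, 5, 2, by norm_num, by norm_num, by norm_num⟩)
  · exact Or.inl ⟨31, by norm_num, by norm_num, by norm_num⟩
  · exact Or.inl ⟨59, by norm_num, by norm_num, by norm_num⟩
  · exact Or.inl ⟨1013, by norm_num, by norm_num, by norm_num⟩
  · exact Or.inl ⟨6079, by norm_num, by norm_num, by norm_num⟩
  · exact Or.inl ⟨19, by norm_num, by norm_num, by norm_num⟩
  · exact Or.inl ⟨2027, by norm_num, by norm_num, by norm_num⟩
  · exact Or.inl ⟨3041, by norm_num, by norm_num, by norm_num⟩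
  · exact Or.inl ⟨79, by norm_num, by norm_num, by norm_num⟩
  · exact Or.inr (Or.inr (Or.inr (Or.inr (Or.inr (by decide)))))
  · exact Or.inl ⟨1217, by norm_num, by norm_num, by norm_num⟩
  · exact Or.inl ⟨179, by norm_num, by norm_num, by norm_num⟩
  · exact Or.inl ⟨2029, by norm_num, by norm_num, by norm_num⟩
  · exact Or.inl ⟨761, by norm_num, by norm_num, by norm_num⟩
  · exact Or.inl ⟨6089, by norm_num, by norm_num, by norm_num⟩
  · exact Or.inl ⟨29, by norm_num, by norm_num, by norm_num⟩
  · exact Or.inl ⟨6091, by norm_num, by norm_num, by norm_num⟩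
  · exact Or.inl ⟨1523, by norm_num, by norm_num, by norm_num⟩
  · exact Or.inl ⟨677, by norm_num, by norm_num, by norm_num⟩
  · exact Or.inl ⟨277, by norm_num, by norm_num, by norm_num⟩
  · exact Or.inl ⟨23, by norm_num, by norm_num, by norm_num⟩
  · exact Or.inl ⟨127, by norm_num, by norm_num, by norm_num⟩
  · exact Or.inl ⟨67, by norm_num, by norm_num, by norm_num⟩
  · exact Or.inl ⟨3049, by norm_num, by norm_num, by norm_num⟩
  · exact Or.inl ⟨19, by norm_num, by norm_num, by norm_num⟩
  · exact Or.inl ⟨61, by norm_num, by norm_num, by norm_num⟩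
  · exact Or.inl ⟨6101, by norm_num, by norm_num, by norm_num⟩
  · exact Or.inl ⟨113, by norm_num, by norm_num, by norm_num⟩
  · exact Or.inl ⟨359, by norm_num, by norm_num, by norm_num⟩
  · exact Or.inl ⟨109, by norm_num, by norm_num, by norm_num⟩
  · exact Or.inl ⟨37, by norm_num, by norm_num, by norm_num⟩
  · exact Or.inl ⟨43, by norm_num, by norm_num, by norm_num⟩
  · exact Or.inl ⟨31, by norm_num, by norm_num, by norm_num⟩
  · exact Or.inl ⟨509, by norm_num, by norm_num, by norm_num⟩
  · exact Or.inl ⟨41, by norm_num, by norm_num, by norm_num⟩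
  · exact Or.inl ⟨47, by norm_num, by norm_num, by norm_num⟩
  · exact Or.inl ⟨97, by norm_num, by norm_num, by norm_num⟩
  · exact Or.inl ⟨191, by norm_num, by norm_num, by norm_num⟩
  · exact Or.inl ⟨6113, by norm_num, by norm_num, by norm_num⟩
  · exact Or.inl ⟨1019, by norm_num, by norm_num, by norm_num⟩
  · exact Or.inl ⟨1223, by norm_num, by norm_num, by norm_num⟩
  · exact Or.inl ⟨139, by norm_num, by norm_num, by norm_num⟩
  · exact Or.inl ⟨2039, by norm_num, by norm_num, by norm_num⟩
  · exact Or.inl ⟨19, by norm_num, by norm_num, by norm_num⟩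
  · exact Or.inl ⟨29, by norm_num, by norm_num, by norm_num⟩
  · exact Or.inr (Or.inr (Or.inr (Or.inr (Or.inr (by decide)))))
  · exact Or.inl ⟨6121, by norm_num, by norm_num, by norm_num⟩
  · exact Or.inl ⟨3061, by norm_num, by norm_num, by norm_num⟩
  · exact Or.inl ⟨157, by norm_num, by norm_num, by norm_num⟩
  · exact Or.inl ⟨1531, by norm_num, by norm_num, by norm_num⟩

theorem cls_6125_6232 (n : ℕ) (h1 : 6125 ≤ n) (h2 : n ≤ 6232) : Cls n := by
  unfold Cls
  interval_cases n
  · exact Or.inr (Or.inl ⟨5, 7, 3, 2, by norm_num, by norm_num, by norm_num⟩)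
  · exact Or.inl ⟨1021, by norm_num, by norm_num, by norm_num⟩
  · exact Or.inl ⟨557, by norm_num, by norm_num, by norm_num⟩
  · exact Or.inl ⟨383, by norm_num, by norm_num, by norm_num⟩
  · exact Or.inl ⟨227, by norm_num, by norm_num, by norm_num⟩
  · exact Or.inl ⟨613, by norm_num, by norm_num, by norm_num⟩
  · exact Or.inl ⟨6131, by norm_num, by norm_num, by norm_num⟩
  · exact Or.inl ⟨73, by norm_num, by norm_num, by norm_num⟩
  · exact Or.inl ⟨6133, by norm_num, by norm_num, by norm_num⟩
  · exact Or.inl ⟨3067, by norm_num, by norm_num, by norm_num⟩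
  · exact Or.inl ⟨409, by norm_num, by norm_num, by norm_num⟩
  · exact Or.inl ⟨59, by norm_num, by norm_num, by norm_num⟩
  · exact Or.inl ⟨19, by norm_num, by norm_num, by norm_num⟩
  · exact Or.inl ⟨31, by norm_num, by norm_num, by norm_num⟩
  · exact Or.inl ⟨877, by norm_num, by norm_num, by norm_num⟩
  · exact Or.inl ⟨307, by norm_num, by norm_num, by norm_num⟩
  · exact Or.inl ⟨23, by norm_num, by norm_num, by norm_num⟩
  · exact Or.inl ⟨37, by norm_num, by norm_num, by norm_num⟩
  · exact Or.inl ⟨6143, by norm_num, by norm_num, by norm_num⟩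
  · exact Or.inr (Or.inl ⟨2, 3, 11, 1, by norm_num, by norm_num, by norm_num⟩)
  · exact Or.inl ⟨1229, by norm_num, by norm_num, by norm_num⟩
  · exact Or.inl ⟨439, by norm_num, by norm_num, by norm_num⟩
  · exact Or.inl ⟨683, by norm_num, by norm_num, by norm_num⟩
  · exact Or.inl ⟨29, by norm_num, by norm_num, by norm_num⟩
  · exact Or.inl ⟨43, by norm_num, by norm_num, by norm_num⟩
  · exact Or.inl ⟨41, by norm_num, by norm_num, by norm_num⟩
  · exact Or.inl ⟨6151, by norm_num, by norm_num, by norm_num⟩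
  · exact Or.inl ⟨769, by norm_num, by norm_num, by norm_num⟩
  · exact Or.inl ⟨293, by norm_num, by norm_num, by norm_num⟩
  · exact Or.inl ⟨181, by norm_num, by norm_num, by norm_num⟩
  · exact Or.inl ⟨1231, by norm_num, by norm_num, by norm_num⟩
  · exact Or.inl ⟨19, by norm_num, by norm_num, by norm_num⟩
  · exact Or.inl ⟨47, by norm_num, by norm_num, by norm_num⟩
  · exact Or.inl ⟨3079, by norm_num, by norm_num, by norm_num⟩
  · exact Or.inl ⟨2053, by norm_num, by norm_num, by norm_num⟩
  · exact Or.inr (Or.inr (Or.inr (Or.inr (Or.inr (by decide)))))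
  · exact Or.inl ⟨61, by norm_num, by norm_num, by norm_num⟩
  · exact Or.inl ⟨79, by norm_num, by norm_num, by norm_num⟩
  · exact Or.inl ⟨6163, by norm_num, by norm_num, by norm_num⟩
  · exact Or.inl ⟨23, by norm_num, by norm_num, by norm_num⟩
  · exact Or.inl ⟨137, by norm_num, by norm_num, by norm_num⟩
  · exact Or.inl ⟨3083, by norm_num, by norm_num, by norm_num⟩
  · exact Or.inl ⟨881, by norm_num, by norm_num, by norm_num⟩
  · exact Or.inl ⟨257, by norm_num, by norm_num, by norm_num⟩
  · exact Or.inl ⟨31, by norm_num, by norm_num, by norm_num⟩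
  · exact Or.inl ⟨617, by norm_num, by norm_num, by norm_num⟩
  · exact Or.inr (Or.inr (Or.inr (Or.inr (Or.inl ⟨3, by norm_num, by norm_num, by norm_num⟩))))
  · exact Or.inl ⟨1543, by norm_num, by norm_num, by norm_num⟩
  · exact Or.inl ⟨6173, by norm_num, by norm_num, by norm_num⟩
  · exact Or.inr (Or.inr (Or.inl ⟨3087, by decide, by norm_num, by norm_num⟩))
  · exact Or.inl ⟨19, by norm_num, by norm_num, by norm_num⟩
  · exact Or.inl ⟨193, by norm_num, by norm_num, by norm_num⟩
  · exact Or.inl ⟨29, by norm_num, by norm_num, by norm_num⟩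
  · exact Or.inl ⟨3089, by norm_num, by norm_num, by norm_num⟩
  · exact Or.inl ⟨37, by norm_num, by norm_num, by norm_num⟩
  · exact Or.inl ⟨103, by norm_num, by norm_num, by norm_num⟩
  · exact Or.inl ⟨883, by norm_num, by norm_num, by norm_num⟩
  · exact Or.inl ⟨281, by norm_num, by norm_num, by norm_num⟩
  · exact Or.inl ⟨229, by norm_num, by norm_num, by norm_num⟩
  · exact Or.inl ⟨773, by norm_num, by norm_num, by norm_num⟩
  · exact Or.inl ⟨1237, by norm_num, by norm_num, by norm_num⟩
  · exact Or.inl ⟨1031, by norm_num, by norm_num, by norm_num⟩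
  · exact Or.inl ⟨23, by norm_num, by norm_num, by norm_num⟩
  · exact Or.inr (Or.inr (Or.inr (Or.inl ⟨by decide, by omega⟩)))
  · exact Or.inl ⟨2063, by norm_num, by norm_num, by norm_num⟩
  · exact Or.inl ⟨619, by norm_num, by norm_num, by norm_num⟩
  · exact Or.inl ⟨41, by norm_num, by norm_num, by norm_num⟩
  · exact Or.inl ⟨43, by norm_num, by norm_num, by norm_num⟩
  · exact Or.inl ⟨563, by norm_num, by norm_num, by norm_num⟩
  · exact Or.inl ⟨19, by norm_num, by norm_num, by norm_num⟩
  · exact Or.inl ⟨59, by norm_num, by norm_num, by norm_num⟩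
  · exact Or.inl ⟨1549, by norm_num, by norm_num, by norm_num⟩
  · exact Or.inl ⟨6197, by norm_num, by norm_num, by norm_num⟩
  · exact Or.inl ⟨1033, by norm_num, by norm_num, by norm_num⟩
  · exact Or.inl ⟨6199, by norm_num, by norm_num, by norm_num⟩
  · exact Or.inl ⟨31, by norm_num, by norm_num, by norm_num⟩
  · exact Or.inl ⟨53, by norm_num, by norm_num, by norm_num⟩
  · exact Or.inl ⟨443, by norm_num, by norm_num, by norm_num⟩
  · exact Or.inl ⟨6203, by norm_num, by norm_num, by norm_num⟩
  · exact Or.inl ⟨47, by norm_num, by norm_num, by norm_num⟩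
  · exact Or.inl ⟨73, by norm_num, by norm_num, by norm_num⟩
  · exact Or.inl ⟨29, by norm_num, by norm_num, by norm_num⟩
  · exact Or.inl ⟨2069, by norm_num, by norm_num, by norm_num⟩
  · exact Or.inl ⟨97, by norm_num, by norm_num, by norm_num⟩
  · exact Or.inl ⟨887, by norm_num, by norm_num, by norm_num⟩
  · exact Or.inl ⟨23, by norm_num, by norm_num, by norm_num⟩
  · exact Or.inl ⟨6211, by norm_num, by norm_num, by norm_num⟩
  · exact Or.inl ⟨1553, by norm_num, by norm_num, by norm_num⟩
  · exact Or.inl ⟨19, by norm_num, by norm_num, by norm_num⟩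
  · exact Or.inl ⟨239, by norm_num, by norm_num, by norm_num⟩
  · exact Or.inl ⟨113, by norm_num, by norm_num, by norm_num⟩
  · exact Or.inl ⟨37, by norm_num, by norm_num, by norm_num⟩
  · exact Or.inl ⟨6217, by norm_num, by norm_num, by norm_num⟩
  · exact Or.inl ⟨3109, by norm_num, by norm_num, by norm_num⟩
  · exact Or.inl ⟨691, by norm_num, by norm_num, by norm_num⟩
  · exact Or.inl ⟨311, by norm_num, by norm_num, by norm_num⟩
  · exact Or.inl ⟨6221, by norm_num, by norm_num, by norm_num⟩
  · exact Or.inl ⟨61, by norm_num, by norm_num, by norm_num⟩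
  · exact Or.inl ⟨127, by norm_num, by norm_num, by norm_num⟩
  · exact Or.inl ⟨389, by norm_num, by norm_num, by norm_num⟩
  · exact Or.inl ⟨83, by norm_num, by norm_num, by norm_num⟩
  · exact Or.inl ⟨283, by norm_num, by norm_num, by norm_num⟩
  · exact Or.inl ⟨479, by norm_num, by norm_num, by norm_num⟩
  · exact Or.inl ⟨173, by norm_num, by norm_num, by norm_num⟩
  · exact Or.inl ⟨6229, by norm_num, by norm_num, by norm_num⟩
  · exact Or.inl ⟨89, by norm_num, by norm_num, by norm_num⟩
  · exact Or.inl ⟨31, by norm_num, by norm_num, by norm_num⟩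
  · exact Or.inl ⟨19, by norm_num, by norm_num, by norm_num⟩

theorem cls (n : ℕ) (h1 : 3641 ≤ n) (h2 : n ≤ 6232) : Cls n := by
  rcases Nat.lt_or_ge n 3749 with h | h
  · exact cls_3641_3748 n (by omega) (by omega)
  clear h1; have h1 : 3749 ≤ n := h; clear h
  rcases Nat.lt_or_ge n 3857 with h | h
  · exact cls_3749_3856 n (by omega) (by omega)
  clear h1; have h1 : 3857 ≤ n := h; clear h
  rcases Nat.lt_or_ge n 3965 with h | h
  · exact cls_3857_3964 n (by omega) (by omega)
  clear h1; have h1 : 3965 ≤ n := h; clear h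
  rcases Nat.lt_or_ge n 4073 with h | h
  · exact cls_3965_4072 n (by omega) (by omega)
  clear h1; have h1 : 4073 ≤ n := h; clear h
  rcases Nat.lt_or_ge n 4181 with h | h
  · exact cls_4073_4180 n (by omega) (by omega)
  clear h1; have h1 : 4181 ≤ n := h; clear h
  rcases Nat.lt_or_ge n 4289 with h | h
  · exact cls_4181_4288 n (by omega) (by omega)
  clear h1; have h1 : 4289 ≤ n := h; clear h
  rcases Nat.lt_or_ge n 4397 with h | h
  · exact cls_4289_4396 n (by omega) (by omega)
  clear h1; have h1 : 4397 ≤ n := h; clear h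
  rcases Nat.lt_or_ge n 4505 with h | h
  · exact cls_4397_4504 n (by omega) (by omega)
  clear h1; have h1 : 4505 ≤ n := h; clear h
  rcases Nat.lt_or_ge n 4613 with h | h
  · exact cls_4505_4612 n (by omega) (by omega)
  clear h1; have h1 : 4613 ≤ n := h; clear h
  rcases Nat.lt_or_ge n 4721 with h | h
  · exact cls_4613_4720 n (by omega) (by omega)
  clear h1; have h1 : 4721 ≤ n := h; clear h
  rcases Nat.lt_or_ge n 4829 with h | h
  · exact cls_4721_4828 n (by omega) (by omega)
  clear h1; have h1 : 4829 ≤ n := h; clear h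
  rcases Nat.lt_or_ge n 4937 with h | h
  · exact cls_4829_4936 n (by omega) (by omega)
  clear h1; have h1 : 4937 ≤ n := h; clear h
  rcases Nat.lt_or_ge n 5045 with h | h
  · exact cls_4937_5044 n (by omega) (by omega)
  clear h1; have h1 : 5045 ≤ n := h; clear h
  rcases Nat.lt_or_ge n 5153 with h | h
  · exact cls_5045_5152 n (by omega) (by omega)
  clear h1; have h1 : 5153 ≤ n := h; clear h
  rcases Nat.lt_or_ge n 5261 with h | h
  · exact cls_5153_5260 n (by omega) (by omega)
  clear h1; have h1 : 5261 ≤ n := h; clear h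
  rcases Nat.lt_or_ge n 5369 with h | h
  · exact cls_5261_5368 n (by omega) (by omega)
  clear h1; have h1 : 5369 ≤ n := h; clear h
  rcases Nat.lt_or_ge n 5477 with h | h
  · exact cls_5369_5476 n (by omega) (by omega)
  clear h1; have h1 : 5477 ≤ n := h; clear h
  rcases Nat.lt_or_ge n 5585 with h | h
  · exact cls_5477_5584 n (by omega) (by omega)
  clear h1; have h1 : 5585 ≤ n := h; clear h
  rcases Nat.lt_or_ge n 5693 with h | h
  · exact cls_5585_5692 n (by omega) (by omega)
  clear h1; have h1 : 5693 ≤ n := h; clear h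
  rcases Nat.lt_or_ge n 5801 with h | h
  · exact cls_5693_5800 n (by omega) (by omega)
  clear h1; have h1 : 5801 ≤ n := h; clear h
  rcases Nat.lt_or_ge n 5909 with h | h
  · exact cls_5801_5908 n (by omega) (by omega)
  clear h1; have h1 : 5909 ≤ n := h; clear h
  rcases Nat.lt_or_ge n 6017 with h | h
  · exact cls_5909_6016 n (by omega) (by omega)
  clear h1; have h1 : 6017 ≤ n := h; clear h
  rcases Nat.lt_or_ge n 6125 with h | h
  · exact cls_6017_6124 n (by omega) (by omega)
  clear h1; have h1 : 6125 ≤ n := h; clear h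
  exact cls_6125_6232 n (by omega) (by omega)

end Cfsg.Agent.Helper10.Ord83
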