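import Mathlib
import Cfsg.Agent.Lib.Helper3.SmallOrd

set_option autoImplicit false
set_option maxRecDepth 8000
set_option linter.unusedVariables false
set_option linter.unusedTactic false
set_option linter.unreachableTactic false

/-!
Orders in (3640, 6233) excluded by generic Sylow counting (generated by helper10 for S0983).
-/

namespace Cfsg.Agent.Helper3.SmallOrd

variable {G : Type*} [Group G] [Finite G] [IsSimpleGroup G]

theorem no_simple_3840 (h : Nat.card G = 3840) : False := by
  have hG := Cfsg.Agent.Lead.nonabelian_of_not_prime (G := G) (by rw [h]; norm_num)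
  haveI : Fact (Nat.Prime 5) := ⟨by norm_num⟩
  obtain ⟨h1, h2, h3, h4, -⟩ := basic hG (p := 5) (a := 1) (m := 768) (by norm_num)
    (h.trans (by norm_num)) (by norm_num)
  have h6 := prime_case hG (p := 5) (m := 768) (h.trans (by norm_num)) (by norm_num)
  have h7 := three_primes hG (p := 5) (q := 2) (r := 3) (b := 8) (c := 1)
    (by norm_num) (by norm_num) (by norm_num) (by norm_num) (by norm_num) (h.trans (by norm_num))
  rw [h] at h4
  generalize Nat.card (Sylow 5 G) = d at *
  have hmem : d ∈ Nat.divisors 768 := Nat.mem_divisors.2 ⟨h1, by norm_num⟩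
  simp only [Nat.divisors_ofNat, Finset.mem_insert, Finset.mem_singleton] at hmem
  have hc : d = 6 ∨ d = 16 ∨ d = 96 ∨ d = 256 := by omega
  rcases hc with rfl | rfl | rfl | rfl
  · exact absurd h4 (by decide)
  · exact absurd h7 (by decide)
  · exact absurd h7 (by decide)
  · exact h6 (by decide)

theorem no_simple_3861 (h : Nat.card G = 3861) : False := by
  have hG := Cfsg.Agent.Lead.nonabelian_of_not_prime (G := G) (by rw [h]; norm_num)
  haveI : Fact (Nat.Prime 13) := ⟨by norm_num⟩
  obtain ⟨h1, h2, h3, h4, -⟩ := basic hG (p := 13) (a := 1) (m := 297) (by norm_num)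
    (h.trans (by norm_num)) (by norm_num)
  have h6 := prime_case hG (p := 13) (m := 297) (h.trans (by norm_num)) (by norm_num)
  rw [h] at h4
  generalize Nat.card (Sylow 13 G) = d at *
  have hmem : d ∈ Nat.divisors 297 := Nat.mem_divisors.2 ⟨h1, by norm_num⟩
  simp only [Nat.divisors_ofNat, Finset.mem_insert, Finset.mem_singleton] at hmem
  have hc : d = 27 := by omega
  subst hc
  exact h6 (by decide)

theorem no_simple_3900 (h : Nat.card G = 3900) : False := by
  have hG := Cfsg.Agent.Lead.nonabelian_of_not_prime (G := G) (by rw [h]; norm_num)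
  haveI : Fact (Nat.Prime 13) := ⟨by norm_num⟩
  obtain ⟨h1, h2, h3, h4, -⟩ := basic hG (p := 13) (a := 1) (m := 300) (by norm_num)
    (h.trans (by norm_num)) (by norm_num)
  have h6 := prime_case hG (p := 13) (m := 300) (h.trans (by norm_num)) (by norm_num)
  rw [h] at h4
  generalize Nat.card (Sylow 13 G) = d at *
  have hmem : d ∈ Nat.divisors 300 := Nat.mem_divisors.2 ⟨h1, by norm_num⟩
  simp only [Nat.divisors_ofNat, Finset.mem_insert, Finset.mem_singleton] at hmem
  have hc : d = 300 := by omega
  subst hc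
  exact h6 (by decide)

theorem no_simple_3920 (h : Nat.card G = 3920) : False := by
  have hG := Cfsg.Agent.Lead.nonabelian_of_not_prime (G := G) (by rw [h]; norm_num)
  haveI : Fact (Nat.Prime 7) := ⟨by norm_num⟩
  obtain ⟨h1, h2, h3, h4, -⟩ := basic hG (p := 7) (a := 2) (m := 80) (by norm_num)
    (h.trans (by norm_num)) (by norm_num)
  rw [h] at h4
  generalize Nat.card (Sylow 7 G) = d at *
  have hmem : d ∈ Nat.divisors 80 := Nat.mem_divisors.2 ⟨h1, by norm_num⟩
  simp only [Nat.divisors_ofNat, Finset.mem_insert, Finset.mem_singleton] at hmem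
  have hc : d = 8 := by omega
  subst hc
  exact absurd h4 (by decide)

theorem no_simple_4056 (h : Nat.card G = 4056) : False := by
  have hG := Cfsg.Agent.Lead.nonabelian_of_not_prime (G := G) (by rw [h]; norm_num)
  haveI : Fact (Nat.Prime 13) := ⟨by norm_num⟩
  obtain ⟨h1, h2, h3, h4, -⟩ := basic hG (p := 13) (a := 2) (m := 24) (by norm_num)
    (h.trans (by norm_num)) (by norm_num)
  rw [h] at h4
  generalize Nat.card (Sylow 13 G) = d at *
  have hmem : d ∈ Nat.divisors 24 := Nat.mem_divisors.2 ⟨h1, by norm_num⟩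
  simp only [Nat.divisors_ofNat, Finset.mem_insert, Finset.mem_singleton] at hmem
  omega

theorem no_simple_4116 (h : Nat.card G = 4116) : False := by
  have hG := Cfsg.Agent.Lead.nonabelian_of_not_prime (G := G) (by rw [h]; norm_num)
  haveI : Fact (Nat.Prime 7) := ⟨by norm_num⟩
  obtain ⟨h1, h2, h3, h4, -⟩ := basic hG (p := 7) (a := 3) (m := 12) (by norm_num)
    (h.trans (by norm_num)) (by norm_num)
  rw [h] at h4
  generalize Nat.card (Sylow 7 G) = d at *
  have hmem : d ∈ Nat.divisors 12 := Nat.mem_divisors.2 ⟨h1, by norm_num⟩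
  simp only [Nat.divisors_ofNat, Finset.mem_insert, Finset.mem_singleton] at hmem
  omega

theorem no_simple_4160 (h : Nat.card G = 4160) : False := by
  have hG := Cfsg.Agent.Lead.nonabelian_of_not_prime (G := G) (by rw [h]; norm_num)
  haveI : Fact (Nat.Prime 13) := ⟨by norm_num⟩
  obtain ⟨h1, h2, h3, h4, -⟩ := basic hG (p := 13) (a := 1) (m := 320) (by norm_num)
    (h.trans (by norm_num)) (by norm_num)
  have h7 := three_primes hG (p := 13) (q := 2) (r := 5) (b := 6) (c := 1)
    (by norm_num) (by norm_num) (by norm_num) (by norm_num) (by norm_num) (h.trans (by norm_num))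
  rw [h] at h4
  generalize Nat.card (Sylow 13 G) = d at *
  have hmem : d ∈ Nat.divisors 320 := Nat.mem_divisors.2 ⟨h1, by norm_num⟩
  simp only [Nat.divisors_ofNat, Finset.mem_insert, Finset.mem_singleton] at hmem
  have hc : d = 40 := by omega
  subst hc
  exact absurd h7 (by decide)

theorem no_simple_4224 (h : Nat.card G = 4224) : False := by
  have hG := Cfsg.Agent.Lead.nonabelian_of_not_prime (G := G) (by rw [h]; norm_num)
  haveI : Fact (Nat.Prime 11) := ⟨by norm_num⟩
  obtain ⟨h1, h2, h3, h4, -⟩ := basic hG (p := 11) (a := 1) (m := 384) (by norm_num)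
    (h.trans (by norm_num)) (by norm_num)
  have h7 := three_primes hG (p := 11) (q := 2) (r := 3) (b := 7) (c := 1)
    (by norm_num) (by norm_num) (by norm_num) (by norm_num) (by norm_num) (h.trans (by norm_num))
  rw [h] at h4
  generalize Nat.card (Sylow 11 G) = d at *
  have hmem : d ∈ Nat.divisors 384 := Nat.mem_divisors.2 ⟨h1, by norm_num⟩
  simp only [Nat.divisors_ofNat, Finset.mem_insert, Finset.mem_singleton] at hmem
  have hc : d = 12 := by omega
  subst hc
  exact absurd h7 (by decide)

theorem no_simple_4312 (h : Nat.card G = 4312) : False := by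
  have hG := Cfsg.Agent.Lead.nonabelian_of_not_prime (G := G) (by rw [h]; norm_num)
  haveI : Fact (Nat.Prime 11) := ⟨by norm_num⟩
  obtain ⟨h1, h2, h3, h4, -⟩ := basic hG (p := 11) (a := 1) (m := 392) (by norm_num)
    (h.trans (by norm_num)) (by norm_num)
  have h6 := prime_case hG (p := 11) (m := 392) (h.trans (by norm_num)) (by norm_num)
  rw [h] at h4
  generalize Nat.card (Sylow 11 G) = d at *
  have hmem : d ∈ Nat.divisors 392 := Nat.mem_divisors.2 ⟨h1, by norm_num⟩
  simp only [Nat.divisors_ofNat, Finset.mem_insert, Finset.mem_singleton] at hmem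
  have hc : d = 56 := by omega
  subst hc
  exact h6 (by decide)

theorem no_simple_4356 (h : Nat.card G = 4356) : False := by
  have hG := Cfsg.Agent.Lead.nonabelian_of_not_prime (G := G) (by rw [h]; norm_num)
  haveI : Fact (Nat.Prime 11) := ⟨by norm_num⟩
  obtain ⟨h1, h2, h3, h4, -⟩ := basic hG (p := 11) (a := 2) (m := 36) (by norm_num)
    (h.trans (by norm_num)) (by norm_num)
  rw [h] at h4
  generalize Nat.card (Sylow 11 G) = d at *
  have hmem : d ∈ Nat.divisors 36 := Nat.mem_divisors.2 ⟨h1, by norm_num⟩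
  simp only [Nat.divisors_ofNat, Finset.mem_insert, Finset.mem_singleton] at hmem
  have hc : d = 12 := by omega
  subst hc
  exact absurd h4 (by decide)

theorem no_simple_4400 (h : Nat.card G = 4400) : False := by
  have hG := Cfsg.Agent.Lead.nonabelian_of_not_prime (G := G) (by rw [h]; norm_num)
  haveI : Fact (Nat.Prime 11) := ⟨by norm_num⟩
  obtain ⟨h1, h2, h3, h4, -⟩ := basic hG (p := 11) (a := 1) (m := 400) (by norm_num)
    (h.trans (by norm_num)) (by norm_num)
  have h7 := three_primes hG (p := 11) (q := 2) (r := 5) (b := 4) (c := 2)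
    (by norm_num) (by norm_num) (by norm_num) (by norm_num) (by norm_num) (h.trans (by norm_num))
  rw [h] at h4
  generalize Nat.card (Sylow 11 G) = d at *
  have hmem : d ∈ Nat.divisors 400 := Nat.mem_divisors.2 ⟨h1, by norm_num⟩
  simp only [Nat.divisors_ofNat, Finset.mem_insert, Finset.mem_singleton] at hmem
  have hc : d = 100 := by omega
  subst hc
  exact absurd h7 (by decide)

theorem no_simple_4455 (h : Nat.card G = 4455) : False := by
  have hG := Cfsg.Agent.Lead.nonabelian_of_not_prime (G := G) (by rw [h]; norm_num)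
  haveI : Fact (Nat.Prime 11) := ⟨by norm_num⟩
  obtain ⟨h1, h2, h3, h4, -⟩ := basic hG (p := 11) (a := 1) (m := 405) (by norm_num)
    (h.trans (by norm_num)) (by norm_num)
  have h6 := prime_case hG (p := 11) (m := 405) (h.trans (by norm_num)) (by norm_num)
  rw [h] at h4
  generalize Nat.card (Sylow 11 G) = d at *
  have hmem : d ∈ Nat.divisors 405 := Nat.mem_divisors.2 ⟨h1, by norm_num⟩
  simp only [Nat.divisors_ofNat, Finset.mem_insert, Finset.mem_singleton] at hmem
  have hc : d = 45 := by omega
  subst hc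
  exact h6 (by decide)

theorem no_simple_4480 (h : Nat.card G = 4480) : False := by
  have hG := Cfsg.Agent.Lead.nonabelian_of_not_prime (G := G) (by rw [h]; norm_num)
  haveI : Fact (Nat.Prime 7) := ⟨by norm_num⟩
  obtain ⟨h1, h2, h3, h4, -⟩ := basic hG (p := 7) (a := 1) (m := 640) (by norm_num)
    (h.trans (by norm_num)) (by norm_num)
  have h7 := three_primes hG (p := 7) (q := 2) (r := 5) (b := 7) (c := 1)
    (by norm_num) (by norm_num) (by norm_num) (by norm_num) (by norm_num) (h.trans (by norm_num))
  rw [h] at h4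
  generalize Nat.card (Sylow 7 G) = d at *
  have hmem : d ∈ Nat.divisors 640 := Nat.mem_divisors.2 ⟨h1, by norm_num⟩
  simp only [Nat.divisors_ofNat, Finset.mem_insert, Finset.mem_singleton] at hmem
  have hc : d = 8 ∨ d = 64 := by omega
  rcases hc with rfl | rfl
  · exact absurd h4 (by decide)
  · exact absurd h7 (by decide)

theorem no_simple_4536 (h : Nat.card G = 4536) : False := by
  have hG := Cfsg.Agent.Lead.nonabelian_of_not_prime (G := G) (by rw [h]; norm_num)
  haveI : Fact (Nat.Prime 7) := ⟨by norm_num⟩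
  obtain ⟨h1, h2, h3, h4, -⟩ := basic hG (p := 7) (a := 1) (m := 648) (by norm_num)
    (h.trans (by norm_num)) (by norm_num)
  have h7 := three_primes hG (p := 7) (q := 2) (r := 3) (b := 3) (c := 4)
    (by norm_num) (by norm_num) (by norm_num) (by norm_num) (by norm_num) (h.trans (by norm_num))
  rw [h] at h4
  generalize Nat.card (Sylow 7 G) = d at *
  have hmem : d ∈ Nat.divisors 648 := Nat.mem_divisors.2 ⟨h1, by norm_num⟩
  simp only [Nat.divisors_ofNat, Finset.mem_insert, Finset.mem_singleton] at hmem
  have hc : d = 8 ∨ d = 36 ∨ d = 162 := by omega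
  rcases hc with rfl | rfl | rfl
  · exact absurd h4 (by decide)
  · exact absurd h7 (by decide)
  · exact absurd h7 (by decide)

theorem no_simple_4576 (h : Nat.card G = 4576) : False := by
  have hG := Cfsg.Agent.Lead.nonabelian_of_not_prime (G := G) (by rw [h]; norm_num)
  haveI : Fact (Nat.Prime 13) := ⟨by norm_num⟩
  obtain ⟨h1, h2, h3, h4, -⟩ := basic hG (p := 13) (a := 1) (m := 352) (by norm_num)
    (h.trans (by norm_num)) (by norm_num)
  have h6 := prime_case hG (p := 13) (m := 352) (h.trans (by norm_num)) (by norm_num)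
  rw [h] at h4
  generalize Nat.card (Sylow 13 G) = d at *
  have hmem : d ∈ Nat.divisors 352 := Nat.mem_divisors.2 ⟨h1, by norm_num⟩
  simp only [Nat.divisors_ofNat, Finset.mem_insert, Finset.mem_singleton] at hmem
  have hc : d = 352 := by omega
  subst hc
  exact h6 (by decide)

theorem no_simple_4704 (h : Nat.card G = 4704) : False := by
  have hG := Cfsg.Agent.Lead.nonabelian_of_not_prime (G := G) (by rw [h]; norm_num)
  haveI : Fact (Nat.Prime 7) := ⟨by norm_num⟩
  obtain ⟨h1, h2, h3, h4, -⟩ := basic hG (p := 7) (a := 2) (m := 96) (by norm_num)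
    (h.trans (by norm_num)) (by norm_num)
  rw [h] at h4
  generalize Nat.card (Sylow 7 G) = d at *
  have hmem : d ∈ Nat.divisors 96 := Nat.mem_divisors.2 ⟨h1, by norm_num⟩
  simp only [Nat.divisors_ofNat, Finset.mem_insert, Finset.mem_singleton] at hmem
  have hc : d = 8 := by omega
  subst hc
  exact absurd h4 (by decide)

theorem no_simple_4752 (h : Nat.card G = 4752) : False := by
  have hG := Cfsg.Agent.Lead.nonabelian_of_not_prime (G := G) (by rw [h]; norm_num)
  haveI : Fact (Nat.Prime 11) := ⟨by norm_num⟩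
  obtain ⟨h1, h2, h3, h4, -⟩ := basic hG (p := 11) (a := 1) (m := 432) (by norm_num)
    (h.trans (by norm_num)) (by norm_num)
  have h6 := prime_case hG (p := 11) (m := 432) (h.trans (by norm_num)) (by norm_num)
  have h7 := three_primes hG (p := 11) (q := 2) (r := 3) (b := 4) (c := 3)
    (by norm_num) (by norm_num) (by norm_num) (by norm_num) (by norm_num) (h.trans (by norm_num))
  rw [h] at h4
  generalize Nat.card (Sylow 11 G) = d at *
  have hmem : d ∈ Nat.divisors 432 := Nat.mem_divisors.2 ⟨h1, by norm_num⟩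
  simp only [Nat.divisors_ofNat, Finset.mem_insert, Finset.mem_singleton] at hmem
  have hc : d = 12 ∨ d = 144 := by omega
  rcases hc with rfl | rfl
  · exact absurd h7 (by decide)
  · exact h6 (by decide)

theorem no_simple_4800 (h : Nat.card G = 4800) : False := by
  have hG := Cfsg.Agent.Lead.nonabelian_of_not_prime (G := G) (by rw [h]; norm_num)
  haveI : Fact (Nat.Prime 3) := ⟨by norm_num⟩
  obtain ⟨h1, h2, h3, h4, -⟩ := basic hG (p := 3) (a := 1) (m := 1600) (by norm_num)
    (h.trans (by norm_num)) (by norm_num)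
  have h6 := prime_case hG (p := 3) (m := 1600) (h.trans (by norm_num)) (by norm_num)
  have h7 := three_primes hG (p := 3) (q := 2) (r := 5) (b := 6) (c := 2)
    (by norm_num) (by norm_num) (by norm_num) (by norm_num) (by norm_num) (h.trans (by norm_num))
  rw [h] at h4
  generalize Nat.card (Sylow 3 G) = d at *
  have hmem : d ∈ Nat.divisors 1600 := Nat.mem_divisors.2 ⟨h1, by norm_num⟩
  simp only [Nat.divisors_ofNat, Finset.mem_insert, Finset.mem_singleton] at hmem
  have hc : d = 4 ∨ d = 10 ∨ d = 16 ∨ d = 25 ∨ d = 40 ∨ d = 64 ∨ d = 100 ∨ d = 160 ∨ d = 400 ∨ d = 1600 := by omega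
  rcases hc with rfl | rfl | rfl | rfl | rfl | rfl | rfl | rfl | rfl | rfl
  · exact absurd h4 (by decide)
  · exact absurd h7 (by decide)
  · exact absurd h7 (by decide)
  · exact absurd h7 (by decide)
  · exact absurd h7 (by decide)
  · exact h6 (by decide)
  · exact absurd h7 (by decide)
  · exact absurd h7 (by decide)
  · exact absurd h7 (by decide)
  · exact h6 (by decide)

theorem no_simple_4860 (h : Nat.card G = 4860) : False := by
  have hG := Cfsg.Agent.Lead.nonabelian_of_not_prime (G := G) (by rw [h]; norm_num)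
  haveI : Fact (Nat.Prime 3) := ⟨by norm_num⟩
  obtain ⟨h1, h2, h3, h4, -⟩ := basic hG (p := 3) (a := 5) (m := 20) (by norm_num)
    (h.trans (by norm_num)) (by norm_num)
  rw [h] at h4
  generalize Nat.card (Sylow 3 G) = d at *
  have hmem : d ∈ Nat.divisors 20 := Nat.mem_divisors.2 ⟨h1, by norm_num⟩
  simp only [Nat.divisors_ofNat, Finset.mem_insert, Finset.mem_singleton] at hmem
  have hc : d = 4 ∨ d = 10 := by omega
  rcases hc with rfl | rfl
  · exact absurd h4 (by decide)
  · exact absurd h4 (by decide)

theorem no_simple_4928 (h : Nat.card G = 4928) : False := by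
  have hG := Cfsg.Agent.Lead.nonabelian_of_not_prime (G := G) (by rw [h]; norm_num)
  haveI : Fact (Nat.Prime 11) := ⟨by norm_num⟩
  obtain ⟨h1, h2, h3, h4, -⟩ := basic hG (p := 11) (a := 1) (m := 448) (by norm_num)
    (h.trans (by norm_num)) (by norm_num)
  have h7 := three_primes hG (p := 11) (q := 2) (r := 7) (b := 6) (c := 1)
    (by norm_num) (by norm_num) (by norm_num) (by norm_num) (by norm_num) (h.trans (by norm_num))
  rw [h] at h4
  generalize Nat.card (Sylow 11 G) = d at *
  have hmem : d ∈ Nat.divisors 448 := Nat.mem_divisors.2 ⟨h1, by norm_num⟩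
  simp only [Nat.divisors_ofNat, Finset.mem_insert, Finset.mem_singleton] at hmem
  have hc : d = 56 := by omega
  subst hc
  exact absurd h7 (by decide)

theorem no_simple_4992 (h : Nat.card G = 4992) : False := by
  have hG := Cfsg.Agent.Lead.nonabelian_of_not_prime (G := G) (by rw [h]; norm_num)
  haveI : Fact (Nat.Prime 13) := ⟨by norm_num⟩
  obtain ⟨h1, h2, h3, h4, -⟩ := basic hG (p := 13) (a := 1) (m := 384) (by norm_num)
    (h.trans (by norm_num)) (by norm_num)
  rw [h] at h4
  generalize Nat.card (Sylow 13 G) = d at *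
  have hmem : d ∈ Nat.divisors 384 := Nat.mem_divisors.2 ⟨h1, by norm_num⟩
  simp only [Nat.divisors_ofNat, Finset.mem_insert, Finset.mem_singleton] at hmem
  omega

theorem no_simple_5049 (h : Nat.card G = 5049) : False := by
  have hG := Cfsg.Agent.Lead.nonabelian_of_not_prime (G := G) (by rw [h]; norm_num)
  haveI : Fact (Nat.Prime 17) := ⟨by norm_num⟩
  obtain ⟨h1, h2, h3, h4, -⟩ := basic hG (p := 17) (a := 1) (m := 297) (by norm_num)
    (h.trans (by norm_num)) (by norm_num)
  rw [h] at h4
  generalize Nat.card (Sylow 17 G) = d at *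
  have hmem : d ∈ Nat.divisors 297 := Nat.mem_divisors.2 ⟨h1, by norm_num⟩
  simp only [Nat.divisors_ofNat, Finset.mem_insert, Finset.mem_singleton] at hmem
  omega

theorem no_simple_5096 (h : Nat.card G = 5096) : False := by
  have hG := Cfsg.Agent.Lead.nonabelian_of_not_prime (G := G) (by rw [h]; norm_num)
  haveI : Fact (Nat.Prime 7) := ⟨by norm_num⟩
  obtain ⟨h1, h2, h3, h4, -⟩ := basic hG (p := 7) (a := 2) (m := 104) (by norm_num)
    (h.trans (by norm_num)) (by norm_num)
  rw [h] at h4
  generalize Nat.card (Sylow 7 G) = d at *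
  have hmem : d ∈ Nat.divisors 104 := Nat.mem_divisors.2 ⟨h1, by norm_num⟩
  simp only [Nat.divisors_ofNat, Finset.mem_insert, Finset.mem_singleton] at hmem
  have hc : d = 8 := by omega
  subst hc
  exact absurd h4 (by decide)

theorem no_simple_5100 (h : Nat.card G = 5100) : False := by
  have hG := Cfsg.Agent.Lead.nonabelian_of_not_prime (G := G) (by rw [h]; norm_num)
  haveI : Fact (Nat.Prime 17) := ⟨by norm_num⟩
  obtain ⟨h1, h2, h3, h4, -⟩ := basic hG (p := 17) (a := 1) (m := 300) (by norm_num)
    (h.trans (by norm_num)) (by norm_num)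
  rw [h] at h4
  generalize Nat.card (Sylow 17 G) = d at *
  have hmem : d ∈ Nat.divisors 300 := Nat.mem_divisors.2 ⟨h1, by norm_num⟩
  simp only [Nat.divisors_ofNat, Finset.mem_insert, Finset.mem_singleton] at hmem
  omega

theorem no_simple_5200 (h : Nat.card G = 5200) : False := by
  have hG := Cfsg.Agent.Lead.nonabelian_of_not_prime (G := G) (by rw [h]; norm_num)
  haveI : Fact (Nat.Prime 13) := ⟨by norm_num⟩
  obtain ⟨h1, h2, h3, h4, -⟩ := basic hG (p := 13) (a := 1) (m := 400) (by norm_num)
    (h.trans (by norm_num)) (by norm_num)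
  have h7 := three_primes hG (p := 13) (q := 2) (r := 5) (b := 4) (c := 2)
    (by norm_num) (by norm_num) (by norm_num) (by norm_num) (by norm_num) (h.trans (by norm_num))
  rw [h] at h4
  generalize Nat.card (Sylow 13 G) = d at *
  have hmem : d ∈ Nat.divisors 400 := Nat.mem_divisors.2 ⟨h1, by norm_num⟩
  simp only [Nat.divisors_ofNat, Finset.mem_insert, Finset.mem_singleton] at hmem
  have hc : d = 40 := by omega
  subst hc
  exact absurd h7 (by decide)

theorem no_simple_5265 (h : Nat.card G = 5265) : False := by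
  have hG := Cfsg.Agent.Lead.nonabelian_of_not_prime (G := G) (by rw [h]; norm_num)
  haveI : Fact (Nat.Prime 13) := ⟨by norm_num⟩
  obtain ⟨h1, h2, h3, h4, -⟩ := basic hG (p := 13) (a := 1) (m := 405) (by norm_num)
    (h.trans (by norm_num)) (by norm_num)
  have h7 := three_primes hG (p := 13) (q := 3) (r := 5) (b := 4) (c := 1)
    (by norm_num) (by norm_num) (by norm_num) (by norm_num) (by norm_num) (h.trans (by norm_num))
  rw [h] at h4
  generalize Nat.card (Sylow 13 G) = d at *
  have hmem : d ∈ Nat.divisors 405 := Nat.mem_divisors.2 ⟨h1, by norm_num⟩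
  simp only [Nat.divisors_ofNat, Finset.mem_insert, Finset.mem_singleton] at hmem
  have hc : d = 27 := by omega
  subst hc
  exact absurd h7 (by decide)

theorem no_simple_5304 (h : Nat.card G = 5304) : False := by
  have hG := Cfsg.Agent.Lead.nonabelian_of_not_prime (G := G) (by rw [h]; norm_num)
  haveI : Fact (Nat.Prime 13) := ⟨by norm_num⟩
  obtain ⟨h1, h2, h3, h4, -⟩ := basic hG (p := 13) (a := 1) (m := 408) (by norm_num)
    (h.trans (by norm_num)) (by norm_num)
  rw [h] at h4
  generalize Nat.card (Sylow 13 G) = d at *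
  have hmem : d ∈ Nat.divisors 408 := Nat.mem_divisors.2 ⟨h1, by norm_num⟩
  simp only [Nat.divisors_ofNat, Finset.mem_insert, Finset.mem_singleton] at hmem
  omega

theorem no_simple_5376 (h : Nat.card G = 5376) : False := by
  have hG := Cfsg.Agent.Lead.nonabelian_of_not_prime (G := G) (by rw [h]; norm_num)
  haveI : Fact (Nat.Prime 7) := ⟨by norm_num⟩
  obtain ⟨h1, h2, h3, h4, -⟩ := basic hG (p := 7) (a := 1) (m := 768) (by norm_num)
    (h.trans (by norm_num)) (by norm_num)
  have h7 := three_primes hG (p := 7) (q := 2) (r := 3) (b := 8) (c := 1)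
    (by norm_num) (by norm_num) (by norm_num) (by norm_num) (by norm_num) (h.trans (by norm_num))
  rw [h] at h4
  generalize Nat.card (Sylow 7 G) = d at *
  have hmem : d ∈ Nat.divisors 768 := Nat.mem_divisors.2 ⟨h1, by norm_num⟩
  simp only [Nat.divisors_ofNat, Finset.mem_insert, Finset.mem_singleton] at hmem
  have hc : d = 8 ∨ d = 64 := by omega
  rcases hc with rfl | rfl
  · exact absurd h4 (by decide)
  · exact absurd h7 (by decide)

theorem no_simple_5440 (h : Nat.card G = 5440) : False := by
  have hG := Cfsg.Agent.Lead.nonabelian_of_not_prime (G := G) (by rw [h]; norm_num)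
  haveI : Fact (Nat.Prime 17) := ⟨by norm_num⟩
  obtain ⟨h1, h2, h3, h4, -⟩ := basic hG (p := 17) (a := 1) (m := 320) (by norm_num)
    (h.trans (by norm_num)) (by norm_num)
  rw [h] at h4
  generalize Nat.card (Sylow 17 G) = d at *
  have hmem : d ∈ Nat.divisors 320 := Nat.mem_divisors.2 ⟨h1, by norm_num⟩
  simp only [Nat.divisors_ofNat, Finset.mem_insert, Finset.mem_singleton] at hmem
  omega

theorem no_simple_5508 (h : Nat.card G = 5508) : False := by
  have hG := Cfsg.Agent.Lead.nonabelian_of_not_prime (G := G) (by rw [h]; norm_num)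
  haveI : Fact (Nat.Prime 17) := ⟨by norm_num⟩
  obtain ⟨h1, h2, h3, h4, -⟩ := basic hG (p := 17) (a := 1) (m := 324) (by norm_num)
    (h.trans (by norm_num)) (by norm_num)
  have h6 := prime_case hG (p := 17) (m := 324) (h.trans (by norm_num)) (by norm_num)
  have h7 := three_primes hG (p := 17) (q := 2) (r := 3) (b := 2) (c := 4)
    (by norm_num) (by norm_num) (by norm_num) (by norm_num) (by norm_num) (h.trans (by norm_num))
  rw [h] at h4
  generalize Nat.card (Sylow 17 G) = d at *
  have hmem : d ∈ Nat.divisors 324 := Nat.mem_divisors.2 ⟨h1, by norm_num⟩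
  simp only [Nat.divisors_ofNat, Finset.mem_insert, Finset.mem_singleton] at hmem
  have hc : d = 18 ∨ d = 324 := by omega
  rcases hc with rfl | rfl
  · exact absurd h7 (by decide)
  · exact h6 (by decide)

theorem no_simple_5712 (h : Nat.card G = 5712) : False := by
  have hG := Cfsg.Agent.Lead.nonabelian_of_not_prime (G := G) (by rw [h]; norm_num)
  haveI : Fact (Nat.Prime 17) := ⟨by norm_num⟩
  obtain ⟨h1, h2, h3, h4, -⟩ := basic hG (p := 17) (a := 1) (m := 336) (by norm_num)
    (h.trans (by norm_num)) (by norm_num)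
  rw [h] at h4
  generalize Nat.card (Sylow 17 G) = d at *
  have hmem : d ∈ Nat.divisors 336 := Nat.mem_divisors.2 ⟨h1, by norm_num⟩
  simp only [Nat.divisors_ofNat, Finset.mem_insert, Finset.mem_singleton] at hmem
  omega

theorem no_simple_5808 (h : Nat.card G = 5808) : False := by
  have hG := Cfsg.Agent.Lead.nonabelian_of_not_prime (G := G) (by rw [h]; norm_num)
  haveI : Fact (Nat.Prime 11) := ⟨by norm_num⟩
  obtain ⟨h1, h2, h3, h4, -⟩ := basic hG (p := 11) (a := 2) (m := 48) (by norm_num)
    (h.trans (by norm_num)) (by norm_num)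
  rw [h] at h4
  generalize Nat.card (Sylow 11 G) = d at *
  have hmem : d ∈ Nat.divisors 48 := Nat.mem_divisors.2 ⟨h1, by norm_num⟩
  simp only [Nat.divisors_ofNat, Finset.mem_insert, Finset.mem_singleton] at hmem
  have hc : d = 12 := by omega
  subst hc
  exact absurd h4 (by decide)

theorem no_simple_5824 (h : Nat.card G = 5824) : False := by
  have hG := Cfsg.Agent.Lead.nonabelian_of_not_prime (G := G) (by rw [h]; norm_num)
  haveI : Fact (Nat.Prime 13) := ⟨by norm_num⟩
  obtain ⟨h1, h2, h3, h4, -⟩ := basic hG (p := 13) (a := 1) (m := 448) (by norm_num)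
    (h.trans (by norm_num)) (by norm_num)
  have h7 := three_primes hG (p := 13) (q := 2) (r := 7) (b := 6) (c := 1)
    (by norm_num) (by norm_num) (by norm_num) (by norm_num) (by norm_num) (h.trans (by norm_num))
  rw [h] at h4
  generalize Nat.card (Sylow 13 G) = d at *
  have hmem : d ∈ Nat.divisors 448 := Nat.mem_divisors.2 ⟨h1, by norm_num⟩
  simp only [Nat.divisors_ofNat, Finset.mem_insert, Finset.mem_singleton] at hmem
  have hc : d = 14 := by omega
  subst hc
  exact absurd h7 (by decide)

theorem no_simple_5967 (h : Nat.card G = 5967) : False := by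
  have hG := Cfsg.Agent.Lead.nonabelian_of_not_prime (G := G) (by rw [h]; norm_num)
  haveI : Fact (Nat.Prime 17) := ⟨by norm_num⟩
  obtain ⟨h1, h2, h3, h4, -⟩ := basic hG (p := 17) (a := 1) (m := 351) (by norm_num)
    (h.trans (by norm_num)) (by norm_num)
  rw [h] at h4
  generalize Nat.card (Sylow 17 G) = d at *
  have hmem : d ∈ Nat.divisors 351 := Nat.mem_divisors.2 ⟨h1, by norm_num⟩
  simp only [Nat.divisors_ofNat, Finset.mem_insert, Finset.mem_singleton] at hmem
  omega

theorem no_simple_5984 (h : Nat.card G = 5984) : False := by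
  have hG := Cfsg.Agent.Lead.nonabelian_of_not_prime (G := G) (by rw [h]; norm_num)
  haveI : Fact (Nat.Prime 17) := ⟨by norm_num⟩
  obtain ⟨h1, h2, h3, h4, -⟩ := basic hG (p := 17) (a := 1) (m := 352) (by norm_num)
    (h.trans (by norm_num)) (by norm_num)
  rw [h] at h4
  generalize Nat.card (Sylow 17 G) = d at *
  have hmem : d ∈ Nat.divisors 352 := Nat.mem_divisors.2 ⟨h1, by norm_num⟩
  simp only [Nat.divisors_ofNat, Finset.mem_insert, Finset.mem_singleton] at hmem
  omega

theorem no_simple_6084 (h : Nat.card G = 6084) : False := by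
  have hG := Cfsg.Agent.Lead.nonabelian_of_not_prime (G := G) (by rw [h]; norm_num)
  haveI : Fact (Nat.Prime 13) := ⟨by norm_num⟩
  obtain ⟨h1, h2, h3, h4, -⟩ := basic hG (p := 13) (a := 2) (m := 36) (by norm_num)
    (h.trans (by norm_num)) (by norm_num)
  rw [h] at h4
  generalize Nat.card (Sylow 13 G) = d at *
  have hmem : d ∈ Nat.divisors 36 := Nat.mem_divisors.2 ⟨h1, by norm_num⟩
  simp only [Nat.divisors_ofNat, Finset.mem_insert, Finset.mem_singleton] at hmem
  omega

end Cfsg.Agent.Helper3.SmallOrd
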