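import Mathlib

/-!
# Definitions for S2276 (products of two `p`-elements of alternating groups) - helper10
-/

set_option autoImplicit false

namespace Cfsg.Agent.Helper10.PC

open Equiv Equiv.Perm

/-- `σ` has `p`-power order -/
def IsPElt {Ω : Type*} (p : ℕ) (σ : Perm Ω) : Prop := ∃ k : ℕ, σ ^ (p ^ k) = 1

/-- the conclusion of S2276 for a pair of permutations of a finite type: some even conjugate
`w' = g w g⁻¹` has `u w'` not of `p`-power order and `⟨u, w'⟩` not solvable -/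
def Good {Ω : Type*} [Fintype Ω] [DecidableEq Ω] (p : ℕ) (u w : Perm Ω) : Prop :=
  ∃ g : Perm Ω, Perm.sign g = 1 ∧ ¬ IsPElt p (u * (g * w * g⁻¹)) ∧
    ¬ Group.IsSolvable ↥(Subgroup.closure ({u, g * w * g⁻¹} : Set (Perm Ω)))

/-- the orbit of `x` under the (natural number) powers of `σ` -/
def orb {Ω : Type*} (σ : Perm Ω) (x : Ω) : Set Ω := {y | ∃ k : ℕ, (σ ^ k) x = y}

theorem mem_orb {Ω : Type*} {σ : Perm Ω} {x y : Ω} : y ∈ orb σ x ↔ ∃ k : ℕ, (σ ^ k) x = y :=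
  Iff.rfl

/-- the rotation `x ↦ x + 1` of `ZMod n` -/
def rot (n : ℕ) : Perm (ZMod n) := Equiv.addRight (1 : ZMod n)

theorem rot_apply (n : ℕ) (x : ZMod n) : rot n x = x + 1 := rfl

/-- the multiples of `q` in `ZMod n` -/
def mulSet (n q : ℕ) : Set (ZMod n) := {x | ∃ k : ℕ, x = ((k * q : ℕ) : ZMod n)}

/-- `k ↦ k q`, from `ZMod p` to `ZMod n` (used with `n = p q`) -/
def dmap (p q n : ℕ) (k : ZMod p) : ZMod n := ((k.val * q : ℕ) : ZMod n)

/-- the six points `0, q, 2q, e, q+e, 2q+e` of `ZMod n` (used with `n = 3 q`, `e = 1, 2`) -/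
def d6 (q n : ℕ) (e : ZMod n) : Fin 6 → ZMod n :=
  ![0, (q : ZMod n), ((2 * q : ℕ) : ZMod n), e, (q : ZMod n) + e, ((2 * q : ℕ) : ZMod n) + e]

/-- the patterns on 5 and 6 points -/
def pat5a : Perm (Fin 5) := List.formPerm [0, 1, 2]
def pat5b : Perm (Fin 5) := List.formPerm [2, 3, 4]
def pat6a : Perm (Fin 6) := List.formPerm [0, 1, 2] * List.formPerm [3, 4, 5]
def patP1 : Perm (Fin 6) := List.formPerm [3, 1, 2] * List.formPerm [4, 0, 5]
def patP2 : Perm (Fin 6) := List.formPerm [3, 4, 2] * List.formPerm [1, 0, 5]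
def patP3 : Perm (Fin 6) := List.formPerm [3, 0, 1]
def pat6c : Perm (Fin 6) := List.formPerm [0, 1, 2]
def pat6d : Perm (Fin 6) := List.formPerm [2, 3, 4]

end Cfsg.Agent.Helper10.PC
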