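import Mathlib
import Cfsg.Agent.Lib.Helper10.PCDefs

/-! # S2276: basic lemmas (piece BASIC) - helper10 -/

set_option autoImplicit false

namespace Cfsg.Agent.Helper10.PC

open Equiv Equiv.Perm

universe u

section general
variable {Ω : Type u} [Fintype Ω] [DecidableEq Ω]

theorem isPElt_iff_orderOf (p : ℕ) (hp : p.Prime) (σ : Perm Ω) :
    IsPElt p σ ↔ ∃ k : ℕ, orderOf σ = p ^ k := by
  constructor
  · rintro ⟨k, hk⟩
    have hdvd : orderOf σ ∣ p ^ k := orderOf_dvd_of_pow_eq_one hk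
    obtain ⟨j, -, hj⟩ := (Nat.dvd_prime_pow hp).1 hdvd
    exact ⟨j, hj⟩
  · rintro ⟨k, hk⟩
    exact ⟨k, by rw [← hk]; exact pow_orderOf_eq_one σ⟩

theorem isPElt_conj (p : ℕ) (g σ : Perm Ω) (h : IsPElt p σ) : IsPElt p (g * σ * g⁻¹) := by
  obtain ⟨k, hk⟩ := h
  exact ⟨k, by rw [conj_pow, hk]; simp⟩

theorem isPElt_pow (p : ℕ) (σ : Perm Ω) (h : IsPElt p σ) (m : ℕ) : IsPElt p (σ ^ m) := by
  obtain ⟨k, hk⟩ := h
  exact ⟨k, by rw [← pow_mul, mul_comm, pow_mul, hk, one_pow]⟩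

theorem conj_pow_apply (g w : Perm Ω) (k : ℕ) (x : Ω) :
    ((g * w * g⁻¹) ^ k) (g x) = g ((w ^ k) x) := by
  rw [conj_pow]; simp

theorem minimalPeriod_eq_prime_pow (p : ℕ) (hp : p.Prime) (w : Perm Ω) (hw : IsPElt p w) (c : Ω) :
    ∃ j : ℕ, Function.minimalPeriod w c = p ^ j := by
  obtain ⟨k, hk⟩ := hw
  have hper : Function.IsPeriodicPt w (p ^ k) c := by
    unfold Function.IsPeriodicPt Function.IsFixedPt
    rw [← Equiv.Perm.coe_pow, hk]; rfl
  have hdvd := hper.minimalPeriod_dvd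
  obtain ⟨j, -, hj⟩ := (Nat.dvd_prime_pow hp).1 hdvd
  exact ⟨j, hj⟩

theorem minimalPeriod_pos (w : Perm Ω) (c : Ω) : 0 < Function.minimalPeriod w c := by
  apply Function.minimalPeriod_pos_of_mem_periodicPts
  have hfin : IsOfFinOrder w := isOfFinOrder_of_finite w
  refine Function.mk_mem_periodicPts hfin.orderOf_pos ?_
  unfold Function.IsPeriodicPt Function.IsFixedPt
  rw [← Equiv.Perm.coe_pow, pow_orderOf_eq_one]; rfl

theorem pow_apply_eq_iff (w : Perm Ω) (c : Ω) (j k : ℕ) :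
    (w ^ j) c = (w ^ k) c ↔ j ≡ k [MOD Function.minimalPeriod w c] := by
  have h := Function.iterate_eq_iterate_iff_of_lt_minimalPeriod (f := w) (x := c)
    (Nat.mod_lt j (minimalPeriod_pos w c)) (Nat.mod_lt k (minimalPeriod_pos w c))
  rw [Function.iterate_mod_minimalPeriod_eq, Function.iterate_mod_minimalPeriod_eq] at h
  simp only [Equiv.Perm.coe_pow]
  exact h

end general

end Cfsg.Agent.Helper10.PC
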