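import Mathlib
import Cfsg.Agent.Lib.Helper10.PCDefs
import Cfsg.Agent.Lib.Helper10.PCBasic
import Cfsg.Agent.Lib.Helper19.PCCERTP

set_option autoImplicit false

namespace Cfsg.Agent.Helper10.PC

open Equiv Equiv.Perm

theorem i3c_natCast_ne (n : ℕ) (a b : ℕ) (ha : a < n) (hb : b < n) (hab : a ≠ b) :
    ((a : ℕ) : ZMod n) ≠ ((b : ℕ) : ZMod n) := by
  intro h
  rw [ZMod.natCast_eq_natCast_iff'] at h
  rw [Nat.mod_eq_of_lt ha, Nat.mod_eq_of_lt hb] at h
  exact hab h

theorem good_I3C_core (q n : ℕ) (hq : 3 ≤ q) (hn : n = 3 * q) [NeZero n]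
    (w : Perm (ZMod n)) (hw : IsPElt 3 w) (c : ZMod n)
    (hc : Function.minimalPeriod w c = 3) (hsupp : ∀ y, w y ≠ y → y ∈ orb w c)
    (hEXT : ∀ (src tgt : Fin 3 → ZMod n), Function.Injective src → Function.Injective tgt →
      Fintype.card (Fin 3) + 2 ≤ Fintype.card (ZMod n) →
      ∃ g : Perm (ZMod n), Perm.sign g = 1 ∧ ∀ i, g (src i) = tgt i)
    (hSIX : ∀ (w' : Perm (ZMod n)) (m : ℕ) (e : ZMod n), (e = 1 ∨ e = 2) → ∀ (b : Perm (Fin 6)),
      (b = patP1 ∨ b = patP2 ∨ b = patP3) →
      (∀ j : Fin 6, (w' ^ m) (d6 q n e j) = d6 q n e (b j)) →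
      ¬ Group.IsSolvable ↥(Subgroup.closure ({rot n, w'} : Set (Perm (ZMod n))))) :
    Good 3 (rot n) w := by
  -- sources
  have hc01 : w c ≠ c := by
    intro h
    have := (pow_apply_eq_iff w c 1 0).1 (by simpa using h)
    rw [hc] at this
    exact absurd this (by decide)
  have hc02 : (w ^ 2) c ≠ c := by
    intro h
    have := (pow_apply_eq_iff w c 2 0).1 (by simpa using h)
    rw [hc] at this
    exact absurd this (by decide)
  have hc12 : (w ^ 2) c ≠ w c := by
    intro h
    have := (pow_apply_eq_iff w c 2 1).1 (by simpa using h)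
    rw [hc] at this
    exact absurd this (by decide)
  have hc3 : (w ^ 3) c = c := by
    have := (pow_apply_eq_iff w c 3 0).2 (by rw [hc]; decide)
    simpa using this
  have hsrc : Function.Injective (![c, w c, (w ^ 2) c] : Fin 3 → ZMod n) := by
    intro i j hij
    fin_cases i <;> fin_cases j <;> first | rfl | (exfalso; revert hij; simp; first | exact hc01 | exact hc02 | exact hc12 | exact (Ne.symm hc01) | exact (Ne.symm hc02) | exact (Ne.symm hc12))
  -- targets
  have hn9 : 9 ≤ n := by omega
  have h20 : (2 : ZMod n) ≠ 0 := by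
    have := i3c_natCast_ne n 2 0 (by omega) (by omega) (by omega)
    simpa using this
  have h2q : (2 : ZMod n) ≠ (q : ZMod n) := by
    have := i3c_natCast_ne n 2 q (by omega) (by omega) (by omega)
    simpa using this
  have h0q : (0 : ZMod n) ≠ (q : ZMod n) := by
    have := i3c_natCast_ne n 0 q (by omega) (by omega) (by omega)
    simpa using this
  have htgt : Function.Injective (![2, 0, (q : ZMod n)] : Fin 3 → ZMod n) := by
    intro i j hij
    fin_cases i <;> fin_cases j <;> first | rfl | (exfalso; revert hij; simp; first | exact h20 | exact h2q | exact h0q | exact (Ne.symm h20) | exact (Ne.symm h2q) | exact (Ne.symm h0q))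
  obtain ⟨g, hg, hgs⟩ := hEXT _ _ hsrc htgt (by rw [ZMod.card]; simp; omega)
  have hg0 : g c = 2 := by simpa using hgs 0
  have hg1 : g (w c) = 0 := by simpa using hgs 1
  have hg2 : g ((w ^ 2) c) = (q : ZMod n) := by simpa using hgs 2
  refine ⟨g, hg, ?_, ?_⟩ <;> set w' := g * w * g⁻¹ with hw'
  all_goals
    have e2 : w' 2 = 0 := by
      have := conj_pow_apply g w 1 c
      rw [pow_one, pow_one, hg0, hg1] at this
      exact this
    have e0 : w' 0 = (q : ZMod n) := by
      have := conj_pow_apply g w 1 (w c)
      rw [pow_one, pow_one, hg1] at this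
      rw [this]
      rw [← hg2]; rfl
    have eq' : w' (q : ZMod n) = 2 := by
      have := conj_pow_apply g w 1 ((w ^ 2) c)
      rw [pow_one, pow_one, hg2] at this
      rw [this, ← hg0]
      have h3 : w ((w ^ 2) c) = (w ^ 3) c := by
        rw [pow_succ' w 2]; rfl
      rw [h3, hc3]
    have efix : ∀ x : ZMod n, x ≠ 2 → x ≠ 0 → x ≠ (q : ZMod n) → w' x = x := by
      intro x hx2 hx0 hxq
      have hfix : w (g⁻¹ x) = g⁻¹ x := by
        by_contra hne
        obtain ⟨k, hk⟩ := hsupp _ hne
        have hk' : (w ^ (k % 3)) c = g⁻¹ x := by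
          rw [← hk]
          exact (pow_apply_eq_iff w c _ _).2 (by rw [hc]; exact Nat.mod_modEq k 3)
        have hlt : k % 3 < 3 := Nat.mod_lt _ (by norm_num)
        have hx : x = g ((w ^ (k % 3)) c) := by rw [hk']; simp
        interval_cases (k % 3)
        · apply hx2; rw [hx]; simpa using hg0
        · apply hx0; rw [hx]; simpa using hg1
        · apply hxq; rw [hx]; exact hg2
      rw [hw']
      show g (w (g⁻¹ x)) = x
      rw [hfix]; simp
  · -- two-cycle (1 2)
    have h1 : w' 1 = 1 := by
      apply efix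
      · have := i3c_natCast_ne n 1 2 (by omega) (by omega) (by omega); simpa using this
      · have := i3c_natCast_ne n 1 0 (by omega) (by omega) (by omega); simpa using this
      · have := i3c_natCast_ne n 1 q (by omega) (by omega) (by omega); simpa using this
    refine not_isPElt_of_two_cycle 3 (by decide) (rot n * w') 1 2 ?_ ?_ ?_
    · have := i3c_natCast_ne n 1 2 (by omega) (by omega) (by omega); simpa using this
    · rw [Perm.mul_apply, h1, rot_apply]; norm_num
    · rw [Perm.mul_apply, e2, rot_apply]; simp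
  · -- non-solvable
    refine hSIX w' 1 2 (Or.inr rfl) patP3 (Or.inr (Or.inr rfl)) ?_
    have hA : w' ((2 * q : ℕ) : ZMod n) = ((2 * q : ℕ) : ZMod n) := by
      apply efix
      · have := i3c_natCast_ne n (2 * q) 2 (by omega) (by omega) (by omega); simpa using this
      · have := i3c_natCast_ne n (2 * q) 0 (by omega) (by omega) (by omega); simpa using this
      · exact i3c_natCast_ne n (2 * q) q (by omega) (by omega) (by omega)
    have hB : w' ((q : ZMod n) + 2) = (q : ZMod n) + 2 := by
      apply efix
      · have := i3c_natCast_ne n (q + 2) 2 (by omega) (by omega) (by omega); simpa using this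
      · have := i3c_natCast_ne n (q + 2) 0 (by omega) (by omega) (by omega); simpa using this
      · have := i3c_natCast_ne n (q + 2) q (by omega) (by omega) (by omega); simpa using this
    have hC : w' (((2 * q : ℕ) : ZMod n) + 2) = ((2 * q : ℕ) : ZMod n) + 2 := by
      apply efix
      · have := i3c_natCast_ne n (2 * q + 2) 2 (by omega) (by omega) (by omega); simpa using this
      · have := i3c_natCast_ne n (2 * q + 2) 0 (by omega) (by omega) (by omega); simpa using this
      · have := i3c_natCast_ne n (2 * q + 2) q (by omega) (by omega) (by omega); simpa using this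
    have hp0 : patP3 0 = 1 := by decide
    have hp1 : patP3 1 = 3 := by decide
    have hp2 : patP3 2 = 2 := by decide
    have hp3 : patP3 3 = 0 := by decide
    have hp4 : patP3 4 = 4 := by decide
    have hp5 : patP3 5 = 5 := by decide
    intro j
    rw [pow_one]
    fin_cases j
    · show w' (d6 q n 2 0) = d6 q n 2 (patP3 0)
      rw [hp0]; simpa [d6] using e0
    · show w' (d6 q n 2 1) = d6 q n 2 (patP3 1)
      rw [hp1]; simpa [d6] using eq'
    · show w' (d6 q n 2 2) = d6 q n 2 (patP3 2)
      rw [hp2]; simpa [d6] using hA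
    · show w' (d6 q n 2 3) = d6 q n 2 (patP3 3)
      rw [hp3]; simpa [d6] using e2
    · show w' (d6 q n 2 4) = d6 q n 2 (patP3 4)
      rw [hp4]; simpa [d6] using hB
    · show w' (d6 q n 2 5) = d6 q n 2 (patP3 5)
      rw [hp5]; simpa [d6] using hC

end Cfsg.Agent.Helper10.PC
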