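import Mathlib
import Cfsg.Agent.Lib.Helper10.PCI3CCore
import Cfsg.Agent.Lib.Helper16.PCEXT
import Cfsg.Agent.Lib.Helper2.PCNSSIX

/-! # S2276 piece I3C - helper10 -/

set_option autoImplicit false

namespace Cfsg.Agent.Helper10.PC

open Equiv Equiv.Perm

theorem good_I3C (q n : ℕ) (hq : 3 ≤ q) (hn : n = 3 * q) [NeZero n]
    (w : Perm (ZMod n)) (hw : IsPElt 3 w) (c : ZMod n)
    (hc : Function.minimalPeriod w c = 3) (hsupp : ∀ y, w y ≠ y → y ∈ orb w c) :
    Good 3 (rot n) w :=
  good_I3C_core q n hq hn w hw c hc hsupp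
    (fun src tgt hs ht hf => exists_even_extend src tgt hs ht hf)
    (fun w' m e he b hb h => not_solvable_of_six q n hn hq w' m e he b hb h)

end Cfsg.Agent.Helper10.PC
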