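import Mathlib
import Cfsg.Agent.Lib.Helper10.PCDefs
import Cfsg.Agent.Lib.Helper10.PCBasic
import Cfsg.Agent.Lib.Helper10.PCI3C
import Cfsg.Agent.Lib.Helper11.PCINVSET
import Cfsg.Agent.Lib.Helper11.PCNSCERT
import Cfsg.Agent.Lib.Helper12.PCGOODEQUIV
import Cfsg.Agent.Lib.Helper16.PCCOORD
import Cfsg.Agent.Lib.Helper16.PCEXT
import Cfsg.Agent.Lib.Helper17.PCBASE35
import Cfsg.Agent.Lib.Helper17.PCBASE36
import Cfsg.Agent.Lib.Helper17.PCNSPAT
import Cfsg.Agent.Lib.Helper19.PCCERTP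
import Cfsg.Agent.Lib.Helper19.PCEVENMAP
import Cfsg.Agent.Lib.Helper19.PCNSROT
import Cfsg.Agent.Lib.Helper19.PCREDUCE
import Cfsg.Agent.Lib.Helper2.PCGOODSUB
import Cfsg.Agent.Lib.Helper2.PCNSSIX
import Cfsg.Agent.Lib.Helper20.PCFIRSTRET
import Cfsg.Agent.Lib.Helper20.PCSHAPE
import Cfsg.Agent.Lib.Helper22.PCCERTI1
import Cfsg.Agent.Lib.Helper23.PCGOODCONJ
import Cfsg.Agent.Lib.Helper23.PCI2B
import Cfsg.Agent.Lib.Helper23.PCI2C
import Cfsg.Agent.Lib.Helper27.PCI3A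
import Cfsg.Agent.Lib.Helper27.PCI3B
import Cfsg.Agent.Lib.Lead.PCGALOIS
import Cfsg.Agent.Lib.Helper12.PCI1
import Cfsg.Agent.Lib.Helper12.PCI2A
import Cfsg.Agent.Lib.Helper22.PCDICH

/-! # S2276: final assembly (CASE1, MAIN, FINAL) - helper10 -/

set_option autoImplicit false

/-! ## ASSEMBLY (helper10) -/
namespace Cfsg.Agent.Helper10.PC
open Equiv Equiv.Perm
universe u

theorem asm_permCongr_pow {α β : Type*} (e : α ≃ β) (w : Perm α) (k : ℕ) :
    (e.permCongr w) ^ k = e.permCongr (w ^ k) := by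
  have := map_pow (Equiv.permCongrHom e) w k
  simpa [Equiv.permCongrHom] using this.symm

theorem asm_isPElt_permCongr {α β : Type*} (p : ℕ) (e : α ≃ β) (w : Perm α) (h : IsPElt p w) :
    IsPElt p (e.permCongr w) := by
  obtain ⟨k, hk⟩ := h
  refine ⟨k, ?_⟩
  rw [asm_permCongr_pow, hk]
  ext x; simp

theorem asm_permCongr_ne_one {α β : Type*} (e : α ≃ β) (w : Perm α) (h : w ≠ 1) :
    e.permCongr w ≠ 1 := by
  intro h1
  apply h
  have : e.permCongr w = e.permCongr 1 := by rw [h1]; ext x; simp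
  exact e.permCongr.injective this

/-- Case 1 on `ZMod n`, `n = p ^ i` -/
theorem good_rot (p : ℕ) (hp : p.Prime) (hp3 : 3 ≤ p) (n : ℕ) [NeZero n] (h5 : 5 ≤ n) (i : ℕ)
    (hn : n = p ^ i) (w : Perm (ZMod n)) (hw : IsPElt p w) (hw1 : w ≠ 1) : Good p (rot n) w := by
  rcases i with _ | i
  · simp at hn; omega
  rcases i with _ | i
  · have hnp : n = p := by simpa using hn
    exact good_I1 p n hp (hnp ▸ h5) hnp w hw hw1
  have hq : p ≤ p ^ (i + 1) := by
    calc p = p ^ 1 := (pow_one p).symm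
      _ ≤ p ^ (i + 1) := Nat.pow_le_pow_right hp.pos (by omega)
  have hn' : n = p * p ^ (i + 1) := by rw [hn, pow_succ']
  by_cases hp5 : 5 ≤ p
  · have hq5 : 5 ≤ p ^ (i + 1) := le_trans hp5 hq
    rcases shape p hp w hw hw1 with ⟨c, hc⟩ | ⟨c, c', hc, hc', hcc'⟩ | ⟨c, hc, hs⟩
    · exact good_I2A p _ n hp hp5 hq5 hn' w hw c hc
    · exact good_I2B p _ n hp hp5 hq5 hn' w hw c c' hc hc' hcc'
    · exact good_I2C p _ n hp hp5 hq5 hn' w hw c hc hs
  · have hp3' : p = 3 := by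
      have h4 : p ≠ 4 := by
        intro h; rw [h] at hp; exact absurd hp (by norm_num)
      omega
    subst hp3'
    rcases shape 3 hp w hw hw1 with ⟨c, hc⟩ | ⟨c, c', hc, hc', hcc'⟩ | ⟨c, hc, hs⟩
    · exact good_I3A _ n hq hn' w hw c hc
    · exact good_I3B _ n hq hn' w hw c c' hc hc' hcc'
    · exact good_I3C _ n hq hn' w hw c hc hs

section general
variable {Ω : Type u} [Fintype Ω] [DecidableEq Ω]

theorem good_of_transitive (p : ℕ) (hp : p.Prime) (hp3 : 3 ≤ p) (u w : Perm Ω) (hu : IsPElt p u)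
    (hw : IsPElt p w) (hw1 : w ≠ 1) (h5 : 5 ≤ Fintype.card Ω) (x₀ : Ω)
    (hx : ∀ y, ∃ k : ℕ, (u ^ k) x₀ = y) : Good p u w := by
  have : NeZero (Fintype.card Ω) := ⟨by omega⟩
  obtain ⟨e, he⟩ := exists_equiv_zmod (Fintype.card Ω) rfl u x₀ hx
  have hpow : ∀ (j : ℕ) (x : Ω), e ((u ^ j) x) = e x + (j : ZMod (Fintype.card Ω)) := by
    intro j
    induction j with
    | zero => intro x; simp
    | succ j ih =>
      intro x
      rw [pow_succ', Perm.mul_apply, he, ih]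
      push_cast; ring
  obtain ⟨k, hk⟩ := hu
  have hzero : ((p ^ k : ℕ) : ZMod (Fintype.card Ω)) = 0 := by
    have := hpow (p ^ k) x₀
    rw [hk] at this
    simpa using this.symm
  have hdvd : Fintype.card Ω ∣ p ^ k := (ZMod.natCast_eq_zero_iff _ _).1 hzero
  obtain ⟨i, -, hi⟩ := (Nat.dvd_prime_pow hp).1 hdvd
  refine good_of_equiv p e u w (rot _) (e.permCongr w) (fun x => by rw [he, rot_apply])
    (fun x => by simp) ?_
  exact good_rot p hp hp3 _ h5 i hi _ (asm_isPElt_permCongr p e w hw) (asm_permCongr_ne_one e w hw1)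

theorem good_base3 (u w : Perm Ω) (h5 : 5 ≤ Fintype.card Ω) (h6 : Fintype.card Ω ≤ 6)
    (hu : u ^ 3 = 1) (hw : w ^ 3 = 1) (hu1 : u ≠ 1) (hw1 : w ≠ 1) : Good 3 u w := by
  have h3 : ∀ {β : Type} (e : Ω ≃ β) (v : Perm Ω), v ^ 3 = 1 → (e.permCongr v) ^ 3 = 1 := by
    intro β e v hv
    rw [asm_permCongr_pow, hv]; ext x; simp
  have hcases : Fintype.card Ω = 5 ∨ Fintype.card Ω = 6 := by omega
  rcases hcases with h | h
  · let e : Ω ≃ Fin 5 := Fintype.equivFinOfCardEq h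
    exact good_of_equiv 3 e u w (e.permCongr u) (e.permCongr w) (fun x => by simp)
      (fun x => by simp) (good_fin5 _ _ (h3 e u hu) (h3 e w hw) (asm_permCongr_ne_one e u hu1)
        (asm_permCongr_ne_one e w hw1))
  · let e : Ω ≃ Fin 6 := Fintype.equivFinOfCardEq h
    exact good_of_equiv 3 e u w (e.permCongr u) (e.permCongr w) (fun x => by simp)
      (fun x => by simp) (good_fin6 _ _ (h3 e u hu) (h3 e w hw) (asm_permCongr_ne_one e u hu1)
        (asm_permCongr_ne_one e w hw1))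

end general

theorem good_main (p : ℕ) (hp : p.Prime) (hp3 : 3 ≤ p) :
    ∀ (n : ℕ) (Ω : Type u) [Fintype Ω] [DecidableEq Ω], Fintype.card Ω = n → 5 ≤ n →
      ∀ u w : Perm Ω, IsPElt p u → IsPElt p w → u ≠ 1 → w ≠ 1 → Good p u w := by
  intro n
  induction n using Nat.strong_induction_on with
  | _ n ih =>
    intro Ω _ _ hcard h5 u w hu hw hu1 hw1
    have h5' : 5 ≤ Fintype.card Ω := by omega
    rcases dichotomy p hp hp3 u w hu hw hu1 hw1 h5' with
      ⟨x, hx⟩ | ⟨x, hx⟩ | ⟨Du, Dw, hc, h5d, hlt, hDu, hDw, hnu, hnw⟩ | ⟨rfl, h6, hu3, hw3⟩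
    · exact good_of_transitive p hp hp3 u w hu hw hw1 h5' x hx
    · exact good_symm p u w (good_of_transitive p hp hp3 w u hw hu hu1 h5' x hx)
    · refine good_of_reducible p hp u w hu hw Du Dw hc (by omega) hDu hDw hnu hnw ?_
      intro u' w' hu' hw' hu1' hw1'
      exact ih Du.card (by omega) {x // x ∈ Du} (by simp) h5d u' w' hu' hw' hu1' hw1'
    · exact good_base3 u w h5' h6 hu3 hw3 hu1 hw1

end Cfsg.Agent.Helper10.PC

namespace Cfsg.Agent.Helper10.PC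
open Equiv Equiv.Perm

theorem final_isPElt_of_orderOf {α : Type*} (p : ℕ) (σ : Perm α) (h : ∃ k : ℕ, orderOf σ = p ^ k) :
    IsPElt p σ := by
  obtain ⟨k, hk⟩ := h
  exact ⟨k, by rw [← hk]; exact pow_orderOf_eq_one σ⟩

theorem final_orderOf_of_isPElt {α : Type*} (p : ℕ) (hp : p.Prime) (σ : Perm α) (h : IsPElt p σ) :
    ∃ k : ℕ, orderOf σ = p ^ k := by
  obtain ⟨k, hk⟩ := h
  have hdvd : orderOf σ ∣ p ^ k := orderOf_dvd_of_pow_eq_one hk
  obtain ⟨j, -, hj⟩ := (Nat.dvd_prime_pow hp).1 hdvd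
  exact ⟨j, hj⟩

theorem final (n : ℕ) (hn : 5 ≤ n) (p : ℕ) (hp : p.Prime) (hp3 : 3 ≤ p)
    (u w : alternatingGroup (Fin n)) (hu : u ≠ 1) (hw : w ≠ 1)
    (hu' : ∃ k : ℕ, orderOf u = p ^ k) (hw' : ∃ k : ℕ, orderOf w = p ^ k) :
    ∃ g : alternatingGroup (Fin n), (¬ ∃ k : ℕ, orderOf (u * (g * w * g⁻¹)) = p ^ k) ∧
      ¬ Group.IsSolvable ↥(Subgroup.closure ({u, g * w * g⁻¹} : Set (alternatingGroup (Fin n)))) := by
  have hu2 : IsPElt p (u : Perm (Fin n)) :=
    final_isPElt_of_orderOf p _ (by simpa [Subgroup.orderOf_coe] using hu')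
  have hw2 : IsPElt p (w : Perm (Fin n)) :=
    final_isPElt_of_orderOf p _ (by simpa [Subgroup.orderOf_coe] using hw')
  have hu1 : (u : Perm (Fin n)) ≠ 1 := fun h => hu (Subtype.ext h)
  have hw1 : (w : Perm (Fin n)) ≠ 1 := fun h => hw (Subtype.ext h)
  obtain ⟨g₀, hg₀, hnp, hns⟩ := good_main p hp hp3 n (Fin n) (by simp) hn _ _ hu2 hw2 hu1 hw1
  refine ⟨⟨g₀, mem_alternatingGroup.2 hg₀⟩, ?_, ?_⟩
  · rintro ⟨k, hk⟩
    apply hnp
    refine final_isPElt_of_orderOf p _ ⟨k, ?_⟩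
    rw [← hk, ← Subgroup.orderOf_coe]
    rfl
  · intro hsol
    apply hns
    set g : alternatingGroup (Fin n) := ⟨g₀, mem_alternatingGroup.2 hg₀⟩ with hg
    have hmap : Subgroup.map (alternatingGroup (Fin n)).subtype
        (Subgroup.closure ({u, g * w * g⁻¹} : Set (alternatingGroup (Fin n)))) =
        Subgroup.closure ({(u : Perm (Fin n)), g₀ * (w : Perm (Fin n)) * g₀⁻¹} : Set (Perm (Fin n))) := by
      rw [MonoidHom.map_closure]
      congr 1
      ext x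
      simp [Set.image_insert_eq, hg]
    rw [← hmap]
    have e := Subgroup.equivMapOfInjective
      (Subgroup.closure ({u, g * w * g⁻¹} : Set (alternatingGroup (Fin n))))
      (alternatingGroup (Fin n)).subtype (Subgroup.subtype_injective _)
    exact Group.isSolvable_of_surjective (f := e.toMonoidHom) e.surjective

end Cfsg.Agent.Helper10.PC
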