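import Mathlib

set_option autoImplicit false
set_option linter.style.haveILetI false

/-! Piece ORB of helper3's S5113 plan. -/

namespace Cfsg.Agent.Helper3.PPow

/-- PIECE ORB. Orbit counting for products: a function invariant under a `p`-group, with values in a
commutative group of exponent `p`, has the same product over the whole set and over the fixed points. -/
theorem prod_eq_prod_fixedPoints {Q : Type*} [Group Q] [Finite Q] {W : Type*} [MulAction Q W] [Fintype W]
    [DecidableEq W] [Fintype (MulAction.fixedPoints Q W)] {C : Type*} [CommGroup C] {p : ℕ}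
    [Fact p.Prime] (hQ : IsPGroup p Q)
    (hC : ∀ x : C, x ^ p = 1) (f : W → C) (hf : ∀ (q : Q) (w : W), f (q • w) = f w) :
    ∏ w : W, f w = ∏ w : MulAction.fixedPoints Q W, f (w : W) := by
  classical
  have hsplit := Finset.prod_filter_mul_prod_filter_not (Finset.univ : Finset W)
    (fun w => w ∈ MulAction.fixedPoints Q W) f
  have hfix : ∏ w ∈ Finset.univ.filter (fun w => w ∈ MulAction.fixedPoints Q W), f w =
      ∏ w : MulAction.fixedPoints Q W, f (w : W) := by
    apply Finset.prod_subtype
    intro x
    simp only [Finset.mem_filter, Finset.mem_univ, true_and]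
  set t : Finset W := Finset.univ.filter (fun w => ¬ w ∈ MulAction.fixedPoints Q W) with ht
  have hmemt : ∀ w, w ∈ t ↔ w ∉ MulAction.fixedPoints Q W := by
    intro w; simp only [ht, Finset.mem_filter, Finset.mem_univ, true_and]
  have hnot : ∏ w ∈ t, f w = 1 := by
    rw [Finset.prod_partition (MulAction.orbitRel Q W)]
    apply Finset.prod_eq_one
    intro xbar hx
    obtain ⟨v, hvt, rfl⟩ := Finset.mem_image.1 hx
    have hvnf : v ∉ MulAction.fixedPoints Q W := (hmemt v).1 hvt
    -- the class of `v` inside `t` is the orbit of `v`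
    have hset : t.filter (fun y => (⟦y⟧ : Quotient (MulAction.orbitRel Q W)) = ⟦v⟧) =
        (MulAction.orbit Q v).toFinset := by
      ext y
      simp only [Finset.mem_filter, Set.mem_toFinset]
      constructor
      · rintro ⟨_, hy⟩
        exact MulAction.orbitRel_apply.1 (Quotient.exact hy)
      · intro hy
        refine ⟨?_, Quotient.sound (MulAction.orbitRel_apply.2 hy)⟩
        rw [hmemt]
        intro hyf
        apply hvnf
        obtain ⟨q, rfl⟩ := hy
        rw [MulAction.mem_fixedPoints] at hyf ⊢
        intro m
        have h1 := hyf (q * m * q⁻¹)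
        rw [mul_smul, mul_smul, inv_smul_smul] at h1
        exact smul_left_cancel q h1
    rw [hset]
    have hconst : ∀ y ∈ (MulAction.orbit Q v).toFinset, f y = f v := by
      intro y hy
      rw [Set.mem_toFinset] at hy
      obtain ⟨q, rfl⟩ := hy
      exact hf q v
    rw [Finset.prod_congr rfl hconst, Finset.prod_const, Set.toFinset_card]
    obtain ⟨n, hn⟩ := hQ.card_orbit v
    rw [Nat.card_eq_fintype_card] at hn
    rw [hn]
    rcases Nat.eq_zero_or_pos n with h0 | hpos
    · exfalso
      apply hvnf
      rw [MulAction.mem_fixedPoints_iff_card_orbit_eq_one, hn, h0, pow_zero]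
    · obtain ⟨n', rfl⟩ : ∃ n', n = n' + 1 := ⟨n - 1, by omega⟩
      rw [pow_succ', pow_mul, hC, one_pow]
  rw [← hsplit, hfix, hnot, mul_one]

end Cfsg.Agent.Helper3.PPow
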