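import Mathlib
import Cfsg.Agent.Lib.Helper3.Cocycle
import Cfsg.Agent.Lib.Helper10.PPowORB

set_option autoImplicit false
set_option linter.style.haveILetI false
set_option linter.unusedSectionVars false

/-! Piece COC of helper3's S5113 plan. -/

namespace Cfsg.Agent.Helper10.PPowCOC

open Cfsg.Agent.Helper3.Cocycle

variable {U : Type*} [Group U] {X : Type*} [MulAction U X] {C : Type*} [CommGroup C]

theorem pow_smul_fixed (g : U) (z : X) (hg : g • z = z) (n : ℕ) : g ^ n • z = z := by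
  induction n with
  | zero => rw [pow_zero, one_smul]
  | succ n ih => rw [pow_succ, mul_smul, hg, ih]

/-- value of a cocycle at a power of an element fixing the point -/
theorem pow_fixed {δ : U → X → C} (hδ : IsCocycle δ) (g : U) (z : X) (hg : g • z = z) (n : ℕ) :
    δ (g ^ n) z = δ g z ^ n := by
  rw [hδ.pow]
  have h : ∀ i ∈ Finset.range n, δ g (g ^ i • z) = δ g z := by
    intro i _
    rw [pow_smul_fixed g z hg i]
  rw [Finset.prod_congr rfl h, Finset.prod_const, Finset.card_range]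

/-- Claim B: on a `⟨c⟩`-orbit stable under `Q` the cocycle is trivial at `(c ^ K, z)` whenever
`c ^ K` fixes `z`. -/
theorem delta_pow_eq_one [Finite U] {p : ℕ} [Fact p.Prime] (hC : ∀ x : C, x ^ p = 1)
    {δ : U → X → C} (hδ : IsCocycle δ) (c : U) (Q : Subgroup U) (hQ : IsPGroup p Q)
    (hcQ : ∀ q ∈ Q, q * c = c * q)
    (h1 : ∀ q ∈ Q, ∀ z : X, q • z = z → δ q z = 1)
    (h2 : ∀ z : X, (∀ q ∈ Q, q • z = z) → ∀ k : ℕ, c ^ k • z = z → δ (c ^ k) z = 1)
    (z : X) (hstab : ∀ q ∈ Q, ∃ i : ℕ, q • z = c ^ i • z) (K : ℕ) (hK : c ^ K • z = z) :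
    δ (c ^ K) z = 1 := by
  classical
  have hp : p.Prime := Fact.out
  by_cases hfix : ∀ q ∈ Q, q • z = z
  · exact h2 z hfix K hK
  · rw [not_forall] at hfix
    obtain ⟨a, hfix⟩ := hfix
    rw [Classical.not_imp] at hfix
    obtain ⟨haQ, haz⟩ := hfix
    obtain ⟨j, hj⟩ := hstab a haQ
    have hkz : c ^ (MulAction.period c z) • z = z := MulAction.pow_period_smul c z
    obtain ⟨k, hkdef⟩ : ∃ k, k = MulAction.period c z := ⟨_, rfl⟩
    rw [← hkdef] at hkz
    have hkdvd : ∀ n : ℕ, c ^ n • z = z ↔ k ∣ n := by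
      intro n; rw [hkdef]; exact MulAction.pow_smul_eq_iff_period_dvd
    have hcomm : Commute a c := hcQ a haQ
    have han : ∀ n : ℕ, a ^ n • z = c ^ (j * n) • z := by
      intro n
      induction n with
      | zero => rw [pow_zero, one_smul, Nat.mul_zero, pow_zero, one_smul]
      | succ n ih =>
        rw [pow_succ, mul_smul, hj, ← mul_smul, ((hcomm.pow_pow n j)).eq, mul_smul, ih, ← mul_smul,
          ← pow_add]
        congr 2
        ring
    -- the order of `a` is a power of `p`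
    obtain ⟨m, hm⟩ := hQ ⟨a, haQ⟩
    have hm' : a ^ (p ^ m) = 1 := by
      have := congrArg (Subtype.val) hm
      simpa using this
    have hex : ∃ t : ℕ, a ^ (p ^ t) • z = z := ⟨m, by rw [hm', one_smul]⟩
    obtain ⟨t, ht, htmin⟩ : ∃ t : ℕ, a ^ (p ^ t) • z = z ∧ ∀ s < t, ¬ a ^ (p ^ s) • z = z :=
      ⟨Nat.find hex, Nat.find_spec hex, fun s hs => Nat.find_min hex hs⟩
    have htpos : 0 < t := by
      rcases Nat.eq_zero_or_pos t with h0 | h0
      · exfalso
        rw [h0, pow_zero, pow_one] at ht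
        exact haz ht
      · exact h0
    obtain ⟨t', rfl⟩ : ∃ t', t = t' + 1 := ⟨t - 1, by omega⟩
    have hk1 : k ∣ j * p ^ (t' + 1) := by
      rw [← hkdvd, ← han]; exact ht
    have hk2 : ¬ k ∣ j * p ^ t' := by
      rw [← hkdvd, ← han]; exact htmin t' (Nat.lt_succ_self t')
    obtain ⟨u, hu⟩ := hk1
    have hpu : ¬ p ∣ u := by
      rintro ⟨u', rfl⟩
      apply hk2
      refine ⟨u', ?_⟩
      have h3 : p * (j * p ^ t') = p * (k * u') := by
        rw [pow_succ] at hu
        calc p * (j * p ^ t') = j * (p ^ t' * p) := by ring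
          _ = k * (p * u') := hu
          _ = p * (k * u') := by ring
      exact Nat.eq_of_mul_eq_mul_left hp.pos h3
    -- the element `g = a⁻¹ * c ^ j` fixes `z`
    obtain ⟨g, hg⟩ : ∃ g : U, g = a⁻¹ * c ^ j := ⟨_, rfl⟩
    have hgz : g • z = z := by
      rw [hg, mul_smul, ← hj, inv_smul_smul]
    have hag : Commute a g := by
      rw [hg]
      exact (Commute.inv_right (Commute.refl a)).mul_right (hcomm.pow_right j)
    have hcj : c ^ j = a * g := by rw [hg, mul_inv_cancel_left]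
    have hval : δ (c ^ (j * p ^ (t' + 1))) z = 1 := by
      rw [pow_mul, hcj, hag.mul_pow, hδ (a ^ (p ^ (t' + 1))) (g ^ (p ^ (t' + 1))) z,
        pow_smul_fixed g z hgz, pow_fixed hδ g z hgz,
        h1 _ (Q.pow_mem haQ _) z ht, mul_one, pow_succ', pow_mul, hC, one_pow]
    set d := δ (c ^ k) z with hd
    have hdu : d ^ u = 1 := by
      rw [hd, ← pow_fixed hδ (c ^ k) z hkz, ← pow_mul, ← hu]
      exact hval
    have hdp : d ^ p = 1 := hC d
    have hd1 : d = 1 := by
      have h4 : d ^ Nat.gcd u p = 1 := pow_gcd_eq_one.2 ⟨hdu, hdp⟩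
      have h5 : Nat.gcd u p = 1 := by
        have : Nat.Coprime p u := (Nat.Prime.coprime_iff_not_dvd hp).2 hpu
        exact this.symm
      rw [h5, pow_one] at h4
      exact h4
    obtain ⟨w, hw⟩ := (hkdvd K).1 hK
    rw [hw, pow_mul, pow_fixed hδ (c ^ k) z hkz, ← hd, hd1, one_pow]

end Cfsg.Agent.Helper10.PPowCOC

namespace Cfsg.Agent.Helper3.PPow

open Cfsg.Agent.Helper3.Cocycle Cfsg.Agent.Helper10.PPowCOC

/-- PIECE COC. The total product of a cocycle at an element `c` commuting with a `p`-subgroup `Q`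
is trivial when the values lie in a group of exponent `p`, the cocycle is trivial at the pairs
`(q, z)` with `q ∈ Q` fixing `z`, and trivial at `(c ^ k, z)` when `Q` fixes `z` and `c ^ k` fixes `z`. -/
theorem prod_eq_one_of_commute {U : Type*} [Group U] [Finite U] {X : Type*} [MulAction U X] [Fintype X]
    [DecidableEq X] {C : Type*} [CommGroup C] {p : ℕ} [Fact p.Prime] (hC : ∀ x : C, x ^ p = 1)
    {δ : U → X → C} (hδ : IsCocycle δ) (c : U) (Q : Subgroup U) (hQ : IsPGroup p Q)
    (hcQ : ∀ q ∈ Q, q * c = c * q)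
    (h1 : ∀ q ∈ Q, ∀ z : X, q • z = z → δ q z = 1)
    (h2 : ∀ z : X, (∀ q ∈ Q, q • z = z) → ∀ k : ℕ, c ^ k • z = z → δ (c ^ k) z = 1) :
    ∏ z : X, δ c z = 1 := by
  classical
  -- the orbit relation of `⟨c⟩`
  let R : Setoid X := MulAction.orbitRel (Subgroup.zpowers c) X
  have hR : ∀ a b : X, R a b ↔ ∃ i : ℤ, c ^ i • b = a := by
    intro a b
    constructor
    · intro h
      have h' : a ∈ MulAction.orbit (Subgroup.zpowers c) b := MulAction.orbitRel_apply.1 h
      obtain ⟨ζ, hζ⟩ := h'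
      obtain ⟨i, hi⟩ := Subgroup.mem_zpowers_iff.1 ζ.2
      refine ⟨i, ?_⟩
      rw [hi]
      exact hζ
    · rintro ⟨i, rfl⟩
      apply MulAction.orbitRel_apply.2
      exact ⟨⟨c ^ i, Subgroup.zpow_mem_zpowers c i⟩, rfl⟩
  haveI : Fintype (Quotient R) := Fintype.ofFinite _
  -- the action of `Q` on the set of `⟨c⟩`-orbits
  have hqc : ∀ q ∈ Q, ∀ i : ℤ, q * c ^ i = c ^ i * q := by
    intro q hq i
    have : Commute q c := hcQ q hq
    exact (this.zpow_right i).eq
  have hwd : ∀ q : Q, ∀ a b : X, R a b → R ((q : U) • a) ((q : U) • b) := by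
    intro q a b hab
    obtain ⟨i, rfl⟩ := (hR a b).1 hab
    refine (hR _ _).2 ⟨i, ?_⟩
    rw [← mul_smul, ← mul_smul, hqc q q.2 i]
  let sm : Q → Quotient R → Quotient R := fun q => Quotient.map' (fun z => (q : U) • z) (hwd q)
  have hsm : ∀ (q : Q) (z : X), sm q (⟦z⟧ : Quotient R) = ⟦(q : U) • z⟧ := fun q z => rfl
  letI : MulAction Q (Quotient R) :=
    { smul := sm
      one_smul := by
        intro ω
        refine Quotient.inductionOn ω (fun z => ?_)
        show sm 1 ⟦z⟧ = ⟦z⟧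
        rw [hsm, Subgroup.coe_one, one_smul]
      mul_smul := by
        intro q q' ω
        refine Quotient.inductionOn ω (fun z => ?_)
        show sm (q * q') ⟦z⟧ = sm q (sm q' ⟦z⟧)
        rw [hsm, hsm, hsm, Subgroup.coe_mul, mul_smul] }
  have hsmul : ∀ (q : Q) (z : X), q • (⟦z⟧ : Quotient R) = ⟦(q : U) • z⟧ := fun q z => rfl
  haveI : Fintype (MulAction.fixedPoints Q (Quotient R)) := Fintype.ofFinite _
  -- the product over a `⟨c⟩`-orbit
  let μ : Quotient R → C := fun ω =>
    ∏ z ∈ Finset.univ.filter (fun z => (⟦z⟧ : Quotient R) = ω), δ c z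
  have hT : ∏ z : X, δ c z = ∏ ω : Quotient R, μ ω :=
    (Finset.prod_fiberwise Finset.univ (fun z => (⟦z⟧ : Quotient R)) (fun z => δ c z)).symm
  -- the fibres are stable under `c`
  have hcfib : ∀ (ω : Quotient R) (z : X),
      z ∈ Finset.univ.filter (fun z => (⟦z⟧ : Quotient R) = ω) ↔
        c • z ∈ Finset.univ.filter (fun z => (⟦z⟧ : Quotient R) = ω) := by
    intro ω z
    simp only [Finset.mem_filter, Finset.mem_univ, true_and]
    have : (⟦c • z⟧ : Quotient R) = ⟦z⟧ := by
      apply Quotient.sound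
      exact (hR _ _).2 ⟨1, by rw [zpow_one]⟩
    rw [this]
  -- invariance
  have hμ : ∀ (q : Q) (ω : Quotient R), μ (q • ω) = μ ω := by
    intro q ω
    have hreidx : μ (q • ω) =
        ∏ z ∈ Finset.univ.filter (fun z => (⟦z⟧ : Quotient R) = ω), δ c ((q : U) • z) := by
      symm
      apply Finset.prod_equiv (MulAction.toPerm (q : U))
      · intro z
        simp only [Finset.mem_filter, Finset.mem_univ, true_and, MulAction.toPerm_apply]
        rw [← hsmul]
        constructor
        · intro h; rw [h]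
        · intro h; exact smul_left_cancel q h
      · intro z _
        rfl
    have hcoc : ∀ z : X, δ c ((q : U) • z) * δ (q : U) z = δ c z * δ (q : U) (c • z) := by
      intro z
      have e1 := hδ c (q : U) z
      have e2 := hδ (q : U) c z
      rw [hcQ q q.2] at e2
      rw [mul_comm, ← e1, e2]
    have hshift : ∏ z ∈ Finset.univ.filter (fun z => (⟦z⟧ : Quotient R) = ω), δ (q : U) (c • z) =
        ∏ z ∈ Finset.univ.filter (fun z => (⟦z⟧ : Quotient R) = ω), δ (q : U) z :=
      prod_smul_eq _ c (hcfib ω) (fun z => δ (q : U) z)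
    have hprod : (∏ z ∈ Finset.univ.filter (fun z => (⟦z⟧ : Quotient R) = ω), δ c ((q : U) • z)) *
        ∏ z ∈ Finset.univ.filter (fun z => (⟦z⟧ : Quotient R) = ω), δ (q : U) z =
        (∏ z ∈ Finset.univ.filter (fun z => (⟦z⟧ : Quotient R) = ω), δ c z) *
        ∏ z ∈ Finset.univ.filter (fun z => (⟦z⟧ : Quotient R) = ω), δ (q : U) z := by
      rw [← Finset.prod_mul_distrib, Finset.prod_congr rfl (fun z _ => hcoc z),
        Finset.prod_mul_distrib, hshift]
    rw [hreidx]
    exact mul_right_cancel hprod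
  rw [hT, prod_eq_prod_fixedPoints hQ hC μ hμ]
  apply Finset.prod_eq_one
  intro ω _
  -- a `Q`-stable orbit
  have hωfix : ∀ q : Q, q • (ω : Quotient R) = ω := MulAction.mem_fixedPoints.1 ω.2
  show ∏ z ∈ Finset.univ.filter (fun z => (⟦z⟧ : Quotient R) = (ω : Quotient R)), δ c z = 1
  have hcyc := prod_eq_pow_of_cycle hδ c 1 _
    (Finset.univ.filter (fun z => (⟦z⟧ : Quotient R) = (ω : Quotient R))) rfl
    (fun z hz => (hcfib _ z).1 hz) ?_
  · rw [hcyc, one_pow]
  · intro z hz K hK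
    rw [one_pow]
    simp only [Finset.mem_filter, Finset.mem_univ, true_and] at hz
    apply delta_pow_eq_one hC hδ c Q hQ hcQ h1 h2 z _ K hK
    intro q hq
    have h3 : (⟨q, hq⟩ : Q) • (⟦z⟧ : Quotient R) = ⟦z⟧ := by rw [hz]; exact hωfix _
    rw [hsmul] at h3
    have h4 : R (q • z) z := Quotient.exact h3
    obtain ⟨i, hi⟩ := (hR _ _).1 h4
    -- natural exponent
    have hfin : IsOfFinOrder c := isOfFinOrder_of_finite c
    have hmem : c ^ i ∈ Submonoid.powers c :=
      hfin.mem_powers_iff_mem_zpowers.2 (Subgroup.zpow_mem_zpowers c i)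
    obtain ⟨n, hn⟩ := hmem
    refine ⟨n, ?_⟩
    have hn' : c ^ n = c ^ i := hn
    rw [hn']
    exact hi.symm

end Cfsg.Agent.Helper3.PPow
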