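import Mathlib
import Cfsg.Prelude.Def_FusionSystem
import Cfsg.Agent.Lib.Helper25.FusionPrimeIndex2
import Cfsg.Agent.Lib.Helper26.FusionRestrict
import Cfsg.Agent.Lib.Helper16.ResLim2

/-! Piece FOC of helper3's S5113 plan: a subgroup containing `[S,S]` and the hyperfocal subgroup
contains the focal elements `x⁻¹ φ(x)`. -/

set_option autoImplicit false

namespace Cfsg.Agent.Helper3.PPow

open Cfsg Cfsg.FusionSystem Cfsg.Agent.Helper25 Cfsg.Agent.Helper26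

theorem focal_le_of_hyp_le {Ω : Type*} [Group Ω] {S : Subgroup Ω} [Finite S] (p : ℕ) [Fact p.Prime]
    (hS : IsPGroup p S) (F : FusionSystem S) (hF : F.IsSaturated p) {M : Subgroup Ω}
    (hcomm : ∀ a b : Ω, a ∈ S → b ∈ S → a * b * a⁻¹ * b⁻¹ ∈ M)
    (hyp : F.hyperfocalSubgroup p ≤ M) :
    ∀ (P : Subgroup Ω) (φ : P →* Ω), φ ∈ F.Hom P → ∀ x : P, (x : Ω)⁻¹ * φ x ∈ M := by
  intro P φ hφ
  refine alperin_induction p hS F hF (fun P φ => ∀ x : P, (x : Ω)⁻¹ * φ x ∈ M) ?_ ?_ ?_ ?_ hφ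
  · intro P g hPS hg x
    rw [conjHom_apply]
    have h := hcomm (x : Ω)⁻¹ g (S.inv_mem (hPS x.2)) hg
    rw [inv_inv] at h
    have e : (x : Ω)⁻¹ * (g * (x : Ω) * g⁻¹) = (x : Ω)⁻¹ * g * (x : Ω) * g⁻¹ := by group
    rw [e]
    exact h
  · intro P Q φ ψ _ _ hφ hψ h x
    have h1 := hφ x
    have h2 := hψ ⟨φ x, h x⟩
    have e : (x : Ω)⁻¹ * (ψ.comp (φ.codRestrict Q h)) x =
        ((x : Ω)⁻¹ * φ x) * ((φ x)⁻¹ * ψ ⟨φ x, h x⟩) := by
      show (x : Ω)⁻¹ * ψ ⟨φ x, h x⟩ = _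
      group
    rw [e]
    exact M.mul_mem h1 h2
  · rintro P φ _ hφ ψ _ hinv ⟨_, x, rfl⟩
    show (φ x)⁻¹ * ψ ⟨φ x, ⟨x, rfl⟩⟩ ∈ M
    rw [hinv x]
    have h1 := M.inv_mem (hφ x)
    have e : ((x : Ω)⁻¹ * φ x)⁻¹ = (φ x)⁻¹ * (x : Ω) := by group
    rw [e] at h1
    exact h1
  · intro P hP α hα x
    have hPS : P ≤ S := by
      rcases hP with rfl | hP
      · exact le_rfl
      · exact hP.1.1
    have hFA := isFullyAutomized_of_eq_or_essential p hS F hF hP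
    obtain ⟨σ, hσ, ν, hν, rfl⟩ := exists_mul_autInducedBy_pResidual p F hFA hα
    obtain ⟨s, hs, hσs⟩ := (mem_autInducedBy_iff σ).mp hσ
    show (x : Ω)⁻¹ * (((σ * (ν : MulAut P)) x : P) : Ω) ∈ M
    rw [MulAut.mul_apply, hσs]
    have h1 : (x : Ω)⁻¹ * (((ν : MulAut P) x : P) : Ω) ∈ M :=
      hyp (hyperfocal_gen_mem F p hPS ν hν x)
    have hy : (((ν : MulAut P) x : P) : Ω) ∈ S := hPS ((ν : MulAut P) x).2
    have h2 := hcomm ((((ν : MulAut P) x : P) : Ω))⁻¹ s (S.inv_mem hy) hs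
    rw [inv_inv] at h2
    have e : (x : Ω)⁻¹ * (s * (((ν : MulAut P) x : P) : Ω) * s⁻¹) =
        ((x : Ω)⁻¹ * (((ν : MulAut P) x : P) : Ω)) *
          (((((ν : MulAut P) x : P) : Ω))⁻¹ * s * (((ν : MulAut P) x : P) : Ω) * s⁻¹) := by group
    rw [e]
    exact M.mul_mem h1 h2

end Cfsg.Agent.Helper3.PPow
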