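import Mathlib
import Cfsg.Prelude.Def_Local
import Cfsg.Agent.Lib.Helper10.Cores
import Cfsg.Agent.Lib.Helper23.PSolvable
import Cfsg.Agent.Lib.Helper7.Coprime
import Cfsg.Agent.Lib.Helper7.PComp2

set_option autoImplicit false

namespace Cfsg.Agent.Helper10

open Cfsg

universe u

/-- A normal subgroup containing all `p`-elements has index prime to `p`. -/
theorem not_dvd_index_of_pElements_mem {H : Type*} [Group H] [Finite H] (p : ℕ) [hp : Fact p.Prime]
    (N : Subgroup H) [N.Normal] (hpel : ∀ x : H, (∃ k : ℕ, orderOf x = p ^ k) → x ∈ N) :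
    ¬ p ∣ N.index := by
  intro hdvd
  rw [Subgroup.index_eq_card] at hdvd
  obtain ⟨ybar, hy⟩ := exists_prime_orderOf_dvd_card' p hdvd
  obtain ⟨y, rfl⟩ := QuotientGroup.mk'_surjective N ybar
  obtain ⟨m, hm, a, ha⟩ := Cfsg.Agent.Helper7.exists_pow_pElement p y
  have h1 : y ^ m ∈ N := hpel _ ⟨a, ha⟩
  have h2 : (QuotientGroup.mk' N y) ^ m = 1 := by
    rw [← map_pow, QuotientGroup.mk'_apply, QuotientGroup.eq_one_iff]
    exact h1
  have h3 : p ∣ m := hy ▸ orderOf_dvd_of_pow_eq_one h2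
  have h4 : p ∣ 1 := by
    have := Nat.dvd_gcd h3 (dvd_refl p)
    rwa [Nat.Coprime.gcd_eq_one hm] at this
  exact hp.out.one_lt.ne' (Nat.dvd_one.mp h4)

/-- In a `p`-solvable group, if the `p'`-subgroup `Q` normalizes a Sylow `p`-subgroup, every
`p`-element normalizing `Q` centralizes `Q`. -/
theorem pElement_normalizer_centralizes (p : ℕ) [hp : Fact p.Prime] :
    ∀ (n : ℕ) (G : Type u) [Group G] [Finite G], Nat.card G = n →
    IsPSolvable p G → ∀ (P : Sylow p G) (Q : Subgroup G), (Nat.card ↥Q).Coprime p →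
    Q ≤ Subgroup.normalizer ((P : Subgroup G) : Set G) →
    ∀ x : G, (∃ k : ℕ, orderOf x = p ^ k) → x ∈ Subgroup.normalizer (Q : Set G) →
      x ∈ Subgroup.centralizer (Q : Set G) := by
  intro n
  induction n using Nat.strong_induction_on with
  | _ n ih =>
  intro G _ _ hn hsolv P Q hQ hQP x hx hxQ
  classical
  obtain ⟨k, hk⟩ := hx
  -- quotient step
  have quot : ∀ (M : Subgroup G) [M.Normal], M ≠ ⊥ → ∀ q ∈ Q, q⁻¹ * (x * q * x⁻¹) ∈ M := by
    intro M _ hM q hq
    set φ := QuotientGroup.mk' M with hφ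
    have hsurj : Function.Surjective φ := QuotientGroup.mk'_surjective M
    have hcard : Nat.card (G ⧸ M) < n := by
      rw [← hn, Subgroup.card_eq_card_quotient_mul_card_subgroup M]
      have h1 : 1 < Nat.card ↥M := by
        rw [Subgroup.one_lt_card_iff_ne_bot]; exact hM
      have h2 : 0 < Nat.card (G ⧸ M) := Nat.card_pos
      nlinarith
    have hQ' : (Nat.card ↥(Q.map φ)).Coprime p :=
      Nat.Coprime.coprime_dvd_left (Subgroup.card_map_dvd Q φ) hQ
    have hQP' : Q.map φ ≤ Subgroup.normalizer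
        (((P.mapSurjective hsurj : Sylow p (G ⧸ M)) : Subgroup (G ⧸ M)) : Set (G ⧸ M)) := by
      rw [Sylow.coe_mapSurjective]
      exact (Subgroup.map_mono hQP).trans (Subgroup.le_normalizer_map φ)
    have hx' : ∃ j : ℕ, orderOf (φ x) = p ^ j := by
      have h1 : orderOf (φ x) ∣ p ^ k := hk ▸ orderOf_map_dvd φ x
      obtain ⟨j, -, hj⟩ := (Nat.dvd_prime_pow hp.out).mp h1
      exact ⟨j, hj⟩
    have hxQ' : φ x ∈ Subgroup.normalizer ((Q.map φ : Subgroup (G ⧸ M)) : Set (G ⧸ M)) :=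
      Subgroup.le_normalizer_map φ (Subgroup.mem_map_of_mem φ hxQ)
    have hc := ih _ hcard (G ⧸ M) rfl
      (Cfsg.Agent.Helper23.PSolv.isPSolvable_quotient M hsolv)
      (P.mapSurjective hsurj) (Q.map φ) hQ' hQP' (φ x) hx' hxQ'
    have h3 := Subgroup.mem_centralizer_iff.mp hc (φ q) (Subgroup.mem_map_of_mem φ hq)
    rw [← QuotientGroup.eq_one_iff, ← QuotientGroup.mk'_apply, ← hφ]
    simp only [map_mul, map_inv]
    rw [← h3]; group
  -- conjugates stay in Q
  have hzQ : ∀ q ∈ Q, q⁻¹ * (x * q * x⁻¹) ∈ Q := fun q hq =>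
    Q.mul_mem (Q.inv_mem hq) ((Subgroup.mem_normalizer_iff.mp hxQ q).mp hq)
  have hzord : ∀ q ∈ Q, (orderOf x).Coprime (orderOf (q⁻¹ * (x * q * x⁻¹))) := by
    intro q hq
    rw [hk]
    apply Nat.Coprime.pow_left
    exact (Nat.Coprime.coprime_dvd_left (Subgroup.orderOf_dvd_natCard Q (hzQ q hq)) hQ).symm
  rw [Subgroup.mem_centralizer_iff]
  intro q hq
  suffices hs : x * q * x⁻¹ = q by
    calc q * x = (x * q * x⁻¹)  * x := by rw [hs]
      _ = x * q := by group
  by_cases hN : pPrimeCore p G = ⊥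
  · by_cases hM : pCore p G = ⊥
    · have h1 := Cfsg.Agent.Helper23.PSolv.centralizer_pCore_le hsolv hN
      rw [hM] at h1
      have hx1 : x ∈ (⊥ : Subgroup G) := h1 (by
        rw [Subgroup.mem_centralizer_iff]
        intro h hh
        rw [Subgroup.coe_bot, Set.mem_singleton_iff] at hh
        rw [hh, one_mul, mul_one])
      have hq1 : q ∈ (⊥ : Subgroup G) := h1 (by
        rw [Subgroup.mem_centralizer_iff]
        intro h hh
        rw [Subgroup.coe_bot, Set.mem_singleton_iff] at hh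
        rw [hh, one_mul, mul_one])
      rw [Subgroup.mem_bot] at hx1 hq1
      rw [hx1, hq1]; group
    · haveI : (pCore p G).Normal := Cfsg.Agent.Helper10.pCore_normal p
      have h1 := quot (pCore p G) hM q hq
      have h2 : q⁻¹ * (x * q * x⁻¹) ∈ pCore p G ⊓ Q := ⟨h1, hzQ q hq⟩
      have h3 : pCore p G ⊓ Q = ⊥ := by
        apply Subgroup.inf_eq_bot_of_coprime
        obtain ⟨m, hm⟩ := IsPGroup.iff_card.mp (Cfsg.Agent.Helper10.pCore_isPGroup (G := G) p)
        rw [hm]
        exact (Nat.Coprime.pow_right m hQ).symm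
      rw [h3, Subgroup.mem_bot] at h2
      calc x * q * x⁻¹ = q * (q⁻¹ * (x * q * x⁻¹)) := by group
        _ = q := by rw [h2, mul_one]
  · set N := pPrimeCore p G with hNdef
    haveI hNn : N.Normal := Cfsg.Agent.Helper10.pPrimeCore_normal p
    have hNc : (Nat.card ↥N).Coprime p := Cfsg.Agent.Helper10.card_pPrimeCore_coprime p
    set Q0 := Q ⊓ N with hQ0
    have hPN : (P : Subgroup G) ⊓ N = ⊥ := by
      apply Subgroup.inf_eq_bot_of_coprime
      obtain ⟨m, hm⟩ := IsPGroup.iff_card.mp P.2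
      rw [hm]
      exact (Nat.Coprime.pow_right m hNc).symm
    -- P centralizes Q0
    have hPQ0 : (P : Subgroup G) ≤ Subgroup.centralizer (Q0 : Set G) := by
      intro y hy
      rw [Subgroup.mem_centralizer_iff]
      intro c hc
      have hcQ : c ∈ Q := hc.1
      have hcN : c ∈ N := hc.2
      have h1 : c * y⁻¹ * c⁻¹ ∈ (P : Subgroup G) :=
        (Subgroup.mem_normalizer_iff.mp (hQP hcQ) y⁻¹).mp (Subgroup.inv_mem _ hy)
      have h2 : y * (c * y⁻¹ * c⁻¹) ∈ (P : Subgroup G) ⊓ N := by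
        refine ⟨Subgroup.mul_mem _ hy h1, ?_⟩
        have e : y * (c * y⁻¹ * c⁻¹) = (y * c * y⁻¹) * c⁻¹ := by group
        rw [e]
        exact N.mul_mem (hNn.conj_mem c hcN y) (N.inv_mem hcN)
      rw [hPN, Subgroup.mem_bot] at h2
      calc c * y = (y * (c * y⁻¹ * c⁻¹))⁻¹ * (y * c) := by group
        _ = y * c := by rw [h2, inv_one, one_mul]
    -- x centralizes Q0
    set C0 := Subgroup.centralizer (Q0 : Set G) with hC0
    set N0 := Subgroup.normalizer (Q0 : Set G) with hN0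
    have hC0N0 : C0 ≤ N0 := Subgroup.centralizer_le_normalizer _
    have hxN0 : x ∈ N0 := by
      rw [hN0, Subgroup.mem_normalizer_iff]
      intro c
      have hxN : x ∈ Subgroup.normalizer (N : Set G) := by
        rw [Subgroup.normalizer_eq_top]; exact Subgroup.mem_top _
      constructor
      · rintro ⟨h1, h2⟩
        exact ⟨(Subgroup.mem_normalizer_iff.mp hxQ c).mp h1,
          (Subgroup.mem_normalizer_iff.mp hxN c).mp h2⟩
      · rintro ⟨h1, h2⟩
        exact ⟨(Subgroup.mem_normalizer_iff.mp hxQ c).mpr h1,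
          (Subgroup.mem_normalizer_iff.mp hxN c).mpr h2⟩
    haveI hCn : (C0.subgroupOf N0).Normal :=
      Subgroup.normal_subgroupOf_centralizer_normalizer (Q0 : Set G)
    have hidx : ((C0.subgroupOf N0).index).Coprime p := by
      rw [Nat.coprime_comm, Nat.Prime.coprime_iff_not_dvd hp.out]
      intro hd
      have h1 : C0.relIndex N0 ∣ (P : Subgroup G).relIndex N0 :=
        Subgroup.relIndex_dvd_of_le_left N0 hPQ0
      have h2 : (P : Subgroup G).relIndex N0 ∣ (P : Subgroup G).index :=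
        Dvd.intro _ (Subgroup.relIndex_mul_index (hPQ0.trans hC0N0))
      exact P.not_dvd_index (hd.trans (h1.trans h2))
    have hxC0 : x ∈ C0 := by
      have h1 := Cfsg.Agent.Helper7.mem_of_pElement_of_index_coprime p (C0.subgroupOf N0) hidx
        (⟨x, hxN0⟩ : ↥N0) ⟨k, by rw [← hk, ← Subgroup.orderOf_coe]⟩
      exact Subgroup.mem_subgroupOf.mp h1
    have hzQ0 : q⁻¹ * (x * q * x⁻¹) ∈ Q0 := ⟨hzQ q hq, quot N hN q hq⟩
    have hza : x * (q⁻¹ * (x * q * x⁻¹)) * x⁻¹ = q⁻¹ * (x * q * x⁻¹) := by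
      have := Subgroup.mem_centralizer_iff.mp hxC0 _ hzQ0
      rw [← this]; group
    exact Cfsg.Agent.Helper7.conj_eq_self_of_coprime x q (isOfFinOrder_of_finite x) hza
      (hzord q hq)

end Cfsg.Agent.Helper10
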