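import Mathlib
import Cfsg.Agent.Lib.Helper10.PUDefs

set_option autoImplicit false

namespace Cfsg.Agent.Helper10.PU

theorem pu_numg1_zero (p f d : ℕ) (hp : p.Prime) (hf : 1 ≤ f) (hd : 3 ≤ d)
    (hB : (p ^ f) ^ (d - 1) - 1 ≤ Bnd p f d) :
    Efun (p ^ f) (d - 1) ≤ Bnd p f d := by
  have hq2 : 2 ≤ p ^ f :=
    calc 2 ≤ p := hp.two_le
      _ = p ^ 1 := (pow_one p).symm
      _ ≤ p ^ f := Nat.pow_le_pow_right hp.pos hf
  by_cases hodd : Odd d
  · have hev : Even (d - 1) := by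
      obtain ⟨k, hk⟩ := hodd
      exact ⟨k, by omega⟩
    unfold Efun
    rw [if_pos hev]
    exact hB
  · have hnev : ¬ Even (d - 1) := by
      intro ⟨k, hk⟩
      exact hodd ⟨k, by omega⟩
    unfold Efun Bnd
    rw [if_neg hnev, if_neg hodd]
    by_cases hq : 2 < p ^ f
    · rw [if_pos hq]
    · rw [if_neg hq]
      have hq' : p ^ f = 2 := by omega
      rw [hq']
      obtain ⟨m, rfl⟩ : ∃ m, d = m + 3 := ⟨d - 3, by omega⟩
      have h1 : m + 3 - 1 = m + 2 := by omega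
      have h2 : m + 3 - 3 = m := by omega
      rw [h1, h2, pow_add]
      omega

theorem pu_numg1_one (p f d : ℕ) (hp : p.Prime) (hf : 1 ≤ f) (hd : 3 ≤ d)
    (hB : (p ^ f) ^ (d - 1) - 1 ≤ Bnd p f d) :
    p * Efun (p ^ f) (d - 2) ≤ Bnd p f d := by
  have hp2 := hp.two_le
  have hq2 : 2 ≤ p ^ f :=
    calc 2 ≤ p := hp.two_le
      _ = p ^ 1 := (pow_one p).symm
      _ ≤ p ^ f := Nat.pow_le_pow_right hp.pos hf
  have hpq : p ≤ p ^ f :=
    calc p = p ^ 1 := (pow_one p).symm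
      _ ≤ p ^ f := Nat.pow_le_pow_right hp.pos hf
  obtain ⟨m, rfl⟩ : ∃ m, d = m + 3 := ⟨d - 3, by omega⟩
  have h1 : m + 3 - 1 = (m + 1) + 1 := by omega
  have h2 : m + 3 - 2 = m + 1 := by omega
  rw [h2]
  rw [h1, pow_succ] at hB
  have hQ1 : 2 ≤ (p ^ f) ^ (m + 1) :=
    calc 2 ≤ p ^ f := hq2
      _ = (p ^ f) ^ 1 := (pow_one _).symm
      _ ≤ (p ^ f) ^ (m + 1) := Nat.pow_le_pow_right (by omega) (by omega)
  by_cases hodd : Odd (m + 3)
  · have hnev : ¬ Even (m + 1) := by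
      intro ⟨k, hk⟩
      obtain ⟨j, hj⟩ := hodd
      omega
    unfold Efun
    rw [if_neg hnev]
    by_cases hf2 : 2 ≤ f
    · refine le_trans ?_ hB
      have hpp : p * p ≤ p ^ f := by
        calc p * p = p ^ 2 := (sq p).symm
          _ ≤ p ^ f := Nat.pow_le_pow_right hp.pos hf2
      set Q := (p ^ f) ^ (m + 1) with hQ
      have h3 : p * p * Q ≤ Q * p ^ f := by
        rw [mul_comm Q]; exact Nat.mul_le_mul_right _ hpp
      have a1 : p * (2 * Q) ≤ p * (p * Q) :=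
        Nat.mul_le_mul_left _ (Nat.mul_le_mul_right _ hp2)
      have a2 : p * 2 ≤ p * Q := Nat.mul_le_mul_left _ hQ1
      have h4 : p * (Q + 1) + 1 ≤ p * p * Q := by nlinarith
      omega
    · have hf1 : f = 1 := by omega
      unfold Bnd
      rw [if_pos hodd, if_neg hf2, hf1, pow_one, h2, mul_comm]
  · have hev : Even (m + 1) := by
      rw [Nat.not_odd_iff_even] at hodd
      obtain ⟨k, hk⟩ := hodd
      exact ⟨k - 1, by omega⟩
    unfold Efun
    rw [if_pos hev]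
    refine le_trans ?_ hB
    set Q := (p ^ f) ^ (m + 1) with hQ
    have h3 : p * Q ≤ Q * p ^ f := by
      rw [mul_comm Q]; exact Nat.mul_le_mul_right _ hpq
    have h4 : p * (Q - 1) = p * Q - p := Nat.mul_sub_one p Q
    have h5 : p ≤ p * Q := Nat.le_mul_of_pos_right _ (by omega)
    omega

theorem pu_numg1_two (f d : ℕ) (hf : 1 ≤ f) (hd : 4 ≤ d)
    (hB : (2 ^ f) ^ (d - 1) - 1 ≤ Bnd 2 f d) :
    4 * Efun (2 ^ f) (d - 3) ≤ Bnd 2 f d := by
  have hq2 : 2 ≤ 2 ^ f :=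
    calc 2 = 2 ^ 1 := (pow_one 2).symm
      _ ≤ 2 ^ f := Nat.pow_le_pow_right (by norm_num) hf
  obtain ⟨m, rfl⟩ : ∃ m, d = m + 4 := ⟨d - 4, by omega⟩
  have h1 : m + 4 - 1 = (m + 1) + 1 + 1 := by omega
  have h2 : m + 4 - 3 = m + 1 := by omega
  rw [h2]
  rw [h1, pow_succ, pow_succ] at hB
  set q := 2 ^ f with hq
  set Q := q ^ (m + 1) with hQ
  have hQ1 : q ≤ Q :=
    calc q = q ^ 1 := (pow_one _).symm
      _ ≤ q ^ (m + 1) := Nat.pow_le_pow_right (by omega) (by omega)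
  by_cases hodd : Odd (m + 4)
  · have hev : Even (m + 1) := by
      obtain ⟨k, hk⟩ := hodd
      exact ⟨k - 1, by omega⟩
    unfold Efun
    rw [if_pos hev]
    refine le_trans ?_ hB
    have h3 : Q * 2 * 2 ≤ Q * q * q := Nat.mul_le_mul (Nat.mul_le_mul_left _ hq2) hq2
    omega
  · have hnev : ¬ Even (m + 1) := by
      intro ⟨k, hk⟩
      exact hodd ⟨k + 1, by omega⟩
    unfold Efun
    rw [if_neg hnev]
    unfold Bnd
    rw [if_neg hodd]
    by_cases hq' : 2 < 2 ^ f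
    · rw [if_pos hq', h1, pow_succ, pow_succ]
      have hq4 : 4 ≤ q := by
        have hf2 : 2 ≤ f := by
          by_contra h
          have : f = 1 := by omega
          rw [this] at hq'
          omega
        calc 4 = 2 ^ 2 := by norm_num
          _ ≤ 2 ^ f := Nat.pow_le_pow_right (by norm_num) hf2
      change 4 * (Q + 1) ≤ Q * q * q + 1
      have h3 : Q * 4 * 4 ≤ Q * q * q := Nat.mul_le_mul (Nat.mul_le_mul_left _ hq4) hq4
      omega
    · rw [if_neg hq', h2]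
      have : q = 2 := by omega
      rw [this]

/-- PIECE PU-NUMG1 (helper10's own version). -/
theorem num_multi_small (p f d t c : ℕ) (hp : p.Prime) (hf : 1 ≤ f) (hd : 3 ≤ d)
    (h32 : ¬ (d = 3 ∧ p ^ f = 2))
    (hB : (p ^ f) ^ (d - 1) - 1 ≤ Bnd p f d)
    (hc : c = if t = 0 then 0 else p ^ (t - 1)) (hc2 : c ≤ 2) (hcd : c + 2 ≤ d) :
    p ^ t * Efun (p ^ f) (d - 1 - c) ≤ Bnd p f d := by
  by_cases ht0 : t = 0
  · rw [if_pos ht0] at hc
    rw [ht0, hc, pow_zero, one_mul, Nat.sub_zero]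
    exact pu_numg1_zero p f d hp hf hd hB
  · rw [if_neg ht0] at hc
    by_cases ht1 : t = 1
    · rw [ht1] at hc ⊢
      rw [Nat.sub_self, pow_zero] at hc
      rw [hc, pow_one]
      have : d - 1 - 1 = d - 2 := by omega
      rw [this]
      exact pu_numg1_one p f d hp hf hd hB
    · -- `t ≥ 2`, `p^(t-1) ≤ 2`
      have ht2 : 2 ≤ t := by omega
      have h1 : p ^ 1 ≤ p ^ (t - 1) := Nat.pow_le_pow_right hp.pos (by omega)
      rw [pow_one] at h1
      have hp2 : p = 2 := by have := hp.two_le; omega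
      subst hp2
      have ht : t = 2 := by
        by_contra h
        have h3 : 2 ^ 2 ≤ 2 ^ (t - 1) := Nat.pow_le_pow_right (by norm_num) (by omega)
        omega
      subst ht
      norm_num at hc
      subst hc
      have : d - 1 - 2 = d - 3 := by omega
      rw [this]
      exact pu_numg1_two f d hf (by omega) hB

end Cfsg.Agent.Helper10.PU
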