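import Mathlib
import Cfsg.Agent.Lib.Helper10.PUDefs

set_option autoImplicit false

namespace Cfsg.Agent.Helper10.PU

theorem pu_nummono_step (q a : ℕ) (hq : 2 ≤ q) (ha : 1 ≤ a) : Efun q a ≤ Efun q (a + 1) := by
  have h1 : q ^ (a + 1) = q ^ a * q := pow_succ q a
  have h2 : 2 ≤ q ^ a := by
    calc 2 ≤ q := hq
      _ = q ^ 1 := (pow_one q).symm
      _ ≤ q ^ a := Nat.pow_le_pow_right (by omega) ha
  have h3 : q ^ a * 2 ≤ q ^ a * q := Nat.mul_le_mul_left _ hq
  unfold Efun
  by_cases hev : Even a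
  · have hodd : ¬ Even (a + 1) := by
      rw [Nat.even_add_one]; exact not_not.mpr hev
    rw [if_pos hev, if_neg hodd]
    omega
  · have hev' : Even (a + 1) := by
      rw [Nat.even_add_one]; exact hev
    rw [if_neg hev, if_pos hev']
    omega

theorem Efun_mono (q a b : ℕ) (hq : 2 ≤ q) (ha : 1 ≤ a) (hab : a ≤ b) :
    Efun q a ≤ Efun q b ∧ 0 < Efun q a := by
  constructor
  · induction b, hab using Nat.le_induction with
    | base => exact le_rfl
    | succ b hb ih => exact ih.trans (pu_nummono_step q b hq (ha.trans hb))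
  · have h2 : 2 ≤ q ^ a := by
      calc 2 ≤ q := hq
        _ = q ^ 1 := (pow_one q).symm
        _ ≤ q ^ a := Nat.pow_le_pow_right (by omega) ha
    unfold Efun
    split_ifs <;> omega

end Cfsg.Agent.Helper10.PU
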