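import Mathlib
import Cfsg.Agent.Lib.Helper10.PUDefs

set_option autoImplicit false

namespace Cfsg.Agent.Helper10.PU

theorem orbit_le_sum {ι : Type*} [DecidableEq ι] (I : Finset ι) (τ : ι → ι) (e b : ι → ℕ)
    (hτ : ∀ i ∈ I, τ i ∈ I ∧ τ (τ i) = i ∧ e (τ i) = e i ∧ b (τ i) = b i)
    (i : ι) (hi : i ∈ I) :
    b i * (if τ i = i then e i else 2 * e i) ≤ ∑ j ∈ I, b j * e j := by
  by_cases hfix : τ i = i
  · rw [if_pos hfix]
    exact Finset.single_le_sum (f := fun j => b j * e j) (fun j _ => Nat.zero_le _) hi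
  · rw [if_neg hfix]
    obtain ⟨h1, _, h3, h4⟩ := hτ i hi
    have hsub : ({i, τ i} : Finset ι) ⊆ I := by
      intro j hj
      rw [Finset.mem_insert, Finset.mem_singleton] at hj
      rcases hj with rfl | rfl
      · exact hi
      · exact h1
    have h5 := Finset.sum_le_sum_of_subset (f := fun j => b j * e j) hsub
    rw [Finset.sum_pair (fun h => hfix h.symm)] at h5
    simp only [h3, h4] at h5
    calc b i * (2 * e i) = b i * e i + b i * e i := by ring
      _ ≤ _ := h5

end Cfsg.Agent.Helper10.PU
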