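import Mathlib
import Cfsg.Prelude.Def_Classical
import Cfsg.Prelude.Def_LieClassical
import Cfsg.Agent.Lib.Helper10.PUDefs
import Cfsg.Agent.Lib.Helper10.EOAssembly
import Cfsg.Agent.Lib.Helper11.Unitary2
import Cfsg.Agent.Lib.Helper1.PUNUMB
import Cfsg.Agent.Lib.Helper10.PUNUMG1
import Cfsg.Agent.Lib.Helper10.PUNUMMONO
import Cfsg.Agent.Lib.Helper10.PUORBS
import Cfsg.Agent.Lib.Helper11.PUDAGX
import Cfsg.Agent.Lib.Helper12.PUPRODDVD
import Cfsg.Agent.Lib.Helper19.PUNUMG2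
import Cfsg.Agent.Lib.Helper2.PUNUMW
import Cfsg.Agent.Lib.Helper20.PUROOT1
import Cfsg.Agent.Lib.Helper22.PUDAG1
import Cfsg.Agent.Lib.Helper24.PUDAG2
import Cfsg.Agent.Lib.Helper24.PUNUMS0
import Cfsg.Agent.Lib.Helper25.PUNUMLCM
import Cfsg.Agent.Lib.Helper27.PUNUMDVD
import Cfsg.Agent.Lib.Helper28.PUORBM
import Cfsg.Agent.Lib.Helper3.PUNUMS1
import Cfsg.Agent.Lib.Helper3.PUNUMS2
import Cfsg.Agent.Lib.Helper6.PUDVDB
import Cfsg.Agent.Lib.Helper9.PUDAGCOUNT
import Cfsg.Agent.Lib.Helper9.PUMINT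
import Cfsg.Agent.Lib.Helper9.PUWRAP

/-!
# S2263 PART U assembly (helper10): the upper bound for element orders of `PGU_d(q)`.
See `plans/S2263_plan.md`.
-/

set_option autoImplicit false

/-! ## assembly -/

namespace Cfsg.Agent.Helper10.PU

open Polynomial Matrix
open Cfsg.Agent.Helper10.EO (star)

theorem two_le_ppow (p f : ℕ) (hp : p.Prime) (hf : 1 ≤ f) : 2 ≤ p ^ f :=
  calc 2 ≤ p := hp.two_le
    _ = p ^ 1 := (pow_one p).symm
    _ ≤ p ^ f := Nat.pow_le_pow_right hp.pos hf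

theorem wfun_mul_le' (q a b : ℕ) (hq : 2 ≤ q) (ha : 1 ≤ a) (hb : 1 ≤ b) :
    wfun q a * wfun q b ≤ wfun q (a + b - 1) :=
  wfun_mul_le q a b hq ha hb (fun n hn => succ_dvd_Efun q n hn)

theorem lcm_Efun_le' (q : ℕ) (hq : 2 ≤ q) (N : Finset ℕ) (hN : N.Nonempty)
    (hpos : ∀ n ∈ N, 1 ≤ n) :
    N.lcm (Efun q) ≤ Efun q ((∑ n ∈ N, n) + 1 - N.card) :=
  lcm_Efun_le q hq (fun n hn => succ_dvd_Efun q n hn)
    (fun a b ha hb => wfun_mul_le' q a b hq ha hb) N hN hpos

theorem num_multi (p f d t c : ℕ) (hp : p.Prime) (hf : 1 ≤ f) (hd : 3 ≤ d)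
    (h32 : ¬ (d = 3 ∧ p ^ f = 2)) (hc : c = if t = 0 then 0 else p ^ (t - 1)) (hcd : c + 2 ≤ d) :
    p ^ t * Efun (p ^ f) (d - 1 - c) ≤ Bnd p f d := by
  have hB := Bnd_ge p f d hp hf hd
  by_cases hc2 : c ≤ 2
  · exact num_multi_small p f d t c hp hf hd h32 hB hc hc2 hcd
  · have ht : 1 ≤ t := by
      by_contra h
      have h0 : t = 0 := by omega
      rw [if_pos h0] at hc
      omega
    rw [if_neg (by omega)] at hc
    exact (num_multi_big p f d t c hp hf ht hc (by omega) hcd).trans hB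

theorem wfun_one (q : ℕ) : wfun q 1 = 1 := by
  unfold wfun Efun
  rw [if_neg (by decide), pow_one]
  exact Nat.div_self (by omega)

theorem num_single (p f d t c n : ℕ) (hp : p.Prime) (hf : 1 ≤ f) (hd : 3 ≤ d)
    (h32 : ¬ (d = 3 ∧ p ^ f = 2)) (hc : c = if t = 0 then 0 else p ^ (t - 1)) (hn : 1 ≤ n)
    (hcn : (c + 1) * n ≤ d) :
    p ^ t * wfun (p ^ f) n ≤ Bnd p f d := by
  have hB := Bnd_ge p f d hp hf hd
  have hq2 := two_le_ppow p f hp hf
  by_cases ht0 : t = 0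
  · rw [ht0, pow_zero, one_mul]
    rw [if_pos ht0] at hc
    rw [hc, zero_add, one_mul] at hcn
    exact num_single_zero p f d n hp hf hd h32 hB (fun n hn => succ_dvd_Efun _ n hn)
      (fun a b ha hab => (Efun_mono _ a b hq2 ha hab).1) hn hcn
  · rw [if_neg ht0] at hc
    have ht : 1 ≤ t := by omega
    by_cases hn1 : n = 1
    · rw [hn1, wfun_one, mul_one]
      rw [hn1, mul_one] at hcn
      exact num_single_one p f d t c hp hf hd h32 hB ht hc hcn
    · exact (num_single_big p f d t c n hp hf ht hc (by omega) hcn).trans hB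

/-- the arithmetic of the orbit data -/
theorem arith_orbits {ι : Type*} [DecidableEq ι] (p f d : ℕ) (hp : p.Prime) (hf : 1 ≤ f)
    (hd : 3 ≤ d) (h32 : ¬ (d = 3 ∧ p ^ f = 2)) (I : Finset ι) (hI : I.Nonempty) (τ : ι → ι)
    (e b : ι → ℕ)
    (hτ : ∀ i ∈ I, τ i ∈ I ∧ τ (τ i) = i ∧ e (τ i) = e i ∧ b (τ i) = b i)
    (he : ∀ i ∈ I, 1 ≤ e i) (hb : ∀ i ∈ I, 1 ≤ b i)
    (hdeg : ∑ i ∈ I, b i * e i ≤ d) :
    ∃ t : ℕ, (∀ i ∈ I, b i ≤ p ^ t) ∧
      ((∃ i ∈ I, (∀ j ∈ I, j = i ∨ j = τ i) ∧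
          p ^ t * wfun (p ^ f) (if τ i = i then e i else 2 * e i) ≤ Bnd p f d) ∨
        p ^ t * I.lcm (fun i => Efun (p ^ f) (if τ i = i then e i else 2 * e i)) ≤ Bnd p f d) := by
  classical
  have hq2 : 2 ≤ p ^ f := two_le_ppow p f hp hf
  set nn : ι → ℕ := fun i => if τ i = i then e i else 2 * e i with hnn
  have hnn1 : ∀ i ∈ I, 1 ≤ nn i := by
    intro i hi
    have := he i hi
    simp only [hnn]
    split_ifs <;> omega
  set t := Nat.clog p (I.sup b) with ht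
  set c := if t = 0 then 0 else p ^ (t - 1) with hc
  have hbt : ∀ i ∈ I, b i ≤ p ^ t := fun i hi =>
    (Finset.le_sup (f := b) hi).trans (Nat.le_pow_clog hp.one_lt _)
  have hi₀ : ∃ i₀ ∈ I, c + 1 ≤ b i₀ := by
    by_cases ht0 : t = 0
    · obtain ⟨i, hi⟩ := hI
      refine ⟨i, hi, ?_⟩
      rw [hc, if_pos ht0]
      have := hb i hi
      omega
    · obtain ⟨i₀, hi₀, hsup⟩ := Finset.exists_mem_eq_sup I hI b
      refine ⟨i₀, hi₀, ?_⟩
      have h1 : 1 < I.sup b := by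
        by_contra h
        push Not at h
        exact ht0 (Nat.clog_of_right_le_one h p)
      have h2 : p ^ (t - 1) < I.sup b := Nat.pow_pred_clog_lt_self hp.one_lt h1
      rw [hc, if_neg ht0, ← hsup]
      omega
  obtain ⟨i₀, hi₀I, hi₀⟩ := hi₀
  refine ⟨t, hbt, ?_⟩
  by_cases hsingle : ∃ i ∈ I, ∀ j ∈ I, j = i ∨ j = τ i
  · left
    obtain ⟨i, hi, hall⟩ := hsingle
    refine ⟨i, hi, hall, ?_⟩
    have hbi : c + 1 ≤ b i := by
      rcases hall i₀ hi₀I with h | h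
      · rw [← h]; exact hi₀
      · rw [h, (hτ i hi).2.2.2] at hi₀; exact hi₀
    have h1 := orbit_le_sum I τ e b hτ i hi
    have h2 : (c + 1) * nn i ≤ d :=
      calc (c + 1) * nn i ≤ b i * nn i := Nat.mul_le_mul_right _ hbi
        _ ≤ ∑ j ∈ I, b j * e j := h1
        _ ≤ d := hdeg
    exact num_single p f d t c (nn i) hp hf hd h32 hc (hnn1 i hi) h2
  · right
    have h1 := multi_orbit_sum I τ e b hτ he hb hsingle i₀ hi₀I c hi₀
    set N := I.image nn with hN
    have hNne : N.Nonempty := hI.image nn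
    have hNpos : ∀ n ∈ N, 1 ≤ n := by
      intro n hn
      obtain ⟨i, hi, rfl⟩ := Finset.mem_image.mp hn
      exact hnn1 i hi
    have hNsum : N.card ≤ ∑ n ∈ N, n := by
      have := Finset.card_nsmul_le_sum N (fun n => n) 1 hNpos
      simpa using this
    have hNcard : 1 ≤ N.card := Finset.card_pos.mpr hNne
    have hlcm : I.lcm (fun i => Efun (p ^ f) (nn i)) = N.lcm (Efun (p ^ f)) := by
      rw [hN, Finset.lcm_image]
      rfl
    rw [hlcm]
    have h2 := lcm_Efun_le' (p ^ f) hq2 N hNne hNpos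
    have hcd : c + 2 ≤ d := by omega
    have h3 := (Efun_mono (p ^ f) ((∑ n ∈ N, n) + 1 - N.card) (d - 1 - c) hq2 (by omega)
      (by omega)).1
    calc p ^ t * N.lcm (Efun (p ^ f))
        ≤ p ^ t * Efun (p ^ f) (d - 1 - c) := Nat.mul_le_mul_left _ (h2.trans h3)
      _ ≤ Bnd p f d := num_multi p f d t c hp hf hd h32 hc hcd

section poly
variable {F : Type*} [Field F]

theorem dagger_dvd (σ : F →+* F)
    (hmul : ∀ f g : F[X], f.coeff 0 ≠ 0 → g.coeff 0 ≠ 0 →
      dagger σ (f * g) = dagger σ f * dagger σ g)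
    (f g : F[X]) (hg0 : g.coeff 0 ≠ 0) (h : f ∣ g) : dagger σ f ∣ dagger σ g := by
  obtain ⟨r, rfl⟩ := h
  rw [mul_coeff_zero] at hg0
  rw [hmul f r (left_ne_zero_of_mul hg0) (right_ne_zero_of_mul hg0)]
  exact dvd_mul_right _ _

theorem charP_of_card [Fintype F] (p m : ℕ) (hp : p.Prime)
    (hF : Fintype.card F = p ^ m) : CharP F p := by
  obtain ⟨p', hchar⟩ := CharP.exists F
  obtain ⟨n, hp', hn⟩ := FiniteField.card F p'
  have h1 : p' ∣ p ^ m := by
    rw [← hF, hn]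
    exact dvd_pow_self p' n.ne_zero
  have h2 : p' = p := (Nat.prime_dvd_prime_iff_eq hp' hp).mp (hp'.dvd_of_dvd_pow h1)
  rw [← h2]
  exact hchar

/-- the polynomial core of the upper bound -/
theorem poly_core [Fintype F] (p f d q : ℕ) (hp : p.Prime) (hf : 1 ≤ f) (hq : q = p ^ f)
    (hF : Fintype.card F = q ^ 2) (hd : 3 ≤ d) (h32 : ¬ (d = 3 ∧ q = 2)) (σ : F →+* F)
    (hσ : ∀ x, σ x = x ^ q) (μ : F[X]) (hμ : μ.Monic) (h0 : μ.coeff 0 ≠ 0)
    (hdag : dagger σ μ = μ) (hdeg : μ.natDegree ≤ d) :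
    ∃ (k : ℕ) (c : F), 0 < k ∧ k ≤ Bnd p f d ∧ μ ∣ X ^ k - C c := by
  classical
  subst hq
  set q := p ^ f with hqdef
  have hq2 : 2 ≤ q := two_le_ppow p f hp hf
  have hσσ : ∀ x, σ (σ x) = x := Cfsg.Agent.Helper11.Herm.frob_frob hF σ hσ
  have : Fact p.Prime := ⟨hp⟩
  have : CharP F p := charP_of_card p (f * 2) hp (by rw [hF, hqdef, pow_mul])
  obtain ⟨s, hsprod, hs⟩ := Cfsg.Agent.Helper10.EO.exists_factorization μ hμ h0
  have hs' : ∀ g ∈ s, g.Monic ∧ Irreducible g := fun g hg => ⟨(hs g hg).1, (hs g hg).2.1⟩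
  have h1 := dagger_facts σ hσσ
  have h2 := dagger_mul_irreducible σ hσσ
  have hcount : ∀ g ∈ s, s.count (dagger σ g) = s.count g := fun g hg =>
    count_dagger_of σ h1 h2 s hs (by rw [hsprod]; exact hdag) g hg
  have hdegsum : ∑ g ∈ s.toFinset, s.count g * g.natDegree ≤ d := by
    rw [← Cfsg.Agent.Helper10.EO.natDegree_prod_eq_sum s (fun g hg => (hs g hg).1), hsprod]
    exact hdeg
  have hdeg1 : ∀ g ∈ s, 1 ≤ g.natDegree := fun g hg =>
    Nat.one_le_iff_ne_zero.mpr (fun h => by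
      have := (hs g hg).2.1
      exact (Polynomial.degree_pos_of_irreducible this).ne'
        (by rw [Polynomial.degree_eq_natDegree this.ne_zero, h]; rfl))
  have hBpos : 1 ≤ Bnd p f d := by
    have h3 : p ^ 0 * Efun q (d - 1 - 0) ≤ Bnd p f d :=
      num_multi p f d 0 0 hp hf hd h32 (by simp) (by omega)
    have h4 := (Efun_mono q (d - 1 - 0) (d - 1 - 0) hq2 (by omega) le_rfl).2
    rw [pow_zero, one_mul] at h3
    omega
  by_cases hs0 : s = 0
  · refine ⟨1, 0, one_pos, hBpos, ?_⟩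
    rw [← hsprod, hs0, Multiset.prod_zero]
    exact one_dvd _
  set I := s.toFinset with hI
  have hIne : I.Nonempty := by
    obtain ⟨g, hg⟩ := Multiset.exists_mem_of_ne_zero hs0
    exact ⟨g, Multiset.mem_toFinset.mpr hg⟩
  set nn : F[X] → ℕ := fun g => if dagger σ g = g then g.natDegree else 2 * g.natDegree with hnn
  obtain ⟨t, hbt, hcase⟩ := arith_orbits p f d hp hf hd h32 I hIne (dagger σ)
    (fun g => g.natDegree) (fun g => s.count g)
    (by
      intro g hg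
      have hg' : g ∈ s := Multiset.mem_toFinset.mp hg
      have h3 := h1 g (hs g hg').2.2
      refine ⟨?_, h3.2.2.2 (hs g hg').1, h3.2.1, hcount g hg'⟩
      rw [hI, Multiset.mem_toFinset, ← Multiset.count_pos, hcount g hg', Multiset.count_pos]
      exact hg')
    (fun g hg => hdeg1 g (Multiset.mem_toFinset.mp hg))
    (fun g hg => Multiset.count_pos.mpr (Multiset.mem_toFinset.mp hg))
    hdegsum
  have hnn1 : ∀ g ∈ s, 1 ≤ nn g := by
    intro g hg
    have := hdeg1 g hg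
    simp only [hnn]
    split_ifs <;> omega
  -- every factor divides `X ^ E - 1`
  have hE : ∀ g ∈ s, g ∣ X ^ (Efun q (nn g)) - 1 := by
    intro g hg
    simp only [hnn]
    by_cases hfix : dagger σ g = g
    · rw [if_pos hfix]
      obtain ⟨hodd, hdvd⟩ := dagger_fixed_irreducible q hF σ hσ g (hs g hg).1 (hs g hg).2.1
        (hs g hg).2.2 hfix
      unfold Efun
      rw [if_neg (Nat.not_even_iff_odd.mpr hodd)]
      exact hdvd
    · rw [if_neg hfix]
      have hdvd := Cfsg.Agent.Helper10.EO.irreducible_dvd_X_pow_sub_one g (hs g hg).1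
        (hs g hg).2.1 (hs g hg).2.2
      unfold Efun
      rw [if_pos (even_two_mul _), pow_mul, ← hF]
      exact hdvd
  have hEpos : ∀ g ∈ s, 0 < Efun q (nn g) := fun g hg =>
    (Efun_mono q (nn g) (nn g) hq2 (hnn1 g hg) le_rfl).2
  have hcount' : ∀ g, s.count g ≤ p ^ t := by
    intro g
    by_cases hg : g ∈ s
    · exact hbt g (Multiset.mem_toFinset.mpr hg)
    · rw [Multiset.count_eq_zero_of_notMem hg]; exact Nat.zero_le _
  rcases hcase with ⟨i, hi, hall, hle⟩ | hle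
  · -- one orbit
    have hi' : i ∈ s := Multiset.mem_toFinset.mp hi
    have hdvdE := succ_dvd_Efun q (nn i) (hnn1 i hi')
    obtain ⟨c, hc1, hcdvd⟩ := irreducible_dvd_X_pow_sub_C q hF i (hs i hi').1 (hs i hi').2.1
      (Efun q (nn i)) (hE i hi') hdvdE
    have hk' : 0 < Efun q (nn i) / (q + 1) :=
      Nat.div_pos (Nat.le_of_dvd (hEpos i hi') hdvdE) (by omega)
    have hcσ : c * σ c = 1 := by rw [hσ, ← pow_succ', hc1]
    have hall' : ∀ g ∈ s, g ∣ X ^ (Efun q (nn i) / (q + 1)) - C c := by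
      intro g hg
      rcases hall g (Multiset.mem_toFinset.mpr hg) with h | h
      · rw [h]; exact hcdvd
      · rw [h]
        have hc0 : c ≠ 0 := by
          rintro rfl
          rw [zero_mul] at hcσ
          exact zero_ne_one hcσ
        have h3 := dagger_dvd σ h2.1 i (X ^ (Efun q (nn i) / (q + 1)) - C c) (by
          rw [coeff_sub, coeff_X_pow, coeff_C_zero, if_neg (by omega), zero_sub]
          exact neg_ne_zero.mpr hc0) hcdvd
        rwa [dagger_X_pow_sub_C σ _ hk' c hcσ] at h3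
    have hmain := prod_dvd_of_forall_dvd_C p s hs' (Efun q (nn i) / (q + 1)) t c hall' hcount'
    rw [hsprod] at hmain
    refine ⟨Efun q (nn i) / (q + 1) * p ^ t, c ^ p ^ t, Nat.mul_pos hk' (pow_pos hp.pos t), ?_, hmain⟩
    rw [mul_comm]
    exact hle
  · -- several orbits
    set L := I.lcm (fun g => Efun q (nn g)) with hL
    have hLpos : 0 < L := by
      rw [hL, Nat.pos_iff_ne_zero, Ne, Finset.lcm_eq_zero_iff]
      push Not
      intro g hg
      exact (hEpos g (Multiset.mem_toFinset.mp hg)).ne'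
    have hall' : ∀ g ∈ s, g ∣ X ^ L - C 1 := by
      intro g hg
      rw [C_1]
      exact dvd_trans (hE g hg) (Cfsg.Agent.Helper10.EO.X_pow_sub_one_dvd _ _
        (Finset.dvd_lcm (f := fun g => Efun q (nn g)) (Multiset.mem_toFinset.mpr hg)))
    have hmain := prod_dvd_of_forall_dvd_C p s hs' L t 1 hall' hcount'
    rw [hsprod] at hmain
    refine ⟨L * p ^ t, 1 ^ p ^ t, Nat.mul_pos hLpos (pow_pos hp.pos t), ?_, hmain⟩
    rw [mul_comm]
    exact hle

end poly

section grp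
open Cfsg.Agent.Helper11.Herm
variable {F : Type*} [Field F] [Fintype F]

/-- PART U of S2263 -/
theorem upper_bound (p f d : ℕ) (hp : p.Prime) (hf : 1 ≤ f)
    (q : ℕ) (hq : q = p ^ f) (hF : Fintype.card F = q ^ 2) (hd : 3 ≤ d) (h32 : ¬ (d = 3 ∧ q = 2))
    (g : (↥(Cfsg.GU d F q) ⧸ Subgroup.center ↥(Cfsg.GU d F q))) : orderOf g ≤ Bnd p f d := by
  obtain ⟨g, rfl⟩ := QuotientGroup.mk_surjective g
  obtain ⟨φ, hφ⟩ := exists_frob hF
  have hφφ := frob_frob hF φ hφ
  set A : Matrix (Fin d) (Fin d) F :=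
    ((g : Matrix.GeneralLinearGroup (Fin d) F) : Matrix (Fin d) (Fin d) F) with hAdef
  have hA : IsU φ A := (mem_GU_iff_isU φ hφ d g.1).1 g.2
  obtain ⟨h0, hdag⟩ := minpoly_dagger φ hφφ d (by omega) A hA
  have hdeg : (minpoly F A).natDegree ≤ d := by
    have h1 := Matrix.minpoly_dvd_charpoly A
    have h2 := Polynomial.natDegree_le_of_dvd h1 (Matrix.charpoly_monic A).ne_zero
    rw [Matrix.charpoly_natDegree_eq_dim, Fintype.card_fin] at h2
    exact h2
  obtain ⟨k, c, hk, hkB, hdvd⟩ := poly_core p f d q hp hf hq hF hd h32 φ hφ (minpoly F A)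
    (minpoly.monic (Matrix.isIntegral A)) h0 hdag hdeg
  have hAk : A ^ k = c • (1 : Matrix (Fin d) (Fin d) F) := by
    obtain ⟨r, hr⟩ := hdvd
    have h3 := congrArg (aeval A) hr
    rw [map_mul, minpoly.aeval, zero_mul, map_sub, map_pow, aeval_X, aeval_C, sub_eq_zero] at h3
    rw [h3, Algebra.algebraMap_eq_smul_one]
  exact (orderOf_mk_le d q g k hk c hAk).trans hkB

end grp

end Cfsg.Agent.Helper10.PU
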