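import Mathlib
import Cfsg.Prelude.Def_ConjugacyFunctors
import Cfsg.Agent.Lib.Helper10.WPGeneric
import Cfsg.Agent.Lib.Helper10.TransferFusion
import Cfsg.Agent.Lib.Helper1.Coprime

set_option autoImplicit false

namespace Cfsg.Agent.Helper10

open Cfsg

variable {G : Type*} [Group G]

theorem rcg_sup (c : G) (A B : Subgroup G) : rcg c (A ⊔ B) = rcg c A ⊔ rcg c B :=
  Subgroup.map_sup _ _ _

/-- the pair `(W, V)` controls transfer in `L` (inclusion form) -/
def PairTransfers (p : ℕ) (W V : Subgroup G → Subgroup G) (L : Subgroup G) : Prop :=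
  ∃ Q : Subgroup G, Q ≤ L ∧ IsPGroup p Q ∧ ¬ p ∣ Q.relIndex L ∧
    Q ⊓ ⁅L, L⁆ ≤
      (Q ⊓ ⁅L ⊓ Subgroup.normalizer ((W Q : Subgroup G) : Set G),
        L ⊓ Subgroup.normalizer ((W Q : Subgroup G) : Set G)⁆) ⊔
      (Q ⊓ ⁅L ⊓ Subgroup.centralizer ((V Q : Subgroup G) : Set G),
        L ⊓ Subgroup.centralizer ((V Q : Subgroup G) : Set G)⁆)

theorem pt_transfer [Finite G] {p : ℕ} [Fact p.Prime] {W V : Subgroup G → Subgroup G}
    (hW : IsConjugacyFunctor p W) (hV : IsConjugacyFunctor p V) {L : Subgroup G}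
    (hc : PairTransfers p W V L)
    (R : Subgroup G) (hRL : R ≤ L) (hRp : IsPGroup p R) (hRidx : ¬ p ∣ R.relIndex L) :
    R ⊓ ⁅L, L⁆ ≤
      (R ⊓ ⁅L ⊓ Subgroup.normalizer ((W R : Subgroup G) : Set G),
        L ⊓ Subgroup.normalizer ((W R : Subgroup G) : Set G)⁆) ⊔
      (R ⊓ ⁅L ⊓ Subgroup.centralizer ((V R : Subgroup G) : Set G),
        L ⊓ Subgroup.centralizer ((V R : Subgroup G) : Set G)⁆) := by
  obtain ⟨T', hT'L, hT'p, hT'idx, hT'⟩ := hc
  obtain ⟨c, hcL, hcR⟩ := exists_rcg_eq_of_relSylow L R T' hRL hRp hRidx hT'L hT'p hT'idx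
  have h1 := rcg_mono c hT'
  rw [rcg_sup, rcg_inf, rcg_inf, rcg_inf, rcg_commutator, rcg_commutator, rcg_commutator, rcg_inf,
    rcg_inf, rcg_self_of_mem hcL, hcR, rcg_normalizer, rcg_centralizer, ← cf_rcg hW hT'p,
    ← cf_rcg hV hT'p, hcR] at h1
  exact h1

section main

variable [Finite G] {p : ℕ} [Fact p.Prime] (S : Subgroup G) (hS : IsPGroup p S)
  (W V : Subgroup G → Subgroup G) (hW : IsConjugacyFunctor p W) (hV : IsConjugacyFunctor p V)
  (hWZ : ∀ H : Subgroup G, IsPGroup p ↥H → H ⊓ Subgroup.centralizer ((H : Subgroup G) : Set G) ≤ W H)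
  (hVmono : ∀ H K : Subgroup G, IsPGroup p ↥H → IsPGroup p ↥K → H ≠ ⊥ → K ≠ ⊥ →
    H ⊓ Subgroup.centralizer ((H : Subgroup G) : Set G) ≤ K ⊓ Subgroup.centralizer ((K : Subgroup G) : Set G) →
    V H ≤ V K)
  (hloc : ∀ H : Subgroup G, S ⊓ Subgroup.centralizer (S : Set G) ≤ H → H ≤ S →
    PairTransfers p W V (Subgroup.normalizer (H : Set G)))

/-- the target subgroup -/
def pairD (S : Subgroup G) (W V : Subgroup G → Subgroup G) : Subgroup G :=
  (S ⊓ ⁅Subgroup.normalizer ((W S : Subgroup G) : Set G), Subgroup.normalizer ((W S : Subgroup G) : Set G)⁆) ⊔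
    (S ⊓ ⁅Subgroup.centralizer ((V S : Subgroup G) : Set G), Subgroup.centralizer ((V S : Subgroup G) : Set G)⁆)

include hS hW hV hWZ hVmono hloc in
theorem pt_tower (n : ℕ) : ∀ T : Subgroup G, IsWellPlaced p W S T →
    S ⊓ Subgroup.centralizer (S : Set G) ≤ T →
    Nat.card S - Nat.card ↥(S ⊓ Subgroup.normalizer (T : Set G)) ≤ n →
    (S ⊓ Subgroup.normalizer (T : Set G)) ⊓
        ⁅Subgroup.normalizer (T : Set G), Subgroup.normalizer (T : Set G)⁆ ≤ pairD S W V := by
  induction n with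
  | zero =>
    intro T hT hZT hcard
    set R := S ⊓ Subgroup.normalizer (T : Set G) with hR
    have hRp : IsPGroup p R := hS.to_le inf_le_left
    have hRS : R = S := by
      apply Subgroup.eq_of_le_of_card_ge inf_le_left
      have h0 : Nat.card S - Nat.card R ≤ 0 := hcard
      show Nat.card S ≤ Nat.card R
      omega
    have h1 := pt_transfer hW hV (hloc T hZT hT.1) R inf_le_right hRp (hT.2 0)
    refine h1.trans ?_
    rw [hRS]
    unfold pairD
    apply sup_le_sup
    · exact inf_le_inf_left _ (Subgroup.commutator_mono inf_le_right inf_le_right)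
    · exact inf_le_inf_left _ (Subgroup.commutator_mono inf_le_right inf_le_right)
  | succ n ih =>
    intro T hT hZT hcard
    set R := S ⊓ Subgroup.normalizer (T : Set G) with hR
    have hRp : IsPGroup p R := hS.to_le inf_le_left
    have h1 := pt_transfer hW hV (hloc T hZT hT.1) R inf_le_right hRp (hT.2 0)
    refine h1.trans ?_
    have hTR : T ≤ R := le_inf hT.1 Subgroup.le_normalizer
    have hZR : S ⊓ Subgroup.centralizer (S : Set G) ≤ R ⊓ Subgroup.centralizer (R : Set G) :=
      le_inf ((hZT.trans hTR)) (inf_le_right.trans (Subgroup.centralizer_le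
        (show (R : Set G) ⊆ (S : Set G) from SetLike.coe_subset_coe.mpr inf_le_left)))
    apply sup_le
    · -- the `W` part
      by_cases hRS : R = S
      · rw [hRS]
        refine le_trans ?_ (le_sup_left : _ ≤ pairD S W V)
        exact inf_le_inf_left _ (Subgroup.commutator_mono inf_le_right inf_le_right)
      have hlt : R < S := lt_of_le_of_ne inf_le_left hRS
      have hnil : Group.IsNilpotent S := hS.isNilpotent
      have h2 := lt_inf_normalizer_of_lt S R hlt
      set T₁ := W R with hT₁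
      have hT₁wp : IsWellPlaced p W S T₁ := isWellPlaced_next hW hS hT
      set R₁ := S ⊓ Subgroup.normalizer (T₁ : Set G) with hR₁
      have h3 : S ⊓ Subgroup.normalizer (R : Set G) ≤ R₁ := inf_le_inf_left S (cf_normalizer_le hW hRp)
      have hRR₁ : R < R₁ := lt_of_lt_of_le h2 h3
      have hcard1 : Nat.card S - Nat.card R₁ ≤ n := by
        have := card_lt_card_of_lt hRR₁
        have h4 : Nat.card R₁ ≤ Nat.card S := Subgroup.card_le_of_le inf_le_left
        have h0 : Nat.card S - Nat.card R ≤ n + 1 := hcard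
        omega
      have hZT₁ : S ⊓ Subgroup.centralizer (S : Set G) ≤ T₁ := hZR.trans (hWZ R hRp)
      refine le_trans ?_ (ih T₁ hT₁wp hZT₁ hcard1)
      exact inf_le_inf hRR₁.le (Subgroup.commutator_mono inf_le_right inf_le_right)
    · -- the `V` part
      by_cases hRbot : R = ⊥
      · rw [hRbot]; simp
      have hSbot : S ≠ ⊥ := by
        intro h
        apply hRbot
        rw [hR, h]; exact bot_inf_eq _
      have hVSR : V S ≤ V R := hVmono S R hS hRp hSbot hRbot hZR
      have hC : Subgroup.centralizer ((V R : Subgroup G) : Set G) ≤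
          Subgroup.centralizer ((V S : Subgroup G) : Set G) :=
        Subgroup.centralizer_le (SetLike.coe_subset_coe.mpr hVSR)
      refine le_trans ?_ (le_sup_right : _ ≤ pairD S W V)
      exact inf_le_inf inf_le_left (Subgroup.commutator_mono (inf_le_right.trans hC) (inf_le_right.trans hC))

include hS hW hV hWZ hVmono hloc in
theorem pt_final (hidx : ¬ p ∣ S.index) (A : Set G) (g : G) (hA : A ⊆ (S : Set G))
    (hgA : rcs g A ⊆ (S : Set G)) : Foc (pairD S W V) A g := by
  apply wp_final S hS hidx W hW (Foc (pairD S W V)) (fun A _ => Foc.one _ A)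
    (fun A B g h hAB => h.mono hAB) (fun A g h h1 h2 => h1.trans h2)
    (fun A g g₂ h hag b hb => by rw [hag b hb]; exact h b hb) ?_ A g hA hgA
  intro T hT hZT x hx B hB hxB b hb
  apply pt_tower S hS W V hW hV hWZ hVmono hloc (Nat.card S) T hT hZT (Nat.sub_le _ _)
  refine ⟨?_, ?_⟩
  · exact Subgroup.mul_mem _ (Subgroup.inv_mem _ (hB hb)) (hxB ⟨b, hb, rfl⟩)
  · exact focal_mem_commutator (hB hb).2 hx

end main

end Cfsg.Agent.Helper10
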