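import Mathlib

set_option autoImplicit false

/-! An element outside a subgroup has a power of prime power order outside it; two-generation of
subgroups of metacyclic groups. -/

namespace Cfsg.Agent.Helper10

theorem exists_primePow_pow_not_mem {G : Type*} [Group G] (X : Subgroup G) :
    ∀ (n : ℕ) (g : G), orderOf g = n → 0 < n → g ∉ X →
      ∃ (r e k : ℕ), r.Prime ∧ 0 < e ∧ orderOf (g ^ k) = r ^ e ∧ g ^ k ∉ X := by
  intro n
  induction n using Nat.recOnPosPrimePosCoprime with
  | prime_pow r e hr he =>
    intro g hg _ hgX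
    exact ⟨r, e, 1, hr, he, by rw [pow_one]; exact hg, by rw [pow_one]; exact hgX⟩
  | zero => intro g _ h0; exact absurd h0 (lt_irrefl 0)
  | one =>
    intro g hg _ hgX
    rw [orderOf_eq_one_iff] at hg
    rw [hg] at hgX
    exact absurd X.one_mem hgX
  | coprime a b ha hb hab iha ihb =>
    intro g hg _ hgX
    have ha0 : a ≠ 0 := by omega
    have hb0 : b ≠ 0 := by omega
    have hoa : orderOf (g ^ a) = b := by
      rw [orderOf_pow_of_dvd ha0 (by rw [hg]; exact dvd_mul_right a b), hg,
        Nat.mul_div_cancel_left b (by omega)]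
    have hob : orderOf (g ^ b) = a := by
      rw [orderOf_pow_of_dvd hb0 (by rw [hg]; exact dvd_mul_left b a), hg,
        Nat.mul_div_cancel a (by omega)]
    by_cases h1 : g ^ a ∈ X
    · by_cases h2 : g ^ b ∈ X
      · exfalso
        apply hgX
        have hbez : (1 : ℤ) = (a : ℤ) * Nat.gcdA a b + (b : ℤ) * Nat.gcdB a b := by
          have := Nat.gcd_eq_gcd_ab a b
          rw [hab] at this
          exact_mod_cast this
        have : g = (g ^ a) ^ (Nat.gcdA a b) * (g ^ b) ^ (Nat.gcdB a b) := by
          rw [← zpow_natCast g a, ← zpow_natCast g b, ← zpow_mul, ← zpow_mul, ← zpow_add, ← hbez,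
            zpow_one]
        rw [this]
        exact X.mul_mem (X.zpow_mem h1 _) (X.zpow_mem h2 _)
      · obtain ⟨r, e, k, hr, he, hord, hnot⟩ := iha (g ^ b) hob (by omega) h2
        refine ⟨r, e, b * k, hr, he, ?_, ?_⟩
        · rw [pow_mul]; exact hord
        · rw [pow_mul]; exact hnot
    · obtain ⟨r, e, k, hr, he, hord, hnot⟩ := ihb (g ^ a) hoa (by omega) h1
      refine ⟨r, e, a * k, hr, he, ?_, ?_⟩
      · rw [pow_mul]; exact hord
      · rw [pow_mul]; exact hnot

end Cfsg.Agent.Helper10
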