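import Mathlib
import Cfsg.Agent.Lib.Helper2.AffExt

/-!
# S3626 (helper10): shared definitions

`V2 K = M_2(K)` with the action `X ↦ ± g X σ(g)ᵀ` of `SL_2(K) × {±1}` (`σ` = entrywise cube, `char K = 3`):
the module `N ⊗ N^(3)`.  `Gam K` is the image (`≅ Z_2 × PSL_2(K)`), `Kk K k = (V2 K)^k ⋊ Gam K`.
See `plans/S3626_plan.md`.
-/

set_option autoImplicit false

namespace Cfsg.Agent.Helper10.RG3

open Matrix

section defs

variable (K : Type*) [Field K] [CharP K 3]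

/-- the space `M_2(K)` -/
abbrev V2 := Matrix (Fin 2) (Fin 2) K

/-- the entrywise cube (Frobenius) on `2 × 2` matrices, a ring homomorphism in characteristic 3 -/
noncomputable def sig : Matrix (Fin 2) (Fin 2) K →+* Matrix (Fin 2) (Fin 2) K :=
  (frobenius K 3).mapMatrix

variable {K}

theorem sig_apply (g : Matrix (Fin 2) (Fin 2) K) (i j : Fin 2) : sig K g i j = (g i j) ^ 3 := rfl

/-- `X ↦ c • (g X σ(g)ᵀ)` as a linear map -/
noncomputable def actLin (g : Matrix (Fin 2) (Fin 2) K) (c : K) : V2 K →ₗ[K] V2 K where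
  toFun X := c • (g * X * (sig K g)ᵀ)
  map_add' X Y := by rw [Matrix.mul_add, Matrix.add_mul, smul_add]
  map_smul' a X := by
    rw [RingHom.id_apply, Matrix.mul_smul, Matrix.smul_mul, smul_comm]

theorem actLin_apply (g : Matrix (Fin 2) (Fin 2) K) (c : K) (X : V2 K) :
    actLin g c X = c • (g * X * (sig K g)ᵀ) := rfl

theorem actLin_comp (g h : Matrix (Fin 2) (Fin 2) K) (c d : K) :
    (actLin g c).comp (actLin h d) = actLin (g * h) (c * d) := by
  apply LinearMap.ext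
  intro X
  rw [LinearMap.comp_apply, actLin_apply, actLin_apply, actLin_apply, map_mul,
    Matrix.transpose_mul, Matrix.mul_smul, Matrix.smul_mul, smul_smul]
  congr 1
  simp only [Matrix.mul_assoc]

theorem actLin_one : actLin (1 : Matrix (Fin 2) (Fin 2) K) 1 = LinearMap.id := by
  apply LinearMap.ext
  intro X
  rw [actLin_apply, map_one, Matrix.transpose_one, Matrix.one_mul, Matrix.mul_one, one_smul,
    LinearMap.id_apply]

/-- the sign `±1` of `K` attached to a unit of `ℤ` -/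
def sgn (s : ℤˣ) : K := ((s : ℤ) : K)

theorem sgn_one : sgn (K := K) 1 = 1 := by simp [sgn]

theorem sgn_neg_one : sgn (K := K) (-1) = -1 := by simp [sgn]

theorem sgn_mul (s t : ℤˣ) : sgn (K := K) (s * t) = sgn s * sgn t := by simp [sgn]

theorem sgn_eq (s : ℤˣ) : sgn (K := K) s = 1 ∨ sgn (K := K) s = -1 := by
  rcases Int.units_eq_one_or s with h | h
  · left; rw [h, sgn_one]
  · right; rw [h, sgn_neg_one]

theorem sgn_mul_self (s : ℤˣ) : sgn (K := K) s * sgn s = 1 := by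
  rcases sgn_eq (K := K) s with h | h <;> rw [h] <;> ring

theorem coe_mul_inv (g : Matrix.SpecialLinearGroup (Fin 2) K) :
    (g : Matrix (Fin 2) (Fin 2) K) * ((g⁻¹ : Matrix.SpecialLinearGroup (Fin 2) K) :
      Matrix (Fin 2) (Fin 2) K) = 1 := by
  rw [← Matrix.SpecialLinearGroup.coe_mul, mul_inv_cancel, Matrix.SpecialLinearGroup.coe_one]

theorem coe_inv_mul (g : Matrix.SpecialLinearGroup (Fin 2) K) :
    ((g⁻¹ : Matrix.SpecialLinearGroup (Fin 2) K) : Matrix (Fin 2) (Fin 2) K) *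
      (g : Matrix (Fin 2) (Fin 2) K) = 1 := by
  rw [← Matrix.SpecialLinearGroup.coe_mul, inv_mul_cancel, Matrix.SpecialLinearGroup.coe_one]

theorem actLin_right_inv (g : Matrix.SpecialLinearGroup (Fin 2) K) (s : ℤˣ) :
    (actLin (g : Matrix (Fin 2) (Fin 2) K) (sgn s)).comp
      (actLin ((g⁻¹ : Matrix.SpecialLinearGroup (Fin 2) K) : Matrix (Fin 2) (Fin 2) K) (sgn s)) =
      LinearMap.id := by
  rw [actLin_comp, coe_mul_inv, sgn_mul_self, actLin_one]

theorem actLin_left_inv (g : Matrix.SpecialLinearGroup (Fin 2) K) (s : ℤˣ) :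
    (actLin ((g⁻¹ : Matrix.SpecialLinearGroup (Fin 2) K) : Matrix (Fin 2) (Fin 2) K) (sgn s)).comp
      (actLin (g : Matrix (Fin 2) (Fin 2) K) (sgn s)) = LinearMap.id := by
  rw [actLin_comp, coe_inv_mul, sgn_mul_self, actLin_one]

/-- the linear automorphism `X ↦ ± g X σ(g)ᵀ` -/
noncomputable def actEquiv (g : Matrix.SpecialLinearGroup (Fin 2) K) (s : ℤˣ) :
    V2 K ≃ₗ[K] V2 K :=
  LinearEquiv.ofLinear (actLin (g : Matrix (Fin 2) (Fin 2) K) (sgn s))
    (actLin ((g⁻¹ : Matrix.SpecialLinearGroup (Fin 2) K) : Matrix (Fin 2) (Fin 2) K) (sgn s))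
    (actLin_right_inv g s) (actLin_left_inv g s)

theorem actEquiv_apply (g : Matrix.SpecialLinearGroup (Fin 2) K) (s : ℤˣ) (X : V2 K) :
    actEquiv g s X = (sgn s : K) • ((g : Matrix (Fin 2) (Fin 2) K) * X *
      (sig K (g : Matrix (Fin 2) (Fin 2) K))ᵀ) := rfl

theorem actEquiv_one : actEquiv (K := K) 1 1 = 1 := by
  apply LinearEquiv.ext
  intro X
  rw [actEquiv_apply, Matrix.SpecialLinearGroup.coe_one, sgn_one, map_one, Matrix.transpose_one,
    Matrix.one_mul, Matrix.mul_one, one_smul]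
  rfl

theorem actEquiv_mul (g h : Matrix.SpecialLinearGroup (Fin 2) K) (s t : ℤˣ) :
    actEquiv (g * h) (s * t) = actEquiv g s * actEquiv h t := by
  apply LinearEquiv.ext
  intro X
  rw [LinearEquiv.mul_apply, actEquiv_apply, actEquiv_apply, actEquiv_apply,
    Matrix.SpecialLinearGroup.coe_mul, sgn_mul, map_mul, Matrix.transpose_mul, Matrix.mul_smul,
    Matrix.smul_mul, smul_smul]
  congr 1
  simp only [Matrix.mul_assoc]

variable (K)

/-- the action of `SL_2(K) × {±1}` on `M_2(K)` as a homomorphism into the linear automorphisms -/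
noncomputable def Phi : Matrix.SpecialLinearGroup (Fin 2) K × ℤˣ →* (V2 K ≃ₗ[K] V2 K) where
  toFun p := actEquiv p.1 p.2
  map_one' := actEquiv_one
  map_mul' p r := actEquiv_mul p.1 r.1 p.2 r.2

variable {K}

theorem Phi_apply (g : Matrix.SpecialLinearGroup (Fin 2) K) (s : ℤˣ) (X : V2 K) :
    Phi K (g, s) X = (sgn s : K) • ((g : Matrix (Fin 2) (Fin 2) K) * X *
      (sig K (g : Matrix (Fin 2) (Fin 2) K))ᵀ) := rfl

variable (K)

/-- the image `≅ Z_2 × PSL_2(K)` -/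
noncomputable def Gam : Subgroup (V2 K ≃ₗ[K] V2 K) := (Phi K).range

/-- the group `(M_2(K))^k ⋊ Gam K` -/
abbrev Kk (k : ℕ) := Cfsg.Agent.Helper2.AffExt.Aff (Gam K) (Fin k → V2 K)

variable {K}

theorem Gam_exists (A : Gam K) : ∃ (g : Matrix.SpecialLinearGroup (Fin 2) K) (s : ℤˣ),
    Phi K (g, s) = (A : V2 K ≃ₗ[K] V2 K) := by
  obtain ⟨⟨g, s⟩, h⟩ := A.2
  exact ⟨g, s, h⟩

/-- the element of `Gam K` defined by `(g, s)` -/
noncomputable def mkGam (g : Matrix.SpecialLinearGroup (Fin 2) K) (s : ℤˣ) : Gam K :=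
  ⟨Phi K (g, s), ⟨(g, s), rfl⟩⟩

theorem coe_mkGam (g : Matrix.SpecialLinearGroup (Fin 2) K) (s : ℤˣ) :
    ((mkGam g s : Gam K) : V2 K ≃ₗ[K] V2 K) = Phi K (g, s) := rfl

theorem mkGam_pow (g : Matrix.SpecialLinearGroup (Fin 2) K) (s : ℤˣ) (n : ℕ) :
    (mkGam g s) ^ n = mkGam (g ^ n) (s ^ n) := by
  apply Subtype.ext
  rw [SubgroupClass.coe_pow, coe_mkGam, coe_mkGam, ← map_pow, Prod.pow_mk]

theorem Gam_smul (A : Gam K) (X : V2 K) : A • X = (A : V2 K ≃ₗ[K] V2 K) X := rfl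

theorem Gam_smul_pi {k : ℕ} (A : Gam K) (w : Fin k → V2 K) (i : Fin k) :
    (A • w) i = (A : V2 K ≃ₗ[K] V2 K) (w i) := rfl

theorem mkGam_smul (g : Matrix.SpecialLinearGroup (Fin 2) K) (s : ℤˣ) (X : V2 K) :
    mkGam g s • X = (sgn s : K) • ((g : Matrix (Fin 2) (Fin 2) K) * X *
      (sig K (g : Matrix (Fin 2) (Fin 2) K))ᵀ) := rfl

theorem Gam_eq_mkGam (A : Gam K) : ∃ (g : Matrix.SpecialLinearGroup (Fin 2) K) (s : ℤˣ),
    A = mkGam g s := by
  obtain ⟨g, s, h⟩ := Gam_exists A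
  exact ⟨g, s, Subtype.ext h.symm⟩

/-- `Gam K` is finite -/
instance instFiniteGam [Fintype K] : Finite (Gam K) :=
  Finite.of_surjective (Phi K).rangeRestrict (Phi K).rangeRestrict_surjective

end defs

/-- the spectrum of `Kk K k` -/
def PK (q d : ℕ) : Prop := d ∣ 6 ∨ d ∣ 9 ∨ d ∣ q - 1 ∨ d ∣ (q + 1) / 2

/-- the spectrum of the Ree group `²G₂(q)`, `q = 3^(2m+1)`, `r = 3^(m+1)` (S1159) -/
def PG (m d : ℕ) : Prop :=
  d ∣ 6 ∨ d ∣ 9 ∨ d ∣ 3 ^ (2 * m + 1) - 1 ∨ d ∣ (3 ^ (2 * m + 1) + 1) / 2 ∨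
    d ∣ 3 ^ (2 * m + 1) - 3 ^ (m + 1) + 1 ∨ d ∣ 3 ^ (2 * m + 1) + 3 ^ (m + 1) + 1

end Cfsg.Agent.Helper10.RG3
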