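import Mathlib
import Cfsg.Agent.Lib.Helper10.RG3Defs

/-!
# S3626 (helper10): basic 2 x 2 facts
-/

set_option autoImplicit false
set_option linter.unusedSectionVars false
set_option linter.unusedVariables false

namespace Cfsg.Agent.Helper10.RG3

open Matrix

variable {K : Type*} [Field K] [CharP K 3]

theorem ch2 (g : V2 K) : g * g = g.trace • g - g.det • (1 : V2 K) := by
  ext i j
  fin_cases i <;> fin_cases j <;>
    simp [Matrix.trace, Matrix.det_fin_two, Matrix.mul_apply, Fin.sum_univ_two] <;> ring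

theorem sq_of_trace_zero (g : V2 K) (hdet : g.det = 1) (ht : g.trace = 0) : g * g = -1 := by
  rw [ch2, hdet, ht, zero_smul, one_smul, zero_sub]

theorem cube_of_trace_sq (g : V2 K) (hdet : g.det = 1) (ht : g.trace ^ 2 = 1) :
    g * g * g = (-g.trace) • (1 : V2 K) := by
  have h := ch2 g
  rw [hdet, one_smul] at h
  rw [h, Matrix.sub_mul, Matrix.smul_mul, h, Matrix.one_mul, smul_sub, smul_smul, ← pow_two, ht,
    one_smul, neg_smul]
  abel

theorem two_ne_zero' : (2 : K) ≠ 0 := by
  intro h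
  have h2 : ((2 : ℕ) : K) = 0 := by exact_mod_cast h
  rw [CharP.cast_eq_zero_iff K 3] at h2
  omega

theorem eq_one_or_neg_one (g : V2 K) (hdet : g.det = 1) (hsq : g * g = 1) : g = 1 ∨ g = -1 := by
  have h := ch2 g
  rw [hdet, one_smul, hsq] at h
  -- `t g = 2`
  have h2 : g.trace • g = (2 : K) • (1 : V2 K) := by
    rw [two_smul]
    rw [eq_sub_iff_add_eq] at h
    exact h.symm
  have ht : g.trace ≠ 0 := by
    intro h0
    rw [h0, zero_smul] at h2
    have := congrFun (congrFun h2 0) 0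
    simp at this
    exact two_ne_zero' (K := K) this.symm
  obtain ⟨c, hg⟩ : ∃ c : K, g = c • (1 : V2 K) := by
    refine ⟨g.trace⁻¹ * 2, ?_⟩
    have : g = g.trace⁻¹ • (g.trace • g) := by rw [smul_smul, inv_mul_cancel₀ ht, one_smul]
    rw [← smul_smul, ← h2]
    exact this
  have hc2 : c * c = 1 := by
    have h3 := hsq
    rw [hg, Matrix.smul_mul, Matrix.mul_smul, Matrix.one_mul, smul_smul] at h3
    have := congrFun (congrFun h3 0) 0
    simpa using this
  have hc3 : (c - 1) * (c + 1) = 0 := by ring_nf; rw [pow_two, hc2]; ring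
  rcases mul_eq_zero.1 hc3 with h4 | h4
  · left
    rw [hg, sub_eq_zero.1 h4, one_smul]
  · right
    rw [hg, eq_neg_of_add_eq_zero_left h4, neg_smul, one_smul]

theorem sig_det (g : V2 K) : (sig K g).det = g.det ^ 3 := by
  unfold sig
  rw [← RingHom.map_det]
  rfl

theorem sig_trace (g : V2 K) : (sig K g).trace = g.trace ^ 3 := by
  simp only [Matrix.trace, Fin.sum_univ_two, Matrix.diag_apply, sig_apply]
  exact (add_pow_char (g 0 0) (g 1 1) (p := 3)).symm

theorem sgn_eq_one_iff (s : ℤˣ) : sgn (K := K) s = 1 ↔ s = 1 := by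
  constructor
  · intro h
    rcases Int.units_eq_one_or s with hs | hs
    · exact hs
    · exfalso
      rw [hs, sgn_neg_one] at h
      have : (2 : K) = 0 := by
        have h1 : (1 : K) + 1 = 0 := by nth_rewrite 1 [← h]; ring
        rw [← h1]; ring
      exact two_ne_zero' (K := K) this
  · rintro rfl
    exact sgn_one

theorem mkGam_neg_one (g : Matrix.SpecialLinearGroup (Fin 2) K)
    (hg : (g : V2 K) = -1) : mkGam g 1 = 1 := by
  apply Subtype.ext
  apply LinearEquiv.ext
  intro X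
  rw [coe_mkGam, Phi_apply, hg, sgn_one, one_smul, map_neg, map_one, Matrix.transpose_neg,
    Matrix.transpose_one, Matrix.neg_mul, Matrix.one_mul, Matrix.mul_neg, Matrix.mul_one, neg_neg]
  rfl

theorem mkGam_one_one : mkGam (K := K) 1 1 = 1 := by
  apply Subtype.ext
  exact map_one (Phi K)

theorem mkGam_mul (g h : Matrix.SpecialLinearGroup (Fin 2) K) (s t : ℤˣ) :
    mkGam g s * mkGam h t = mkGam (g * h) (s * t) := by
  apply Subtype.ext
  rw [Subgroup.coe_mul, coe_mkGam, coe_mkGam, coe_mkGam, ← map_mul]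
  rfl

theorem mkGam_one_neg_smul (X : V2 K) : mkGam (K := K) 1 (-1) • X = -X := by
  rw [mkGam_smul, Matrix.SpecialLinearGroup.coe_one, map_one, Matrix.transpose_one, Matrix.one_mul,
    Matrix.mul_one, sgn_neg_one, neg_smul, one_smul]

theorem three_nsmul {k : ℕ} (w : Fin k → V2 K) : 3 • w = 0 := by
  funext i
  ext a b
  simp only [Pi.smul_apply, Matrix.smul_apply, Pi.zero_apply, Matrix.zero_apply, nsmul_eq_mul]
  have : ((3 : ℕ) : K) = 0 := CharP.cast_eq_zero K 3
  rw [this, zero_mul]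

section aff

open Cfsg.Agent.Helper2.AffExt

variable {G W : Type*} [Group G] [AddCommGroup W] [DistribMulAction G W]

theorem aff_pow_w_of_g_eq_one (a : Aff G W) (ha : a.g = 1) (n : ℕ) : (a ^ n).w = n • a.w := by
  induction n with
  | zero => rw [pow_zero, one_w, zero_smul]
  | succ n ih => rw [pow_succ, mul_w, ih, pow_g, ha, one_pow, one_smul, succ_nsmul]

/-- if `a.g ^ n = 1` then `a ^ n` is a translation, of order dividing `p` -/
theorem aff_pow_mul (p : ℕ) (hW : ∀ w : W, p • w = 0) (a : Aff G W) (n : ℕ) (h : a.g ^ n = 1) :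
    a ^ (n * p) = 1 := by
  rw [pow_mul]
  have hg : (a ^ n).g = 1 := by rw [pow_g, h]
  apply Aff.ext
  · rw [aff_pow_w_of_g_eq_one _ hg, hW, one_w]
  · rw [pow_g, hg, one_pow, one_g]

/-- if `a.g ^ n` acts as negation then `a ^ (2n) = 1` -/
theorem aff_pow_of_neg (a : Aff G W) (n : ℕ) (hneg : ∀ w : W, (a.g ^ n) • w = -w)
    (hsq : a.g ^ (n * 2) = 1) : a ^ (n * 2) = 1 := by
  rw [pow_mul, pow_two]
  apply Aff.ext
  · rw [mul_w, pow_g, hneg, add_neg_cancel, one_w]
  · rw [mul_g, pow_g, ← pow_two, ← pow_mul, hsq, one_g]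

end aff

end Cfsg.Agent.Helper10.RG3
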