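import Mathlib
import Cfsg.Agent.Lib.Helper10.RG3Basic

/-!
# S3626 (helper10): powers of elements of `Gam K` (backup versions of the pieces GAMSMALL, GAMTOR)
-/

set_option autoImplicit false
set_option linter.unusedSectionVars false
set_option linter.unusedVariables false

namespace Cfsg.Agent.Helper10.RG3

open Matrix

variable {K : Type*} [Field K] [CharP K 3]

theorem rg3h_units_pow_even (s : ℤˣ) (n : ℕ) (hn : Even n) : s ^ n = 1 := by
  obtain ⟨k, rfl⟩ := hn
  rw [← two_mul, pow_mul, Int.units_sq, one_pow]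

theorem rg3h_mkGam_of_coe_one (h : Matrix.SpecialLinearGroup (Fin 2) K) (s : ℤˣ)
    (hh : (h : V2 K) = 1) : mkGam h s = mkGam 1 s := by
  have : h = 1 := by
    apply Subtype.ext
    rw [hh]
    rfl
  rw [this]

theorem rg3h_mkGam_of_coe_neg_one (h : Matrix.SpecialLinearGroup (Fin 2) K) (s : ℤˣ)
    (hh : (h : V2 K) = -1) : mkGam h s = mkGam 1 s := by
  have h1 : mkGam h s = mkGam h 1 * mkGam 1 s := by
    rw [mkGam_mul, mul_one, one_mul]
  rw [h1, mkGam_neg_one h hh, one_mul]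

theorem Gam_sq_of_trace_zero' (g : Matrix.SpecialLinearGroup (Fin 2) K) (s : ℤˣ)
    (ht : (g : V2 K).trace = 0) : (mkGam g s) ^ 2 = 1 := by
  rw [mkGam_pow, Int.units_sq]
  apply mkGam_neg_one
  rw [Matrix.SpecialLinearGroup.coe_pow, pow_two]
  exact sq_of_trace_zero (g : V2 K) g.2 ht

theorem Gam_cube_of_trace_sq' (g : Matrix.SpecialLinearGroup (Fin 2) K) (s : ℤˣ)
    (ht : (g : V2 K).trace ^ 2 = 1) : (mkGam g s) ^ 3 = mkGam 1 s := by
  have hs3 : s ^ 3 = s := by
    rw [pow_succ, Int.units_sq, one_mul]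
  rw [mkGam_pow, hs3]
  have h3 : ((g ^ 3 : Matrix.SpecialLinearGroup (Fin 2) K) : V2 K) =
      (-(g : V2 K).trace) • (1 : V2 K) := by
    rw [Matrix.SpecialLinearGroup.coe_pow, pow_succ, pow_two]
    exact cube_of_trace_sq (g : V2 K) g.2 ht
  have ht2 : ((g : V2 K).trace - 1) * ((g : V2 K).trace + 1) = 0 := by
    have : ((g : V2 K).trace - 1) * ((g : V2 K).trace + 1) = (g : V2 K).trace ^ 2 - 1 := by ring
    rw [this, ht, sub_self]
  rcases mul_eq_zero.1 ht2 with h | h
  · apply rg3h_mkGam_of_coe_neg_one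
    rw [h3, sub_eq_zero.1 h, neg_smul, one_smul]
  · apply rg3h_mkGam_of_coe_one
    rw [h3, eq_neg_of_add_eq_zero_left h, neg_neg, one_smul]

theorem Gam_torus_pow_of' [Fintype K] (hq4 : 4 ∣ Fintype.card K + 1)
    (g : Matrix.SpecialLinearGroup (Fin 2) K) (s : ℤˣ)
    (h : (g : V2 K) ^ (Fintype.card K - 1) = 1 ∨ (g : V2 K) ^ (Fintype.card K + 1) = 1) :
    (mkGam g s) ^ (Fintype.card K - 1) = 1 ∨ (mkGam g s) ^ ((Fintype.card K + 1) / 2) = 1 := by
  obtain ⟨j, hj⟩ := hq4
  rcases h with h | h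
  · left
    have he : Even (Fintype.card K - 1) := ⟨2 * j - 1, by omega⟩
    rw [mkGam_pow, rg3h_units_pow_even s _ he, rg3h_mkGam_of_coe_one _ 1
      (by rw [Matrix.SpecialLinearGroup.coe_pow]; exact h)]
    exact mkGam_one_one
  · right
    have hn : (Fintype.card K + 1) / 2 = 2 * j := by omega
    have he : Even ((Fintype.card K + 1) / 2) := ⟨j, by omega⟩
    rw [mkGam_pow, rg3h_units_pow_even s _ he]
    set hh : Matrix.SpecialLinearGroup (Fin 2) K := g ^ ((Fintype.card K + 1) / 2) with hhdef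
    have hsq : (hh : V2 K) * (hh : V2 K) = 1 := by
      rw [hhdef, Matrix.SpecialLinearGroup.coe_pow, ← pow_add]
      have : (Fintype.card K + 1) / 2 + (Fintype.card K + 1) / 2 = Fintype.card K + 1 := by omega
      rw [this]
      exact h
    rcases eq_one_or_neg_one (hh : V2 K) hh.2 hsq with h1 | h1
    · rw [rg3h_mkGam_of_coe_one hh 1 h1]
      exact mkGam_one_one
    · exact mkGam_neg_one hh h1

end Cfsg.Agent.Helper10.RG3
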