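import Mathlib
import Cfsg.Agent.Lib.Helper10.RG3Defs
import Cfsg.Agent.Lib.Helper10.RG3Basic
import Cfsg.Agent.Lib.RG3.RG3FIX
import Cfsg.Agent.Lib.RG3.RG3KER
import Cfsg.Agent.Lib.RG3.RG3TORP
import Cfsg.Agent.Lib.RG3.RG3TOR
import Cfsg.Agent.Lib.Helper10.RG3Gam
import Cfsg.Agent.Lib.RG3.RG3AFFSURJ
import Cfsg.Agent.Lib.RG3.RG3AFFCONJ
import Cfsg.Agent.Lib.RG3.RG3EX9
import Cfsg.Agent.Lib.RG3.RG3EX6
import Cfsg.Agent.Lib.RG3.RG3EXQM
import Cfsg.Agent.Lib.RG3.RG3EXQP
import Cfsg.Agent.Lib.RG3.RG3CARD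
import Cfsg.Agent.Lib.RG3.RG3FLD
import Cfsg.Agent.Lib.RG3.RG3COMB

/-!
# S3626 (helper10): assembly of the pieces
-/

set_option autoImplicit false
set_option linter.unusedSectionVars false
set_option linter.unusedVariables false

namespace Cfsg.Agent.Helper10.RG3

open Matrix Polynomial Cfsg.Agent.Helper2.AffExt

universe u v

section spec2

variable {K : Type*} [Field K] [CharP K 3] [Fintype K]

theorem torus_pow (g : V2 K) (hdet : g.det = 1) (ht : g.trace ^ 2 ≠ 1) :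
    g ^ (Fintype.card K - 1) = 1 ∨ g ^ (Fintype.card K + 1) = 1 := by
  rcases quad_dvd g.trace ht with h | h
  · exact Or.inl (torus_pow_of_dvd g hdet _ h)
  · exact Or.inr (torus_pow_of_dvd g hdet _ h)

theorem Gam_torus_pow (hq4 : 4 ∣ Fintype.card K + 1)
    (g : Matrix.SpecialLinearGroup (Fin 2) K) (s : ℤˣ) (ht : (g : V2 K).trace ^ 2 ≠ 1) :
    (mkGam g s) ^ (Fintype.card K - 1) = 1 ∨ (mkGam g s) ^ ((Fintype.card K + 1) / 2) = 1 :=
  Gam_torus_pow_of' hq4 g s (torus_pow (g : V2 K) g.2 ht)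

/-- the upper bound -/
theorem Kk_orderOf (hns : ∀ x : K, x ^ 2 ≠ -1) (hq4 : 4 ∣ Fintype.card K + 1) {k : ℕ}
    (a : Kk K k) : PK (Fintype.card K) (orderOf a) := by
  obtain ⟨g, s, hgs⟩ := Gam_eq_mkGam a.g
  by_cases h0 : (g : V2 K).trace = 0
  · left
    apply orderOf_dvd_of_pow_eq_one
    have h1 : a.g ^ 2 = 1 := by rw [hgs]; exact Gam_sq_of_trace_zero' g s h0
    exact aff_pow_mul 3 three_nsmul a 2 h1
  by_cases h1 : (g : V2 K).trace ^ 2 = 1
  · have h3 : a.g ^ 3 = mkGam 1 s := by rw [hgs]; exact Gam_cube_of_trace_sq' g s h1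
    rcases Int.units_eq_one_or s with hs | hs
    · right; left
      apply orderOf_dvd_of_pow_eq_one
      have h4 : a.g ^ 3 = 1 := by
        rw [h3, hs]
        exact mkGam_one_one
      exact aff_pow_mul 3 three_nsmul a 3 h4
    · left
      apply orderOf_dvd_of_pow_eq_one
      have h4 : ∀ w : Fin k → V2 K, (a.g ^ 3) • w = -w := by
        intro w
        rw [h3, hs]
        funext i
        rw [Gam_smul_pi, ← Gam_smul, mkGam_one_neg_smul]
        rfl
      have h5 : a.g ^ (3 * 2) = 1 := by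
        rw [pow_mul, h3, mkGam_pow, one_pow, hs]
        exact mkGam_one_one
      exact aff_pow_of_neg a 3 h4 h5
  · have hfpf : ∀ X : V2 K, a.g • X = X → X = 0 := by
      intro X hX
      by_contra hX0
      rw [hgs, mkGam_smul] at hX
      rcases fix_trace hns (g : V2 K) g.2 (sgn s) (sgn_eq s) X hX0 hX with h | h
      · exact h0 h
      · exact h1 h
    obtain ⟨v, hv⟩ := exists_sub_smul a.g hfpf a.w
    rw [aff_orderOf_eq a v hv, hgs]
    rcases Gam_torus_pow hq4 g s h1 with h | h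
    · right; right; left
      exact orderOf_dvd_of_pow_eq_one h
    · right; right; right
      exact orderOf_dvd_of_pow_eq_one h

/-- aux: divisors of an order are orders -/
theorem exists_orderOf_of_dvd {G : Type*} [Group G] [Finite G] (a : G) (d : ℕ) (hd : d ∣ orderOf a) :
    ∃ b : G, orderOf b = d := by
  have hpos : 0 < orderOf a := orderOf_pos a
  obtain ⟨e, he⟩ := hd
  refine ⟨a ^ e, ?_⟩
  have he0 : e ≠ 0 := by
    rintro rfl
    rw [mul_zero] at he
    omega
  rw [orderOf_pow_of_dvd he0 ⟨d, by rw [he, mul_comm]⟩, he]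
  exact Nat.mul_div_cancel _ (Nat.pos_of_ne_zero he0)

/-- existence -/
theorem Kk_exists (hq4 : 4 ∣ Fintype.card K + 1) {k : ℕ} (hk : 1 ≤ k) (d : ℕ)
    (hd : PK (Fintype.card K) d) : ∃ a : Kk K k, orderOf a = d := by
  have hincl : ∀ A : Gam K, orderOf (incl A : Kk K k) = orderOf A := fun A =>
    orderOf_injective (incl : Gam K →* Kk K k) incl_injective A
  rcases hd with h | h | h | h
  · obtain ⟨A, hA⟩ := exists_order_six (K := K)
    exact exists_orderOf_of_dvd (incl A : Kk K k) d (by rw [hincl, hA]; exact h)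
  · obtain ⟨a, ha⟩ := exists_order_nine (K := K) hk
    exact exists_orderOf_of_dvd a d (by rw [ha]; exact h)
  · obtain ⟨A, hA⟩ := exists_order_qm (K := K) hq4
    exact exists_orderOf_of_dvd (incl A : Kk K k) d (by rw [hincl, hA]; exact h)
  · obtain ⟨A, hA⟩ := exists_order_qp (K := K) hq4
    exact exists_orderOf_of_dvd (incl A : Kk K k) d (by rw [hincl, hA]; exact h)

end spec2

section asm

theorem PK_imp_PG (m d : ℕ) (h : PK (3 ^ (2 * m + 1)) d) : PG m d := by
  rcases h with h | h | h | h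
  · exact Or.inl h
  · exact Or.inr (Or.inl h)
  · exact Or.inr (Or.inr (Or.inl h))
  · exact Or.inr (Or.inr (Or.inr (Or.inl h)))

theorem orderOf3 {A B C : Type*} [Monoid A] [Monoid B] [Monoid C] (x : A × B × C) :
    orderOf x = Nat.lcm (orderOf x.1) (Nat.lcm (orderOf x.2.1) (orderOf x.2.2)) := by
  rw [Prod.orderOf, Prod.orderOf x.2]

/-- the generic assembly -/
theorem main_of {J : Type u} [Group J] [Finite J] {L : ℕ → Type v} [∀ n, Group (L n)]
    [∀ n, Finite (L n)] (P Q : ℕ → Prop)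
    (hJ : ∀ d, (∃ g : J, orderOf g = d) ↔ P d)
    (hL : ∀ n d, (∃ g : L n, orderOf g = d) ↔ Q d)
    (hcard : ∀ n, n < Nat.card (L n))
    (hQP : ∀ d, Q d → P d)
    (hcomb : ∀ a b c, P a → P b → P c → ∃ e a' b', Q e ∧ P a' ∧ P b' ∧
      Nat.lcm e (Nat.lcm a' b') = Nat.lcm a (Nat.lcm b c))
    (N : ℕ) :
    ∃ (H : Type) (_ : Group H) (_ : Fintype H), N < Fintype.card H ∧
      Set.range (orderOf : H → ℕ) = Set.range (orderOf : J × J × J → ℕ) := by
  classical
  have : Small.{0} (L N × J × J) := Countable.toSmall _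
  let e : Shrink.{0} (L N × J × J) ≃* L N × J × J := Shrink.mulEquiv
  have : Finite (Shrink.{0} (L N × J × J)) := Finite.of_equiv _ e.symm.toEquiv
  have : Fintype (Shrink.{0} (L N × J × J)) := Fintype.ofFinite _
  refine ⟨Shrink.{0} (L N × J × J), inferInstance, inferInstance, ?_, ?_⟩
  · rw [← Nat.card_eq_fintype_card, Nat.card_congr e.toEquiv, Nat.card_prod]
    have h1 : 0 < Nat.card (J × J) := Nat.card_pos
    calc N < Nat.card (L N) := hcard N
      _ = Nat.card (L N) * 1 := (Nat.mul_one _).symm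
      _ ≤ Nat.card (L N) * Nat.card (J × J) := Nat.mul_le_mul_left _ h1
  · ext n
    simp only [Set.mem_range]
    constructor
    · rintro ⟨x, rfl⟩
      obtain ⟨d, hd⟩ := (hJ _).2 (hQP _ ((hL N _).1 ⟨(e x).1, rfl⟩))
      refine ⟨(d, (e x).2.1, (e x).2.2), ?_⟩
      rw [← e.orderOf_eq x, orderOf3, orderOf3]
      simp only
      rw [hd]
    · rintro ⟨⟨a, b, c⟩, rfl⟩
      obtain ⟨e0, a', b', he, ha', hb', hl⟩ :=
        hcomb (orderOf a) (orderOf b) (orderOf c) ((hJ _).1 ⟨a, rfl⟩) ((hJ _).1 ⟨b, rfl⟩)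
          ((hJ _).1 ⟨c, rfl⟩)
      obtain ⟨k, hk⟩ := (hL N e0).2 he
      obtain ⟨ja, hja⟩ := (hJ a').2 ha'
      obtain ⟨jb, hjb⟩ := (hJ b').2 hb'
      refine ⟨e.symm (k, ja, jb), ?_⟩
      rw [e.symm.orderOf_eq, orderOf3, orderOf3]
      simp only
      rw [hk, hja, hjb, hl]

end asm

end Cfsg.Agent.Helper10.RG3
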