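import Mathlib
import Cfsg.Agent.Lib.Helper24.S3ADefs
import Cfsg.Agent.Lib.Helper27.S3AGEO
import Cfsg.Agent.Lib.Helper15.S3AZB1
import Cfsg.Agent.Lib.Helper21.S3ACD
import Cfsg.Agent.Lib.Helper1.S3AYBASIC
import Cfsg.Agent.Lib.Helper19.S3AYTYPE
import Cfsg.Agent.Lib.Helper10.S3ACP

/-! # S2858, chapter Y, piece YCC : the `y`'s at the ends of a critical geodesic (helper10) -/

set_option autoImplicit false

namespace Cfsg.Agent.Helper24.S3A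

open MulAction
open scoped commutatorElement

variable {G : Type*} [Group G] {V : Type*} [MulAction G V] {Γ : SimpleGraph V}

section YC
variable (h : Amal G Γ) {y : V → G} (hy : YData G Γ y)
include h hy

theorem YData.not_mem_Qk_of_crit (hb : 2 ≤ critDist G Γ) {α α' : V} (hc : IsCrit G Γ α α') {p : ℕ → V}
    (hp : IsGeo Γ (critDist G Γ) p) (h0 : p 0 = α) (hb' : p (critDist G Γ) = α') {μ : V} (hμ : Γ.Adj α μ)
    (hμ1 : μ ≠ p 1) : y μ ∈ Zv G Γ α ∧ y μ ∉ Qk G Γ α' := by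
  have hZ : y μ ∈ Zv G Γ α := hy.mem_Zv_of_adj h hμ
  refine ⟨hZ, fun hQ => ?_⟩
  have hadj1 : Γ.Adj α (p 1) := CP_adj_first h hc hp h0 hb'
  have h1 : y μ ∈ OZ (Ge G α (p 1)) := by
    rw [← crit_inf_Qk h hc hp h0 hb']
    exact Subgroup.mem_inf.mpr ⟨hZ, hQ⟩
  have h2 : y μ ∈ OZ (Ge G α μ) := (hy.OZ_eq α μ hμ (y μ)).mpr (Or.inr (Or.inr (Or.inl rfl)))
  have h3 : y μ ∈ Yv G Γ α := by
    rw [← OZ_inf_OZ h hμ hadj1 hμ1]
    exact Subgroup.mem_inf.mpr ⟨h2, h1⟩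
  rcases (hy.Yv_eq α (y μ)).mp h3 with h4 | h4
  · exact hy.ne_one μ h4
  · exact hy.ne_of_adj h hμ h4.symm

theorem YData.comm_crit (hb : 2 ≤ critDist G Γ) {α α' : V} (hc : IsCrit G Γ α α') {p : ℕ → V}
    (hp : IsGeo Γ (critDist G Γ) p) (h0 : p 0 = α) (hb' : p (critDist G Γ) = α') {μ ν : V} (hμ : Γ.Adj α μ)
    (hμ1 : μ ≠ p 1) (hν : Γ.Adj α' ν) (hν1 : ν ≠ p (critDist G Γ - 1)) :
    ⁅y μ, y ν⁆ ≠ 1 ∧ ⁅y μ, y ν⁆ ∈ ⁅Zv G Γ α, Ge G α (p 1)⁆ ∧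
      ⁅y μ, y ν⁆ ∈ ⁅Zv G Γ α', Ge G α' (p (critDist G Γ - 1))⁆ := by
  obtain ⟨hz, hzQ⟩ := hy.not_mem_Qk_of_crit h hb hc hp h0 hb' hμ hμ1
  have hc' : IsCrit G Γ α' α := crit_symm h hc hp h0 hb'
  have hp' : IsGeo Γ (critDist G Γ) (fun i => p (critDist G Γ - i)) := hp.reverse h
  have h0' : (fun i => p (critDist G Γ - i)) 0 = α' := by simpa using hb'
  have hb'' : (fun i => p (critDist G Γ - i)) (critDist G Γ) = α := by simpa using h0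
  obtain ⟨hz', hzQ'⟩ := hy.not_mem_Qk_of_crit h hb hc' hp' h0' hb'' hν hν1
  obtain ⟨hne, -, -, -, hall, hall'⟩ := crit_comm_elt h hc hp h0 hb' hz hzQ hz' hzQ'
  exact ⟨hne, (hall _).mpr (Or.inr rfl), (hall' _).mpr (Or.inr rfl)⟩

/-- the generator of `R` and the two path edges at the ends of a critical geodesic -/
theorem YCC_exists_gen {α α' : V} (hc : IsCrit G Γ α α') {p : ℕ → V}
    (hp : IsGeo Γ (critDist G Γ) p) (h0 : p 0 = α) (hb' : p (critDist G Γ) = α') :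
    Γ.Adj α (p 1) ∧ Γ.Adj α' (p (critDist G Γ - 1)) ∧ ∃ c : G, c ≠ 1 ∧
      (∀ x : G, x ∈ ⁅Zv G Γ α, Ge G α (p 1)⁆ ↔ x = 1 ∨ x = c) ∧
      (∀ x : G, x ∈ ⁅Zv G Γ α', Ge G α' (p (critDist G Γ - 1))⁆ ↔ x = 1 ∨ x = c) := by
  have hadj1 : Γ.Adj α (p 1) := CP_adj_first h hc hp h0 hb'
  have hbpos : 1 ≤ critDist G Γ := critDist_pos h
  have hlt : critDist G Γ - 1 < critDist G Γ := by omega
  have hadj : Γ.Adj (p (critDist G Γ - 1)) (p (critDist G Γ - 1 + 1)) := hp.adj hlt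
  have hi' : critDist G Γ - 1 + 1 = critDist G Γ := by omega
  rw [hi', hb'] at hadj
  obtain ⟨z, hz, hzQ⟩ := SetLike.not_le_iff_exists.mp hc.1
  obtain ⟨z', hz', hzQ'⟩ := crit_exists_elt h hc hp h0 hb'
  obtain ⟨hne, -, -, -, hall, hall'⟩ := crit_comm_elt h hc hp h0 hb' hz hzQ hz' hzQ'
  exact ⟨hadj1, hadj.symm, ⁅z, z'⁆, hne, hall, hall'⟩

/-- type A at both ends of a critical pair: `y_{p 1} = y_{p (b-1)}` -/
theorem YData.crit_eq_of_tyA (hb : 2 ≤ critDist G Γ) {α α' : V} (hc : IsCrit G Γ α α') {p : ℕ → V}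
    (hp : IsGeo Γ (critDist G Γ) p) (h0 : p 0 = α) (hb' : p (critDist G Γ) = α') (hA : TyA G Γ y α)
    (hA' : TyA G Γ y α') : y (p 1) = y (p (critDist G Γ - 1)) := by
  obtain ⟨hadj1, hadj2, c, -, hall, hall'⟩ := YCC_exists_gen h hy hc hp h0 hb'
  have e1 : y (p 1) = c := by
    have hm : y (p 1) ∈ ⁅Zv G Γ α, Ge G α (p 1)⁆ := (hy.comm_tyA h hadj1 hA _).mpr (Or.inr rfl)
    rcases (hall _).mp hm with h1 | h1
    · exact absurd h1 (hy.ne_one _)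
    · exact h1
  have e2 : y (p (critDist G Γ - 1)) = c := by
    have hm : y (p (critDist G Γ - 1)) ∈ ⁅Zv G Γ α', Ge G α' (p (critDist G Γ - 1))⁆ :=
      (hy.comm_tyA h hadj2 hA' _).mpr (Or.inr rfl)
    rcases (hall' _).mp hm with h1 | h1
    · exact absurd h1 (hy.ne_one _)
    · exact h1
  rw [e1, e2]

theorem YCC_mul_ne_one {δ μ : V} (hadj : Γ.Adj δ μ) : y δ * y μ ≠ 1 := by
  intro h1
  have h2 : y δ = (y μ)⁻¹ := eq_inv_of_mul_eq_one_left h1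
  have h3 : (y μ)⁻¹ = y μ := by
    rw [inv_eq_iff_mul_eq_one, ← pow_two]; exact hy.sq μ
  exact hy.ne_of_adj h hadj (h2.trans h3)

/-- type B at both ends of a critical pair -/
theorem YData.crit_eq_of_tyB (hb : 2 ≤ critDist G Γ) {α α' : V} (hc : IsCrit G Γ α α') {p : ℕ → V}
    (hp : IsGeo Γ (critDist G Γ) p) (h0 : p 0 = α) (hb' : p (critDist G Γ) = α') (hB : TyB G Γ y α)
    (hB' : TyB G Γ y α') : y α * y (p 1) = y α' * y (p (critDist G Γ - 1)) := by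
  obtain ⟨hadj1, hadj2, c, -, hall, hall'⟩ := YCC_exists_gen h hy hc hp h0 hb'
  have e1 : y α * y (p 1) = c := by
    have hm : y α * y (p 1) ∈ ⁅Zv G Γ α, Ge G α (p 1)⁆ := (hy.comm_tyB h hadj1 hB _).mpr (Or.inr rfl)
    rcases (hall _).mp hm with h1 | h1
    · exact absurd h1 (YCC_mul_ne_one h hy hadj1)
    · exact h1
  have e2 : y α' * y (p (critDist G Γ - 1)) = c := by
    have hm : y α' * y (p (critDist G Γ - 1)) ∈ ⁅Zv G Γ α', Ge G α' (p (critDist G Γ - 1))⁆ :=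
      (hy.comm_tyB h hadj2 hB' _).mpr (Or.inr rfl)
    rcases (hall' _).mp hm with h1 | h1
    · exact absurd h1 (YCC_mul_ne_one h hy hadj2)
    · exact h1
  rw [e1, e2]

end YC

end Cfsg.Agent.Helper24.S3A
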