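import Mathlib
import Cfsg.Agent.Lib.Helper24.S3ADefs
import Cfsg.Agent.Lib.Helper10.S3AYCC

/-! # S2858, chapter G2, piece YEQ (helper10): wrapper over `YData.crit_eq_of_tyA` (piece YCC) -/

set_option autoImplicit false

namespace Cfsg.Agent.Helper24.S3A

open MulAction
open scoped commutatorElement

variable {G : Type*} [Group G] {V : Type*} [MulAction G V] {Γ : SimpleGraph V}

/-- `⁅z,z'⁆` generates `[Z_α,G_{α p1}] = ⟨y_{p1}⟩` and `[Z_α',G_{α' p(b-1)}] = ⟨y_{p(b-1)}⟩` -/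
theorem crit_y_eq_of_tyA (h : Amal G Γ) (hb : 2 ≤ critDist G Γ) {y : V → G} (hy : YData G Γ y) {α α' : V}
    (hc : IsCrit G Γ α α') {p : ℕ → V} (hp : IsGeo Γ (critDist G Γ) p) (h0 : p 0 = α)
    (hb' : p (critDist G Γ) = α') (hA : TyA G Γ y α) (hA' : TyA G Γ y α') :
    y (p 1) = y (p (critDist G Γ - 1)) :=
  hy.crit_eq_of_tyA h hb hc hp h0 hb' hA hA'

end Cfsg.Agent.Helper24.S3A
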