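import Mathlib
import Cfsg.Prelude.Def_PLocal
import Cfsg.Prelude.Def_LocalEven
import Cfsg.Agent.Lib.Helper10.Cores
import Cfsg.Agent.Lib.Helper10.SecFusion
import Cfsg.Agent.Lib.Helper1.ThompsonNPCFinal
import Cfsg.Agent.Lib.Helper3.Thompson
import Cfsg.Agent.Lib.Helper7.Fitting
import Cfsg.Agent.Lib.Helper14.FFTwoAmbient
import Cfsg.Agent.Lib.Helper14.S4Inv
import Cfsg.Agent.Lib.Helper14.S4Section
import Cfsg.Agent.Lib.Helper16.Solvable2
import Cfsg.Agent.Lib.Helper21.FittingSubgroup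
import Cfsg.Agent.Lib.Helper23.PSolvable
import Cfsg.Agent.Lib.Helper27.Timmesfeld
import Cfsg.Agent.Lib.Helper27.ThompsonQuot

set_option autoImplicit false

/-! Solvable `S₄`-free groups with Sylow `2`-subgroups of class at most two: the elementary
abelian subgroups of largest order of a Sylow `2`-subgroup lie in `O_2` when `O_{2'} = 1`. -/

namespace Cfsg.Agent.Helper10.S4C2

open Cfsg Subgroup
open scoped commutatorElement

universe u

section general

variable {X : Type*} [Group X]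

/-- If `O_2(X) = 1` then the Fitting subgroup has odd order. -/
theorem card_fitting_coprime_two [Finite X] (hO : pCore 2 X = ⊥) :
    (Nat.card (fittingSubgroup X)).Coprime 2 := by
  haveI : Fact (Nat.Prime 2) := ⟨Nat.prime_two⟩
  have hFn : (fittingSubgroup X).Normal := Cfsg.Agent.Helper7.fittingSubgroup_normal'
  have hFnil : Group.IsNilpotent ↥(fittingSubgroup X) :=
    Cfsg.Agent.Helper21.fittingSubgroup_isNilpotent X
  rw [Nat.coprime_comm, Nat.Prime.coprime_iff_not_dvd Nat.prime_two]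
  intro hdvd
  obtain ⟨Q⟩ : Nonempty (Sylow 2 ↥(fittingSubgroup X)) := inferInstance
  have hQn : (Q : Subgroup ↥(fittingSubgroup X)).Normal :=
    Sylow.normal_of_normalizerCondition Group.normalizerCondition_of_isNilpotent Q
  have hQc : (Q : Subgroup ↥(fittingSubgroup X)).Characteristic :=
    Sylow.characteristic_of_normal Q hQn
  have hQG : ((Q : Subgroup ↥(fittingSubgroup X)).map (fittingSubgroup X).subtype).Normal :=
    ConjAct.normal_of_characteristic_of_normal
  have hQp : IsPGroup 2 ((Q : Subgroup ↥(fittingSubgroup X)).map (fittingSubgroup X).subtype) :=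
    Q.2.map _
  have hle := le_pCore' hQG hQp
  rw [hO, le_bot_iff] at hle
  have hQbot : (Q : Subgroup ↥(fittingSubgroup X)) = ⊥ := by
    rw [eq_bot_iff]
    intro x hx
    have : (x : X) ∈ (Q : Subgroup ↥(fittingSubgroup X)).map (fittingSubgroup X).subtype :=
      ⟨x, hx, rfl⟩
    rw [hle, Subgroup.mem_bot] at this
    rw [Subgroup.mem_bot]
    exact Subtype.ext this
  exact Q.ne_bot_of_dvd_card hdvd hQbot

/-- In a group of class two, commutators are central; a commutator with an involution is an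
involution. -/
theorem comm_facts {S : Subgroup X} (hcl : Subgroup.lowerCentralSeries S 2 = ⊥) {x y : X}
    (hx : x ∈ S) (hy : y ∈ S) :
    (∀ z ∈ S, z * ⁅x, y⁆ = ⁅x, y⁆ * z) ∧ (y ^ 2 = 1 → ⁅x, y⁆ ^ 2 = 1) := by
  have hc : ∀ z ∈ S, z * ⁅x, y⁆ = ⁅x, y⁆ * z := by
    intro z hz
    have h1 : ⁅⁅x, y⁆, z⁆ ∈ Subgroup.lowerCentralSeries S 2 := by
      rw [Subgroup.lowerCentralSeries_succ, Subgroup.lowerCentralSeries_succ,
        Subgroup.lowerCentralSeries_zero]
      exact Subgroup.commutator_mem_commutator (Subgroup.commutator_mem_commutator hx hy) hz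
    rw [hcl, Subgroup.mem_bot] at h1
    exact (commutatorElement_eq_one_iff_mul_comm.mp h1).symm
  refine ⟨hc, fun hy2 => ?_⟩
  set c := ⁅x, y⁆ with hcdef
  have h1 : x * y * x⁻¹ = c * y := by rw [hcdef, commutatorElement_def]; group
  have h2 : x * y ^ 2 * x⁻¹ = (c * y) ^ 2 := by
    rw [← h1, pow_two, pow_two]; group
  have h3 : (c * y) ^ 2 = c ^ 2 * y ^ 2 := by
    have : Commute c y := (hc y hy).symm
    exact this.mul_pow 2
  rw [hy2, mul_one, mul_inv_cancel, h3, hy2, mul_one] at h2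
  exact h2.symm

end general

section core

variable {H : Type u} [Group H] [Finite H]

open Cfsg.Agent.Helper1.TNPC Cfsg.Agent.Helper27 Cfsg.Agent.Helper1.BO

/-- **Core lemma.** `H` solvable, `S₄`-free, `O_{2'}(H) = 1`, Sylow `2`-subgroup `S` of class at
most two: every elementary abelian subgroup of `S` of largest order lies in `O_2(H)`. -/
theorem core (hsol : Group.IsSolvable H) (hO : pPrimeCore 2 H = ⊥)
    (hS4 : ¬ Cfsg.Involves (Equiv.Perm (Fin 4)) H) (S : Sylow 2 H)
    (hcl : Subgroup.lowerCentralSeries (S : Subgroup H) 2 = ⊥)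
    (A : Subgroup H) (hA : A ∈ relMaxEA 2 (S : Subgroup H)) : A ≤ pCore 2 H := by
  classical
  haveI : Fact (Nat.Prime 2) := ⟨Nat.prime_two⟩
  by_contra hAR
  obtain ⟨hAS, hAe, hAmax⟩ := hA
  set R := pCore 2 H with hR
  haveI hRn : R.Normal := pCore_normal 2
  have hRp : IsPGroup 2 R := pCore_isPGroup 2
  have hRS : R ≤ S := Cfsg.Agent.Helper23.PSolv.pCore_le_sylow S
  have hCR : centralizer (R : Set H) ≤ R :=
    Cfsg.Agent.Helper16.centralizer_pCore_le_of_isSolvable 2 hsol hO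
  -- `Ω₁(Z(S))`, its normal closure `W`, inside `Ω₁(Z(R))`
  set ZS := omegaZ 2 (S : Subgroup H) with hZS
  set W := Subgroup.normalClosure (ZS : Set H) with hW
  set VR := omegaZ 2 R with hVR
  haveI hVRn : VR.Normal := omegaZ_normal 2 R
  have hVRe : IsElementaryAbelian 2 VR := omegaZ_isElementaryAbelian 2 R
  have hZV : ZS ≤ VR := by
    intro z hz
    obtain ⟨hz1, hz2⟩ := mem_omegaZ.mp hz
    obtain ⟨hzS, hzc⟩ := mem_zOf.mp hz1
    have hzR : z ∈ R := by
      apply hCR
      rw [mem_centralizer_iff]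
      intro r hr
      exact hzc r (hRS hr)
    exact mem_omegaZ.mpr ⟨mem_zOf.mpr ⟨hzR, fun r hr => hzc r (hRS hr)⟩, hz2⟩
  have hWV : W ≤ VR := Subgroup.normalClosure_le_normal hZV
  haveI hWn : W.Normal := Subgroup.normalClosure_normal
  have hZW : ZS ≤ W := Subgroup.subset_normalClosure
  have hVRR : VR ≤ R := (omegaZ_le_zOf 2 R).trans (zOf_le R)
  have hWR : W ≤ R := hWV.trans hVRR
  have hWe : IsElementaryAbelian 2 W := by
    refine ⟨⟨⟨?_⟩⟩, fun a ha => hVRe.2 a (hWV ha)⟩
    rintro ⟨a, ha⟩ ⟨b, hb⟩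
    apply Subtype.ext
    exact Cfsg.Agent.Helper3.IsElementaryAbelian.commute hVRe (hWV ha) (hWV hb)
  have hRW : ∀ r ∈ R, ∀ w ∈ W, r * w = w * r := by
    intro r hr w hw
    exact (mem_zOf.mp ((omegaZ_le_zOf 2 R) (hWV hw))).2 r hr
  set C := centralizer (W : Set H) with hC
  haveI hCn : C.Normal := Subgroup.normal_centralizer
  have hRC : R ≤ C := by
    intro r hr
    rw [hC, mem_centralizer_iff]
    intro w hw
    exact (hRW r hr w hw).symm
  -- commutators of `R` with `A` lie in `ZS`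
  have hcomm : ∀ r ∈ R, ∀ a ∈ A, ⁅r, a⁆ ∈ ZS := by
    intro r hr a ha
    obtain ⟨h1, h2⟩ := comm_facts hcl (hRS hr) (hAS ha)
    refine mem_omegaZ.mpr ⟨mem_zOf.mpr ⟨?_, h1⟩, h2 (hAe.2 a ha)⟩
    rw [commutatorElement_def]
    exact (S : Subgroup H).mul_mem ((S : Subgroup H).mul_mem ((S : Subgroup H).mul_mem
      (hRS hr) (hAS ha)) ((S : Subgroup H).inv_mem (hRS hr))) ((S : Subgroup H).inv_mem (hAS ha))
  -- the stabilizer of the chain `1 ≤ W ≤ R`
  let K : Subgroup H :=
    { carrier := {g | g ∈ C ∧ ∀ r ∈ R, ⁅r, g⁆ ∈ W}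
      one_mem' := ⟨C.one_mem, fun r _ => by rw [commutatorElement_one_right]; exact W.one_mem⟩
      mul_mem' := by
        rintro g h ⟨hg1, hg2⟩ ⟨hh1, hh2⟩
        refine ⟨C.mul_mem hg1 hh1, fun r hr => ?_⟩
        have : ⁅r, g * h⁆ = ⁅r, g⁆ * (g * ⁅r, h⁆ * g⁻¹) := by
          simp only [commutatorElement_def]; group
        rw [this]
        exact W.mul_mem (hg2 r hr) (hWn.conj_mem _ (hh2 r hr) g)
      inv_mem' := by
        rintro g ⟨hg1, hg2⟩
        refine ⟨C.inv_mem hg1, fun r hr => ?_⟩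
        have : ⁅r, g⁻¹⁆ = g⁻¹ * (⁅r, g⁆)⁻¹ * g⁻¹⁻¹ := by
          simp only [commutatorElement_def]; group
        rw [this]
        exact hWn.conj_mem _ (W.inv_mem (hg2 r hr)) g⁻¹ }
  have hKmem : ∀ g, g ∈ K ↔ g ∈ C ∧ ∀ r ∈ R, ⁅r, g⁆ ∈ W := fun g => Iff.rfl
  have hKn : K.Normal := by
    constructor
    intro g hg x
    obtain ⟨hg1, hg2⟩ := (hKmem g).mp hg
    refine (hKmem _).mpr ⟨hCn.conj_mem g hg1 x, fun r hr => ?_⟩
    have : ⁅r, x * g * x⁻¹⁆ = x * ⁅x⁻¹ * r * x⁻¹⁻¹, g⁆ * x⁻¹ := by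
      simp only [commutatorElement_def]; group
    rw [this]
    exact hWn.conj_mem _ (hg2 _ (hRn.conj_mem r hr x⁻¹)) x
  have hKsq : ∀ g ∈ K, g * g ∈ R := by
    intro g hg
    obtain ⟨hg1, hg2⟩ := (hKmem g).mp hg
    apply hCR
    rw [mem_centralizer_iff]
    intro r hr
    -- `r g = w g r` with `w = [r,g] ∈ W` central for `g`, `w² = 1`
    set w := ⁅r, g⁆ with hw
    have hwW : w ∈ W := hg2 r hr
    have hw2 : w * w = 1 := by
      have := hWe.2 w hwW
      rwa [pow_two] at this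
    have hwg : w * g = g * w := by
      rw [hC, mem_centralizer_iff] at hg1
      exact hg1 w hwW
    have h1 : r * g = w * g * r := by rw [hw, commutatorElement_def]; group
    calc r * (g * g) = (r * g) * g := by group
      _ = w * g * r * g := by rw [h1]
      _ = w * g * (r * g) := by group
      _ = w * g * (w * g * r) := by rw [h1]
      _ = w * (g * w) * g * r := by group
      _ = w * (w * g) * g * r := by rw [hwg]
      _ = (w * w) * g * g * r := by group
      _ = g * g * r := by rw [hw2, one_mul]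
  have hKp : IsPGroup 2 K := by
    intro g
    obtain ⟨k, hk⟩ := hRp ⟨(g : H) * g, hKsq g g.2⟩
    refine ⟨k + 1, ?_⟩
    apply Subtype.ext
    have hk' : ((g : H) * g) ^ 2 ^ k = 1 := by simpa using congrArg Subtype.val hk
    rw [Subgroup.coe_pow, Subgroup.coe_one, pow_succ, pow_mul', pow_two]
    exact hk'
  have hKR : K ≤ R := le_pCore' hKn hKp
  have hACR : A ⊓ C ≤ R := by
    intro a ha
    apply hKR
    exact (hKmem a).mpr ⟨ha.2, fun r hr => hZW (hcomm r hr a ha.1)⟩
  have hAC : ¬ A ≤ C := fun h => hAR (le_trans (le_inf le_rfl h) hACR)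
  -- `O_2(H/C) = 1`
  set π := QuotientGroup.mk' C with hπ
  have hπs : Function.Surjective π := QuotientGroup.mk'_surjective C
  have hker : ∀ x : H, π x = 1 ↔ x ∈ C := fun x => by
    rw [hπ, QuotientGroup.mk'_apply]; exact QuotientGroup.eq_one_iff x
  set T := (pCore 2 (H ⧸ C)).comap π with hT
  haveI hTn : T.Normal := Subgroup.Normal.comap (pCore_normal 2) π
  have hTZ : ∀ t ∈ T, ∀ z ∈ ZS, t * z = z * t := by
    intro t0 ht z hz
    have ht' : π t0 ∈ pCore 2 (H ⧸ C) := ht
    have h1 : pCore 2 (H ⧸ C) ≤ (S.mapSurjective hπs : Sylow 2 (H ⧸ C)) :=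
      Cfsg.Agent.Helper23.PSolv.pCore_le_sylow _
    have h2 := h1 ht'
    rw [← SetLike.mem_coe, Sylow.coe_mapSurjective] at h2
    obtain ⟨s, hs, hst⟩ := h2
    have hc : s⁻¹ * t0 ∈ C := by
      rw [← hker, map_mul, map_inv, hst, inv_mul_cancel]
    have hzs : s * z = z * s := (mem_zOf.mp (mem_omegaZ.mp hz).1).2 s hs
    have hzc : (s⁻¹ * t0) * z = z * (s⁻¹ * t0) := by
      rw [hC, mem_centralizer_iff] at hc
      exact (hc z (hZW hz)).symm
    calc t0 * z = s * ((s⁻¹ * t0) * z) := by group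
      _ = s * (z * (s⁻¹ * t0)) := by rw [hzc]
      _ = (s * z) * (s⁻¹ * t0) := by group
      _ = (z * s) * (s⁻¹ * t0) := by rw [hzs]
      _ = z * t0 := by group
  have hZD : (ZS : Set H) ⊆ centralizer (T : Set H) := by
    intro z hz
    rw [SetLike.mem_coe, mem_centralizer_iff]
    intro t ht
    exact hTZ t ht z hz
  have hWD : W ≤ centralizer (T : Set H) := Subgroup.normalClosure_le_normal hZD
  have hTC : T ≤ C := by
    intro t ht
    rw [hC, mem_centralizer_iff]
    intro w hw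
    exact (mem_centralizer_iff.mp (hWD hw) t ht).symm
  have hO2 : pCore 2 (H ⧸ C) = ⊥ := by
    rw [eq_bot_iff]
    intro t ht
    obtain ⟨t0, rfl⟩ := hπs t
    rw [Subgroup.mem_bot, hker]
    exact hTC ht
  -- the Fitting subgroup of `H/C`
  set F := fittingSubgroup (H ⧸ C) with hF
  have hFn : F.Normal := Cfsg.Agent.Helper7.fittingSubgroup_normal'
  have hFodd : (Nat.card F).Coprime 2 := card_fitting_coprime_two hO2
  have hsol' := hsol
  have hsolQ : Group.IsSolvable (H ⧸ C) := by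
    haveI := hsol'
    infer_instance
  have hCF : centralizer (F : Set (H ⧸ C)) ≤ F :=
    Cfsg.Agent.Helper16.centralizer_fittingSubgroup_le_of_isSolvable hsolQ
  have hFpow : ∀ f ∈ F, f ^ Nat.card F = 1 := by
    intro f hf
    have : (⟨f, hf⟩ : F) ^ Nat.card F = 1 := pow_card_eq_one'
    have h := congrArg Subtype.val this
    rwa [Subgroup.coe_pow, Subgroup.coe_one] at h
  set M := F.comap π with hM
  haveI hMn : M.Normal := hFn.comap π
  have hMcop : ∀ m ∈ M, ∃ e : ℕ, e.Coprime 2 ∧ m ^ e ∈ C := by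
    intro m hm
    refine ⟨Nat.card F, hFodd, ?_⟩
    rw [← hker, map_pow]
    exact hFpow _ hm
  have hAc : ∀ x ∈ A, ∀ y ∈ A, x * y = y * x := fun x hx y hy =>
    Cfsg.Agent.Helper3.IsElementaryAbelian.commute hAe hx hy
  have hA2 : ∀ a ∈ A, a * a ∈ C := by
    intro a ha
    have := hAe.2 a ha
    rw [pow_two] at this
    rw [this]
    exact C.one_mem
  have hAM : A ≤ normalizer (M : Set H) := by
    rw [normalizer_eq_top_iff.mpr hMn]; exact le_top
  have hAMf : ∀ a ∈ A, (∀ m ∈ M, a * m * a⁻¹ * m⁻¹ ∈ C) → a ∈ C := by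
    intro a ha h
    rw [← hker]
    have h1 : π a ∈ centralizer (F : Set (H ⧸ C)) := by
      rw [mem_centralizer_iff]
      intro f hf
      obtain ⟨m, rfl⟩ := hπs f
      have h2 := (hker _).mpr (h m hf)
      rw [map_mul, map_mul, map_mul, map_inv, map_inv] at h2
      have h3 : π a * π m * (π a)⁻¹ = π m := mul_inv_eq_one.mp h2
      calc π m * π a = (π a * π m * (π a)⁻¹) * π a := by rw [h3]
        _ = π a * π m := by group
    have h2 := hCF h1
    have h3 : (π a) ^ Nat.card F = 1 := hFpow _ h2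
    have h4 : (π a) ^ 2 = 1 := by rw [← map_pow, hAe.2 a ha, map_one]
    exact Cfsg.Agent.Helper14.eq_one_of_pow_eq_one_of_coprime h3 h4 hFodd
  have hoff : Nat.card W * Nat.card (A ⊓ C : Subgroup H) ≤ Nat.card A * Nat.card (cV W A) := by
    have hACe : IsElementaryAbelian 2 (A ⊓ C : Subgroup H) := by
      refine ⟨⟨⟨?_⟩⟩, fun a ha => hAe.2 a ha.1⟩
      rintro ⟨a, ha⟩ ⟨b, hb⟩
      apply Subtype.ext
      exact hAc a ha.1 b hb.1
    have hsupe : IsElementaryAbelian 2 (W ⊔ (A ⊓ C) : Subgroup H) :=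
      Cfsg.Agent.Helper3.isElementaryAbelian_sup hWe hACe inf_le_right
    have hle : (W ⊔ (A ⊓ C) : Subgroup H) ≤ S :=
      sup_le (hWR.trans hRS) (inf_le_left.trans hAS)
    have hcard := hAmax _ hle hsupe
    have hnorm : W ≤ normalizer ((A ⊓ C : Subgroup H) : Set H) := by
      refine le_trans ?_ (Subgroup.centralizer_le_normalizer _)
      intro x hx
      rw [mem_centralizer_iff]
      intro y hy
      have hy' : y ∈ A ⊓ C := hy
      have hyC : y ∈ centralizer (W : Set H) := (Subgroup.mem_inf.mp hy').2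
      exact (mem_centralizer_iff.mp hyC x hx).symm
    have h1 := card_sup_mul_card_inf W (A ⊓ C) hnorm
    have h2 : (W ⊓ (A ⊓ C) : Subgroup H) ≤ cV W A := by
      intro x hx
      refine Subgroup.mem_inf.mpr ⟨hx.1, ?_⟩
      rw [mem_centralizer_iff]
      intro y hy
      exact hAc y hy x hx.2.1
    have h3 := Subgroup.card_le_of_le h2
    calc Nat.card W * Nat.card (A ⊓ C : Subgroup H)
        = Nat.card (W ⊔ (A ⊓ C) : Subgroup H) * Nat.card (W ⊓ (A ⊓ C) : Subgroup H) := h1.symm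
      _ ≤ Nat.card A * Nat.card (cV W A) := Nat.mul_le_mul hcard h3
  obtain ⟨a, haA, y, hyM, W4, hW4W, hW4card, hinvC, haW4, hyW4, hfpf⟩ :=
    Cfsg.Agent.Helper14.FF2.ff_two_ambient W M A C hWe rfl hMcop hAc hA2 hAM hAMf hAC hoff
  -- `C` centralizes `W4`
  have hCW4 : C ≤ centralizer (W4 : Set H) := Subgroup.centralizer_le hW4W
  obtain ⟨e, he, hye⟩ := hMcop y hyM
  have heodd : Odd e := Nat.coprime_two_right.mp he
  have hyeW : ∀ w ∈ W4, Commute (y ^ e) w := by
    intro w hw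
    exact (mem_centralizer_iff.mp (hCW4 hye) w hw).symm
  have h3 := Cfsg.Agent.Helper14.S4Sec.cube_commute W4 hW4card y hyW4 hfpf e heodd hyeW
  -- lift inside `N(W4)` modulo `C(W4)`
  set N4 := normalizer (W4 : Set H) with hN4
  set M4 : Subgroup ↥N4 := (centralizer (W4 : Set H)).subgroupOf N4 with hM4
  have hmemM4 : ∀ x : ↥N4, x ∈ M4 ↔ (x : H) ∈ centralizer (W4 : Set H) := fun x =>
    Subgroup.mem_subgroupOf
  have hW4ne : ∃ w ∈ W4, w ≠ 1 := by
    by_contra hcon
    push_neg at hcon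
    have : W4 = ⊥ := by
      rw [eq_bot_iff]
      intro w hw
      rw [Subgroup.mem_bot]
      exact hcon w hw
    rw [this, Subgroup.card_bot] at hW4card
    omega
  obtain ⟨a', y', ha'2, hy'3, hinv', hy'⟩ :=
    Cfsg.Agent.Helper14.S4Inv.exists_invert_lift M4 (⟨a, haW4⟩ : ↥N4) (⟨y, hyW4⟩ : ↥N4)
      ⟨1, by
        rw [hmemM4, pow_one, Subgroup.coe_pow]
        show a ^ 2 ∈ centralizer (W4 : Set H)
        rw [hAe.2 a haA]; exact Subgroup.one_mem _⟩
      ⟨1, by
        rw [hmemM4, pow_one, Subgroup.coe_pow]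
        show y ^ 3 ∈ centralizer (W4 : Set H)
        rw [mem_centralizer_iff]
        intro w hw
        exact ((h3 w hw).eq).symm⟩
      (by
        rw [hmemM4]
        show y ∉ centralizer (W4 : Set H)
        intro hyc
        obtain ⟨w, hw, hw1⟩ := hW4ne
        apply hw1
        apply hfpf w hw
        exact ((mem_centralizer_iff.mp hyc w hw)).symm)
      (by
        rw [hmemM4]
        show a * y * a⁻¹ * y ∈ centralizer (W4 : Set H)
        exact hCW4 hinvC)
  apply hS4
  have hW4p : IsPGroup 2 W4 := by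
    apply IsPGroup.of_card (n := 2)
    rw [hW4card]; norm_num
  refine Cfsg.Agent.Helper14.S4Inv.s4_of_invert W4 hW4p (y' : H) (a' : H) y'.2 a'.2 ?_ ?_ ?_ ?_
  · obtain ⟨j, hj⟩ := ha'2
    exact ⟨j, by simpa using congrArg Subtype.val hj⟩
  · obtain ⟨k, hk⟩ := hy'3
    exact ⟨k, by simpa using congrArg Subtype.val hk⟩
  · simpa using congrArg Subtype.val hinv'
  · intro hc
    exact hy' ((hmemM4 y').mpr hc)

end core

end Cfsg.Agent.Helper10.S4C2
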