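import Mathlib
import Cfsg.Agent.Lib.Helper10.S4FreeCore
import Cfsg.Agent.Lib.Helper10.SecApply
import Cfsg.Agent.Lib.Helper10.SylowMore
import Cfsg.Agent.Lib.Helper7.Frattini
import Cfsg.Agent.Lib.Helper9.ThompsonRepl

set_option autoImplicit false

/-! Solvable `S₄`-free groups with Sylow `2`-subgroups of class at most two:
`G = N_G(J_e(S)) O_{2'}(G)`. -/

namespace Cfsg.Agent.Helper10.S4C2

open Cfsg Subgroup Cfsg.Agent.Helper27
open scoped commutatorElement

universe u

section transport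

variable {G : Type*} [Group G] {H : Type*} [Group H]

/-- the image of a largest elementary abelian subgroup under a map injective on `U`. -/
theorem relMaxEA_map (p : ℕ) (f : G →* H) (U : Subgroup G) (hinj : ∀ x ∈ U, f x = 1 → x = 1)
    {A : Subgroup G} (hA : A ∈ relMaxEA p U) : A.map f ∈ relMaxEA p (U.map f) := by
  obtain ⟨hAU, hAe, hmax⟩ := hA
  refine ⟨Subgroup.map_mono hAU, Cfsg.Agent.Helper3.isElementaryAbelian_map _ hAe, ?_⟩
  intro B' hB'U hB'
  have hmap := map_comap_inf f U hB'U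
  have hBU : B'.comap f ⊓ U ≤ U := inf_le_right
  have hB : IsElementaryAbelian p (B'.comap f ⊓ U) :=
    isElementaryAbelian_of_map f U hinj hBU (hmap.symm ▸ hB')
  have := hmax _ hBU hB
  rw [card_map_of_injOn f U hinj hAU]
  calc Nat.card B' = Nat.card ((B'.comap f ⊓ U).map f) := by rw [hmap]
    _ = Nat.card (B'.comap f ⊓ U : Subgroup G) := card_map_of_injOn f U hinj hBU
    _ ≤ Nat.card A := this

/-- conjugates of largest elementary abelian subgroups staying inside `U`. -/
theorem relMaxEA_conj [Finite G] (p : ℕ) (U : Subgroup G) {A : Subgroup G} (hA : A ∈ relMaxEA p U)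
    (n : G) (h : A.map (MulAut.conj n).toMonoidHom ≤ U) :
    A.map (MulAut.conj n).toMonoidHom ∈ relMaxEA p U := by
  obtain ⟨hAU, hAe, hmax⟩ := hA
  refine ⟨h, Cfsg.Agent.Helper3.isElementaryAbelian_map _ hAe, ?_⟩
  intro B hBU hB
  rw [Subgroup.card_map_of_injective (MulAut.conj n).injective]
  exact hmax B hBU hB

end transport

section main

variable {G : Type u} [Group G] [Finite G]

theorem main (hsol : Group.IsSolvable G) (hS4 : ¬ Cfsg.Involves (Equiv.Perm (Fin 4)) G)
    (S : Sylow 2 G) (hcl : Subgroup.lowerCentralSeries (S : Subgroup G) 2 = ⊥) :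
    Subgroup.normalizer ((Cfsg.thompsonSubgroupOf 2 (S : Subgroup G)) : Set G) ⊔
      Cfsg.pPrimeCore 2 G = ⊤ := by
  classical
  haveI : Fact (Nat.Prime 2) := ⟨Nat.prime_two⟩
  set O := pPrimeCore 2 G with hO
  haveI hOn : O.Normal := pPrimeCore_normal 2
  have hOodd : (Nat.card O).Coprime 2 := card_pPrimeCore_coprime 2
  set π := QuotientGroup.mk' O with hπ
  have hπs : Function.Surjective π := QuotientGroup.mk'_surjective O
  have hker : ∀ x : G, π x = 1 ↔ x ∈ O := fun x => by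
    rw [hπ, QuotientGroup.mk'_apply]; exact QuotientGroup.eq_one_iff x
  have hSO : (S : Subgroup G) ⊓ O = ⊥ :=
    Cfsg.Agent.Helper7.inf_eq_bot_of_isPGroup_of_coprime S.2 hOodd
  have hinj : ∀ x ∈ (S : Subgroup G), π x = 1 → x = 1 := by
    intro x hx h1
    have : x ∈ (S : Subgroup G) ⊓ O := ⟨hx, (hker x).mp h1⟩
    rwa [hSO, Subgroup.mem_bot] at this
  set Sb : Sylow 2 (G ⧸ O) := S.mapSurjective hπs with hSb
  have hSbc : (Sb : Subgroup (G ⧸ O)) = (S : Subgroup G).map π := Sylow.coe_mapSurjective hπs S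
  have hO' : pPrimeCore 2 (G ⧸ O) = ⊥ := pPrimeCore_quotient_pPrimeCore' 2 G
  have hS4' : ¬ Cfsg.Involves (Equiv.Perm (Fin 4)) (G ⧸ O) := fun h =>
    hS4 (Cfsg.Agent.Helper14.S4Sec.involves_of_quotient O h)
  have hsol' : Group.IsSolvable (G ⧸ O) := by
    haveI := hsol
    infer_instance
  have hcl' : Subgroup.lowerCentralSeries (Sb : Subgroup (G ⧸ O)) 2 = ⊥ := by
    rw [hSbc, Subgroup.lowerCentralSeries_succ, Subgroup.lowerCentralSeries_succ,
      Subgroup.lowerCentralSeries_zero, ← Subgroup.map_commutator, ← Subgroup.map_commutator]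
    rw [Subgroup.lowerCentralSeries_succ, Subgroup.lowerCentralSeries_succ,
      Subgroup.lowerCentralSeries_zero] at hcl
    rw [hcl, Subgroup.map_bot]
  haveI hpcn : (pCore 2 (G ⧸ O)).Normal := pCore_normal 2
  set Q := (pCore 2 (G ⧸ O)).comap π with hQ
  haveI hQn : Q.Normal := Subgroup.Normal.comap hpcn π
  have hOQ : O ≤ Q := by
    intro x hx
    rw [hQ, Subgroup.mem_comap, (hker x).mpr hx]
    exact Subgroup.one_mem _
  -- every largest elementary abelian subgroup lies in `Q`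
  have hAQ : ∀ A ∈ relMaxEA 2 (S : Subgroup G), A ≤ Q := by
    intro A hA
    have h1 := relMaxEA_map 2 π (S : Subgroup G) hinj hA
    rw [← hSbc] at h1
    have h2 := core hsol' hO' hS4' Sb hcl' (A.map π) h1
    rwa [Subgroup.map_le_iff_le_comap] at h2
  set T0 := (S : Subgroup G) ⊓ Q with hT0
  have hT0p : IsPGroup 2 T0 := S.2.to_le inf_le_left
  have hT0idx : ¬ 2 ∣ T0.relIndex Q :=
    inf_normal_relSylow (S : Subgroup G) Q S.2 S.not_dvd_index
  set J := Cfsg.thompsonSubgroupOf 2 (S : Subgroup G) with hJ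
  have hJeq : J = sSup (relMaxEA 2 (S : Subgroup G)) := thompsonSubgroupOf_eq_sSup_rel 2 _
  -- `N(T0) ≤ N(J)`
  have hNN : normalizer (T0 : Set G) ≤ normalizer (J : Set G) := by
    intro n hn
    apply Cfsg.Agent.Helper9.mem_normalizer_of_conj_mem
    have hle : J ≤ J.comap (MulAut.conj n).toMonoidHom := by
      rw [hJeq]
      apply sSup_le
      intro A hA
      rw [← Subgroup.map_le_iff_le_comap]
      apply le_sSup
      apply relMaxEA_conj 2 _ hA n
      have hAT : A ≤ T0 := le_inf hA.1 (hAQ A hA)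
      rintro _ ⟨a, ha, rfl⟩
      have h1 := (Subgroup.mem_normalizer_iff.mp hn a).mp (hAT ha)
      have h2 : n * a * n⁻¹ ∈ (S : Subgroup G) := (inf_le_left : T0 ≤ (S : Subgroup G)) h1
      simpa [MulAut.conj_apply] using h2
    intro a ha
    have := hle ha
    rw [Subgroup.mem_comap] at this
    simpa [MulAut.conj_apply] using this
  rw [eq_top_iff]
  intro g _
  obtain ⟨c, hcQ, hgc⟩ := frattini_elt Q T0 inf_le_right hT0p hT0idx g
  -- `c = s o`
  have hπc : π c ∈ pCore 2 (G ⧸ O) := hcQ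
  have h1 : pCore 2 (G ⧸ O) ≤ (Sb : Subgroup (G ⧸ O)) :=
    Cfsg.Agent.Helper23.PSolv.pCore_le_sylow _
  have h2 := h1 hπc
  rw [hSbc] at h2
  obtain ⟨s, hs, hsc⟩ := h2
  have ho : s⁻¹ * c ∈ O := by
    rw [← hker, map_mul, map_inv, hsc, inv_mul_cancel]
  have hsQ : s ∈ Q := by
    have : s = c * (s⁻¹ * c)⁻¹ := by group
    rw [this]
    exact Q.mul_mem hcQ (Q.inv_mem (hOQ ho))
  have hsT : s ∈ T0 := ⟨hs, hsQ⟩
  have hsN : s ∈ normalizer (J : Set G) := hNN (Subgroup.le_normalizer hsT)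
  have hg : g = (g * c) * (s⁻¹ * c)⁻¹ * s⁻¹ := by group
  rw [hg]
  refine Subgroup.mul_mem _ (Subgroup.mul_mem _ ?_ ?_) ?_
  · exact Subgroup.mem_sup_left (hNN hgc)
  · exact Subgroup.mem_sup_right (O.inv_mem ho)
  · exact Subgroup.mem_sup_left (Subgroup.inv_mem _ hsN)

end main

end Cfsg.Agent.Helper10.S4C2
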