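import Mathlib
import Cfsg.Agent.Lib.Helper15.S62Defs

/-! S2362 piece S62-COUNT (helper10): counting the level sets of the hermitian norm form. -/


set_option autoImplicit false
set_option linter.unusedVariables false

open Polynomial

namespace Cfsg.Agent.Helper15.S62

universe u

variable {F : Type u} [Field F]

theorem s62_count_total {α β : Type*} [Finite α] [Fintype β] (f : α → β) (m : ℕ)
    (hm : ∀ y, Nat.card {x // f x = y} = m) : Nat.card α = Fintype.card β * m := by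
  classical
  have h1 : Nat.card α = ∑ y : β, Nat.card {x // f x = y} := by
    rw [← Nat.card_sigma]
    exact Nat.card_congr (Equiv.sigmaFiberEquiv f).symm
  rw [h1, Finset.sum_congr rfl (fun y _ => hm y), Finset.sum_const, Finset.card_univ, smul_eq_mul]

theorem s62_count_fiber {α β : Type*} [Finite α] [Finite β] (f : α → β) (P : β → Prop) (m : ℕ)
    (hm : ∀ y, P y → Nat.card {x // f x = y} = m) :
    Nat.card {x // P (f x)} = Nat.card {y // P y} * m := by
  classical
  have := Fintype.ofFinite {y // P y}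
  let f' : {x // P (f x)} → {y // P y} := fun x => ⟨f x.1, x.2⟩
  rw [Nat.card_eq_fintype_card (α := {y // P y})]
  apply s62_count_total f'
  intro y
  rw [← hm y.1 y.2]
  refine Nat.card_congr ⟨fun x => ⟨x.1.1, congrArg Subtype.val x.2⟩,
    fun x => ⟨⟨x.1, by rw [x.2]; exact y.2⟩, Subtype.ext x.2⟩, ?_, ?_⟩
  · intro x; rfl
  · intro x; rfl

theorem card_norm_eq [Fintype F] {L : Type u} [Field L] [Algebra F L] [Fintype L] (k : ℕ)
    (hk : 1 ≤ k) (h2 : (2 : F) ≠ 0) (hL : Fintype.card L = (Fintype.card F ^ k) ^ 2)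
    (B' : LinearMap.BilinForm F L) (hsymm : ∀ x y, B' x y = B' y x)
    (hnd : ∀ x, (∀ y, B' x y = 0) → x = 0)
    (hadj : ∀ a x y : L, B' (a * x) y = B' x (a ^ (Fintype.card F ^ k) * y))
    (hfib : Nat.card {y : L // y ^ (Fintype.card F ^ k) = y} = Fintype.card F ^ k ∧
      ∀ y : L, y ≠ 0 → y ^ (Fintype.card F ^ k) = y →
        Nat.card {x : L // x ^ (Fintype.card F ^ k + 1) = y} = Fintype.card F ^ k + 1) :
    (∀ c : F, c ≠ 0 → Nat.card {x : L // B' x x = c} =
        (Fintype.card F ^ k + 1) * Fintype.card F ^ (k - 1)) ∧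
      ∃ n₀ : ℕ, Nat.card {x : L // x ≠ 0 ∧ B' x x = 0} = (Fintype.card F ^ k + 1) * n₀ := by
  classical
  set q := Fintype.card F with hq
  set Q := q ^ k with hQ
  have hq1 : 1 < q := Fintype.one_lt_card
  have hq0 : 0 < q := by omega
  -- the iterated Frobenius
  let φ : L →ₐ[F] L := (FiniteField.frobeniusAlgHom F L) ^ k
  have hφ : ∀ y, φ y = y ^ Q := by
    intro y
    show ((FiniteField.frobeniusAlgHom F L) ^ k) y = y ^ Q
    rw [AlgHom.coe_pow, FiniteField.coe_frobeniusAlgHom, pow_iterate]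
  have hQ2 : ∀ x : L, (x ^ Q) ^ Q = x := by
    intro x
    rw [← pow_mul, ← sq, ← hL, FiniteField.pow_card]
  -- the linear form
  let ℓ : L →ₗ[F] F := B' 1
  have hBN : ∀ x, B' x x = ℓ (x ^ (Q + 1)) := by
    intro x
    have := hadj x 1 x
    rw [mul_one] at this
    rw [this, pow_succ]
  have hN : ∀ x : L, (x ^ (Q + 1)) ^ Q = x ^ (Q + 1) := by
    intro x
    rw [← pow_mul, mul_comm, pow_mul, pow_succ (x ^ Q), hQ2, pow_succ]
    ring
  -- ℓ is not zero on the fixed field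
  have hne : ∃ y₁ : L, y₁ ^ Q = y₁ ∧ ℓ y₁ ≠ 0 := by
    by_contra hcon
    push Not at hcon
    have h0 : ∀ x, B' x x = 0 := fun x => by rw [hBN]; exact hcon _ (hN x)
    have h1 : ∀ x y, B' x y = 0 := by
      intro x y
      have h3 := h0 (x + y)
      simp only [map_add, LinearMap.add_apply] at h3
      rw [h0 x, h0 y, hsymm y x] at h3
      have h4 : (2 : F) * B' x y = 0 := by rw [two_mul]; simpa using h3
      exact (mul_eq_zero.mp h4).resolve_left h2
    exact one_ne_zero (hnd 1 (h1 1))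
  obtain ⟨y₁, hy₁, hℓ₁⟩ := hne
  have hyc : ∀ c : F, ∃ y : L, y ^ Q = y ∧ ℓ y = c := by
    intro c
    refine ⟨(c / ℓ y₁) • y₁, ?_, ?_⟩
    · rw [← hφ, map_smul, hφ, hy₁]
    · rw [map_smul, smul_eq_mul, div_mul_cancel₀ _ hℓ₁]
  -- all fibres of ℓ on the fixed field have the same size
  have hfibeq : ∀ c : F, Nat.card {y : L // y ^ Q = y ∧ ℓ y = c} =
      Nat.card {y : L // y ^ Q = y ∧ ℓ y = 0} := by
    intro c
    obtain ⟨yc, hyc1, hyc2⟩ := hyc c
    refine Nat.card_congr ⟨fun y => ⟨y.1 - yc, ?_, ?_⟩, fun y => ⟨y.1 + yc, ?_, ?_⟩, ?_, ?_⟩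
    · rw [← hφ, map_sub, hφ, hφ, y.2.1, hyc1]
    · rw [map_sub, y.2.2, hyc2, sub_self]
    · rw [← hφ, map_add, hφ, hφ, y.2.1, hyc1]
    · rw [map_add, y.2.2, hyc2, zero_add]
    · intro y; apply Subtype.ext; simp
    · intro y; apply Subtype.ext; simp
  set m := Nat.card {y : L // y ^ Q = y ∧ ℓ y = 0} with hm
  have hQm : Q = q * m := by
    rw [← hfib.1]
    apply s62_count_total (fun y : {y : L // y ^ Q = y} => ℓ y.1) m
    intro c
    rw [← hfibeq c]
    exact Nat.card_congr (Equiv.subtypeSubtypeEquivSubtypeInter (fun y : L => y ^ Q = y)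
      (fun y : L => ℓ y = c))
  have hm' : m = q ^ (k - 1) := by
    have h3 : q ^ k = q ^ (k - 1) * q := by rw [← pow_succ]; congr 1; omega
    have h4 : q * m = q * q ^ (k - 1) := by rw [← hQm, hQ, h3, mul_comm]
    exact Nat.eq_of_mul_eq_mul_left hq0 h4
  constructor
  · intro c hc
    have h5 : Nat.card {x : L // B' x x = c} =
        Nat.card {x : L // (fun y : L => y ^ Q = y ∧ ℓ y = c) (x ^ (Q + 1))} := by
      apply Nat.card_congr
      apply Equiv.subtypeEquivRight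
      intro x
      rw [hBN]
      exact ⟨fun h => ⟨hN x, h⟩, fun h => h.2⟩
    rw [h5, s62_count_fiber (fun x : L => x ^ (Q + 1)) (fun y : L => y ^ Q = y ∧ ℓ y = c) (Q + 1),
      hfibeq c, hm', mul_comm]
    intro y hy
    apply hfib.2 y _ hy.1
    rintro rfl
    apply hc
    rw [← hy.2, map_zero]
  · refine ⟨Nat.card {y : L // y ^ Q = y ∧ y ≠ 0 ∧ ℓ y = 0}, ?_⟩
    have h5 : Nat.card {x : L // x ≠ 0 ∧ B' x x = 0} =
        Nat.card {x : L // (fun y : L => y ^ Q = y ∧ y ≠ 0 ∧ ℓ y = 0) (x ^ (Q + 1))} := by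
      apply Nat.card_congr
      apply Equiv.subtypeEquivRight
      intro x
      rw [hBN]
      exact ⟨fun h => ⟨hN x, pow_ne_zero _ h.1, h.2⟩,
        fun h => ⟨fun h0 => h.2.1 (by rw [h0, zero_pow (Nat.succ_ne_zero _)]), h.2.2⟩⟩
    rw [h5, s62_count_fiber (fun x : L => x ^ (Q + 1))
      (fun y : L => y ^ Q = y ∧ y ≠ 0 ∧ ℓ y = 0) (Q + 1), mul_comm]
    intro y hy
    exact hfib.2 y hy.2.1 hy.1

end Cfsg.Agent.Helper15.S62
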