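import Mathlib
import Cfsg.Agent.Lib.Helper15.S62Defs

/-! S2362 piece S62-FORMK (helper10): the alternating trace form on the field of order q^(2k). -/

set_option linter.unusedVariables false

set_option autoImplicit false

open Polynomial

namespace Cfsg.Agent.Helper15.S62

universe u

variable {F : Type u} [Field F]

theorem exists_alt_form [Fintype F] {K : Type*} [Field K] [Algebra F K] [Fintype K] (k : ℕ)
    (hk : 1 ≤ k) (h2 : (2 : F) ≠ 0) (hdim : Module.finrank F K = 2 * k) (θ : K) (hθ0 : θ ≠ 0)
    (hθ : θ ^ (Fintype.card F ^ k) = -θ) :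
    ∃ ω : LinearMap.BilinForm F K, (∀ x, ω x x = 0) ∧ (∀ x, (∀ y, ω x y = 0) → x = 0) ∧
      ∀ l x y : K, l ^ (Fintype.card F ^ k + 1) = 1 → ω (l * x) (l * y) = ω x y := by
  classical
  set Q := Fintype.card F ^ k with hQ
  -- the iterated Frobenius
  let φ : K →ₐ[F] K := (FiniteField.frobeniusAlgHom F K) ^ k
  have hφ : ∀ y, φ y = y ^ Q := by
    intro y
    show ((FiniteField.frobeniusAlgHom F K) ^ k) y = y ^ Q
    rw [AlgHom.coe_pow, FiniteField.coe_frobeniusAlgHom, pow_iterate]
  -- card K = Q^2
  have hcard : Fintype.card K = Q ^ 2 := by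
    have h1 : Fintype.card K = Fintype.card F ^ Module.finrank F K := Module.card_eq_pow_finrank
    rw [h1, hdim, hQ, ← pow_mul, mul_comm]
  have hQ2 : ∀ x : K, (x ^ Q) ^ Q = x := by
    intro x
    rw [← pow_mul, ← sq, ← hcard, FiniteField.pow_card]
  have hφbij : Function.Bijective φ := by
    have hinj : Function.Injective φ := φ.toRingHom.injective
    exact ⟨hinj, Finite.surjective_of_injective hinj⟩
  let e : K ≃ₐ[F] K := AlgEquiv.ofBijective φ hφbij
  have he : ∀ y, e y = y ^ Q := fun y => hφ y
  have htr : ∀ z : K, Algebra.trace F K (z ^ Q) = Algebra.trace F K z := by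
    intro z
    rw [← he z, Algebra.trace_eq_of_algEquiv]
  -- the form
  let ω : LinearMap.BilinForm F K :=
    LinearMap.mk₂ F (fun x y => Algebra.trace F K (θ * x * φ y))
      (by intro x x' y; rw [← map_add]; congr 1; ring)
      (by intro c x y; rw [← map_smul]; congr 1; rw [Algebra.smul_def, Algebra.smul_def]; ring)
      (by intro x y y'; rw [← map_add, map_add φ]; congr 1; ring)
      (by intro c x y; rw [← map_smul, map_smul φ]; congr 1
          rw [Algebra.smul_def, Algebra.smul_def]; ring)
  have hω : ∀ x y, ω x y = Algebra.trace F K (θ * x * y ^ Q) := by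
    intro x y
    show Algebra.trace F K (θ * x * φ y) = _
    rw [hφ]
  refine ⟨ω, ?_, ?_, ?_⟩
  · intro x
    rw [hω]
    have h1 : Algebra.trace F K (θ * x * x ^ Q) = - Algebra.trace F K (θ * x * x ^ Q) := by
      conv_lhs => rw [← htr]
      rw [mul_pow, mul_pow, hθ, hQ2, ← map_neg]
      congr 1
      ring
    have h3 : (2 : F) * Algebra.trace F K (θ * x * x ^ Q) = 0 := by
      rw [two_mul]
      nth_rewrite 1 [h1]
      exact neg_add_cancel _
    exact (mul_eq_zero.mp h3).resolve_left h2
  · intro x hx
    have : Algebra.IsSeparable F K := inferInstance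
    have hnd := (traceForm_nondegenerate F K).1
    have h0 : θ * x = 0 := by
      apply hnd
      intro y
      obtain ⟨y', rfl⟩ := hφbij.2 y
      rw [Algebra.traceForm_apply]
      have := hx y'
      rw [hω, ← hφ] at this
      exact this
    exact (mul_eq_zero.mp h0).resolve_left hθ0
  · intro l x y hl
    rw [hω, hω]
    congr 1
    have : l * l ^ Q = 1 := by rw [← pow_succ', hl]
    calc θ * (l * x) * (l * y) ^ Q = (l * l ^ Q) * (θ * x * y ^ Q) := by rw [mul_pow]; ring
      _ = θ * x * y ^ Q := by rw [this, one_mul]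

end Cfsg.Agent.Helper15.S62
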