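import Mathlib
import Cfsg.Agent.Lib.Helper10.SecTransfer
import Cfsg.Agent.Lib.Helper10.IndexP

set_option autoImplicit false

namespace Cfsg.Agent.Helper10

open Cfsg
open scoped commutatorElement

universe u

section main

variable {p : ℕ} [Fact p.Prime] {W : ∀ (Q : Type u) [Group Q], Subgroup Q}

/-- if a functor controls transfer in all members of a section-closed class, then a member whose
Sylow normalizer has no nontrivial `p'`-automizer has a normal subgroup of index `p` -/
theorem index_p_main (hW : IsCharPFunctor.{u} p W)
    (𝒞 : ∀ (H : Type u) [Group H], Prop) (h𝒞 : SecClosed 𝒞)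
    (hctl : ∀ (H : Type u) [Group H] [Finite H], 𝒞 H →
      ControlsTransferIn p (inducedFunctor (G := H) W) ⊤) :
    ∀ (n : ℕ) (H : Type u) [Group H] [Finite H], Nat.card H ≤ n → 𝒞 H →
      ∀ S : Subgroup H, IsPGroup p S → ¬ p ∣ S.index → S ≠ ⊥ →
      (∀ g ∈ Subgroup.normalizer (S : Set H), (orderOf g).Coprime p →
        g ∈ Subgroup.centralizer (S : Set H)) →
      ∃ M : Subgroup H, M.Normal ∧ M.index = p := by
  intro n
  induction n with
  | zero =>
    intro H _ _ hcard _
    have : 0 < Nat.card H := Nat.card_pos
    omega
  | succ n ih =>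
    intro H _ _ hcard hH S hS hidx hSne hN
    have hWc := isConjugacyFunctor_indW (H := H) hW
    have hrel : ¬ p ∣ S.relIndex ⊤ := by rwa [Subgroup.relIndex_top_right]
    have h1 := ct_transfer hWc (hctl H hH) S le_top hS hrel
    simp only [top_inf_eq] at h1
    set V := inducedFunctor (G := H) W S with hV
    set N := Subgroup.normalizer (V : Set H) with hNdef
    have hSN : S ≤ N := cf_le_normalizer hWc hS
    by_cases hNtop : N = ⊤
    swap
    · have hlt : Nat.card N < Nat.card H := by
        have h1 : N < ⊤ := lt_top_iff_ne_top.mpr hNtop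
        have h2 := card_lt_card_of_lt h1
        rwa [Subgroup.card_top] at h2
      set S' : Subgroup ↥N := S.subgroupOf N with hS'
      have hS'p : IsPGroup p S' := hS.comap_subtype
      have hS'idx : ¬ p ∣ S'.index := by
        show ¬ p ∣ S.relIndex N
        exact fun hd => hidx (hd.trans (Subgroup.relIndex_dvd_index_of_le hSN))
      have hS'ne : S' ≠ ⊥ := by
        intro h
        apply hSne
        rw [eq_bot_iff]
        intro s hs
        have h2 : (⟨s, hSN hs⟩ : ↥N) ∈ S' := Subgroup.mem_subgroupOf.mpr hs
        rw [h, Subgroup.mem_bot] at h2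
        rw [Subgroup.mem_bot]
        exact congrArg Subtype.val h2
      have hN' : ∀ g ∈ Subgroup.normalizer (S' : Set ↥N), (orderOf g).Coprime p →
          g ∈ Subgroup.centralizer (S' : Set ↥N) := by
        intro g hg hgo
        have hgH : (g : H) ∈ Subgroup.normalizer (S : Set H) := by
          rw [Subgroup.mem_normalizer_iff]
          intro s
          constructor
          · intro hs
            have h2 := (Subgroup.mem_normalizer_iff.mp hg ⟨s, hSN hs⟩).mp
              (Subgroup.mem_subgroupOf.mpr hs)
            exact Subgroup.mem_subgroupOf.mp h2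
          · intro hs
            have hsN : s ∈ N := by
              have e : s = (g : H)⁻¹ * ((g : H) * s * (g : H)⁻¹) * (g : H) := by group
              rw [e]
              exact N.mul_mem (N.mul_mem (N.inv_mem g.2) (hSN hs)) g.2
            have h2 := (Subgroup.mem_normalizer_iff.mp hg ⟨s, hsN⟩).mpr
              (Subgroup.mem_subgroupOf.mpr hs)
            exact Subgroup.mem_subgroupOf.mp h2
        have hgo' : (orderOf (g : H)).Coprime p := by rwa [Subgroup.orderOf_coe]
        have hc := hN (g : H) hgH hgo'
        rw [Subgroup.mem_centralizer_iff] at hc ⊢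
        intro s hs
        exact Subtype.ext (hc (s : H) (Subgroup.mem_subgroupOf.mp hs))
      obtain ⟨M, hMn, hMi⟩ := ih ↥N (by omega) (h𝒞.sub hH N) S' hS'p hS'idx hS'ne hN'
      apply exists_normal_index_p_of_not_le_commutator S hS
      intro hSc
      have h2 : S ≤ ⁅N, N⁆ := by
        have h3 : S ≤ S ⊓ ⁅(⊤ : Subgroup H), ⊤⁆ := le_inf le_rfl hSc
        rw [h1] at h3
        exact h3.trans inf_le_right
      have h3 : S' ≤ M := by
        intro s hs
        apply commutator_le_of_index_prime M hMi
        have hs' : (s : H) ∈ ⁅N, N⁆ := h2 (Subgroup.mem_subgroupOf.mp hs)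
        rw [← Subgroup.map_subtype_commutator] at hs'
        obtain ⟨z, hz, hze⟩ := hs'
        have h4 : z = s := Subtype.ext hze
        rw [← h4, ← commutator_def]; exact hz
      apply hS'idx
      have h4 := Subgroup.index_dvd_of_le h3
      rwa [hMi] at h4
    · have hVn : V.Normal := Subgroup.normalizer_eq_top_iff.mp hNtop
      have hVne : V ≠ ⊥ := (hWc S hS).2.1 hSne
      have hVS : V ≤ S := cf_le hWc hS
      set π := QuotientGroup.mk' V with hπ
      have hπs : Function.Surjective π := QuotientGroup.mk'_surjective V
      have hlt : Nat.card (H ⧸ V) < Nat.card H := by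
        rw [← Subgroup.index_eq_card, ← V.card_mul_index]
        have h1 : 1 < Nat.card V := by
          rw [Subgroup.one_lt_card_iff_ne_bot]; exact hVne
        have h2 : 0 < V.index := Nat.pos_of_ne_zero Subgroup.index_ne_zero_of_finite
        nlinarith
      by_cases hSV : S ≤ V
      · have hSeq : S = V := le_antisymm hSV hVS
        haveI hSn : S.Normal := hSeq ▸ hVn
        have hNS : Subgroup.normalizer (S : Set H) = ⊤ := Subgroup.normalizer_eq_top_iff.mpr hSn
        set C := Subgroup.centralizer (S : Set H) with hC
        haveI hCn : C.Normal := Subgroup.normal_centralizer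
        have hq : IsPGroup p (H ⧸ C) := by
          intro gb
          obtain ⟨g, rfl⟩ := QuotientGroup.mk_surjective gb
          obtain ⟨e, he⟩ := exists_pow_coprime_order (p := p) g
          refine ⟨e, ?_⟩
          rw [← QuotientGroup.mk_pow, QuotientGroup.eq_one_iff]
          exact hN _ (by rw [hNS]; exact Subgroup.mem_top _) he
        by_cases hCt : C = ⊤
        · have hcent : ∀ x ∈ S, ∀ c : H, x * c = c * x := by
            intro x hx c
            have hc : c ∈ C := by rw [hCt]; exact Subgroup.mem_top _
            exact Subgroup.mem_centralizer_iff.mp hc x hx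
          obtain ⟨N', hN'n, hN'c, k, hk⟩ := npc_of_central_sylow (hS.toSylow hidx)
            (by rw [IsPGroup.toSylow_coe]; exact hcent)
          haveI := hN'n
          apply exists_normal_index_p_of_quotient N' ?_
            (IsPGroup.of_card (n := k) (by rw [← Subgroup.index_eq_card, hk]))
          intro hN't
          rw [hN't, Subgroup.card_top] at hN'c
          have h2 : 1 < Nat.card S := by
            rw [Subgroup.one_lt_card_iff_ne_bot]; exact hSne
          obtain ⟨j, hj⟩ := hS.exists_card_eq
          have hj0 : j ≠ 0 := by
            rintro rfl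
            rw [pow_zero] at hj
            omega
          have h3 : p ∣ Nat.card H := by
            have h4 : p ∣ Nat.card S := by rw [hj]; exact dvd_pow_self p hj0
            exact h4.trans (Subgroup.card_subgroup_dvd_card S)
          have hp := (Fact.out : p.Prime)
          exact hp.one_lt.ne' (Nat.Coprime.eq_one_of_dvd hN'c.symm h3)
        · exact exists_normal_index_p_of_quotient C hCt hq
      · set Sb := S.map π with hSb
        have hSbp : IsPGroup p Sb := hS.map π
        have hSbidx : ¬ p ∣ Sb.index := fun hd => hidx (hd.trans (Subgroup.index_map_dvd S hπs))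
        have hSbne : Sb ≠ ⊥ := by
          intro h
          apply hSV
          intro s hs
          have h2 : π s ∈ Sb := Subgroup.mem_map_of_mem π hs
          rw [h, Subgroup.mem_bot] at h2
          exact (QuotientGroup.eq_one_iff s).mp h2
        have hcomap : Sb.comap π = S := by
          rw [hSb, Subgroup.comap_map_eq, hπ, QuotientGroup.ker_mk', sup_eq_left.mpr hVS]
        have hNb : ∀ gb ∈ Subgroup.normalizer (Sb : Set (H ⧸ V)), (orderOf gb).Coprime p →
            gb ∈ Subgroup.centralizer (Sb : Set (H ⧸ V)) := by
          intro gb hgb hgo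
          obtain ⟨g₀, rfl⟩ := hπs gb
          have hg₀ : g₀ ∈ Subgroup.normalizer (S : Set H) := by
            have h2 : g₀ ∈ (Subgroup.normalizer (Sb : Set (H ⧸ V))).comap π := hgb
            rwa [Subgroup.comap_normalizer_eq_of_surjective _ hπs, hcomap] at h2
          obtain ⟨e, he⟩ := exists_pow_coprime_order (p := p) g₀
          have hc := hN _ (Subgroup.pow_mem _ hg₀ _) he
          have hcb : (π g₀) ^ p ^ e ∈ Subgroup.centralizer (Sb : Set (H ⧸ V)) := by
            rw [← map_pow, Subgroup.mem_centralizer_iff]
            rintro _ ⟨s, hs, rfl⟩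
            rw [← map_mul, ← map_mul, Subgroup.mem_centralizer_iff.mp hc s hs]
          have hcop : (p ^ e).Coprime (orderOf (π g₀)) := (Nat.Coprime.pow_right e hgo).symm
          obtain ⟨m, hm⟩ := exists_pow_eq_self_of_coprime hcop
          rw [← hm]
          exact Subgroup.pow_mem _ hcb m
        have h5 := ih (H ⧸ V) (by omega) (h𝒞.quot hH V) Sb hSbp hSbidx hSbne hNb
        exact exists_normal_index_p_of_surjective π hπs h5

end main

end Cfsg.Agent.Helper10
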