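import Mathlib
import Cfsg.Prelude.Def_Transfer
import Cfsg.Agent.Lib.Helper7.Signalizer
import Cfsg.Agent.Lib.Helper7.Signalizer2
import Cfsg.Agent.Lib.Helper7.CoprimeGen2

set_option autoImplicit false

namespace Cfsg.Agent.Helper10.SigClos

open Subgroup
open scoped commutatorElement

variable {G : Type*} [Group G]

/-- the "hyperplanes over `E`" of `A` (including `A` itself). -/
def IsHyp (p : ℕ) (A E B : Subgroup G) : Prop :=
  E ≤ B ∧ B ≤ A ∧ B.relIndex A ≤ p

theorem centralizer_sup_of_le {X B E : Subgroup G} (hEX : E ≤ centralizer (X : Set G)) :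
    X ⊓ centralizer (B : Set G) ≤ X ⊓ centralizer ((B ⊔ E : Subgroup G) : Set G) := by
  intro x hx
  obtain ⟨hxX, hxB⟩ := Subgroup.mem_inf.mp hx
  refine Subgroup.mem_inf.mpr ⟨hxX, ?_⟩
  have h1 : B ⊔ E ≤ centralizer ({x} : Set G) := by
    apply sup_le
    · intro b hb
      rw [Subgroup.mem_centralizer_iff]
      intro y hy
      rw [Set.mem_singleton_iff] at hy
      subst hy
      exact ((Subgroup.mem_centralizer_iff.mp hxB) b hb).symm
    · intro e he
      rw [Subgroup.mem_centralizer_iff]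
      intro y hy
      rw [Set.mem_singleton_iff] at hy
      subst hy
      exact ((Subgroup.mem_centralizer_iff.mp (hEX he)) y hxX)
  rw [Subgroup.mem_centralizer_iff]
  intro g hg
  have := (Subgroup.mem_centralizer_iff.mp (h1 hg)) x rfl
  exact this.symm

/-- (R1) generation by centralizers of hyperplanes over `E`. -/
theorem le_iSup_hyp [Finite G] (p : ℕ) [Fact p.Prime] {A E X : Subgroup G}
    (hA : Cfsg.IsElementaryAbelian p A) (hEA : E ≤ A) (hXp : ¬ p ∣ Nat.card ↥X)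
    (hAX : A ≤ normalizer (X : Set G)) (hEX : E ≤ centralizer (X : Set G)) :
    X ≤ ⨆ B : {B : Subgroup G // IsHyp p A E B}, X ⊓ centralizer ((B : Subgroup G) : Set G) := by
  refine (Cfsg.Agent.Helper7.le_hyperGen p A X hA hXp hAX).trans ?_
  apply iSup_le
  rintro ⟨B, hBA, hBr⟩
  have hpos : 0 < B.relIndex A := Nat.pos_of_ne_zero (by
    unfold Subgroup.relIndex
    exact Subgroup.index_ne_zero_of_finite)
  have hdvd : (B ⊔ E).relIndex A ∣ B.relIndex A := Subgroup.relIndex_dvd_of_le_left A le_sup_left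
  have hle : (B ⊔ E).relIndex A ≤ p := (Nat.le_of_dvd hpos hdvd).trans hBr
  refine le_trans (centralizer_sup_of_le hEX) ?_
  exact le_iSup (fun B : {B : Subgroup G // IsHyp p A E B} =>
    X ⊓ centralizer ((B : Subgroup G) : Set G)) ⟨B ⊔ E, le_sup_right, sup_le hBA hEA, hle⟩

/-- (R2) two hyperplanes over `E` meet outside `E`. -/
theorem exists_mem_inf_not_mem [Finite G] {p : ℕ} [Fact p.Prime] {A E B B' : Subgroup G}
    (hrank : p ^ 3 * Nat.card ↥E ≤ Nat.card ↥A) (hB : IsHyp p A E B) (hB' : IsHyp p A E B') :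
    ∃ x, x ∈ B ∧ x ∈ B' ∧ x ∈ A ∧ x ∉ E := by
  have hpp := (Fact.out : p.Prime)
  by_contra hcon
  push Not at hcon
  have hle : B ⊓ B' ≤ E := by
    intro x hx
    obtain ⟨h1, h2⟩ := Subgroup.mem_inf.mp hx
    exact hcon x h1 h2 (hB.2.1 h1)
  have hc1 : Nat.card ↥(B ⊓ B' : Subgroup G) ≤ Nat.card ↥E := Subgroup.card_le_of_le hle
  have hc2 := Cfsg.Agent.Helper7.relIndex_mul_card_of_le (inf_le_left.trans hB.2.1 : B ⊓ B' ≤ A)
  have hc3 : (B ⊓ B').relIndex A ≤ B.relIndex A * B'.relIndex A := Subgroup.relIndex_inf_le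
  have hc4 : B.relIndex A * B'.relIndex A ≤ p * p := Nat.mul_le_mul hB.2.2 hB'.2.2
  have hEpos : 0 < Nat.card ↥E := Nat.card_pos
  have h5 : Nat.card ↥A ≤ p * p * Nat.card ↥E := by
    rw [← hc2]
    exact Nat.mul_le_mul (hc3.trans hc4) hc1
  have h6 : p * p * Nat.card ↥E < p ^ 3 * Nat.card ↥E := by
    apply Nat.mul_lt_mul_of_pos_right _ hEpos
    have : p ^ 3 = p * p * p := by ring
    rw [this]
    have h2 := hpp.two_le
    nlinarith
  omega

/-- a hyperplane over `E` is not inside `E`. -/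
theorem exists_mem_not_mem [Finite G] {p : ℕ} [Fact p.Prime] {A E B : Subgroup G}
    (hrank : p ^ 3 * Nat.card ↥E ≤ Nat.card ↥A) (hB : IsHyp p A E B) :
    ∃ x, x ∈ B ∧ x ∈ A ∧ x ∉ E := by
  obtain ⟨x, h1, -, h3, h4⟩ := exists_mem_inf_not_mem hrank hB hB
  exact ⟨x, h1, h3, h4⟩

/-- cardinality of the image when the kernel is avoided -/
theorem card_map_of_inf_ker {H : Type*} [Group H] (f : G →* H) (K : Subgroup G)
    (hK : K ⊓ f.ker = ⊥) : Nat.card ↥(K.map f) = Nat.card ↥K := by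
  symm
  apply Nat.card_congr
  refine Equiv.ofBijective (fun x : ↥K => (⟨f x, Subgroup.mem_map_of_mem f x.2⟩ : ↥(K.map f))) ⟨?_, ?_⟩
  · intro x y hxy
    have h1 : f (x : G) = f (y : G) := congrArg Subtype.val hxy
    have h2 : (x : G)⁻¹ * (y : G) ∈ K ⊓ f.ker := by
      refine Subgroup.mem_inf.mpr ⟨K.mul_mem (K.inv_mem x.2) y.2, ?_⟩
      rw [MonoidHom.mem_ker, map_mul, map_inv, h1, inv_mul_cancel]
    rw [hK, Subgroup.mem_bot] at h2
    apply Subtype.ext
    exact inv_mul_eq_one.mp h2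
  · rintro ⟨_, x, hx, rfl⟩
    exact ⟨⟨x, hx⟩, rfl⟩

theorem inf_eq_bot_of_isPGroup [Finite G] {p : ℕ} [Fact p.Prime] {A N : Subgroup G}
    (hA : IsPGroup p ↥A) (hN : ¬ p ∣ Nat.card ↥N) : A ⊓ N = ⊥ := by
  have h1 : IsPGroup p ↥(A ⊓ N : Subgroup G) := hA.to_le inf_le_left
  rcases h1.card_eq_or_dvd with h | h
  · exact Subgroup.card_eq_one.mp h
  · exact absurd (h.trans (Subgroup.card_dvd_of_le inf_le_right)) hN

theorem normal_of_sup_eq_top {T A K : Subgroup G} (h : T ⊔ A = ⊤)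
    (hT : T ≤ normalizer (K : Set G)) (hA : A ≤ normalizer (K : Set G)) : K.Normal := by
  apply Subgroup.normalizer_eq_top_iff.mp
  exact top_le_iff.mp (h ▸ sup_le hT hA)

/-- chief factors of a solvable normal subgroup are abelian (in the form we need). -/
theorem commutator_le_of_maximal {T M : Subgroup G} [hTn : T.Normal] [hMn : M.Normal]
    (hMT : M < T) (hTs : Group.IsSolvable ↥T)
    (hmax : ∀ K : Subgroup G, K.Normal → M ≤ K → K < T → K = M) : ⁅T, T⁆ ≤ M := by
  have hKn : (M ⊔ ⁅T, T⁆ : Subgroup G).Normal := Subgroup.sup_normal M ⁅T, T⁆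
  have hKT : M ⊔ ⁅T, T⁆ ≤ T := sup_le hMT.le (Subgroup.commutator_le_left T T)
  rcases lt_or_eq_of_le hKT with hlt | heq
  · have := hmax _ hKn le_sup_left hlt
    exact le_sup_right.trans this.le
  · exfalso
    have h1 : (⁅T, T⁆ : Subgroup G).map (QuotientGroup.mk' M) = T.map (QuotientGroup.mk' M) := by
      conv_rhs => rw [← heq]
      rw [Subgroup.map_sup, QuotientGroup.map_mk'_self, bot_sup_eq]
    rw [Subgroup.map_commutator] at h1
    have hs : Group.IsSolvable ↥(T.map (QuotientGroup.mk' M)) :=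
      solvable_of_surjective (MonoidHom.subgroupMap_surjective (QuotientGroup.mk' M) T)
    have h2 := Cfsg.Agent.Helper7.eq_bot_of_perfect_of_isSolvable h1 hs
    rw [Subgroup.map_eq_bot_iff, QuotientGroup.ker_mk'] at h2
    exact absurd h2 (not_le_of_gt hMT)

end Cfsg.Agent.Helper10.SigClos
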