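import Mathlib
import Cfsg.Agent.Lib.Helper10.SigClos1

set_option autoImplicit false

namespace Cfsg.Agent.Helper10.SigClos

open Subgroup
open scoped commutatorElement

variable {G : Type*} [Group G] {ι : Type*}

/-- A "functor inside `T`": data for the closure theorem. -/
structure Sys (p : ℕ) (A E T : Subgroup G) (c : ι → G) (θ : ι → Subgroup G) : Prop where
  hA : Cfsg.IsElementaryAbelian p A
  hEA : E ≤ A
  hrank : p ^ 3 * Nat.card ↥E ≤ Nat.card ↥A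
  hTs : Group.IsSolvable ↥T
  hTp : ¬ p ∣ Nat.card ↥T
  hAT : A ≤ normalizer (T : Set G)
  hET : E ≤ centralizer (T : Set G)
  hcA : ∀ i, c i ∈ A
  hcE : ∀ i, c i ∉ E
  hsurj : ∀ x ∈ A, x ∉ E → ∃ i, c i = x
  hθT : ∀ i, θ i ≤ T
  hθc : ∀ i, θ i ≤ centralizer ({c i} : Set G)
  hθA : ∀ i, A ≤ normalizer ((θ i : Subgroup G) : Set G)
  hbal : ∀ i j, θ i ⊓ centralizer ({c j} : Set G) ≤ θ j

/-- the conclusion of the closure theorem. -/
def Concl (c : ι → G) (θ : ι → Subgroup G) : Prop :=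
  ∀ j, (⨆ i, θ i) ⊓ centralizer ({c j} : Set G) ≤ θ j

variable {p : ℕ} [Fact p.Prime] {A E T : Subgroup G} {c : ι → G} {θ : ι → Subgroup G}

theorem Sys.c_ne_one (s : Sys p A E T c θ) (i : ι) : c i ≠ 1 := by
  intro h
  exact s.hcE i (h ▸ E.one_mem)

theorem Sys.card_zpowers [Finite G] (s : Sys p A E T c θ) (i : ι) :
    Nat.card (Subgroup.zpowers (c i)) = p :=
  Cfsg.Agent.Helper7.card_zpowers_of_isElementaryAbelian s.hA (s.hcA i) (s.c_ne_one i)

theorem not_dvd_of_le [Finite G] {X T : Subgroup G} (hTp : ¬ p ∣ Nat.card ↥T) (hX : X ≤ T) :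
    ¬ p ∣ Nat.card ↥X := fun h => hTp (h.trans (Subgroup.card_dvd_of_le hX))

theorem conj_mem_of_le_normalizer {A X : Subgroup G} (h : A ≤ normalizer (X : Set G)) {a : G}
    (ha : a ∈ A) : ∀ u ∈ X, a * u * a⁻¹ ∈ X := fun _ hu =>
  Cfsg.Agent.Helper7.conj_mem_of_mem_normalizer (h ha) hu

theorem mem_centralizer_singleton_of_mem {B : Subgroup G} {x y : G} (hx : x ∈ B)
    (hy : y ∈ centralizer (B : Set G)) : y ∈ centralizer ({x} : Set G) := by
  rw [Subgroup.mem_centralizer_iff]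
  intro g hg
  rw [Set.mem_singleton_iff] at hg
  subst hg
  exact (Subgroup.mem_centralizer_iff.mp hy) g hx

/-- product lemma -/
theorem Sys.sup_inf_centralizer_le [Finite G] (s : Sys p A E T c θ) {U V : Subgroup G}
    (hUT : U ≤ T) (hVT : V ≤ T) (hAU : A ≤ normalizer (U : Set G))
    (hAV : A ≤ normalizer (V : Set G)) (hn : V ≤ normalizer (U : Set G)) (j : ι)
    (hU : U ⊓ centralizer ({c j} : Set G) ≤ θ j) (hV : V ⊓ centralizer ({c j} : Set G) ≤ θ j) :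
    (U ⊔ V) ⊓ centralizer ({c j} : Set G) ≤ θ j := by
  intro k hk
  obtain ⟨hk1, hk2⟩ := Subgroup.mem_inf.mp hk
  obtain ⟨x, hx, y, hy, rfl⟩ := Cfsg.Agent.Helper7.exists_mul_of_mem_sup_centralizer
    (s.card_zpowers j) hn (not_dvd_of_le s.hTp hUT) (not_dvd_of_le s.hTp hVT)
    (conj_mem_of_le_normalizer hAU (s.hcA j)) (conj_mem_of_le_normalizer hAV (s.hcA j)) hk1 hk2
  exact (θ j).mul_mem (hU hx) (hV hy)

/-- the normalization trick -/
theorem Sys.le_normalizer_iSup_inf [Finite G] (s : Sys p A E T c θ) (K : Subgroup G)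
    [hK : K.Normal] (f : ι) :
    θ f ≤ normalizer ((⨆ j, θ j ⊓ K : Subgroup G) : Set G) := by
  have hEθ : ∀ i, E ≤ centralizer ((θ i : Subgroup G) : Set G) := fun i =>
    s.hET.trans (Subgroup.centralizer_le (s.hθT i))
  refine (le_iSup_hyp p s.hA s.hEA (not_dvd_of_le s.hTp (s.hθT f)) (s.hθA f) (hEθ f)).trans ?_
  apply iSup_le
  rintro ⟨B', hB'⟩ x hx
  obtain ⟨hxf, hxB'⟩ := Subgroup.mem_inf.mp hx
  apply Cfsg.Agent.Helper7.mem_normalizer_of_forall_conj_mem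
  intro u hu
  have hmap : (⨆ j, θ j ⊓ K : Subgroup G).map (MulAut.conj x).toMonoidHom ≤ ⨆ j, θ j ⊓ K := by
    rw [Subgroup.map_iSup]
    apply iSup_le
    intro j
    have hAj : A ≤ normalizer ((θ j ⊓ K : Subgroup G) : Set G) := by
      intro a ha
      apply Cfsg.Agent.Helper7.mem_normalizer_of_forall_conj_mem
      intro u hu
      obtain ⟨h1, h2⟩ := Subgroup.mem_inf.mp hu
      exact Subgroup.mem_inf.mpr ⟨conj_mem_of_le_normalizer (s.hθA j) ha u h1, hK.conj_mem u h2 a⟩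
    have hgen := le_iSup_hyp p s.hA s.hEA
      (not_dvd_of_le s.hTp (inf_le_left.trans (s.hθT j) : θ j ⊓ K ≤ T)) hAj
      ((hEθ j).trans (Subgroup.centralizer_le inf_le_left))
    refine (Subgroup.map_mono hgen).trans ?_
    rw [Subgroup.map_iSup]
    apply iSup_le
    rintro ⟨B, hB⟩
    rintro _ ⟨y, hy, rfl⟩
    obtain ⟨hy1, hyB⟩ := Subgroup.mem_inf.mp hy
    obtain ⟨hyj, hyK⟩ := Subgroup.mem_inf.mp hy1
    obtain ⟨z, hzB, hzB', hzA, hzE⟩ := exists_mem_inf_not_mem s.hrank hB hB'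
    obtain ⟨m, rfl⟩ := s.hsurj z hzA hzE
    have hym : y ∈ θ m := s.hbal j m
      (Subgroup.mem_inf.mpr ⟨hyj, mem_centralizer_singleton_of_mem hzB hyB⟩)
    have hxm : x ∈ θ m := s.hbal f m
      (Subgroup.mem_inf.mpr ⟨hxf, mem_centralizer_singleton_of_mem hzB' hxB'⟩)
    have h1 : x * y * x⁻¹ ∈ θ m ⊓ K :=
      Subgroup.mem_inf.mpr ⟨(θ m).mul_mem ((θ m).mul_mem hxm hym) ((θ m).inv_mem hxm),
        hK.conj_mem y hyK x⟩
    exact (le_iSup (fun j => θ j ⊓ K) m) h1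
  exact hmap ⟨u, hu, rfl⟩

/-- a member whose centralizers are all trivial is trivial -/
theorem Sys.eq_bot_of_forall [Finite G] (s : Sys p A E T c θ) {X : Subgroup G} (hXT : X ≤ T)
    (hAX : A ≤ normalizer (X : Set G)) (h : ∀ j, X ⊓ centralizer ({c j} : Set G) = ⊥) :
    X = ⊥ := by
  rw [eq_bot_iff]
  refine (le_iSup_hyp p s.hA s.hEA (not_dvd_of_le s.hTp hXT) hAX
    (s.hET.trans (Subgroup.centralizer_le hXT))).trans ?_
  apply iSup_le
  rintro ⟨B, hB⟩ x hx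
  obtain ⟨hxX, hxB⟩ := Subgroup.mem_inf.mp hx
  obtain ⟨z, hzB, hzA, hzE⟩ := exists_mem_not_mem s.hrank hB
  obtain ⟨m, rfl⟩ := s.hsurj z hzA hzE
  rw [← h m]
  exact Subgroup.mem_inf.mpr ⟨hxX, mem_centralizer_singleton_of_mem hzB hxB⟩

end Cfsg.Agent.Helper10.SigClos
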