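import Mathlib
import Cfsg.Agent.Lib.Helper10.SigClos2
import Cfsg.Agent.Lib.Helper1.Coprime

set_option autoImplicit false

namespace Cfsg.Agent.Helper10.SigClos

open Subgroup
open scoped commutatorElement

variable {G : Type*} [Group G] {ι : Type*}

/-- coprime action: fixed points lift through a normal `p'`-subgroup -/
theorem map_inf_centralizer_le [Finite G] {p : ℕ} [Fact p.Prime] (N X : Subgroup G) [hNn : N.Normal]
    (hN : ¬ p ∣ Nat.card ↥N) (hX : ¬ p ∣ Nat.card ↥X) {b : G}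
    (hcardb : Nat.card (Subgroup.zpowers b) = p) (hbX : ∀ u ∈ X, b * u * b⁻¹ ∈ X) :
    X.map (QuotientGroup.mk' N) ⊓ centralizer ({QuotientGroup.mk' N b} : Set (G ⧸ N)) ≤
      (X ⊓ centralizer ({b} : Set G)).map (QuotientGroup.mk' N) := by
  rintro _ ⟨⟨t, ht, rfl⟩, hcen⟩
  have hcen' : QuotientGroup.mk' N b * QuotientGroup.mk' N t =
      QuotientGroup.mk' N t * QuotientGroup.mk' N b :=
    (Subgroup.mem_centralizer_iff.mp hcen) _ rfl
  have hNnorm : Subgroup.normalizer (N : Set G) = ⊤ := Subgroup.normalizer_eq_top_iff.mpr inferInstance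
  obtain ⟨c, hc, hcN⟩ := Cfsg.Agent.Helper1.exists_centralizer_mem_coset N (Subgroup.zpowers b)
    (by rw [hNnorm]; exact le_top)
    (by rw [hcardb]; exact (Nat.Prime.coprime_iff_not_dvd (Fact.out : p.Prime)).mpr hN)
    (Or.inl inferInstance) t
    (by
      intro a' ha'
      obtain ⟨k, rfl⟩ := Subgroup.mem_zpowers_iff.mp ha'
      rw [← QuotientGroup.eq_one_iff, ← QuotientGroup.mk'_apply]
      have hcomm : Commute (QuotientGroup.mk' N b) (QuotientGroup.mk' N t) := hcen'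
      have := (hcomm.zpow_left k).eq
      simp only [map_mul, map_inv, map_zpow]
      rw [mul_assoc (QuotientGroup.mk' N t)⁻¹, this]
      group)
  rw [Cfsg.Agent.Helper7.centralizer_zpowers_eq] at hc
  have hcK : c ∈ N ⊔ X := by
    have : c = t * (t⁻¹ * c) := by group
    rw [this]
    exact Subgroup.mul_mem _ (Subgroup.mem_sup_right ht) (Subgroup.mem_sup_left hcN)
  obtain ⟨n, hn, y, hy, hcny⟩ := Cfsg.Agent.Helper7.exists_mul_of_mem_sup_centralizer hcardb
    (X := N) (Y := X) (by rw [hNnorm]; exact le_top) hN hX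
    (fun u hu => hNn.conj_mem u hu b) hbX hcK hc
  refine ⟨y, hy, ?_⟩
  have h1 : QuotientGroup.mk' N t = QuotientGroup.mk' N c := by
    rw [QuotientGroup.mk'_apply, QuotientGroup.mk'_apply, QuotientGroup.eq]
    exact hcN
  rw [h1, hcny, map_mul]
  have : QuotientGroup.mk' N n = 1 := by
    rw [QuotientGroup.mk'_apply, QuotientGroup.eq_one_iff]
    exact (Subgroup.mem_inf.mp hn).1
  rw [this, one_mul]

variable {p : ℕ} [Fact p.Prime] {A E T : Subgroup G} {c : ι → G} {θ : ι → Subgroup G}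

theorem Sys.inf_eq_bot [Finite G] (s : Sys p A E T c θ) {N : Subgroup G} (hNT : N ≤ T) :
    A ⊓ N = ⊥ :=
  inf_eq_bot_of_isPGroup (Cfsg.Agent.Helper7.isPGroup_of_isElementaryAbelian s.hA)
    (not_dvd_of_le s.hTp hNT)

/-- the quotient system -/
theorem Sys.quot [Finite G] (s : Sys p A E T c θ) (N : Subgroup G) [hNn : N.Normal] (hNT : N ≤ T) :
    Sys p (A.map (QuotientGroup.mk' N)) (E.map (QuotientGroup.mk' N)) (T.map (QuotientGroup.mk' N))
      (fun i => QuotientGroup.mk' N (c i)) (fun i => (θ i).map (QuotientGroup.mk' N)) := by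
  have hAN := s.inf_eq_bot hNT
  have hEN : E ⊓ N = ⊥ := eq_bot_iff.mpr ((inf_le_inf_right N s.hEA).trans hAN.le)
  have hNp := not_dvd_of_le s.hTp hNT
  refine ⟨?_, Subgroup.map_mono s.hEA, ?_, ?_, ?_, ?_, ?_, ?_, ?_, ?_, ?_, ?_, ?_, ?_⟩
  · haveI := s.hA.1
    refine ⟨inferInstance, ?_⟩
    rintro _ ⟨x, hx, rfl⟩
    rw [← map_pow, s.hA.2 x hx, map_one]
  · rw [card_map_of_inf_ker _ A (by rw [QuotientGroup.ker_mk']; exact hAN),
      card_map_of_inf_ker _ E (by rw [QuotientGroup.ker_mk']; exact hEN)]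
    exact s.hrank
  · haveI := s.hTs
    exact solvable_of_surjective (MonoidHom.subgroupMap_surjective (QuotientGroup.mk' N) T)
  · intro h
    exact s.hTp (h.trans (Subgroup.card_map_dvd _ _))
  · exact (Subgroup.map_mono s.hAT).trans (Subgroup.le_normalizer_map _)
  · rintro _ ⟨e, he, rfl⟩
    rw [Subgroup.mem_centralizer_iff]
    rintro _ ⟨t, ht, rfl⟩
    rw [← map_mul, ← map_mul]
    congr 1
    exact (Subgroup.mem_centralizer_iff.mp (s.hET he)) t ht
  · intro i
    exact Subgroup.mem_map_of_mem _ (s.hcA i)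
  · rintro i ⟨e, he, heq⟩
    have h1 : e⁻¹ * c i ∈ N := by
      rw [← QuotientGroup.eq]
      exact heq
    have h2 : e⁻¹ * c i ∈ A ⊓ N :=
      Subgroup.mem_inf.mpr ⟨A.mul_mem (A.inv_mem (s.hEA he)) (s.hcA i), h1⟩
    rw [hAN, Subgroup.mem_bot] at h2
    have : c i = e := (inv_mul_eq_one.mp h2).symm
    exact s.hcE i (this ▸ he)
  · rintro _ ⟨x, hx, rfl⟩ hxE
    have hxE' : x ∉ E := fun h => hxE (Subgroup.mem_map_of_mem _ h)
    obtain ⟨i, hi⟩ := s.hsurj x hx hxE'
    exact ⟨i, by rw [hi]⟩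
  · intro i
    exact Subgroup.map_mono (s.hθT i)
  · rintro i _ ⟨y, hy, rfl⟩
    rw [Subgroup.mem_centralizer_iff]
    intro g hg
    rw [Set.mem_singleton_iff] at hg
    subst hg
    rw [← map_mul, ← map_mul]
    congr 1
    exact (Subgroup.mem_centralizer_iff.mp (s.hθc i hy)) _ rfl
  · intro i
    exact (Subgroup.map_mono (s.hθA i)).trans (Subgroup.le_normalizer_map _)
  · intro i j
    refine (map_inf_centralizer_le N (θ i) hNp (not_dvd_of_le s.hTp (s.hθT i))
      (s.card_zpowers j) (conj_mem_of_le_normalizer (s.hθA i) (s.hcA j))).trans ?_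
    exact Subgroup.map_mono (s.hbal i j)

/-- pulling back the conclusion from the quotient -/
theorem Sys.of_quot_concl [Finite G] (s : Sys p A E T c θ) (N : Subgroup G) [hNn : N.Normal]
    (h : Concl (fun i => QuotientGroup.mk' N (c i)) (fun i => (θ i).map (QuotientGroup.mk' N)))
    (j : ι) :
    (⨆ i, θ i) ⊓ centralizer ({c j} : Set G) ≤ θ j ⊔ (N ⊓ centralizer ({c j} : Set G)) := by
  intro t ht
  obtain ⟨ht1, ht2⟩ := Subgroup.mem_inf.mp ht
  have h1 : QuotientGroup.mk' N t ∈ ⨆ i, (θ i).map (QuotientGroup.mk' N) := by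
    rw [← Subgroup.map_iSup]
    exact Subgroup.mem_map_of_mem _ ht1
  have h2 : QuotientGroup.mk' N t ∈ centralizer ({QuotientGroup.mk' N (c j)} : Set (G ⧸ N)) := by
    rw [Subgroup.mem_centralizer_iff]
    intro g hg
    rw [Set.mem_singleton_iff] at hg
    subst hg
    rw [← map_mul, ← map_mul]
    congr 1
    exact (Subgroup.mem_centralizer_iff.mp ht2) _ rfl
  obtain ⟨y, hy, hyt⟩ := h j (Subgroup.mem_inf.mpr ⟨h1, h2⟩)
  have h3 : y⁻¹ * t ∈ N := by
    rw [← QuotientGroup.eq]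
    exact hyt
  have hyc : y ∈ centralizer ({c j} : Set G) := s.hθc j hy
  have h4 : y⁻¹ * t ∈ centralizer ({c j} : Set G) :=
    Subgroup.mul_mem _ (Subgroup.inv_mem _ hyc) ht2
  have : t = y * (y⁻¹ * t) := by group
  rw [this]
  exact Subgroup.mul_mem _ (Subgroup.mem_sup_left hy)
    (Subgroup.mem_sup_right (Subgroup.mem_inf.mpr ⟨h3, h4⟩))

end Cfsg.Agent.Helper10.SigClos
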