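import Mathlib
import Cfsg.Agent.Lib.Helper10.SigClos3

set_option autoImplicit false

namespace Cfsg.Agent.Helper10.SigClos

open Subgroup
open scoped commutatorElement

variable {G : Type*} [Group G] {ι : Type*}
variable {p : ℕ} [Fact p.Prime] {A E T : Subgroup G} {c : ι → G} {θ : ι → Subgroup G}

theorem card_subgroupOf_of_le {K H : Subgroup G} (h : K ≤ H) :
    Nat.card ↥(K.subgroupOf H) = Nat.card ↥K :=
  Nat.card_congr (Subgroup.subgroupOfEquivOfLe h).toEquiv

/-- transport of a system into a subgroup containing `T` and `A`. -/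
theorem Sys.to_subgroup [Finite G] (s : Sys p A E T c θ) (H : Subgroup G) (hTH : T ≤ H)
    (hAH : A ≤ H) :
    Sys p (A.subgroupOf H) (E.subgroupOf H) (T.subgroupOf H)
      (fun i => (⟨c i, hAH (s.hcA i)⟩ : ↥H)) (fun i => (θ i).subgroupOf H) := by
  refine ⟨?_, ?_, ?_, ?_, ?_, ?_, ?_, ?_, ?_, ?_, ?_, ?_, ?_, ?_⟩
  · haveI := s.hA.1
    refine ⟨inferInstance, ?_⟩
    intro a ha
    apply Subtype.ext
    rw [Subgroup.coe_pow]
    exact s.hA.2 _ ha
  · intro x hx
    exact s.hEA hx
  · rw [card_subgroupOf_of_le (s.hEA.trans hAH), card_subgroupOf_of_le hAH]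
    exact s.hrank
  · haveI := s.hTs
    exact solvable_of_surjective (f := (Subgroup.subgroupOfEquivOfLe hTH).symm.toMonoidHom)
      (Subgroup.subgroupOfEquivOfLe hTH).symm.surjective
  · rw [card_subgroupOf_of_le hTH]
    exact s.hTp
  · intro a ha
    have h1 := s.hAT ha
    rw [Subgroup.mem_normalizer_iff] at h1 ⊢
    intro h
    exact h1 (h : G)
  · intro e he
    rw [Subgroup.mem_centralizer_iff]
    intro t ht
    apply Subtype.ext
    exact (Subgroup.mem_centralizer_iff.mp (s.hET he)) (t : G) ht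
  · intro i
    exact s.hcA i
  · intro i
    exact s.hcE i
  · intro x hx hxE
    obtain ⟨i, hi⟩ := s.hsurj (x : G) hx hxE
    exact ⟨i, Subtype.ext hi⟩
  · intro i x hx
    exact s.hθT i hx
  · intro i x hx
    rw [Subgroup.mem_centralizer_iff]
    intro g hg
    rw [Set.mem_singleton_iff] at hg
    subst hg
    apply Subtype.ext
    exact (Subgroup.mem_centralizer_iff.mp (s.hθc i hx)) _ rfl
  · intro i a ha
    have h1 := s.hθA i ha
    rw [Subgroup.mem_normalizer_iff] at h1 ⊢
    intro h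
    exact h1 (h : G)
  · intro i j x hx
    obtain ⟨hx1, hx2⟩ := Subgroup.mem_inf.mp hx
    apply s.hbal i j
    refine Subgroup.mem_inf.mpr ⟨hx1, ?_⟩
    rw [Subgroup.mem_centralizer_iff]
    intro g hg
    rw [Set.mem_singleton_iff] at hg
    subst hg
    have := (Subgroup.mem_centralizer_iff.mp hx2) (⟨c j, hAH (s.hcA j)⟩ : ↥H) rfl
    exact congrArg Subtype.val this

theorem sup_subgroupOf_eq_top {T A H : Subgroup G} (hTH : T ≤ H) (hAH : A ≤ H)
    (h : T ⊔ A = H) : T.subgroupOf H ⊔ A.subgroupOf H = ⊤ := by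
  rw [← Subgroup.subgroupOf_sup hTH hAH, h, Subgroup.subgroupOf_self]

/-- transport of the conclusion back from a subgroup. -/
theorem concl_of_subgroup (H : Subgroup G) (hθH : ∀ i, θ i ≤ H) (c' : ι → ↥H)
    (hc' : ∀ i, ((c' i : ↥H) : G) = c i)
    (h : Concl c' (fun i => (θ i).subgroupOf H)) : Concl c θ := by
  intro j x hx
  obtain ⟨hx1, hx2⟩ := Subgroup.mem_inf.mp hx
  have h1 : (⨆ i, θ i) = (⨆ i, (θ i).subgroupOf H).map H.subtype := by
    rw [Subgroup.map_iSup]
    congr 1
    funext i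
    exact (Subgroup.map_subgroupOf_eq_of_le (hθH i)).symm
  rw [h1] at hx1
  obtain ⟨x', hx', rfl⟩ := hx1
  have h2 : x' ∈ centralizer ({c' j} : Set ↥H) := by
    rw [Subgroup.mem_centralizer_iff]
    intro g hg
    rw [Set.mem_singleton_iff] at hg
    subst hg
    apply Subtype.ext
    have := (Subgroup.mem_centralizer_iff.mp hx2) (c j) rfl
    rw [Subgroup.coe_mul, Subgroup.coe_mul, hc' j]
    exact this
  exact h j (Subgroup.mem_inf.mpr ⟨hx', h2⟩)

end Cfsg.Agent.Helper10.SigClos
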