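import Mathlib
import Cfsg.Agent.Lib.Helper10.SigClos4

set_option autoImplicit false

namespace Cfsg.Agent.Helper10.SigClos

open Subgroup
open scoped commutatorElement

universe u v

theorem card_lt_of_lt' {G : Type*} [Group G] [Finite G] {A B : Subgroup G} (h : A < B) :
    Nat.card ↥A < Nat.card ↥B := by
  by_contra hcon
  push Not at hcon
  exact h.ne (Subgroup.eq_of_le_of_card_ge h.le hcon)

theorem card_map_mk_lt {G : Type*} [Group G] [Finite G] {N T : Subgroup G} [N.Normal]
    (hNT : N ≤ T) (hN : N ≠ ⊥) :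
    Nat.card ↥(T.map (QuotientGroup.mk' N)) < Nat.card ↥T := by
  by_contra hcon
  push Not at hcon
  have hsurj := MonoidHom.subgroupMap_surjective (QuotientGroup.mk' N) T
  have hbij := Function.Surjective.bijective_of_nat_card_le hsurj hcon
  obtain ⟨⟨n, hn⟩, hn1⟩ := (Subgroup.ne_bot_iff_exists_ne_one.mp hN)
  have h1 : (QuotientGroup.mk' N).subgroupMap T ⟨n, hNT hn⟩ = (QuotientGroup.mk' N).subgroupMap T 1 := by
    apply Subtype.ext
    rw [map_one]
    change QuotientGroup.mk' N n = 1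
    rw [QuotientGroup.mk'_apply, QuotientGroup.eq_one_iff]
    exact hn
  have h2 := hbij.1 h1
  apply hn1
  apply Subtype.ext
  have h3 : ((⟨n, hNT hn⟩ : ↥T) : G) = ((1 : ↥T) : G) := congrArg Subtype.val h2
  exact h3

variable {G : Type*} [Group G] {ι : Type*}
variable {p : ℕ} [Fact p.Prime] {A E T : Subgroup G} {c : ι → G} {θ : ι → Subgroup G}

theorem Sys.le_normalizer_inf [Finite G] (s : Sys p A E T c θ) (K : Subgroup G) [hK : K.Normal]
    (j : ι) : A ≤ normalizer ((θ j ⊓ K : Subgroup G) : Set G) := by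
  intro a ha
  apply Cfsg.Agent.Helper7.mem_normalizer_of_forall_conj_mem
  intro u hu
  obtain ⟨h1, h2⟩ := Subgroup.mem_inf.mp hu
  exact Subgroup.mem_inf.mpr ⟨conj_mem_of_le_normalizer (s.hθA j) ha u h1, hK.conj_mem u h2 a⟩

/-- the system cut down to a normal subgroup `M ≤ T` -/
theorem Sys.inf_normal [Finite G] (s : Sys p A E T c θ) (M : Subgroup G) [hM : M.Normal]
    (hMT : M ≤ T) : Sys p A E M c (fun j => θ j ⊓ M) := by
  refine ⟨s.hA, s.hEA, s.hrank, ?_, not_dvd_of_le s.hTp hMT, ?_, ?_, s.hcA, s.hcE, s.hsurj,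
    fun j => inf_le_right, fun j => inf_le_left.trans (s.hθc j), fun j => s.le_normalizer_inf M j, ?_⟩
  · have := s.hTs
    exact Group.isSolvable_of_isSolvable_injective (Subgroup.inclusion_injective hMT)
  · rw [Subgroup.normalizer_eq_top_iff.mpr hM]
    exact le_top
  · exact s.hET.trans (Subgroup.centralizer_le hMT)
  · intro i j x hx
    obtain ⟨hx1, hx2⟩ := Subgroup.mem_inf.mp hx
    obtain ⟨hx3, hx4⟩ := Subgroup.mem_inf.mp hx1
    exact Subgroup.mem_inf.mpr ⟨s.hbal i j (Subgroup.mem_inf.mpr ⟨hx3, hx2⟩), hx4⟩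

/-- the system with `T` replaced by the closure -/
theorem Sys.closure_sys [Finite G] (s : Sys p A E T c θ) :
    Sys p A E (⨆ i, θ i) c θ := by
  have hWT : (⨆ i, θ i) ≤ T := iSup_le s.hθT
  refine ⟨s.hA, s.hEA, s.hrank, ?_, not_dvd_of_le s.hTp hWT, ?_, ?_, s.hcA, s.hcE, s.hsurj,
    fun j => le_iSup θ j, s.hθc, s.hθA, s.hbal⟩
  · have := s.hTs
    exact Group.isSolvable_of_isSolvable_injective (Subgroup.inclusion_injective hWT)
  · intro a ha
    exact Cfsg.Agent.Helper7.mem_normalizer_iSup (fun i => s.hθA i ha)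
  · exact s.hET.trans (Subgroup.centralizer_le hWT)

end Cfsg.Agent.Helper10.SigClos
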