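import Mathlib
import Cfsg.Agent.Lib.Helper10.SigClos5

set_option autoImplicit false
set_option maxHeartbeats 1600000

namespace Cfsg.Agent.Helper10.SigClos

open Subgroup
open scoped commutatorElement

universe u v

/-- **Closure theorem (core form)**: `T ⊔ A = ⊤`. -/
theorem core {ι : Type v} [Finite ι] (p : ℕ) [Fact p.Prime] :
    ∀ n : ℕ, ∀ (G : Type u) [Group G] [Finite G] (A E T : Subgroup G) (c : ι → G)
      (θ : ι → Subgroup G), Sys p A E T c θ → T ⊔ A = ⊤ → Nat.card ↥T = n → Concl c θ := by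
  intro n
  induction n using Nat.strong_induction_on with
  | _ n ih =>
  intro G _ _ A E T c θ s htop hn
  -- the general statement for smaller `T'`
  have gen : ∀ (T' : Subgroup G) (θ' : ι → Subgroup G), Sys p A E T' c θ' →
      Nat.card ↥T' < n → Concl c θ' := by
    intro T' θ' s' hlt
    have s'' := s'.to_subgroup (T' ⊔ A) le_sup_left le_sup_right
    have h1 := ih (Nat.card ↥T') hlt ↥(T' ⊔ A : Subgroup G) _ _ _ _ _ s''
      (sup_subgroupOf_eq_top le_sup_left le_sup_right rfl) (card_subgroupOf_of_le le_sup_left)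
    exact concl_of_subgroup (T' ⊔ A) (fun i => (s'.hθT i).trans le_sup_left) _ (fun i => rfl) h1
  have hWT : (⨆ i, θ i) ≤ T := iSup_le s.hθT
  by_cases hWeq : (⨆ i, θ i) = T
  swap
  · have hlt : Nat.card ↥(⨆ i, θ i : Subgroup G) < n :=
      hn ▸ card_lt_of_lt' (lt_of_le_of_ne hWT hWeq)
    exact gen _ θ s.closure_sys hlt
  by_cases hTbot : T = ⊥
  · intro j x hx
    have h1 : x ∈ T := hWeq ▸ (Subgroup.mem_inf.mp hx).1
    rw [hTbot, Subgroup.mem_bot] at h1
    subst h1
    exact (θ j).one_mem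
  have hTn : T.Normal := normal_of_sup_eq_top htop Subgroup.le_normalizer s.hAT
  -- a minimal normal subgroup `N`
  obtain ⟨N, -, hNmin⟩ := Finite.exists_le_minimal
    (p := fun K : Subgroup G => K.Normal ∧ K ≤ T ∧ K ≠ ⊥) (a := T) ⟨hTn, le_rfl, hTbot⟩
  obtain ⟨⟨hNn, hNT, hNbot⟩, hNmin'⟩ := hNmin
  have hNmin : ∀ K : Subgroup G, K.Normal → K ≤ N → K ≠ ⊥ → K = N := fun K hKn hKN hKb =>
    le_antisymm hKN (hNmin' ⟨hKn, hKN.trans hNT, hKb⟩ hKN)
  have hNs : Group.IsSolvable ↥N := by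
    have := s.hTs
    exact Group.isSolvable_of_isSolvable_injective (Subgroup.inclusion_injective hNT)
  -- `N` is abelian
  have hNab : ⁅N, N⁆ = ⊥ := by
    by_contra hne
    have h1 : ⁅N, N⁆ = N := hNmin _ (Subgroup.commutator_normal N N)
      (Subgroup.commutator_le_left N N) hne
    exact hNbot (Cfsg.Agent.Helper7.eq_bot_of_perfect_of_isSolvable h1 hNs)
  have hNcent : N ≤ centralizer (N : Set G) := Subgroup.commutator_eq_bot_iff_le_centralizer.mp hNab
  -- the quotient step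
  have sq := s.quot N hNT
  have htopq : T.map (QuotientGroup.mk' N) ⊔ A.map (QuotientGroup.mk' N) = ⊤ := by
    rw [← Subgroup.map_sup, htop, Subgroup.map_top_of_surjective _ (QuotientGroup.mk'_surjective N)]
  have hq := s.of_quot_concl N
    (ih _ (hn ▸ card_map_mk_lt hNT hNbot) (G ⧸ N) _ _ _ _ _ sq htopq rfl)
  -- `N₀`
  have hTnorm : ∀ K : Subgroup G, K.Normal → T ≤ normalizer ((⨆ j, θ j ⊓ K : Subgroup G) : Set G) := by
    intro K hK
    rw [← hWeq]
    exact iSup_le (fun f => s.le_normalizer_iSup_inf K f)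
  have hAnorm : ∀ K : Subgroup G, K.Normal → A ≤ normalizer ((⨆ j, θ j ⊓ K : Subgroup G) : Set G) := by
    intro K hK a ha
    exact Cfsg.Agent.Helper7.mem_normalizer_iSup (fun j => s.le_normalizer_inf K j ha)
  have hN0n : (⨆ j, θ j ⊓ N : Subgroup G).Normal :=
    normal_of_sup_eq_top htop (hTnorm N hNn) (hAnorm N hNn)
  have hN0N : (⨆ j, θ j ⊓ N : Subgroup G) ≤ N := iSup_le (fun j => inf_le_right)
  have hAN : A ≤ normalizer (N : Set G) := by
    rw [Subgroup.normalizer_eq_top_iff.mpr hNn]; exact le_top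
  by_cases hN0 : (⨆ j, θ j ⊓ N : Subgroup G) = ⊥
  · -- the impossible case
    exfalso
    have hθN : ∀ j, θ j ⊓ N = ⊥ := iSup_eq_bot.mp hN0
    have hNltT : N < T := by
      refine lt_of_le_of_ne hNT ?_
      intro hNeqT
      apply hTbot
      rw [← hWeq]
      apply iSup_eq_bot.mpr
      intro j
      rw [← hθN j, hNeqT]
      exact (inf_of_le_left (s.hθT j)).symm
    obtain ⟨M, hNM, hMmax⟩ := Finite.exists_le_maximal
      (p := fun K : Subgroup G => K.Normal ∧ N ≤ K ∧ K < T) (a := N) ⟨hNn, le_rfl, hNltT⟩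
    obtain ⟨⟨hMn, -, hMT⟩, hMmax'⟩ := hMmax
    have hMmax : ∀ K : Subgroup G, K.Normal → M ≤ K → K < T → K = M := fun K hKn hMK hKT =>
      le_antisymm (hMmax' ⟨hKn, hNM.trans hMK, hKT⟩ hMK) hMK
    have hcomm : ⁅T, T⁆ ≤ M := commutator_le_of_maximal hMT s.hTs hMmax
    obtain ⟨i0, hi0⟩ : ∃ i0, ¬ θ i0 ≤ M := by
      by_contra hcon
      push Not at hcon
      have : T ≤ M := hWeq ▸ iSup_le hcon
      exact absurd this (not_le_of_gt hMT)
    have hLT : M ⊔ θ i0 ≤ T := sup_le hMT.le (s.hθT i0)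
    have hTL : T ≤ normalizer ((M ⊔ θ i0 : Subgroup G) : Set G) := by
      intro t ht
      apply Cfsg.Agent.Helper7.mem_normalizer_of_forall_conj_mem
      intro u hu
      have h1 : ⁅t, u⁆ ∈ M := hcomm (Subgroup.commutator_mem_commutator ht (hLT hu))
      have h2 : t * u * t⁻¹ = ⁅t, u⁆ * u := by
        rw [commutatorElement_def]; group
      rw [h2]
      exact Subgroup.mul_mem _ (Subgroup.mem_sup_left h1) hu
    have hAM : A ≤ normalizer (M : Set G) := by
      rw [Subgroup.normalizer_eq_top_iff.mpr hMn]; exact le_top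
    have hAL : A ≤ normalizer ((M ⊔ θ i0 : Subgroup G) : Set G) := fun a ha =>
      Cfsg.Agent.Helper7.mem_normalizer_sup (hAM ha) (s.hθA i0 ha)
    have hLn : (M ⊔ θ i0 : Subgroup G).Normal := normal_of_sup_eq_top htop hTL hAL
    have hLeq : M ⊔ θ i0 = T := by
      by_contra hne
      have := hMmax _ hLn le_sup_left (lt_of_le_of_ne hLT hne)
      exact hi0 (le_sup_right.trans this.le)
    -- `U`
    have sM := s.inf_normal M hMT.le
    have hU := gen M _ sM (hn ▸ card_lt_of_lt' hMT)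
    have hUn : (⨆ j, θ j ⊓ M : Subgroup G).Normal :=
      normal_of_sup_eq_top htop (hTnorm M hMn) (hAnorm M hMn)
    have hUT : (⨆ j, θ j ⊓ M : Subgroup G) ≤ T := iSup_le (fun j => inf_le_left.trans (s.hθT j))
    -- `M ≤ U ⊔ N`
    have hMUN : M ≤ (⨆ j, θ j ⊓ M : Subgroup G) ⊔ N := by
      refine (le_iSup_hyp p s.hA s.hEA (not_dvd_of_le s.hTp hMT.le) hAM
        (s.hET.trans (Subgroup.centralizer_le hMT.le))).trans ?_
      apply iSup_le
      rintro ⟨B, hB⟩ x hx
      obtain ⟨hxM, hxB⟩ := Subgroup.mem_inf.mp hx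
      obtain ⟨z, hzB, hzA, hzE⟩ := exists_mem_not_mem s.hrank hB
      obtain ⟨m, rfl⟩ := s.hsurj z hzA hzE
      have hx1 : x ∈ (⨆ i, θ i) ⊓ centralizer ({c m} : Set G) :=
        Subgroup.mem_inf.mpr ⟨hWeq ▸ hMT.le hxM, mem_centralizer_singleton_of_mem hzB hxB⟩
      obtain ⟨y, hy, n', hn', rfl⟩ := Subgroup.mem_sup_of_normal_right.mp
        ((sup_le_sup_left (inf_le_left : N ⊓ centralizer ({c m} : Set G) ≤ N) (θ m)) (hq m hx1))
      have hyM : y ∈ M := by
        have : y = (y * n') * n'⁻¹ := by group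
        rw [this]
        exact M.mul_mem hxM (M.inv_mem (hNM hn'))
      exact Subgroup.mul_mem _
        (Subgroup.mem_sup_left ((le_iSup (fun j => θ j ⊓ M) m) (Subgroup.mem_inf.mpr ⟨hy, hyM⟩)))
        (Subgroup.mem_sup_right hn')
    -- `V`
    have hAU : A ≤ normalizer ((⨆ j, θ j ⊓ M : Subgroup G) : Set G) := hAnorm M hMn
    have hV : ∀ j, ((⨆ j, θ j ⊓ M : Subgroup G) ⊔ θ i0) ⊓ centralizer ({c j} : Set G) ≤ θ j := by
      intro j
      refine s.sup_inf_centralizer_le hUT (s.hθT i0) hAU (s.hθA i0) ?_ j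
        ((hU j).trans inf_le_left) (s.hbal i0 j)
      rw [Subgroup.normalizer_eq_top_iff.mpr hUn]; exact le_top
    have hVT : (⨆ j, θ j ⊓ M : Subgroup G) ⊔ θ i0 ≤ T := sup_le hUT (s.hθT i0)
    have hAV : A ≤ normalizer ((((⨆ j, θ j ⊓ M : Subgroup G) ⊔ θ i0 : Subgroup G)) : Set G) :=
      fun a ha => Cfsg.Agent.Helper7.mem_normalizer_sup (hAU ha) (s.hθA i0 ha)
    have hTNV : T ≤ N ⊔ ((⨆ j, θ j ⊓ M : Subgroup G) ⊔ θ i0) := by
      rw [← hLeq]
      apply sup_le
      · refine hMUN.trans ?_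
        apply sup_le
        · exact le_sup_left.trans le_sup_right
        · exact le_sup_left
      · exact le_sup_right.trans le_sup_right
    have hθV : ∀ j, θ j ≤ (⨆ j, θ j ⊓ M : Subgroup G) ⊔ θ i0 := by
      intro j y hy
      have hyT : y ∈ N ⊔ ((⨆ j, θ j ⊓ M : Subgroup G) ⊔ θ i0) := hTNV (s.hθT j hy)
      obtain ⟨n', hn', v, hv, rfl⟩ := Cfsg.Agent.Helper7.exists_mul_of_mem_sup_centralizer
        (s.card_zpowers j) (X := N) (Y := (⨆ j, θ j ⊓ M : Subgroup G) ⊔ θ i0)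
        (by rw [Subgroup.normalizer_eq_top_iff.mpr hNn]; exact le_top)
        (not_dvd_of_le s.hTp hNT) (not_dvd_of_le s.hTp hVT)
        (conj_mem_of_le_normalizer hAN (s.hcA j)) (conj_mem_of_le_normalizer hAV (s.hcA j))
        hyT (s.hθc j hy)
      have hvj : v ∈ θ j := hV j hv
      have hn'j : n' ∈ θ j := by
        have : n' = (n' * v) * v⁻¹ := by group
        rw [this]
        exact (θ j).mul_mem hy ((θ j).inv_mem hvj)
      have hn'1 : n' ∈ θ j ⊓ N := Subgroup.mem_inf.mpr ⟨hn'j, (Subgroup.mem_inf.mp hn').1⟩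
      rw [hθN j, Subgroup.mem_bot] at hn'1
      rw [hn'1, one_mul]
      exact (Subgroup.mem_inf.mp hv).1
    have hNV : N ≤ (⨆ j, θ j ⊓ M : Subgroup G) ⊔ θ i0 :=
      hNT.trans (hWeq ▸ iSup_le hθV)
    apply hNbot
    apply s.eq_bot_of_forall hNT hAN
    intro j
    rw [eq_bot_iff, ← hθN j]
    intro x hx
    obtain ⟨hx1, hx2⟩ := Subgroup.mem_inf.mp hx
    exact Subgroup.mem_inf.mpr ⟨hV j (Subgroup.mem_inf.mpr ⟨hNV hx1, hx2⟩), hx1⟩
  · -- `N₀ = N`
    have hN0eq : (⨆ j, θ j ⊓ N : Subgroup G) = N := hNmin _ hN0n hN0N hN0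
    intro j
    have hkey : N ⊓ centralizer ({c j} : Set G) ≤ θ j := by
      cases nonempty_fintype ι
      have hmem := Finset.sup_mem
        {K : Subgroup G | K ≤ N ∧ A ≤ normalizer (K : Set G) ∧
          K ⊓ centralizer ({c j} : Set G) ≤ θ j}
        (by
          refine ⟨bot_le, ?_, ?_⟩
          · intro a _
            rw [Subgroup.mem_normalizer_iff]
            intro h
            simp [Subgroup.mem_bot]
          · rw [bot_inf_eq]; exact bot_le)
        (by
          rintro K ⟨hK1, hK2, hK3⟩ L ⟨hL1, hL2, hL3⟩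
          refine ⟨sup_le hK1 hL1, fun a ha => Cfsg.Agent.Helper7.mem_normalizer_sup (hK2 ha) (hL2 ha), ?_⟩
          refine s.sup_inf_centralizer_le (hK1.trans hNT) (hL1.trans hNT) hK2 hL2 ?_ j hK3 hL3
          exact (hL1.trans hNcent).trans ((Subgroup.centralizer_le hK1).trans
            (Subgroup.centralizer_le_normalizer _)))
        Finset.univ (fun i => θ i ⊓ N)
        (fun i _ => ⟨inf_le_right, s.le_normalizer_inf N i, by
          intro x hx
          obtain ⟨hx1, hx2⟩ := Subgroup.mem_inf.mp hx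
          exact s.hbal i j (Subgroup.mem_inf.mpr ⟨(Subgroup.mem_inf.mp hx1).1, hx2⟩)⟩)
      rw [Finset.sup_univ_eq_iSup, hN0eq] at hmem
      exact hmem.2.2
    refine (hq j).trans (sup_le le_rfl hkey)

/-- **Closure theorem**: a functor inside a solvable `p'`-group `T` is complete. -/
theorem closure_theorem {ι : Type v} [Finite ι] {G : Type u} [Group G] [Finite G] (p : ℕ)
    [Fact p.Prime] {A E T : Subgroup G} {c : ι → G} {θ : ι → Subgroup G}
    (s : Sys p A E T c θ) : Concl c θ := by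
  have s'' := s.to_subgroup (T ⊔ A) le_sup_left le_sup_right
  have h1 := core p _ ↥(T ⊔ A : Subgroup G) _ _ _ _ _ s''
    (sup_subgroupOf_eq_top le_sup_left le_sup_right rfl) rfl
  exact concl_of_subgroup (T ⊔ A) (fun i => (s.hθT i).trans le_sup_left) _ (fun i => rfl) h1

end Cfsg.Agent.Helper10.SigClos
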