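import Mathlib
import Cfsg.Prelude.Def_Local
import Cfsg.Agent.Lib.Helper10.SigClos6

set_option autoImplicit false

namespace Cfsg.Agent.Helper10.SigClos

open Subgroup
open scoped commutatorElement

variable {G : Type*} [Group G]

/-- the `k`-balanced functor, on sets. -/
def Wk (p k : ℕ) (A : Subgroup G) (S : Set G) : Subgroup G :=
  ⨆ D : {D : Subgroup G // D ≤ A ∧ Nat.card ↥D = p ^ k},
    Cfsg.signalizerDelta p (D : Subgroup G) ⊓ Subgroup.centralizer S

theorem core_le_centralizer (p : ℕ) (e : G) :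
    Cfsg.centralizerPPrimeCore p e ≤ centralizer ({e} : Set G) :=
  Subgroup.map_subtype_le _

theorem delta_le_core (p : ℕ) {E : Subgroup G} {e : G} (he : e ∈ E) (hne : e ≠ 1) :
    Cfsg.signalizerDelta p E ≤ Cfsg.centralizerPPrimeCore p e :=
  iInf_le (fun a : {a : G // a ∈ E ∧ a ≠ 1} => Cfsg.centralizerPPrimeCore p (a : G)) ⟨e, he, hne⟩

theorem delta_anti (p : ℕ) {E F : Subgroup G} (h : E ≤ F) :
    Cfsg.signalizerDelta p F ≤ Cfsg.signalizerDelta p E := by
  apply le_iInf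
  rintro ⟨a, ha, hne⟩
  exact delta_le_core p (h ha) hne

theorem mem_centralizer_singleton_comm {x y : G} (h : x ∈ centralizer ({y} : Set G)) :
    y ∈ centralizer ({x} : Set G) := by
  rw [Subgroup.mem_centralizer_iff] at h ⊢
  intro g hg
  rw [Set.mem_singleton_iff] at hg
  subst hg
  exact (h y rfl).symm

theorem delta_le_centralizer (p : ℕ) (E : Subgroup G) :
    Cfsg.signalizerDelta p E ≤ centralizer (E : Set G) := by
  intro z hz
  rw [Subgroup.mem_centralizer_iff]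
  intro e he
  by_cases hne : e = 1
  · subst hne; simp
  · have h1 := core_le_centralizer p e (delta_le_core p he hne hz)
    exact (Subgroup.mem_centralizer_iff.mp h1) e rfl

theorem Wk_anti (p k : ℕ) (A : Subgroup G) {S S' : Set G} (h : S ⊆ S') :
    Wk p k A S' ≤ Wk p k A S :=
  iSup_mono (fun _ => inf_le_inf_left _ (Subgroup.centralizer_le h))

theorem Wk_le_centralizer (p k : ℕ) (A : Subgroup G) (S : Set G) :
    Wk p k A S ≤ centralizer S :=
  iSup_le (fun _ => inf_le_right)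

variable {p : ℕ} [Fact p.Prime] {A : Subgroup G}

theorem comm_of_mem (hA : Cfsg.IsElementaryAbelian p A) {a b : G} (ha : a ∈ A) (hb : b ∈ A) :
    a ∈ centralizer ({b} : Set G) := by
  rw [Subgroup.mem_centralizer_iff]
  intro g hg
  rw [Set.mem_singleton_iff] at hg
  subst hg
  exact Cfsg.Agent.Helper7.isElementaryAbelian_comm hA hb ha

theorem conj_mem_delta (hA : Cfsg.IsElementaryAbelian p A) {E : Subgroup G} (hEA : E ≤ A) {a : G}
    (ha : a ∈ A) {z : G} (hz : z ∈ Cfsg.signalizerDelta p E) :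
    a * z * a⁻¹ ∈ Cfsg.signalizerDelta p E := by
  unfold Cfsg.signalizerDelta at hz ⊢
  rw [Subgroup.mem_iInf] at hz ⊢
  rintro ⟨e, he, hne⟩
  exact Cfsg.Agent.Helper7.conj_mem_centralizerPPrimeCore p (comm_of_mem hA ha (hEA he))
    (hz ⟨e, he, hne⟩)

theorem le_normalizer_Wk [Finite G] (hA : Cfsg.IsElementaryAbelian p A) (k : ℕ) {S : Set G}
    (hS : ∀ s ∈ S, s ∈ A) : A ≤ normalizer ((Wk p k A S : Subgroup G) : Set G) := by
  intro a ha
  apply Cfsg.Agent.Helper7.mem_normalizer_iSup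
  rintro ⟨D, hDA, hDc⟩
  apply Cfsg.Agent.Helper7.mem_normalizer_of_forall_conj_mem
  intro u hu
  obtain ⟨hu1, hu2⟩ := Subgroup.mem_inf.mp hu
  refine Subgroup.mem_inf.mpr ⟨conj_mem_delta hA hDA ha hu1, ?_⟩
  rw [Subgroup.mem_centralizer_iff] at hu2 ⊢
  intro s hs
  have h1 : s * a = a * s := Cfsg.Agent.Helper7.isElementaryAbelian_comm hA (hS s hs) ha
  have h2 := hu2 s hs
  have h3 : s * a⁻¹ = a⁻¹ * s := by
    have : a⁻¹ * (s * a) * a⁻¹ = a⁻¹ * (a * s) * a⁻¹ := by rw [h1]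
    have e1 : a⁻¹ * (s * a) * a⁻¹ = a⁻¹ * s := by group
    have e2 : a⁻¹ * (a * s) * a⁻¹ = s * a⁻¹ := by group
    rw [e1, e2] at this
    exact this.symm
  calc s * (a * u * a⁻¹) = (s * a) * u * a⁻¹ := by group
    _ = a * (s * u) * a⁻¹ := by rw [h1]; group
    _ = a * (u * s) * a⁻¹ := by rw [h2]
    _ = a * u * (s * a⁻¹) := by group
    _ = a * u * (a⁻¹ * s) := by rw [h3]
    _ = a * u * a⁻¹ * s := by group

theorem isElementaryAbelian_of_le (hA : Cfsg.IsElementaryAbelian p A) {D : Subgroup G}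
    (hDA : D ≤ A) : Cfsg.IsElementaryAbelian p D :=
  ⟨⟨⟨fun a b => Subtype.ext
    (Cfsg.Agent.Helper7.isElementaryAbelian_comm hA (hDA a.2) (hDA b.2))⟩⟩,
    fun a ha => hA.2 a (hDA ha)⟩

/-- `k`-balance, in the form we use. -/
theorem kbal {k : ℕ} (hbal : Cfsg.IsKBalanced p k G) (hA : Cfsg.IsElementaryAbelian p A)
    {D : Subgroup G} (hDA : D ≤ A) (hDc : Nat.card ↥D = p ^ k) {b : G} (hb : b ∈ A) (hb1 : b ≠ 1) :
    Cfsg.signalizerDelta p D ⊓ centralizer ({b} : Set G) ≤ Cfsg.centralizerPPrimeCore p b := by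
  apply hbal D (isElementaryAbelian_of_le hA hDA) hDc b
    (orderOf_eq_prime (hA.2 b hb) hb1)
  intro a ha
  exact Cfsg.Agent.Helper7.isElementaryAbelian_comm hA (hDA ha) hb

theorem Wk_le_core {k : ℕ} (hbal : Cfsg.IsKBalanced p k G) (hA : Cfsg.IsElementaryAbelian p A)
    {S : Set G} {e : G} (heS : e ∈ S) (heA : e ∈ A) (hne : e ≠ 1) :
    Wk p k A S ≤ Cfsg.centralizerPPrimeCore p e := by
  apply iSup_le
  rintro ⟨D, hDA, hDc⟩
  refine le_trans (inf_le_inf_left _ (Subgroup.centralizer_le ?_)) (kbal hbal hA hDA hDc heA hne)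
  intro x hx
  rw [Set.mem_singleton_iff] at hx
  subst hx
  exact heS

theorem Wk_le_delta {k : ℕ} (hbal : Cfsg.IsKBalanced p k G) (hA : Cfsg.IsElementaryAbelian p A)
    {E : Subgroup G} (hEA : E ≤ A) :
    Wk p k A (E : Set G) ≤ Cfsg.signalizerDelta p E := by
  apply le_iInf
  rintro ⟨e, he, hne⟩
  exact Wk_le_core hbal hA he (hEA he) hne

end Cfsg.Agent.Helper10.SigClos
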