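import Mathlib
import Cfsg.Agent.Lib.Helper10.SigClos7

set_option autoImplicit false
set_option maxHeartbeats 1600000

namespace Cfsg.Agent.Helper10.SigClos

open Subgroup
open scoped commutatorElement

variable {G : Type*} [Group G] [Finite G]
variable {p : ℕ} [Fact p.Prime] {A : Subgroup G}

theorem sup_zpowers_le_centralizer {E : Subgroup G} {y z : G}
    (hzE : z ∈ centralizer (E : Set G)) (hzy : z ∈ centralizer ({y} : Set G)) :
    z ∈ centralizer (((E ⊔ zpowers y : Subgroup G)) : Set G) := by
  have h1 : E ⊔ zpowers y ≤ centralizer ({z} : Set G) := by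
    apply sup_le
    · intro e he
      rw [Subgroup.mem_centralizer_iff]
      intro g hg
      rw [Set.mem_singleton_iff] at hg
      subst hg
      exact ((Subgroup.mem_centralizer_iff.mp hzE) e he).symm
    · rw [Subgroup.zpowers_le]
      exact mem_centralizer_singleton_comm hzy
  rw [Subgroup.mem_centralizer_iff]
  intro g hg
  exact ((Subgroup.mem_centralizer_iff.mp (h1 hg)) z rfl).symm

theorem exists_le_card_eq (hA : Cfsg.IsElementaryAbelian p A) {E : Subgroup G} (hEA : E ≤ A)
    {k : ℕ} (hk : p ^ k ≤ Nat.card ↥E) : ∃ D : Subgroup G, D ≤ E ∧ Nat.card ↥D = p ^ k := by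
  have hpp := (Fact.out : p.Prime)
  have hEp : IsPGroup p ↥E := (Cfsg.Agent.Helper7.isPGroup_of_isElementaryAbelian hA).to_le hEA
  obtain ⟨j, hj⟩ := hEp.exists_card_eq
  have hkj : k ≤ j := by
    rw [hj] at hk
    exact (Nat.pow_le_pow_iff_right hpp.one_lt).mp hk
  obtain ⟨K, hK⟩ := Sylow.exists_subgroup_card_pow_prime (G := ↥E) p (n := k)
    (by rw [hj]; exact pow_dvd_pow p hkj)
  refine ⟨K.map E.subtype, Subgroup.map_subtype_le K, ?_⟩
  rw [Cfsg.Agent.Helper7.card_map_subtype, hK]

/-- the key induction. -/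
theorem key {k : ℕ} (hbal : Cfsg.IsKBalanced p k G) (hA : Cfsg.IsElementaryAbelian p A)
    (hAk : p ^ (k + 2) ≤ Nat.card ↥A)
    (hsolv : ∀ a ∈ A, a ≠ 1 → Group.IsSolvable ↥(Cfsg.centralizerPPrimeCore p a)) :
    ∀ n : ℕ, ∀ E : Subgroup G, E ≤ A → E ≠ ⊥ → Nat.card ↥A - Nat.card ↥E = n →
      ∀ y ∈ A, Wk p k A (E : Set G) ⊓ centralizer ({y} : Set G) ≤
        Wk p k A ((E ⊔ zpowers y : Subgroup G) : Set G) := by
  have hpp := (Fact.out : p.Prime)
  intro n
  induction n using Nat.strong_induction_on with
  | _ n ih =>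
  intro E hEA hEbot hn y hy
  have hE'A : E ⊔ zpowers y ≤ A := sup_le hEA (Subgroup.zpowers_le.mpr hy)
  by_cases hcard : p ^ k ≤ Nat.card ↥E
  · -- large `E`
    obtain ⟨D0, hD0E, hD0c⟩ := exists_le_card_eq hA hEA hcard
    intro z hz
    obtain ⟨hz1, hz2⟩ := Subgroup.mem_inf.mp hz
    have hzE : z ∈ centralizer (E : Set G) := Wk_le_centralizer p k A _ hz1
    have hzE' : z ∈ centralizer (((E ⊔ zpowers y : Subgroup G)) : Set G) :=
      sup_zpowers_le_centralizer hzE hz2
    have hzD0 : z ∈ Cfsg.signalizerDelta p D0 := delta_anti p hD0E (Wk_le_delta hbal hA hEA hz1)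
    exact (le_iSup (fun D : {D : Subgroup G // D ≤ A ∧ Nat.card ↥D = p ^ k} =>
      Cfsg.signalizerDelta p (D : Subgroup G) ⊓
        Subgroup.centralizer (((E ⊔ zpowers y : Subgroup G)) : Set G))
      ⟨D0, hD0E.trans hEA, hD0c⟩) (Subgroup.mem_inf.mpr ⟨hzD0, hzE'⟩)
  · push Not at hcard
    by_cases hyE : y ∈ E
    · have : E ⊔ zpowers y = E := sup_of_le_left (Subgroup.zpowers_le.mpr hyE)
      rw [this]
      exact inf_le_left
    · -- apply the closure theorem
      obtain ⟨⟨e0, he0⟩, he01⟩ := Subgroup.ne_bot_iff_exists_ne_one.mp hEbot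
      have he01' : e0 ≠ 1 := fun h => he01 (Subtype.ext h)
      have hEp : IsPGroup p ↥E := (Cfsg.Agent.Helper7.isPGroup_of_isElementaryAbelian hA).to_le hEA
      obtain ⟨j, hj⟩ := hEp.exists_card_eq
      have hjk : j < k := by
        rw [hj] at hcard
        exact (Nat.pow_lt_pow_iff_right hpp.one_lt).mp hcard
      have hrank : p ^ 3 * Nat.card ↥E ≤ Nat.card ↥A := by
        rw [hj, ← pow_add]
        exact (Nat.pow_le_pow_right hpp.pos (by omega)).trans hAk
      have hWT : Wk p k A (E : Set G) ≤ Cfsg.centralizerPPrimeCore p e0 :=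
        Wk_le_core hbal hA he0 (hEA he0) he01'
      have hcop := Cfsg.Agent.Helper7.card_centralizerPPrimeCore_coprime p e0
      have hTp : ¬ p ∣ Nat.card ↥(Cfsg.centralizerPPrimeCore p e0) := by
        intro h
        have := Nat.Coprime.eq_one_of_dvd hcop.symm h
        exact hpp.one_lt.ne' this
      have hsub : ∀ x : {x : G // x ∈ A ∧ x ∉ E}, E ⊔ zpowers (x : G) ≤ A := fun x =>
        sup_le hEA (Subgroup.zpowers_le.mpr x.2.1)
      have sys : Sys p A E (Wk p k A (E : Set G)) (fun x : {x : G // x ∈ A ∧ x ∉ E} => (x : G))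
          (fun x => Wk p k A ((E ⊔ zpowers (x : G) : Subgroup G) : Set G)) := by
        refine ⟨hA, hEA, hrank, ?_, not_dvd_of_le hTp hWT, ?_, ?_, fun x => x.2.1, fun x => x.2.2,
          fun x hx hxE => ⟨⟨x, hx, hxE⟩, rfl⟩, ?_, ?_, ?_, ?_⟩
        · have := hsolv e0 (hEA he0) he01'
          exact Group.isSolvable_of_isSolvable_injective (Subgroup.inclusion_injective hWT)
        · exact le_normalizer_Wk hA k (fun s hs => hEA hs)
        · intro e he
          rw [Subgroup.mem_centralizer_iff]
          intro z hz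
          have := Wk_le_centralizer p k A _ hz
          exact ((Subgroup.mem_centralizer_iff.mp this) e he).symm
        · intro x
          exact Wk_anti p k A (by
            intro s hs
            exact (le_sup_left : E ≤ E ⊔ zpowers (x : G)) hs)
        · intro x
          refine (Wk_le_centralizer p k A _).trans (Subgroup.centralizer_le ?_)
          intro s hs
          rw [Set.mem_singleton_iff] at hs
          subst hs
          exact (le_sup_right : zpowers (x : G) ≤ E ⊔ zpowers (x : G)) (Subgroup.mem_zpowers _)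
        · intro x
          exact le_normalizer_Wk hA k (fun s hs => hsub x hs)
        · intro x x'
          have hlt : E < E ⊔ zpowers (x : G) := by
            refine lt_of_le_of_ne le_sup_left ?_
            intro heq
            apply x.2.2
            have hx' : (x : G) ∈ E ⊔ zpowers (x : G) :=
              (le_sup_right : zpowers (x : G) ≤ E ⊔ zpowers (x : G)) (Subgroup.mem_zpowers _)
            exact (heq.symm.le : E ⊔ zpowers (x : G) ≤ E) hx'
          have hc1 := card_lt_of_lt' hlt
          have hc2 : Nat.card ↥(E ⊔ zpowers (x : G) : Subgroup G) ≤ Nat.card ↥A :=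
            Subgroup.card_le_of_le (hsub x)
          have hne : E ⊔ zpowers (x : G) ≠ ⊥ := fun h => hEbot (le_bot_iff.mp (h ▸ le_sup_left))
          have h1 := ih (Nat.card ↥A - Nat.card ↥(E ⊔ zpowers (x : G) : Subgroup G)) (by omega)
            (E ⊔ zpowers (x : G)) (hsub x) hne rfl (x' : G) x'.2.1
          refine h1.trans (Wk_anti p k A ?_)
          intro s hs
          have : E ⊔ zpowers (x' : G) ≤ E ⊔ zpowers (x : G) ⊔ zpowers (x' : G) :=
            sup_le_sup_right le_sup_left _
          exact this hs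
      have hconcl := closure_theorem p sys
      -- `W(E)` is inside the closure
      have hgen : Wk p k A (E : Set G) ≤
          ⨆ x : {x : G // x ∈ A ∧ x ∉ E}, Wk p k A ((E ⊔ zpowers (x : G) : Subgroup G) : Set G) := by
        apply iSup_le
        rintro ⟨D, hDA, hDc⟩
        have hXW : Cfsg.signalizerDelta p D ⊓ centralizer (E : Set G) ≤ Wk p k A (E : Set G) :=
          le_iSup (fun D : {D : Subgroup G // D ≤ A ∧ Nat.card ↥D = p ^ k} =>
            Cfsg.signalizerDelta p (D : Subgroup G) ⊓ Subgroup.centralizer (E : Set G))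
            ⟨D, hDA, hDc⟩
        have hAX : A ≤ normalizer ((Cfsg.signalizerDelta p D ⊓ centralizer (E : Set G) :
            Subgroup G) : Set G) := by
          intro a ha
          apply Cfsg.Agent.Helper7.mem_normalizer_of_forall_conj_mem
          intro u hu
          obtain ⟨hu1, hu2⟩ := Subgroup.mem_inf.mp hu
          refine Subgroup.mem_inf.mpr ⟨conj_mem_delta hA hDA ha hu1, ?_⟩
          rw [Subgroup.mem_centralizer_iff] at hu2 ⊢
          intro s hs
          have h1 : s * a = a * s := Cfsg.Agent.Helper7.isElementaryAbelian_comm hA (hEA hs) ha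
          have h2 := hu2 s hs
          have h3 : s * a⁻¹ = a⁻¹ * s := by
            have : a⁻¹ * (s * a) * a⁻¹ = a⁻¹ * (a * s) * a⁻¹ := by rw [h1]
            have e1 : a⁻¹ * (s * a) * a⁻¹ = a⁻¹ * s := by group
            have e2 : a⁻¹ * (a * s) * a⁻¹ = s * a⁻¹ := by group
            rw [e1, e2] at this
            exact this.symm
          calc s * (a * u * a⁻¹) = (s * a) * u * a⁻¹ := by group
            _ = a * (s * u) * a⁻¹ := by rw [h1]; group
            _ = a * (u * s) * a⁻¹ := by rw [h2]
            _ = a * u * (s * a⁻¹) := by group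
            _ = a * u * (a⁻¹ * s) := by rw [h3]
            _ = a * u * a⁻¹ * s := by group
        have hEX : E ≤ centralizer ((Cfsg.signalizerDelta p D ⊓ centralizer (E : Set G) :
            Subgroup G) : Set G) := by
          intro e he
          rw [Subgroup.mem_centralizer_iff]
          intro z hz
          exact ((Subgroup.mem_centralizer_iff.mp (Subgroup.mem_inf.mp hz).2) e he).symm
        refine (le_iSup_hyp p hA hEA (not_dvd_of_le hTp (hXW.trans hWT)) hAX hEX).trans ?_
        apply iSup_le
        rintro ⟨B, hB⟩ z hz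
        obtain ⟨hz1, hzB⟩ := Subgroup.mem_inf.mp hz
        obtain ⟨hzD, hzE⟩ := Subgroup.mem_inf.mp hz1
        obtain ⟨x, hxB, hxA, hxE⟩ := exists_mem_not_mem hrank hB
        have hzx : z ∈ centralizer ({x} : Set G) := mem_centralizer_singleton_of_mem hxB hzB
        have h1 : z ∈ Wk p k A ((E ⊔ zpowers x : Subgroup G) : Set G) :=
          (le_iSup (fun D : {D : Subgroup G // D ≤ A ∧ Nat.card ↥D = p ^ k} =>
            Cfsg.signalizerDelta p (D : Subgroup G) ⊓
              Subgroup.centralizer (((E ⊔ zpowers x : Subgroup G)) : Set G))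
            ⟨D, hDA, hDc⟩) (Subgroup.mem_inf.mpr ⟨hzD, sup_zpowers_le_centralizer hzE hzx⟩)
        exact (le_iSup (fun x : {x : G // x ∈ A ∧ x ∉ E} =>
          Wk p k A ((E ⊔ zpowers (x : G) : Subgroup G) : Set G)) ⟨x, hxA, hxE⟩) h1
      exact (inf_le_inf_right _ hgen).trans (hconcl ⟨y, hy, hyE⟩)

end Cfsg.Agent.Helper10.SigClos
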