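import Mathlib

set_option autoImplicit false

/-! Abstract form of Tutte's theorem on arc-transitive cubic graphs, in pure group language:
basic conjugation calculus, index two helpers, and the first half (orders of the pointwise
stabilizers of arcs). -/

namespace Cfsg.Agent.Helper10.Tutte

open Subgroup

universe u

section basic

variable {G : Type u} [Group G]

/-- the conjugate `g H g⁻¹` -/
def cj (g : G) (H : Subgroup G) : Subgroup G := H.map (MulAut.conj g).toMonoidHom

theorem mem_cj {g x : G} {H : Subgroup G} : x ∈ cj g H ↔ g⁻¹ * x * g ∈ H := by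
  unfold cj
  rw [Subgroup.mem_map]
  constructor
  · rintro ⟨y, hy, rfl⟩
    have h1 : g⁻¹ * ((MulAut.conj g).toMonoidHom y) * g = y := by
      simp [MulAut.conj_apply, mul_assoc]
    rw [h1]; exact hy
  · intro h
    refine ⟨g⁻¹ * x * g, h, ?_⟩
    simp [MulAut.conj_apply, mul_assoc]

theorem conj_mem_cj {g x : G} {H : Subgroup G} (hx : x ∈ H) : g * x * g⁻¹ ∈ cj g H := by
  rw [mem_cj]
  have : g⁻¹ * (g * x * g⁻¹) * g = x := by group
  rw [this]; exact hx

theorem cj_one (H : Subgroup G) : cj 1 H = H := by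
  ext x; simp [mem_cj]

theorem cj_mul (g₁ g₂ : G) (H : Subgroup G) : cj (g₁ * g₂) H = cj g₁ (cj g₂ H) := by
  ext x; simp only [mem_cj, mul_inv_rev, mul_assoc]

theorem cj_mono {g : G} {H L : Subgroup G} (h : H ≤ L) : cj g H ≤ cj g L := Subgroup.map_mono h

theorem cj_inf (g : G) (H L : Subgroup G) : cj g (H ⊓ L) = cj g H ⊓ cj g L := by
  ext x; simp only [mem_cj, Subgroup.mem_inf]

theorem cj_sup (g : G) (H L : Subgroup G) : cj g (H ⊔ L) = cj g H ⊔ cj g L :=
  Subgroup.map_sup _ _ _

theorem cj_top (g : G) : cj g (⊤ : Subgroup G) = ⊤ := by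
  ext x; simp [mem_cj]

theorem cj_bot (g : G) : cj g (⊥ : Subgroup G) = ⊥ := by
  unfold cj; exact Subgroup.map_bot _

theorem cj_inv_cj (g : G) (H : Subgroup G) : cj g⁻¹ (cj g H) = H := by
  rw [← cj_mul, inv_mul_cancel, cj_one]

theorem cj_cj_inv (g : G) (H : Subgroup G) : cj g (cj g⁻¹ H) = H := by
  rw [← cj_mul, mul_inv_cancel, cj_one]

theorem card_cj (g : G) (H : Subgroup G) : Nat.card ↥(cj g H) = Nat.card ↥H :=
  Nat.card_congr ((MulAut.conj g).subgroupMap H).symm.toEquiv

theorem relIndex_cj (g : G) (H L : Subgroup G) : (cj g H).relIndex (cj g L) = H.relIndex L :=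
  Subgroup.relIndex_map_map_of_injective H L (MulAut.conj g).injective

theorem mem_normalizer_iff_cj {g : G} {H : Subgroup G} :
    g ∈ normalizer (H : Set G) ↔ cj g H = H := by
  constructor
  · intro hg
    ext x
    rw [mem_cj]
    have := (Subgroup.mem_normalizer_iff.mp (inv_mem hg)) x
    rw [inv_inv] at this
    exact this.symm
  · intro h
    rw [Subgroup.mem_normalizer_iff]
    intro x
    constructor
    · intro hx
      have := conj_mem_cj (g := g) hx
      rwa [h] at this
    · intro hx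
      rw [← h, mem_cj] at hx
      have e : g⁻¹ * (g * x * g⁻¹) * g = x := by group
      rwa [e] at hx

theorem cj_zpow_eq {g : G} {H : Subgroup G} (h : cj g H = H) (n : ℤ) : cj (g ^ n) H = H := by
  have hg : g ∈ normalizer (H : Set G) := mem_normalizer_iff_cj.mpr h
  exact mem_normalizer_iff_cj.mp (zpow_mem hg n)

/-- the `k`-th translate of `B` along `h` -/
def Bk (B : Subgroup G) (h : G) (k : ℤ) : Subgroup G := cj (h ^ k) B

/-- the pointwise stabilizer of the stretch `[a, b)` of the line -/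
def K (B : Subgroup G) (h : G) (a b : ℤ) : Subgroup G :=
  ⨅ k : ℤ, ⨅ (_ : a ≤ k ∧ k < b), Bk B h k

variable {B : Subgroup G} {h : G}

theorem mem_K {a b : ℤ} {x : G} :
    x ∈ K B h a b ↔ ∀ k : ℤ, a ≤ k → k < b → x ∈ Bk B h k := by
  unfold K
  simp only [Subgroup.mem_iInf, and_imp]

theorem Bk_zero : Bk B h 0 = B := by
  unfold Bk; rw [zpow_zero, cj_one]

theorem cj_Bk (n k : ℤ) : cj (h ^ n) (Bk B h k) = Bk B h (k + n) := by
  unfold Bk
  rw [← cj_mul, ← zpow_add, add_comm]

theorem cj_h_Bk (k : ℤ) : cj h (Bk B h k) = Bk B h (k + 1) := by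
  have := cj_Bk (B := B) (h := h) 1 k
  rwa [zpow_one] at this

theorem K_anti {a b c d : ℤ} (hca : c ≤ a) (hbd : b ≤ d) : K B h c d ≤ K B h a b := by
  intro x hx
  rw [mem_K] at hx ⊢
  intro k h1 h2
  exact hx k (by omega) (by omega)

theorem K_le_Bk {a b k : ℤ} (h1 : a ≤ k) (h2 : k < b) : K B h a b ≤ Bk B h k := by
  intro x hx
  exact (mem_K.mp hx) k h1 h2

theorem K_single (a : ℤ) : K B h a (a + 1) = Bk B h a := by
  ext x
  rw [mem_K]
  constructor
  · intro hx; exact hx a le_rfl (by omega)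
  · intro hx k h1 h2
    have : k = a := by omega
    rw [this]; exact hx

theorem K_succ {a b : ℤ} (hab : a < b) :
    K B h a (b + 1) = K B h a b ⊓ (Bk B h (b - 1) ⊓ Bk B h b) := by
  ext x
  simp only [mem_K, Subgroup.mem_inf]
  constructor
  · intro hx
    exact ⟨fun k h1 h2 => hx k h1 (by omega), hx (b - 1) (by omega) (by omega),
      hx b (by omega) (by omega)⟩
  · rintro ⟨h1, _, h3⟩ k hk1 hk2
    by_cases hkb : k < b
    · exact h1 k hk1 hkb
    · have : k = b := by omega
      rw [this]; exact h3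

theorem K_inf {a b c d : ℤ} (hac : a ≤ c) (hcb : c ≤ b) (hbd : b ≤ d) :
    K B h a b ⊓ K B h c d = K B h a d := by
  ext x
  simp only [mem_K, Subgroup.mem_inf]
  constructor
  · rintro ⟨h1, h2⟩ k hk1 hk2
    by_cases hkb : k < b
    · exact h1 k hk1 hkb
    · exact h2 k (by omega) hk2
  · intro hx
    exact ⟨fun k h1 h2 => hx k h1 (by omega), fun k h1 h2 => hx k (by omega) h2⟩

theorem cj_K (n a b : ℤ) : cj (h ^ n) (K B h a b) = K B h (a + n) (b + n) := by
  ext x
  rw [mem_cj, mem_K, mem_K]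
  constructor
  · intro hx k h1 h2
    have := hx (k - n) (by omega) (by omega)
    unfold Bk at this ⊢
    rw [mem_cj] at this ⊢
    have e : (h ^ (k - n))⁻¹ * ((h ^ n)⁻¹ * x * h ^ n) * h ^ (k - n) = (h ^ k)⁻¹ * x * h ^ k := by
      have e1 : h ^ k = h ^ n * h ^ (k - n) := by rw [← zpow_add]; congr 1; omega
      rw [e1]; group
    rwa [e] at this
  · intro hx k h1 h2
    have := hx (k + n) (by omega) (by omega)
    unfold Bk at this ⊢
    rw [mem_cj] at this ⊢
    have e : (h ^ k)⁻¹ * ((h ^ n)⁻¹ * x * h ^ n) * h ^ k = (h ^ (k + n))⁻¹ * x * h ^ (k + n) := by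
      have e1 : h ^ (k + n) = h ^ n * h ^ k := by rw [← zpow_add]; congr 1; omega
      rw [e1]; group
    rwa [e]

theorem cj_h_K (a b : ℤ) : cj h (K B h a b) = K B h (a + 1) (b + 1) := by
  have := cj_K (B := B) (h := h) 1 a b
  rwa [zpow_one] at this

theorem card_K_shift (n a b : ℤ) :
    Nat.card ↥(K B h (a + n) (b + n)) = Nat.card ↥(K B h a b) := by
  rw [← cj_K, card_cj]

end basic

section two

variable {G : Type u} [Group G] [Finite G]

theorem card_mul_relIndex {H L : Subgroup G} (hHL : H ≤ L) :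
    Nat.card ↥H * H.relIndex L = Nat.card ↥L := by
  have := Subgroup.relIndex_mul_relIndex ⊥ H L bot_le hHL
  rwa [Subgroup.relIndex_bot_left, Subgroup.relIndex_bot_left] at this

theorem relIndex_two_of_card {H L : Subgroup G} (hHL : H ≤ L)
    (hc : Nat.card ↥L = 2 * Nat.card ↥H) : H.relIndex L = 2 := by
  have h1 := card_mul_relIndex hHL
  have hpos : 0 < Nat.card ↥H := Nat.card_pos
  rw [hc, mul_comm] at h1
  exact Nat.eq_of_mul_eq_mul_right hpos h1

theorem card_of_relIndex_two {H L : Subgroup G} (hHL : H ≤ L)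
    (hc : H.relIndex L = 2) : Nat.card ↥L = 2 * Nat.card ↥H := by
  have h1 := card_mul_relIndex hHL
  rw [hc] at h1
  omega

theorem conj_mem_of_card {H L : Subgroup G} (hHL : H ≤ L)
    (hc : Nat.card ↥L = 2 * Nat.card ↥H) {x y : G} (hx : x ∈ L) (hy : y ∈ H) :
    x * y * x⁻¹ ∈ H := by
  have h2 : (H.subgroupOf L).index = 2 := relIndex_two_of_card hHL hc
  have hn : (H.subgroupOf L).Normal := Subgroup.normal_of_index_eq_two h2
  have hy' : (⟨y, hHL hy⟩ : ↥L) ∈ H.subgroupOf L := by
    rw [Subgroup.mem_subgroupOf]; exact hy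
  have := hn.conj_mem _ hy' ⟨x, hx⟩
  rw [Subgroup.mem_subgroupOf] at this
  exact this

theorem le_normalizer_of_card {H L : Subgroup G} (hHL : H ≤ L)
    (hc : Nat.card ↥L = 2 * Nat.card ↥H) : L ≤ normalizer (H : Set G) := by
  rw [Subgroup.le_normalizer_iff]
  intro x hx y hy
  exact conj_mem_of_card hHL hc hx hy

theorem mul_inv_mem_of_not_mem {H L : Subgroup G} (hHL : H ≤ L)
    (hc : Nat.card ↥L = 2 * Nat.card ↥H) {x y : G} (hx : x ∈ L) (hy : y ∈ L)
    (hxH : x ∉ H) (hyH : y ∉ H) : x * y⁻¹ ∈ H := by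
  have h2 : (H.subgroupOf L).index = 2 := relIndex_two_of_card hHL hc
  have := Subgroup.mul_mem_iff_of_index_two h2 (a := (⟨x, hx⟩ : ↥L))
    (b := (⟨y, hy⟩ : ↥L)⁻¹)
  rw [Subgroup.mem_subgroupOf, Subgroup.mem_subgroupOf, Subgroup.mem_subgroupOf] at this
  simp only [Subgroup.coe_mul, Subgroup.coe_inv] at this
  rw [this]
  constructor
  · intro h; exact absurd h hxH
  · intro h; exact absurd ((Subgroup.inv_mem_iff H).mp h) hyH

theorem sup_eq_of_card {H₁ H₂ L : Subgroup G} (h1 : H₁ ≤ L) (h2 : H₂ ≤ L)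
    (hc1 : Nat.card ↥L = 2 * Nat.card ↥H₁) (hc2 : Nat.card ↥L = 2 * Nat.card ↥H₂)
    (hne : H₁ ≠ H₂) : H₁ ⊔ H₂ = L := by
  have hle : H₁ ⊔ H₂ ≤ L := sup_le h1 h2
  apply Subgroup.eq_of_le_of_card_ge hle
  have hdvd : Nat.card ↥H₁ ∣ Nat.card ↥(H₁ ⊔ H₂) := Subgroup.card_dvd_of_le le_sup_left
  have hpos : 0 < Nat.card ↥H₁ := Nat.card_pos
  have hlt : Nat.card ↥H₁ < Nat.card ↥(H₁ ⊔ H₂) := by
    by_contra hcon
    have hge : Nat.card ↥(H₁ ⊔ H₂) ≤ Nat.card ↥H₁ := by omega
    have heq : H₁ = H₁ ⊔ H₂ := Subgroup.eq_of_le_of_card_ge le_sup_left hge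
    have h21 : H₂ ≤ H₁ := by rw [heq]; exact le_sup_right
    have : H₂ = H₁ := Subgroup.eq_of_le_of_card_ge h21 (by omega)
    exact hne this.symm
  obtain ⟨k, hk⟩ := hdvd
  have hk2 : 2 ≤ k := by
    by_contra hcon
    have : k = 0 ∨ k = 1 := by omega
    rcases this with rfl | rfl
    · rw [hk] at hlt; omega
    · rw [hk] at hlt; omega
  rw [hc1, hk]
  calc 2 * Nat.card ↥H₁ = Nat.card ↥H₁ * 2 := by ring
    _ ≤ Nat.card ↥H₁ * k := Nat.mul_le_mul_left _ hk2

theorem card_inf_step {X L Q : Subgroup G} (hXL : X ≤ L) (hQ : Q.relIndex L = 2) :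
    Nat.card ↥X = Nat.card ↥(X ⊓ Q) ∨ Nat.card ↥X = 2 * Nat.card ↥(X ⊓ Q) := by
  have h1 : (X ⊓ Q).relIndex X = Q.relIndex X := Subgroup.inf_relIndex_left X Q
  have h2 : Q.relIndex X ≤ Q.relIndex L :=
    Subgroup.relIndex_le_of_le_right hXL (by rw [hQ]; norm_num)
  have h3 := card_mul_relIndex (inf_le_left : X ⊓ Q ≤ X)
  have hpos : 0 < Nat.card ↥X := Nat.card_pos
  rw [h1] at h3
  rw [hQ] at h2
  have : Q.relIndex X = 0 ∨ Q.relIndex X = 1 ∨ Q.relIndex X = 2 := by omega
  rcases this with h0 | h0 | h0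
  · rw [h0] at h3; omega
  · rw [h0] at h3; left; omega
  · rw [h0] at h3; right; omega

end two

section partA

variable {G : Type u} [Group G] [Finite G] (B : Subgroup G) (h : G)

/-- order of the stabilizer of a stretch of length `m` -/
noncomputable def cc (m : ℕ) : ℕ := Nat.card ↥(K B h 0 (m : ℤ))

theorem card_K (a : ℤ) (m : ℕ) : Nat.card ↥(K B h a (a + m)) = cc B h m := by
  unfold cc
  have := card_K_shift (B := B) (h := h) a 0 (m : ℤ)
  rw [zero_add, add_comm (m : ℤ) a] at this
  exact this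

theorem card_K' (a b : ℤ) (m : ℕ) (hb : b = a + m) : Nat.card ↥(K B h a b) = cc B h m := by
  rw [hb]; exact card_K B h a m

theorem cc_pos (m : ℕ) : 0 < cc B h m := Nat.card_pos

theorem cc_step (hT : (B ⊓ cj h B).relIndex B = 2) (m : ℕ) (hm : 1 ≤ m) :
    cc B h m = cc B h (m + 1) ∨ cc B h m = 2 * cc B h (m + 1) := by
  unfold cc
  have hK : K B h 0 ((m + 1 : ℕ) : ℤ) = K B h 0 m ⊓ (Bk B h ((m : ℤ) - 1) ⊓ Bk B h m) := by
    push_cast
    exact K_succ (by omega)
  rw [hK]
  apply card_inf_step (L := Bk B h ((m : ℤ) - 1))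
  · exact K_le_Bk (by omega) (by omega)
  · have e1 : Bk B h ((m : ℤ) - 1) ⊓ Bk B h m = cj (h ^ ((m : ℤ) - 1)) (B ⊓ cj h B) := by
      rw [cj_inf]
      congr 1
      unfold Bk
      rw [← cj_mul, ← zpow_add_one, sub_add_cancel]
    rw [e1]
    unfold Bk
    rw [relIndex_cj]; exact hT

theorem partA (hT : (B ⊓ cj h B).relIndex B = 2)
    (hgen : Bk B h (-1) ⊔ Bk B h 0 ⊔ Bk B h 1 = ⊤)
    (hcore : ∀ R : Subgroup G, R ≤ B → R.Normal → R = ⊥) :
    ∃ s : ℕ, 2 ≤ s ∧
      (∀ (a : ℤ) (m : ℕ), 1 ≤ m → m ≤ s → Nat.card ↥(K B h a (a + m)) = 2 ^ (s - m)) ∧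
      (∀ a b : ℤ, a + s ≤ b → K B h a b = ⊥) := by
  have hc12 : cc B h 1 = 2 * cc B h 2 := by
    unfold cc
    have e1 : K B h 0 ((1 : ℕ) : ℤ) = B := by
      have := K_single (B := B) (h := h) 0
      rw [zero_add] at this
      push_cast; rw [this, Bk_zero]
    have e2 : K B h 0 ((2 : ℕ) : ℤ) = B ⊓ cj h B := by
      ext x; rw [mem_K, Subgroup.mem_inf]; push_cast
      constructor
      · intro hx
        have h0 := hx 0 le_rfl (by norm_num)
        have h1 := hx 1 (by norm_num) (by norm_num)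
        rw [Bk_zero] at h0
        unfold Bk at h1; rw [zpow_one] at h1
        exact ⟨h0, h1⟩
      · rintro ⟨h0, h1⟩ k hk1 hk2
        have : k = 0 ∨ k = 1 := by omega
        rcases this with rfl | rfl
        · rw [Bk_zero]; exact h0
        · unfold Bk; rw [zpow_one]; exact h1
    rw [e1, e2]
    exact card_of_relIndex_two inf_le_left hT
  have hex : ∃ m, 1 ≤ m ∧ cc B h (m + 1) = cc B h m := by
    by_contra hcon
    push_neg at hcon
    have hall : ∀ m, 1 ≤ m → cc B h m = 2 * cc B h (m + 1) := by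
      intro m hm
      rcases cc_step B h hT m hm with h1 | h1
      · exact absurd h1.symm (hcon m hm)
      · exact h1
    have hpow : ∀ n, cc B h 1 = 2 ^ n * cc B h (n + 1) := by
      intro n
      induction n with
      | zero => simp
      | succ n ih => rw [ih, hall (n + 1) (by omega), pow_succ]; ring
    have h1 := hpow (cc B h 1)
    have h2 : cc B h 1 < 2 ^ (cc B h 1) := Nat.lt_two_pow_self
    have h3 : 0 < cc B h (cc B h 1 + 1) := cc_pos B h _
    have h4 : 2 ^ (cc B h 1) ≤ 2 ^ (cc B h 1) * cc B h (cc B h 1 + 1) :=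
      Nat.le_mul_of_pos_right _ h3
    rw [← h1] at h4
    omega
  obtain ⟨s, hs1, hs_eq, hmin⟩ : ∃ s, 1 ≤ s ∧ cc B h (s + 1) = cc B h s ∧
      ∀ m, 1 ≤ m → m < s → cc B h m = 2 * cc B h (m + 1) := by
    classical
    refine ⟨Nat.find hex, (Nat.find_spec hex).1, (Nat.find_spec hex).2, ?_⟩
    intro m hm hms
    have hnot := Nat.find_min hex hms
    rcases cc_step B h hT m hm with h1 | h1
    · exact absurd ⟨hm, h1.symm⟩ hnot
    · exact h1
  have hs2 : 2 ≤ s := by
    by_contra hcon
    have : s = 1 := by omega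
    subst this
    have h2 : cc B h 2 = cc B h 1 := hs_eq
    have := cc_pos B h 2
    omega
  -- the limit group
  obtain ⟨R, hR⟩ : ∃ R : Subgroup G, R = K B h 0 (s : ℤ) := ⟨_, rfl⟩
  have hR1 : K B h 0 ((s : ℤ) + 1) = R := by
    rw [hR]
    apply Subgroup.eq_of_le_of_card_ge (K_anti le_rfl (by omega))
    have e1 := card_K' B h 0 ((s : ℤ) + 1) (s + 1) (by push_cast; ring)
    have e2 := card_K' B h 0 (s : ℤ) s (by ring)
    rw [e1, e2, hs_eq]
  have hR2 : cj h R = R := by
    symm
    apply Subgroup.eq_of_le_of_card_ge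
    · rw [hR, cj_h_K, zero_add]
      rw [← hR, ← hR1]
      exact K_anti (by omega) le_rfl
    · rw [card_cj]
  have hRn : ∀ n : ℤ, cj (h ^ n) R = R := cj_zpow_eq hR2
  have hRK : ∀ a : ℤ, K B h a (a + s) = R := by
    intro a
    have := cj_K (B := B) (h := h) a 0 (s : ℤ)
    rw [zero_add, ← hR, hRn, add_comm] at this
    exact this.symm
  -- all stretches normalize `R`
  have hnorm : ∀ d m : ℕ, m + d = s → 1 ≤ m → ∀ a : ℤ,
      K B h a (a + m) ≤ normalizer (R : Set G) := by
    intro d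
    induction d with
    | zero =>
      intro m hm _ a
      have : m = s := by omega
      rw [this, hRK]
      exact Subgroup.le_normalizer
    | succ d ih =>
      intro m hm hm1 a
      have ih' := ih (m + 1) (by omega) (by omega)
      have hcm : cc B h m = 2 * cc B h (m + 1) := hmin m hm1 (by omega)
      rcases Nat.eq_zero_or_pos d with hd | hd
      · -- index two
        have hms : m + 1 = s := by omega
        have hRa : K B h a (a + (m : ℤ) + 1) = R := by
          have := hRK a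
          rw [← hms] at this
          push_cast at this
          rw [← add_assoc] at this
          exact this
        rw [← hRa]
        apply le_normalizer_of_card (K_anti le_rfl (by omega))
        rw [card_K' B h a (a + (m : ℤ) + 1) (m + 1) (by push_cast; ring), card_K, hcm]
      · -- generated by two shorter stretches
        have hcm2 : cc B h (m + 1) = 2 * cc B h (m + 2) := hmin (m + 1) (by omega) (by omega)
        have hsup : K B h (a - 1) (a + m) ⊔ K B h a (a + (m : ℤ) + 1) = K B h a (a + m) := by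
          apply sup_eq_of_card (K_anti (by omega) le_rfl) (K_anti le_rfl (by omega))
          · rw [card_K, card_K' B h (a - 1) (a + m) (m + 1) (by push_cast; ring), hcm]
          · rw [card_K, card_K' B h a (a + (m : ℤ) + 1) (m + 1) (by push_cast; ring), hcm]
          · intro heq
            have hinf : K B h (a - 1) (a + m) ⊓ K B h a (a + (m : ℤ) + 1) =
                K B h (a - 1) (a + (m : ℤ) + 1) := K_inf (by omega) (by omega) (by omega)
            rw [← heq, inf_idem] at hinf
            have e1 := card_K' B h (a - 1) (a + m) (m + 1) (by push_cast; ring)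
            have e2 := card_K' B h (a - 1) (a + (m : ℤ) + 1) (m + 2) (by push_cast; ring)
            rw [hinf, e2] at e1
            have := cc_pos B h (m + 2)
            omega
        rw [← hsup]
        apply sup_le
        · have := ih' (a - 1)
          have e : a - 1 + ((m + 1 : ℕ) : ℤ) = a + m := by push_cast; ring
          rwa [e] at this
        · have := ih' a
          have e : a + ((m + 1 : ℕ) : ℤ) = a + (m : ℤ) + 1 := by push_cast; ring
          rwa [e] at this
  have hBn : ∀ a : ℤ, Bk B h a ≤ normalizer (R : Set G) := by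
    intro a
    have := hnorm (s - 1) 1 (by omega) le_rfl a
    push_cast at this
    rwa [K_single] at this
  have hRnormal : R.Normal := by
    rw [← Subgroup.normalizer_eq_top_iff, eq_top_iff, ← hgen]
    exact sup_le (sup_le (hBn _) (hBn _)) (hBn _)
  have hRB : R ≤ B := by
    have : R ≤ Bk B h 0 := by
      rw [hR]; exact K_le_Bk le_rfl (by omega)
    rwa [Bk_zero] at this
  have hRbot : R = ⊥ := hcore R hRB hRnormal
  have hcs : cc B h s = 1 := by
    have := card_K' B h 0 (s : ℤ) s (by ring)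
    rw [← this, ← hR, hRbot, Subgroup.card_bot]
  have hcards : ∀ d m : ℕ, m + d = s → 1 ≤ m → cc B h m = 2 ^ d := by
    intro d
    induction d with
    | zero =>
      intro m hm _
      have : m = s := by omega
      rw [this, hcs, pow_zero]
    | succ d ih =>
      intro m hm hm1
      rw [hmin m hm1 (by omega), ih (m + 1) (by omega) (by omega), pow_succ]; ring
  refine ⟨s, hs2, ?_, ?_⟩
  · intro a m hm1 hms
    rw [card_K]
    exact hcards (s - m) m (by omega) hm1
  · intro a b hab
    rw [eq_bot_iff, ← hRbot, ← hRK a]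
    exact K_anti le_rfl hab

end partA

end Cfsg.Agent.Helper10.Tutte
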