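import Mathlib
import Cfsg.Prelude.Def_EvenTechniques
import Cfsg.Agent.Lib.Helper10.BenderUniq3
import Cfsg.Agent.Lib.Helper10.CharPChain

set_option autoImplicit false

/-! Thompson–Wielandt with iterated cores: the characteristic `p` part. -/

namespace Cfsg.Agent.Helper10.TW

open Cfsg Subgroup Cfsg.Agent.Helper7 Cfsg.Agent.Helper10.BenderPair
  Cfsg.Agent.Helper10.BenderUniq

universe u v

section comp

variable {H : Type u} [Group H] [Finite H]

/-- A component of a group `X` embedded in `H` lies in the layer of `H` as soon as the image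
contains a normal subgroup `B` of `H` with `C_H(B) ≤ B`. -/
theorem map_component_le_layer2 {X : Type v} [Group X] [Finite X] (j : X →* H)
    (hj : Function.Injective j) (B : Subgroup H) [hBn : B.Normal] (hB : B ≤ j.range)
    (hC : centralizer (B : Set H) ≤ B) (K : Subgroup X) (hK : Cfsg.IsComponent K) :
    K.map j ≤ Cfsg.layer H := by
  set B' : Subgroup X := B.comap j with hB'
  have hB'n : B'.Normal := hBn.comap j
  have hKB' : K ≤ B' := by
    rcases component_le_or_commutator_eq_bot' K B' hK hB'n.isSubnormal with h | h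
    · exact h
    · have h1 : K.map j ≤ centralizer (B : Set H) := by
        rintro _ ⟨k, hk, rfl⟩
        rw [Subgroup.mem_centralizer_iff]
        intro b hb
        obtain ⟨b', rfl⟩ := hB hb
        have h3 := Subgroup.commutator_eq_bot_iff_le_centralizer.mp h hk
        have h4 := Subgroup.mem_centralizer_iff.mp h3 b' (show b' ∈ B' from hb)
        rw [← map_mul, ← map_mul, h4]
      exact Subgroup.map_le_iff_le_comap.mp (h1.trans hC)
  have hK1 : Cfsg.IsComponent (K.subgroupOf B') := isComponent_subgroupOf hKB' hK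
  let f : ↥B' →* ↥B := (j.comp B'.subtype).codRestrict B (fun x => x.2)
  have hf_inj : Function.Injective f := by
    intro a b hab
    have := congrArg Subtype.val hab
    exact Subtype.ext (hj this)
  have hf_surj : Function.Surjective f := by
    rintro ⟨b, hb⟩
    obtain ⟨x, rfl⟩ := hB hb
    exact ⟨⟨x, hb⟩, rfl⟩
  let e : ↥B' ≃* ↥B := MulEquiv.ofBijective f ⟨hf_inj, hf_surj⟩
  have hK2 : Cfsg.IsComponent ((K.subgroupOf B').map e.toMonoidHom) :=
    isComponent_map_mulEquiv e hK1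
  have hK3 : Cfsg.IsComponent (((K.subgroupOf B').map e.toMonoidHom).map B.subtype) :=
    (isComponent_map_subtype_iff hBn.isSubnormal _).mp hK2
  have hle : K.map j ≤ ((K.subgroupOf B').map e.toMonoidHom).map B.subtype := by
    rintro _ ⟨k, hk, rfl⟩
    exact ⟨e ⟨k, hKB' hk⟩, ⟨⟨k, hKB' hk⟩, Subgroup.mem_subgroupOf.mpr hk, rfl⟩, rfl⟩
  exact hle.trans (component_le_layer hK3)

end comp

section defs

variable {G : Type u} [Group G]

/-- the core of `Z ∩ M` in `M`, as a subgroup of `G` -/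
def coreIn (M Z : Subgroup G) : Subgroup G := ((Z.subgroupOf M).normalCore).map M.subtype

theorem coreIn_le_left (M Z : Subgroup G) : coreIn M Z ≤ M := Subgroup.map_subtype_le _

theorem coreIn_le_right (M Z : Subgroup G) : coreIn M Z ≤ Z := by
  rintro _ ⟨x, hx, rfl⟩
  exact Subgroup.mem_subgroupOf.mp (Subgroup.normalCore_le _ hx)

theorem le_normalizer_coreIn (M Z : Subgroup G) :
    M ≤ normalizer ((coreIn M Z : Subgroup G) : Set G) :=
  le_normalizer_map_subtype M _

theorem le_coreIn {M Z W : Subgroup G} (hWM : W ≤ M) (hWZ : W ≤ Z)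
    (hn : M ≤ normalizer (W : Set G)) : W ≤ coreIn M Z := by
  intro w hw
  refine ⟨⟨w, hWM hw⟩, ?_, rfl⟩
  have hWn : (W.subgroupOf M).Normal := Subgroup.normal_subgroupOf_of_le_normalizer hn
  have h1 : W.subgroupOf M ≤ (Z.subgroupOf M).normalCore :=
    Subgroup.normal_le_normalCore.mpr (fun x hx => hWZ hx)
  exact h1 (Subgroup.mem_subgroupOf.mpr hw)

theorem subgroupOf_coreIn (M Z : Subgroup G) :
    (coreIn M Z).subgroupOf M = (Z.subgroupOf M).normalCore :=
  Subgroup.comap_map_eq_self_of_injective M.subtype_injective _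

/-- `A₁`: the core in `M₁` of `M₁ ∩ M₂` -/
def cA (M₁ M₂ : Subgroup G) : Subgroup G := coreIn M₁ (M₁ ⊓ M₂)

/-- `Y = A₁ ∩ B₁` -/
def yY (M₁ M₂ : Subgroup G) : Subgroup G := cA M₁ M₂ ⊓ cA M₂ M₁

theorem yY_comm (M₁ M₂ : Subgroup G) : yY M₁ M₂ = yY M₂ M₁ := inf_comm _ _

/-- `A₂`: the core in `M₁` of `Y` -/
def cA2 (M₁ M₂ : Subgroup G) : Subgroup G := coreIn M₁ (yY M₁ M₂)

theorem cA_le_inf (M₁ M₂ : Subgroup G) : cA M₁ M₂ ≤ M₁ ⊓ M₂ := coreIn_le_right _ _

theorem yY_le_cA (M₁ M₂ : Subgroup G) : yY M₁ M₂ ≤ cA M₁ M₂ := inf_le_left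

theorem yY_le_cA' (M₁ M₂ : Subgroup G) : yY M₁ M₂ ≤ cA M₂ M₁ := inf_le_right

theorem cA2_le_yY (M₁ M₂ : Subgroup G) : cA2 M₁ M₂ ≤ yY M₁ M₂ := coreIn_le_right _ _

theorem cA2_le_yY' (M₁ M₂ : Subgroup G) : cA2 M₂ M₁ ≤ yY M₁ M₂ := by
  rw [yY_comm]; exact coreIn_le_right _ _

/-- a pair of distinct core-free maximal subgroups -/
structure Pair (M₁ M₂ : Subgroup G) : Prop where
  co₁ : IsCoatom M₁
  co₂ : IsCoatom M₂
  ne : M₁ ≠ M₂
  core₁ : M₁.normalCore = ⊥
  core₂ : M₂.normalCore = ⊥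

theorem Pair.symm {M₁ M₂ : Subgroup G} (h : Pair M₁ M₂) : Pair M₂ M₁ :=
  ⟨h.co₂, h.co₁, h.ne.symm, h.core₂, h.core₁⟩

theorem Pair.benderMax {M₁ M₂ : Subgroup G} (h : Pair M₁ M₂) : IsBenderMax M₁ := by
  intro X hX hXA hAN
  by_contra hcon
  have hlt : M₁ < normalizer (X : Set G) := lt_of_le_of_ne hAN (fun e => hcon e.ge)
  have htop := h.co₁.2 _ hlt
  have hn : X.Normal := Subgroup.normalizer_eq_top_iff.mp htop
  have h1 : X ≤ M₁.normalCore := Subgroup.normal_le_normalCore.mpr hXA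
  rw [h.core₁] at h1
  exact hX (le_bot_iff.mp h1)

/-- no nontrivial subgroup is normalized by both members of a pair -/
theorem Pair.false_of_both {M₁ M₂ : Subgroup G} (h : Pair M₁ M₂) (A : Subgroup G) (hA : A ≠ ⊥)
    (hAM : A ≤ M₁) (h1 : M₁ ≤ normalizer (A : Set G)) (h2 : M₂ ≤ normalizer (A : Set G)) :
    False := by
  have h3 : M₂ ≤ M₁ := h2.trans (h.benderMax A hA hAM h1)
  rcases eq_or_lt_of_le h3 with h4 | h4
  · exact h.ne h4.symm
  · exact h.co₁.1 (h.co₂.2 M₁ h4)

end defs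

end Cfsg.Agent.Helper10.TW
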