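import Mathlib
import Cfsg.Agent.Lib.Helper10.TW1

set_option autoImplicit false

/-! Wielandt's counting bound `d! ((d-1)!)^d`. -/

namespace Cfsg.Agent.Helper10.TW

open Cfsg Subgroup
open scoped Nat

universe u

section generic

variable {G : Type u} [Group G]

theorem relIndex_inf_dvd (H K A : Subgroup G) (hn : A ≤ normalizer (H : Set G)) :
    (H ⊓ K).relIndex A ∣ H.relIndex A * K.relIndex A := by
  have hnorm : (H.subgroupOf A).Normal := Subgroup.normal_subgroupOf_of_le_normalizer hn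
  have e1 : (H ⊓ K).subgroupOf A = H.subgroupOf A ⊓ K.subgroupOf A := by
    ext x
    simp [Subgroup.mem_subgroupOf]
  unfold Subgroup.relIndex
  rw [e1]
  have h1 := Subgroup.relIndex_mul_index
    (inf_le_right : H.subgroupOf A ⊓ K.subgroupOf A ≤ K.subgroupOf A)
  rw [Subgroup.inf_relIndex_right] at h1
  rw [← h1]
  exact Nat.mul_dvd_mul_right (Subgroup.relIndex_dvd_index_of_normal _ _) _

theorem relIndex_iInf_dvd {ι : Type*} [DecidableEq ι] (s : Finset ι) (N : ι → Subgroup G)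
    (A : Subgroup G) (e : ℕ) (hn : ∀ i ∈ s, A ≤ normalizer ((N i : Subgroup G) : Set G))
    (he : ∀ i ∈ s, (N i).relIndex A ∣ e) :
    (⨅ i ∈ s, N i).relIndex A ∣ e ^ s.card := by
  induction s using Finset.induction_on with
  | empty => simp
  | insert a s ha ih =>
    rw [Finset.iInf_insert, Finset.card_insert_of_notMem ha, pow_succ']
    refine (relIndex_inf_dvd _ _ A (hn a (Finset.mem_insert_self a s))).trans ?_
    exact Nat.mul_dvd_mul (he a (Finset.mem_insert_self a s))
      (ih (fun i hi => hn i (Finset.mem_insert_of_mem hi))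
        (fun i hi => he i (Finset.mem_insert_of_mem hi)))

variable [Finite G]

theorem index_normalCore_dvd_factorial (H : Subgroup G) : H.normalCore.index ∣ (H.index)! := by
  rw [Subgroup.normalCore_eq_ker, Subgroup.index_ker, Subgroup.index_eq_card, ← Nat.card_perm]
  exact Subgroup.card_subgroup_dvd_card _

/-- the core of a subgroup `Y` of the core `A` of `X`, when `X` normalizes `Y` -/
theorem relIndex_normalCore_dvd (X Y : Subgroup G) (hYA : Y ≤ X.normalCore)
    (hXY : X ≤ normalizer (Y : Set G)) :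
    Y.normalCore.relIndex X.normalCore ∣ (Y.relIndex X.normalCore) ^ X.index := by
  classical
  have hfin : Fintype (G ⧸ X) := Fintype.ofFinite _
  set A := X.normalCore with hA
  have hAn : A.Normal := Subgroup.normalCore_normal X
  let r : G ⧸ X → G := fun c => Quotient.out c
  let N : G ⧸ X → Subgroup G := fun c => Y.map (MulAut.conj (r c)).toMonoidHom
  have hmem : ∀ c (z : G), z ∈ N c ↔ (r c)⁻¹ * z * r c ∈ Y := by
    intro c z
    constructor
    · rintro ⟨w, hw, rfl⟩
      simpa [MulAut.conj_apply, mul_assoc] using hw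
    · intro h
      refine ⟨(r c)⁻¹ * z * r c, h, ?_⟩
      simp [MulAut.conj_apply, mul_assoc]
  have hle : (⨅ c ∈ (Finset.univ : Finset (G ⧸ X)), N c) ≤ Y.normalCore := by
    intro a ha
    have ha' : ∀ c, a ∈ N c := by
      intro c
      have := (Subgroup.mem_iInf.mp ha) c
      exact (Subgroup.mem_iInf.mp this) (Finset.mem_univ c)
    intro b
    set c : G ⧸ X := ((b⁻¹ : G) : G ⧸ X) with hc
    have h1 : (r c)⁻¹ * b⁻¹ ∈ X := by
      have : ((r c : G) : G ⧸ X) = ((b⁻¹ : G) : G ⧸ X) := by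
        change ((Quotient.out c : G) : G ⧸ X) = _
        rw [QuotientGroup.out_eq']
      exact QuotientGroup.eq.mp this
    have h2 : b * r c ∈ X := by
      have := X.inv_mem h1
      simpa [mul_inv_rev] using this
    have h3 := (hmem c a).mp (ha' c)
    have h4 := (Subgroup.mem_normalizer_iff.mp (hXY h2) ((r c)⁻¹ * a * r c)).mp h3
    have e : b * r c * ((r c)⁻¹ * a * r c) * (b * r c)⁻¹ = b * a * b⁻¹ := by group
    rwa [e] at h4
  have hcard : (Finset.univ : Finset (G ⧸ X)).card = X.index := by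
    rw [Finset.card_univ, Subgroup.index_eq_card, Nat.card_eq_fintype_card]
  have hAX : A ≤ X := Subgroup.normalCore_le X
  have hmapA : ∀ c, A.map (MulAut.conj (r c)).toMonoidHom = A := by
    intro c
    ext z
    constructor
    · rintro ⟨w, hw, rfl⟩
      exact hAn.conj_mem w hw (r c)
    · intro hz
      refine ⟨(r c)⁻¹ * z * r c, ?_, ?_⟩
      · have := hAn.conj_mem z hz (r c)⁻¹
        simpa using this
      · simp [MulAut.conj_apply, mul_assoc]
  have hmain := relIndex_iInf_dvd (Finset.univ : Finset (G ⧸ X)) N A (Y.relIndex A) ?_ ?_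
  · rw [hcard] at hmain
    exact (Subgroup.relIndex_dvd_of_le_left A hle).trans hmain
  · intro c _ a ha
    rw [Subgroup.mem_normalizer_iff]
    intro z
    rw [hmem, hmem]
    have ha2 : (r c)⁻¹ * a * r c ∈ A := by
      have := hAn.conj_mem a ha (r c)⁻¹
      simpa using this
    have h5 := Subgroup.mem_normalizer_iff.mp (hXY (hAX ha2)) ((r c)⁻¹ * z * r c)
    rw [h5]
    have e : (r c)⁻¹ * a * r c * ((r c)⁻¹ * z * r c) * ((r c)⁻¹ * a * r c)⁻¹ =
        (r c)⁻¹ * (a * z * a⁻¹) * r c := by group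
    rw [e]
  · intro c _
    have := Subgroup.relIndex_map_map_of_injective Y A
      (f := (MulAut.conj (r c)).toMonoidHom) (MulAut.conj (r c)).injective
    rw [hmapA c] at this
    rw [this]

end generic

section main

variable {G : Type u} [Group G] [Finite G]

/-- Wielandt's counting bound for the index of the second core -/
theorem relIndex_cA2_dvd (M₁ M₂ : Subgroup G) (d : ℕ) (h₁ : (M₁ ⊓ M₂).relIndex M₁ = d)
    (h₂ : (M₁ ⊓ M₂).relIndex M₂ = d) :
    (cA2 M₁ M₂).relIndex M₁ ∣ d ! * ((d - 1)!) ^ d := by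
  set X := M₁ ⊓ M₂ with hX
  set A₁ := cA M₁ M₂ with hA₁
  set B₁ := cA M₂ M₁ with hB₁
  have hA₁X : A₁ ≤ X := cA_le_inf M₁ M₂
  have hB₁X : B₁ ≤ X := by
    have := cA_le_inf M₂ M₁
    rwa [inf_comm] at this
  have hd0 : d ≠ 0 := by
    rw [← h₁]
    unfold Subgroup.relIndex
    exact Subgroup.index_ne_zero_of_finite
  -- (a)
  have ha : A₁.relIndex M₁ ∣ d ! := by
    have h := index_normalCore_dvd_factorial (X.subgroupOf M₁)
    have e1 : A₁.subgroupOf M₁ = (X.subgroupOf M₁).normalCore := subgroupOf_coreIn M₁ X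
    unfold Subgroup.relIndex at h₁ ⊢
    rw [e1]
    rwa [h₁] at h
  -- (b)
  have hb : B₁.relIndex X ∣ (d - 1)! := by
    have h := index_normalCore_dvd_factorial ((M₂ ⊓ M₁).subgroupOf M₂)
    have e1 : B₁.subgroupOf M₂ = ((M₂ ⊓ M₁).subgroupOf M₂).normalCore :=
      subgroupOf_coreIn M₂ (M₂ ⊓ M₁)
    have h₂' : ((M₂ ⊓ M₁).subgroupOf M₂).index = d := by
      rw [inf_comm]; exact h₂
    rw [h₂', ← e1] at h
    have h3 : B₁.relIndex X * X.relIndex M₂ = B₁.relIndex M₂ :=
      Subgroup.relIndex_mul_relIndex _ _ _ hB₁X inf_le_right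
    have h3' : B₁.relIndex X * d = B₁.relIndex M₂ := by
      rw [← h₂]; exact h3
    have h4 : B₁.relIndex X * d ∣ d * (d - 1)! := by
      rw [Nat.mul_factorial_pred hd0, h3']
      exact h
    rw [mul_comm] at h4
    exact Nat.dvd_of_mul_dvd_mul_left (Nat.pos_of_ne_zero hd0) h4
  -- (c)
  have hc : (yY M₁ M₂).relIndex A₁ ∣ (d - 1)! := by
    have h1 : (yY M₁ M₂).relIndex A₁ = B₁.relIndex A₁ := Subgroup.inf_relIndex_left _ _
    rw [h1]
    have hn : (B₁.subgroupOf X).Normal := by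
      apply Subgroup.normal_subgroupOf_of_le_normalizer
      exact inf_le_right.trans (le_normalizer_coreIn M₂ _)
    have h2 := Subgroup.relIndex_dvd_index_of_normal (B₁.subgroupOf X) (A₁.subgroupOf X)
    rw [Subgroup.relIndex_subgroupOf hA₁X] at h2
    exact h2.trans hb
  -- (d)
  have hdd : (cA2 M₁ M₂).relIndex A₁ ∣ ((yY M₁ M₂).relIndex A₁) ^ d := by
    have hA₁M : A₁ ≤ M₁ := coreIn_le_left _ _
    have e1 : A₁.subgroupOf M₁ = (X.subgroupOf M₁).normalCore := subgroupOf_coreIn M₁ X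
    have e2 : (cA2 M₁ M₂).subgroupOf M₁ = ((yY M₁ M₂).subgroupOf M₁).normalCore :=
      subgroupOf_coreIn M₁ _
    have hYA : (yY M₁ M₂).subgroupOf M₁ ≤ (X.subgroupOf M₁).normalCore := by
      rw [← e1]
      intro x hx
      exact yY_le_cA M₁ M₂ hx
    have hXY : X.subgroupOf M₁ ≤ normalizer (((yY M₁ M₂).subgroupOf M₁ : Subgroup ↥M₁) : Set ↥M₁) := by
      intro x hx
      have hx1 : (x : G) ∈ normalizer ((A₁ : Subgroup G) : Set G) :=
        le_normalizer_coreIn _ _ x.2
      have hx2 : (x : G) ∈ normalizer ((B₁ : Subgroup G) : Set G) :=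
        le_normalizer_coreIn _ _ (Subgroup.mem_subgroupOf.mp hx).2
      rw [Subgroup.mem_normalizer_iff]
      intro y
      rw [Subgroup.mem_subgroupOf, Subgroup.mem_subgroupOf]
      unfold yY
      rw [Subgroup.mem_inf, Subgroup.mem_inf, (Subgroup.mem_normalizer_iff.mp hx1) y,
        (Subgroup.mem_normalizer_iff.mp hx2) y]
      exact Iff.rfl
    have h := relIndex_normalCore_dvd (X.subgroupOf M₁) ((yY M₁ M₂).subgroupOf M₁) hYA hXY
    rw [← e1, ← e2, Subgroup.relIndex_subgroupOf hA₁M, Subgroup.relIndex_subgroupOf hA₁M] at h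
    unfold Subgroup.relIndex at h₁
    rwa [h₁] at h
  have h5 : (cA2 M₁ M₂).relIndex A₁ * A₁.relIndex M₁ = (cA2 M₁ M₂).relIndex M₁ :=
    Subgroup.relIndex_mul_relIndex _ _ _ ((cA2_le_yY M₁ M₂).trans (yY_le_cA M₁ M₂))
      (coreIn_le_left _ _)
  rw [← h5, mul_comm]
  exact Nat.mul_dvd_mul ha (hdd.trans (pow_dvd_pow_of_dvd hc d))

theorem card_dvd_of_cA2_eq_bot (M₁ M₂ : Subgroup G) (d : ℕ) (h₁ : (M₁ ⊓ M₂).relIndex M₁ = d)
    (h₂ : (M₁ ⊓ M₂).relIndex M₂ = d) (hA2 : cA2 M₁ M₂ = ⊥) :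
    Nat.card ↥M₁ ∣ d ! * ((d - 1)!) ^ d := by
  have h := relIndex_cA2_dvd M₁ M₂ d h₁ h₂
  rwa [hA2, Subgroup.relIndex_bot_left] at h

end main

end Cfsg.Agent.Helper10.TW
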