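import Mathlib
import Cfsg.Agent.Lib.Helper10.TW1

set_option autoImplicit false

/-! Primitive permutation groups: two point stabilizers form a pair. -/

namespace Cfsg.Agent.Helper10.TW

open Cfsg Subgroup MulAction

universe u v

variable {G : Type u} {Ω : Type v} [Group G] [MulAction G Ω]

theorem stabilizer_subgroup_eq (M : Subgroup G) (b : Ω) :
    stabilizer ↥M b = (stabilizer G b).subgroupOf M := by
  ext x
  rw [MulAction.mem_stabilizer_iff, Subgroup.mem_subgroupOf, MulAction.mem_stabilizer_iff]
  rfl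

theorem relIndex_stabilizer (a b : Ω) :
    (stabilizer G a ⊓ stabilizer G b).relIndex (stabilizer G a) =
      Nat.card (orbit (stabilizer G a) b) := by
  rw [Subgroup.inf_relIndex_left]
  unfold Subgroup.relIndex
  rw [← stabilizer_subgroup_eq, MulAction.index_stabilizer, Nat.card_coe_set_eq]

theorem nontrivial_of_card_orbit (a b : Ω)
    (h2 : 2 ≤ Nat.card (orbit (stabilizer G a) b)) : Nontrivial Ω := by
  have hfin : Finite (orbit (stabilizer G a) b) := by
    apply Nat.finite_of_card_ne_zero
    omega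
  have : Nontrivial (orbit (stabilizer G a) b) :=
    Finite.one_lt_card_iff_nontrivial.mp (by omega)
  obtain ⟨x, y, hxy⟩ := this
  exact ⟨⟨x, y, fun h => hxy (Subtype.ext h)⟩⟩

theorem stabilizer_ne_of_card_orbit (a b : Ω)
    (h2 : 2 ≤ Nat.card (orbit (stabilizer G a) b)) : stabilizer G a ≠ stabilizer G b := by
  intro heq
  have hsub : Subsingleton (orbit (stabilizer G a) b) := by
    constructor
    rintro ⟨x, m, rfl⟩ ⟨y, n, rfl⟩
    apply Subtype.ext
    have hm : (m : G) ∈ stabilizer G b := heq ▸ m.2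
    have hn : (n : G) ∈ stabilizer G b := heq ▸ n.2
    change (m : G) • b = (n : G) • b
    rw [MulAction.mem_stabilizer_iff.mp hm, MulAction.mem_stabilizer_iff.mp hn]
  have hfin : Finite (orbit (stabilizer G a) b) := by
    apply Nat.finite_of_card_ne_zero
    omega
  have := Finite.card_le_one_iff_subsingleton.mpr hsub
  omega

variable [FaithfulSMul G Ω]

theorem normalCore_stabilizer_eq_bot [IsPretransitive G Ω] (a : Ω) :
    (stabilizer G a).normalCore = ⊥ := by
  rw [eq_bot_iff]
  intro x hx
  rw [Subgroup.mem_bot]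
  apply FaithfulSMul.eq_of_smul_eq_smul (α := Ω)
  intro ω
  obtain ⟨g, rfl⟩ := MulAction.exists_smul_eq G a ω
  have h := hx g⁻¹
  rw [MulAction.mem_stabilizer_iff] at h
  rw [one_smul]
  have h' : g • ((g⁻¹ * x * g⁻¹⁻¹) • a) = g • a := by rw [h]
  rw [← mul_smul, inv_inv] at h'
  have e : g * (g⁻¹ * x * g) = x * g := by group
  rw [e, mul_smul] at h'
  exact h'

theorem pair_stabilizer (hprim : IsPreprimitive G Ω) (a b : Ω)
    (h2 : 2 ≤ Nat.card (orbit (stabilizer G a) b)) :
    Pair (stabilizer G a) (stabilizer G b) := by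
  have hnt : Nontrivial Ω := nontrivial_of_card_orbit a b h2
  have htr : IsPretransitive G Ω := hprim.toIsPretransitive
  exact ⟨IsPreprimitive.isCoatom_stabilizer_of_isPreprimitive (G := G) a,
    IsPreprimitive.isCoatom_stabilizer_of_isPreprimitive (G := G) b,
    stabilizer_ne_of_card_orbit a b h2, normalCore_stabilizer_eq_bot a,
    normalCore_stabilizer_eq_bot b⟩

omit [FaithfulSMul G Ω] in
theorem exists_mulEquiv_stabilizer [IsPretransitive G Ω] (a b : Ω) :
    Nonempty (↥(stabilizer G a) ≃* ↥(stabilizer G b)) := by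
  obtain ⟨g, rfl⟩ := MulAction.exists_smul_eq G a b
  have h := MulAction.stabilizer_smul_eq_stabilizer_map_conj g a
  exact ⟨((MulAut.conj g).subgroupMap (stabilizer G a)).trans (MulEquiv.subgroupCongr h.symm)⟩

omit [FaithfulSMul G Ω] in
theorem relIndex_stabilizer' [Finite G] [IsPretransitive G Ω] (a b : Ω) :
    (stabilizer G a ⊓ stabilizer G b).relIndex (stabilizer G b) =
      Nat.card (orbit (stabilizer G a) b) := by
  rw [← relIndex_stabilizer]
  set X := stabilizer G a ⊓ stabilizer G b with hX
  obtain ⟨e⟩ := exists_mulEquiv_stabilizer (G := G) a b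
  have hc : Nat.card ↥(stabilizer G a) = Nat.card ↥(stabilizer G b) := Nat.card_congr e.toEquiv
  have h1 := Subgroup.relIndex_mul_relIndex ⊥ X (stabilizer G a) bot_le inf_le_left
  have h2 := Subgroup.relIndex_mul_relIndex ⊥ X (stabilizer G b) bot_le inf_le_right
  rw [Subgroup.relIndex_bot_left, Subgroup.relIndex_bot_left] at h1 h2
  have hpos : 0 < Nat.card ↥X := Nat.card_pos
  rw [← hc, ← h1] at h2
  exact Nat.eq_of_mul_eq_mul_left hpos h2

end Cfsg.Agent.Helper10.TW
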