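import Mathlib
import Cfsg.Prelude.Def_EvenTechniques
import Cfsg.Agent.Lib.Helper10.TW1

set_option autoImplicit false

/-! Thompson–Wielandt with iterated cores: the characteristic `p` part (continued). -/

namespace Cfsg.Agent.Helper10.TW

open Cfsg Subgroup Cfsg.Agent.Helper7 Cfsg.Agent.Helper10.BenderPair
  Cfsg.Agent.Helper10.BenderUniq Cfsg.Agent.Helper10.CharPChain

universe u

variable {G : Type u} [Group G] [Finite G] {M₁ M₂ : Subgroup G}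

/-- `C_G(A₁) ≤ A₁` when `B₂ ≠ 1` -/
theorem centralizer_cA_le (h : Pair M₁ M₂) (hB2 : cA2 M₂ M₁ ≠ ⊥) :
    centralizer ((cA M₁ M₂ : Subgroup G) : Set G) ≤ cA M₁ M₂ := by
  have hB2A : cA2 M₂ M₁ ≤ cA M₁ M₂ := (cA2_le_yY' M₁ M₂).trans (yY_le_cA M₁ M₂)
  have hA1 : cA M₁ M₂ ≠ ⊥ := by
    intro e
    rw [e] at hB2A
    exact hB2 (le_bot_iff.mp hB2A)
  have hNA : normalizer ((cA M₁ M₂ : Subgroup G) : Set G) ≤ M₁ :=
    h.benderMax (cA M₁ M₂) hA1 (coreIn_le_left _ _) (le_normalizer_coreIn _ _)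
  have hNB : normalizer ((cA2 M₂ M₁ : Subgroup G) : Set G) ≤ M₂ :=
    h.symm.benderMax (cA2 M₂ M₁) hB2 (coreIn_le_left _ _) (le_normalizer_coreIn _ _)
  apply le_coreIn
  · exact (Subgroup.centralizer_le_normalizer _).trans hNA
  · apply le_inf
    · exact (Subgroup.centralizer_le_normalizer _).trans hNA
    · exact ((Subgroup.centralizer_le hB2A).trans (Subgroup.centralizer_le_normalizer _)).trans hNB
  · exact (le_normalizer_coreIn _ _).trans (normalizer_le_normalizer_centralizer _)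

/-- `C_{M₁}(A₁) ≤ A₁` inside `M₁` -/
theorem centralizer_normalCore_le (h : Pair M₁ M₂) (hB2 : cA2 M₂ M₁ ≠ ⊥) :
    centralizer ((((M₁ ⊓ M₂).subgroupOf M₁).normalCore : Subgroup ↥M₁) : Set ↥M₁) ≤
      ((M₁ ⊓ M₂).subgroupOf M₁).normalCore := by
  intro x hx
  have h1 : (x : G) ∈ centralizer ((cA M₁ M₂ : Subgroup G) : Set G) := by
    rw [Subgroup.mem_centralizer_iff]
    rintro _ ⟨y, hy, rfl⟩
    have := Subgroup.mem_centralizer_iff.mp hx y hy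
    exact congrArg Subtype.val this
  obtain ⟨y, hy, hyx⟩ := centralizer_cA_le h hB2 h1
  have : y = x := Subtype.ext hyx
  rwa [this] at hy

/-- `E(M₁) ≤ A₁` -/
theorem eL_le_cA (h : Pair M₁ M₂) (hB2 : cA2 M₂ M₁ ≠ ⊥) : eL M₁ ≤ cA M₁ M₂ := by
  have h1 := layer_le_of_centralizer_le (((M₁ ⊓ M₂).subgroupOf M₁).normalCore)
    (centralizer_normalCore_le h hB2)
  exact Subgroup.map_mono h1

/-- `E(M₁) ≤ E(M₂)` -/
theorem eL_le_eL_of_pair (h : Pair M₁ M₂) (hA2 : cA2 M₁ M₂ ≠ ⊥) (hB2 : cA2 M₂ M₁ ≠ ⊥) :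
    eL M₁ ≤ eL M₂ := by
  have h₁ : eL M₁ ≤ M₁ ⊓ M₂ := (eL_le_cA h hB2).trans (cA_le_inf M₁ M₂)
  have hmem : ∀ {K : Subgroup ↥M₁}, Cfsg.IsComponent K → ∀ x ∈ K, (x : G) ∈ eL M₁ :=
    fun hK x hx => ⟨x, component_le_layer hK hx, rfl⟩
  unfold eL
  rw [Subgroup.map_le_iff_le_comap]
  conv_lhs => unfold Cfsg.layer
  apply sSup_le
  intro K hK
  change Cfsg.IsComponent K at hK
  set X₁ : Subgroup ↥M₁ := (M₁ ⊓ M₂).subgroupOf M₁ with hX₁
  have hKX : K ≤ X₁ := by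
    intro x hx
    rw [hX₁, Subgroup.mem_subgroupOf]
    exact h₁ (hmem hK x hx)
  have hKx : Cfsg.IsComponent (K.subgroupOf X₁) := isComponent_subgroupOf hKX hK
  let j : ↥X₁ →* ↥M₂ := ((M₁.subtype).comp X₁.subtype).codRestrict M₂
    (fun x => (Subgroup.mem_subgroupOf.mp x.2).2)
  have hj : Function.Injective j := by
    intro a b hab
    have := congrArg Subtype.val hab
    exact Subtype.ext (Subtype.ext this)
  set B : Subgroup ↥M₂ := ((M₂ ⊓ M₁).subgroupOf M₂).normalCore with hB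
  have hBrange : B ≤ j.range := by
    intro y hy
    have hy0 : (y : G) ∈ M₂ ⊓ M₁ := Subgroup.mem_subgroupOf.mp (Subgroup.normalCore_le _ hy)
    have hy1 : (y : G) ∈ M₁ := hy0.2
    refine ⟨⟨⟨y, hy1⟩, ?_⟩, ?_⟩
    · rw [hX₁, Subgroup.mem_subgroupOf]; exact ⟨hy1, y.2⟩
    · exact Subtype.ext rfl
  have hBC : centralizer (B : Set ↥M₂) ≤ B := centralizer_normalCore_le h.symm hA2
  have hmain := map_component_le_layer2 j hj B hBrange hBC _ hKx
  intro x hx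
  rw [Subgroup.mem_comap]
  have hx2 : (x : G) ∈ M₂ := (Subgroup.mem_subgroupOf.mp (hKX hx)).2
  refine ⟨⟨x, hx2⟩, ?_, rfl⟩
  apply hmain
  exact ⟨⟨x, hKX hx⟩, Subgroup.mem_subgroupOf.mpr hx, Subtype.ext rfl⟩

/-- neither member of the pair has a component -/
theorem layer_eq_bot_of_pair2 (h : Pair M₁ M₂) (hA2 : cA2 M₁ M₂ ≠ ⊥) (hB2 : cA2 M₂ M₁ ≠ ⊥) :
    Cfsg.layer ↥M₁ = ⊥ ∧ Cfsg.layer ↥M₂ = ⊥ := by
  have e : eL M₁ = eL M₂ :=
    le_antisymm (eL_le_eL_of_pair h hA2 hB2) (eL_le_eL_of_pair h.symm hB2 hA2)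
  have hE : eL M₁ = ⊥ := by
    by_contra hE
    apply h.false_of_both (eL M₁) hE (Subgroup.map_subtype_le _)
    · exact le_normalizer_map_subtype M₁ _
    · rw [e]; exact le_normalizer_map_subtype M₂ _
  refine ⟨(Subgroup.map_eq_bot_iff_of_injective _ M₁.subtype_injective).mp hE, ?_⟩
  rw [e] at hE
  exact (Subgroup.map_eq_bot_iff_of_injective _ M₂.subtype_injective).mp hE

end Cfsg.Agent.Helper10.TW
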