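import Mathlib
import Cfsg.Prelude.Def_EvenTechniques
import Cfsg.Agent.Lib.Helper10.TW2
import Cfsg.Agent.Lib.Helper14.PReducedSub

set_option autoImplicit false

/-! Thompson–Wielandt with iterated cores: the Bender relation and the weak form. -/

namespace Cfsg.Agent.Helper10.TW

open Cfsg Subgroup Cfsg.Agent.Helper7 Cfsg.Agent.Helper10.BenderPair
  Cfsg.Agent.Helper10.BenderUniq Cfsg.Agent.Helper10.CharPChain

universe u

section generic

variable {H : Type u} [Group H] [Finite H]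

/-- a nontrivial normal subgroup of a group without components meets some `O_q` nontrivially -/
theorem exists_pCore_inf_ne_bot (hl : Cfsg.layer H = ⊥) (N : Subgroup H) [hN : N.Normal]
    (hne : N ≠ ⊥) : ∃ q : ℕ, q.Prime ∧ Cfsg.pCore q H ⊓ N ≠ ⊥ := by
  have hFs : Cfsg.generalizedFittingSubgroup H = Cfsg.fittingSubgroup H := by
    unfold Cfsg.generalizedFittingSubgroup
    rw [hl, bot_sup_eq]
  have hFn : (Cfsg.fittingSubgroup H).Normal := fittingSubgroup_normal'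
  have hFN : Cfsg.fittingSubgroup H ⊓ N ≠ ⊥ := by
    intro hbot
    have hcomm : ⁅Cfsg.fittingSubgroup H, N⁆ = ⊥ := by
      rw [eq_bot_iff, ← hbot]
      exact le_inf (Subgroup.commutator_le_left _ _) (Subgroup.commutator_le_right _ _)
    have h1 : N ≤ centralizer (Cfsg.fittingSubgroup H : Set H) := by
      rw [Subgroup.commutator_comm] at hcomm
      exact Subgroup.commutator_eq_bot_iff_le_centralizer.mp hcomm
    have h2 : N ≤ Cfsg.fittingSubgroup H := by
      have := centralizer_generalizedFittingSubgroup_le (G := H)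
      rw [hFs] at this
      exact h1.trans this
    apply hne
    rw [eq_bot_iff, ← hbot]
    exact le_inf h2 le_rfl
  obtain ⟨x, hx1⟩ := (Subgroup.ne_bot_iff_exists_ne_one).mp hFN
  have hx1' : (x : H) ≠ 1 := fun h => hx1 (Subtype.ext h)
  have hord : orderOf (x : H) ≠ 1 := fun h => hx1' (orderOf_eq_one_iff.mp h)
  obtain ⟨q, hq, hqd⟩ := Nat.exists_prime_and_dvd hord
  have hqf : Fact q.Prime := ⟨hq⟩
  refine ⟨q, hq, ?_⟩
  set y : H := (x : H) ^ (orderOf (x : H) / q) with hy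
  have hyord : orderOf y = q := by
    rw [hy]
    exact orderOf_pow_orderOf_div (orderOf_pos (x : H)).ne' hqd
  have hy1 : y ≠ 1 := by
    intro h
    rw [h, orderOf_one] at hyord
    exact hq.one_lt.ne hyord
  have hyF : y ∈ Cfsg.fittingSubgroup H := Subgroup.pow_mem _ x.2.1 _
  have hyN : y ∈ N := Subgroup.pow_mem _ x.2.2 _
  have hyq : y ∈ Cfsg.pCore q H := by
    apply mem_pCore_of_mem_fittingSubgroup q hyF
    refine ⟨1, ?_⟩
    rw [pow_one, ← hyord]
    exact pow_orderOf_eq_one y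
  intro hbot
  have : y ∈ Cfsg.pCore q H ⊓ N := ⟨hyq, hyN⟩
  rw [hbot, Subgroup.mem_bot] at this
  exact hy1 this

end generic

variable {G : Type u} [Group G] {M₁ M₂ : Subgroup G}

/-- one subnormality step, for subgroups of the ambient group -/
theorem isSubnormal_subgroupOf_step {M A B : Subgroup G} (hAB : A ≤ B)
    (hB : (B.subgroupOf M).IsSubnormal) (hn : B ≤ normalizer (A : Set G)) :
    (A.subgroupOf M).IsSubnormal := by
  refine Subgroup.IsSubnormal.step (A.subgroupOf M) (B.subgroupOf M)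
    (fun x hx => hAB hx) hB ?_
  apply Subgroup.normal_subgroupOf_of_le_normalizer
  intro x hx
  have hx' : (x : G) ∈ normalizer (A : Set G) := hn hx
  rw [Subgroup.mem_normalizer_iff]
  intro y
  rw [Subgroup.mem_subgroupOf, Subgroup.mem_subgroupOf]
  have := (Subgroup.mem_normalizer_iff.mp hx') (y : G)
  simpa using this

variable [Finite G]

/-- the normal `q`-subgroup of `M₁` inside `A₂` -/
theorem exists_q_sub (_h : Pair M₁ M₂) (hl : Cfsg.layer ↥M₁ = ⊥) (hA2 : cA2 M₁ M₂ ≠ ⊥) :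
    ∃ (q : ℕ) (Q : Subgroup G), q.Prime ∧ Q ≠ ⊥ ∧ IsPGroup q ↥Q ∧ Q ≤ cA2 M₁ M₂ ∧
      M₁ ≤ normalizer (Q : Set G) := by
  set N : Subgroup ↥M₁ := ((yY M₁ M₂).subgroupOf M₁).normalCore with hN
  have hNne : N ≠ ⊥ := by
    intro hbot
    apply hA2
    unfold cA2 coreIn
    rw [← hN, hbot, Subgroup.map_bot]
  obtain ⟨q, hq, hne⟩ := exists_pCore_inf_ne_bot hl N hNne
  have hqf : Fact q.Prime := ⟨hq⟩
  have hnorm : (Cfsg.pCore q ↥M₁ ⊓ N).Normal := by
    have h1 : (Cfsg.pCore q ↥M₁).Normal := inferInstance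
    have h2 : N.Normal := inferInstance
    exact Subgroup.normal_inf_normal _ _
  refine ⟨q, (Cfsg.pCore q ↥M₁ ⊓ N).map M₁.subtype, hq, ?_, ?_, ?_, ?_⟩
  · intro hbot
    exact hne ((Subgroup.map_eq_bot_iff_of_injective _ M₁.subtype_injective).mp hbot)
  · exact ((pCore_isPGroup q).to_le inf_le_left).map _
  · exact Subgroup.map_mono inf_le_right
  · exact le_normalizer_map_subtype_of_normal _

/-- `M₂ ⇝ M₁` -/
theorem leadsTo_of_pair (h : Pair M₁ M₂) (hl : Cfsg.layer ↥M₁ = ⊥) (hA2 : cA2 M₁ M₂ ≠ ⊥) :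
    Cfsg.leadsTo M₂ M₁ := by
  obtain ⟨q, Q, hq, hQne, hQp, hQA, hQn⟩ := exists_q_sub h hl hA2
  have hqf : Fact q.Prime := ⟨hq⟩
  have hQM₁ : Q ≤ M₁ := hQA.trans (coreIn_le_left _ _)
  have hQY : Q ≤ yY M₁ M₂ := hQA.trans (cA2_le_yY _ _)
  have hYB : yY M₁ M₂ ≤ cA M₂ M₁ := yY_le_cA' _ _
  have hBM₂ : cA M₂ M₁ ≤ M₂ := coreIn_le_left _ _
  have hBX : cA M₂ M₁ ≤ M₁ := (cA_le_inf M₂ M₁).trans inf_le_right
  -- subnormal chain in `M₂`
  have hB1 : ((cA M₂ M₁).subgroupOf M₂).IsSubnormal := by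
    have : ((cA M₂ M₁).subgroupOf M₂).Normal := by
      unfold cA
      rw [subgroupOf_coreIn]
      infer_instance
    exact this.isSubnormal
  have hY1 : ((yY M₁ M₂).subgroupOf M₂).IsSubnormal := by
    apply isSubnormal_subgroupOf_step hYB hB1
    -- `B₁` normalizes `A₁ ∩ B₁`
    intro b hb
    have hb1 : b ∈ normalizer ((cA M₁ M₂ : Subgroup G) : Set G) :=
      le_normalizer_coreIn _ _ (hBX hb)
    have hb2 : b ∈ normalizer ((cA M₂ M₁ : Subgroup G) : Set G) :=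
      Subgroup.le_normalizer hb
    rw [Subgroup.mem_normalizer_iff]
    intro y
    unfold yY
    rw [Subgroup.mem_inf, Subgroup.mem_inf, ← (Subgroup.mem_normalizer_iff.mp hb1) y,
      ← (Subgroup.mem_normalizer_iff.mp hb2) y]
  have hQ1 : (Q.subgroupOf M₂).IsSubnormal := by
    apply isSubnormal_subgroupOf_step hQY hY1
    exact (((yY_le_cA M₁ M₂).trans (cA_le_inf M₁ M₂)).trans inf_le_left).trans hQn
  have hQp' : IsPGroup q ↥(Q.subgroupOf M₂) := hQp.comap_subtype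
  have hle : Q.subgroupOf M₂ ≤ Cfsg.fittingSubgroup ↥M₂ :=
    (Cfsg.Agent.Helper14.subnormal_isPGroup_le_pCore hQ1 hQp').trans (pCore_le_fittingSubgroup q)
  refine ⟨Q, hQne, ?_, ?_⟩
  · intro x hx
    have hx2 : x ∈ M₂ := hBM₂ (hYB (hQY hx))
    exact ⟨⟨x, hx2⟩, hle (Subgroup.mem_subgroupOf.mpr hx), rfl⟩
  · exact inf_le_right.trans (h.benderMax Q hQne hQM₁ hQn)

/-- the weak Thompson–Wielandt theorem: both second cores nontrivial forces characteristic `p` -/
theorem tw_weak (h : Pair M₁ M₂) (hA2 : cA2 M₁ M₂ ≠ ⊥) (hB2 : cA2 M₂ M₁ ≠ ⊥) :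
    ∃ p : ℕ, p.Prime ∧ IsPGroup p ↥(Cfsg.generalizedFittingSubgroup ↥M₁) ∧
      IsPGroup p ↥(Cfsg.generalizedFittingSubgroup ↥M₂) := by
  obtain ⟨hl₁, hl₂⟩ := layer_eq_bot_of_pair2 h hA2 hB2
  have h21 : Cfsg.leadsTo M₂ M₁ := leadsTo_of_pair h hl₁ hA2
  have h12 : Cfsg.leadsTo M₁ M₂ := leadsTo_of_pair h.symm hl₂ hB2
  exact bender_symmetric M₁ M₂ h.co₁ h.co₂ h.benderMax h.symm.benderMax h.ne h12 h21

end Cfsg.Agent.Helper10.TW
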