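import Mathlib
import Cfsg.Prelude.Def_EvenTechniques
import Cfsg.Agent.Lib.Helper10.TW3

set_option autoImplicit false

/-! The radical trick: a Fitting-free subconstituent forces a Fitting-free two-point stabilizer. -/

namespace Cfsg.Agent.Helper10.TW

open Cfsg Subgroup Cfsg.Agent.Helper7

universe u v

section basic

variable {G : Type u} [Group G]

/-- a `p`-subgroup of `A` normalized by `A` lies in `O_p(A)` -/
theorem le_map_pCore_of_normal {p : ℕ} {A P : Subgroup G} (hPA : P ≤ A)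
    (hn : A ≤ normalizer (P : Set G)) (hp : IsPGroup p ↥P) :
    P ≤ (Cfsg.pCore p ↥A).map A.subtype := by
  have hnorm : (P.subgroupOf A).Normal := Subgroup.normal_subgroupOf_of_le_normalizer hn
  have hp' : IsPGroup p ↥(P.subgroupOf A) := hp.comap_subtype
  have hle := le_pCore hnorm hp'
  intro x hx
  exact ⟨⟨x, hPA hx⟩, hle (Subgroup.mem_subgroupOf.mpr hx), rfl⟩

theorem normalizer_inf_le_normalizer_sup (A B : Subgroup G) :
    normalizer (A : Set G) ⊓ normalizer (B : Set G) ≤ normalizer ((A ⊔ B : Subgroup G) : Set G) := by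
  apply le_normalizer_of_forall_conj_mem
  intro g hg y hy
  have hle : A ⊔ B ≤ (A ⊔ B).comap (MulAut.conj g).toMonoidHom := by
    apply sup_le
    · intro a ha
      rw [Subgroup.mem_comap]
      apply (le_sup_left : A ≤ A ⊔ B)
      have := (Subgroup.mem_normalizer_iff.mp hg.1 a).mp ha
      simpa [MulAut.conj_apply] using this
    · intro b hb
      rw [Subgroup.mem_comap]
      apply (le_sup_right : B ≤ A ⊔ B)
      have := (Subgroup.mem_normalizer_iff.mp hg.2 b).mp hb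
      simpa [MulAut.conj_apply] using this
  have := hle hy
  rw [Subgroup.mem_comap] at this
  simpa [MulAut.conj_apply] using this

end basic

variable {G : Type u} [Group G] [Finite G] {M₁ M₂ : Subgroup G}

/-- the radical trick -/
theorem pCore_inf_eq_bot (h : Pair M₁ M₂) (e : ↥M₁ ≃* ↥M₂) (p : ℕ) [hpf : Fact p.Prime]
    (hP : (Cfsg.pCore p ↥(M₁ ⊓ M₂)).map (M₁ ⊓ M₂).subtype ≤ cA M₁ M₂) :
    Cfsg.pCore p ↥(M₁ ⊓ M₂) = ⊥ := by
  by_contra hne
  set X := M₁ ⊓ M₂ with hX
  set P := (Cfsg.pCore p ↥X).map X.subtype with hPdef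
  set A₁ := cA M₁ M₂ with hA₁
  set P₁ := (Cfsg.pCore p ↥A₁).map A₁.subtype with hP₁
  have hA₁X : A₁ ≤ X := cA_le_inf M₁ M₂
  have hPX : P ≤ X := Subgroup.map_subtype_le _
  have hXP : X ≤ normalizer (P : Set G) := le_normalizer_map_subtype_of_normal _
  have hPp : IsPGroup p ↥P := (pCore_isPGroup p).map _
  have hP₁p : IsPGroup p ↥P₁ := (pCore_isPGroup p).map _
  have hP₁A : P₁ ≤ A₁ := Subgroup.map_subtype_le _
  -- Step 1
  have h1 : P ≤ P₁ := le_map_pCore_of_normal hP (hA₁X.trans hXP) hPp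
  -- Step 2
  have h2 : M₁ ≤ normalizer (P₁ : Set G) :=
    (le_normalizer_coreIn M₁ _).trans (normalizer_le_normalizer_map_pCore p A₁)
  -- Step 3
  have hPne : P ≠ ⊥ := by
    intro hbot
    exact hne ((Subgroup.map_eq_bot_iff_of_injective _ X.subtype_injective).mp hbot)
  have hP₁ne : P₁ ≠ ⊥ := by
    intro hbot
    rw [hbot] at h1
    exact hPne (le_bot_iff.mp h1)
  have hP₁M : P₁ ≤ M₁ := hP₁A.trans (coreIn_le_left _ _)
  have h3 : normalizer (P₁ : Set G) ≤ M₁ := h.benderMax P₁ hP₁ne hP₁M h2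
  -- Step 4
  set R := (Cfsg.pCore p ↥M₂).map M₂.subtype with hR
  have hRp : IsPGroup p ↥R := (pCore_isPGroup p).map _
  have hRM : R ≤ M₂ := Subgroup.map_subtype_le _
  have hM₂R : M₂ ≤ normalizer (R : Set G) := le_normalizer_map_subtype_of_normal _
  have hP₁X : P₁ ≤ X := hP₁A.trans hA₁X
  have h4 : R ≤ P₁ := by
    by_contra hcon
    set S := R ⊔ P₁ with hS
    have hSp : IsPGroup p ↥S :=
      IsPGroup.to_sup_of_normal_left' hRp hP₁p ((hP₁X.trans inf_le_right).trans hM₂R)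
    have hlt : P₁ < S := by
      refine lt_of_le_of_ne le_sup_right ?_
      intro heq
      apply hcon
      rw [heq]
      exact le_sup_left
    have hlt2 := lt_inf_normalizer_of_lt p hSp hlt
    have hSM₂ : S ≤ M₂ := sup_le hRM (hP₁X.trans inf_le_right)
    have hXS : X ≤ normalizer (S : Set G) := by
      refine le_trans ?_ (normalizer_inf_le_normalizer_sup R P₁)
      exact le_inf (inf_le_right.trans hM₂R) (inf_le_left.trans h2)
    have hSX : S ⊓ X ≤ P := by
      apply le_map_pCore_of_normal inf_le_right ?_ (hSp.to_le inf_le_left)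
      apply le_normalizer_of_forall_conj_mem
      intro g hg y hy
      refine ⟨?_, ?_⟩
      · exact (Subgroup.mem_normalizer_iff.mp (hXS hg) y).mp hy.1
      · exact X.mul_mem (X.mul_mem hg hy.2) (X.inv_mem hg)
    have hle : S ⊓ normalizer (P₁ : Set G) ≤ P₁ := by
      intro s hs
      apply h1
      apply hSX
      exact ⟨hs.1, h3 hs.2, hSM₂ hs.1⟩
    exact absurd (lt_of_lt_of_le hlt2 hle) (lt_irrefl _)
  -- Step 5
  set R₁ := (Cfsg.pCore p ↥M₁).map M₁.subtype with hR₁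
  have h5 : P₁ ≤ R₁ := le_map_pCore_of_normal hP₁M h2 hP₁p
  have hcard : Nat.card ↥R₁ = Nat.card ↥R := by
    rw [hR₁, hR, Subgroup.card_map_of_injective M₁.subtype_injective,
      Subgroup.card_map_of_injective M₂.subtype_injective, ← map_pCore_mulEquiv p e,
      Subgroup.card_map_of_injective e.injective]
  have heq : R = R₁ := Subgroup.eq_of_le_of_card_ge (h4.trans h5) hcard.le
  have heq2 : P₁ = R := le_antisymm (by rw [heq]; exact h5) h4
  apply h.false_of_both P₁ hP₁ne hP₁M h2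
  rw [heq2]
  exact hM₂R

/-- all `O_p` trivial means trivial Fitting subgroup -/
theorem fittingSubgroup_eq_bot_of_pCore {H : Type u} [Group H] [Finite H]
    (hp : ∀ p : ℕ, p.Prime → Cfsg.pCore p H = ⊥) : Cfsg.fittingSubgroup H = ⊥ := by
  rw [fittingSubgroup_eq_iSup_pCore, eq_bot_iff]
  apply iSup_le
  intro r
  rw [hp r r.2]

/-- a hom whose kernel is in the core and whose image of the two-point stabilizer is
Fitting-free pushes `O_p` of the two-point stabilizer into the core -/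
theorem map_pCore_le_cA {Φ : Type v} [Group Φ] [Finite Φ] (φ : ↥M₁ →* Φ)
    (hker : φ.ker ≤ ((M₁ ⊓ M₂).subgroupOf M₁).normalCore)
    (hF : Cfsg.fittingSubgroup ↥((M₂.subgroupOf M₁).map φ) = ⊥) (p : ℕ) [hpf : Fact p.Prime] :
    (Cfsg.pCore p ↥(M₁ ⊓ M₂)).map (M₁ ⊓ M₂).subtype ≤ cA M₁ M₂ := by
  set X := M₁ ⊓ M₂ with hX
  set P := (Cfsg.pCore p ↥X).map X.subtype with hPdef
  have hPX : P ≤ X := Subgroup.map_subtype_le _
  have hXP : X ≤ normalizer (P : Set G) := le_normalizer_map_subtype_of_normal _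
  have hPp : IsPGroup p ↥P := (pCore_isPGroup p).map _
  set X' : Subgroup ↥M₁ := M₂.subgroupOf M₁ with hX'
  set P' : Subgroup ↥M₁ := P.subgroupOf M₁ with hP'
  set T : Subgroup Φ := X'.map φ with hT
  have hP'X' : P' ≤ X' := fun x hx => (hPX hx).2
  have hnorm' : X' ≤ normalizer (P' : Set ↥M₁) := by
    apply le_normalizer_of_forall_conj_mem
    intro g hg y hy
    have hgX : (g : G) ∈ X := ⟨g.2, hg⟩
    exact (Subgroup.mem_normalizer_iff.mp (hXP hgX) (y : G)).mp hy
  have hTn : T ≤ normalizer ((P'.map φ : Subgroup Φ) : Set Φ) :=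
    (Subgroup.map_mono hnorm').trans (Subgroup.le_normalizer_map φ)
  have hnormal : ((P'.map φ).subgroupOf T).Normal :=
    Subgroup.normal_subgroupOf_of_le_normalizer hTn
  have hpg : IsPGroup p ↥((P'.map φ).subgroupOf T) :=
    ((hPp.comap_subtype).map φ).comap_subtype
  have hle : (P'.map φ).subgroupOf T ≤ Cfsg.fittingSubgroup ↥T :=
    le_fittingSubgroup _ hpg.isNilpotent
  rw [hF] at hle
  have hker' : P' ≤ φ.ker := by
    intro y hy
    rw [MonoidHom.mem_ker]
    have hyT : φ y ∈ T := ⟨y, hP'X' hy, rfl⟩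
    have : (⟨φ y, hyT⟩ : ↥T) ∈ (P'.map φ).subgroupOf T :=
      Subgroup.mem_subgroupOf.mpr ⟨y, hy, rfl⟩
    have h1 := hle this
    rw [Subgroup.mem_bot] at h1
    exact congrArg Subtype.val h1
  intro x hx
  have hxM : x ∈ M₁ := (hPX hx).1
  exact ⟨⟨x, hxM⟩, hker (hker' (Subgroup.mem_subgroupOf.mpr hx)), rfl⟩

/-- if the two-point stabilizer has no normal `q`-subgroups then a second core is trivial -/
theorem cA2_eq_bot_of_pCore (h : Pair M₁ M₂)
    (hp : ∀ p : ℕ, p.Prime → Cfsg.pCore p ↥(M₁ ⊓ M₂) = ⊥) :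
    cA2 M₁ M₂ = ⊥ ∨ cA2 M₂ M₁ = ⊥ := by
  by_contra hcon
  push Not at hcon
  obtain ⟨hA2, hB2⟩ := hcon
  obtain ⟨hl₁, -⟩ := layer_eq_bot_of_pair2 h hA2 hB2
  obtain ⟨q, Q, hq, hQne, hQp, hQA, hQn⟩ := exists_q_sub h hl₁ hA2
  have hQX : Q ≤ M₁ ⊓ M₂ :=
    hQA.trans (((cA2_le_yY M₁ M₂).trans (yY_le_cA M₁ M₂)).trans (cA_le_inf M₁ M₂))
  have := le_map_pCore_of_normal hQX (inf_le_left.trans hQn) hQp
  rw [hp q hq, Subgroup.map_bot] at this
  exact hQne (le_bot_iff.mp this)

end Cfsg.Agent.Helper10.TW
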