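import Mathlib
import Cfsg.Agent.Lib.Helper9.SylowLemmas

set_option autoImplicit false

/-! Conjugating a `q`-subgroup of `S K` (with `K` a normal `p`-subgroup, `S` a `q`-subgroup)
into `S` by an element of `K`. -/

namespace Cfsg.Agent.Helper10.TW

open Subgroup

universe u

theorem exists_conj_le_of_sup_eq_top {H : Type u} [Group H] [Finite H] {p q : ℕ}
    [hp : Fact p.Prime] [hq : Fact q.Prime] (hpq : p ≠ q) (K S T : Subgroup H) [hKn : K.Normal]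
    (hK : IsPGroup p ↥K) (hS : IsPGroup q ↥S) (hT : IsPGroup q ↥T) (hsup : S ⊔ K = ⊤) :
    ∃ u ∈ K, ∀ t ∈ T, u * t * u⁻¹ ∈ S := by
  have hdisj : S ⊓ K = ⊥ := (IsPGroup.disjoint_of_ne q p hpq.symm S K hS hK).eq_bot
  have h1 : K.index = Nat.card ↥S := by
    have h := Subgroup.relIndex_sup_right (H := S) (K := K)
    rw [hsup, Subgroup.relIndex_top_right] at h
    rw [h, ← Subgroup.inf_relIndex_right, inf_comm, hdisj, Subgroup.relIndex_bot_left]
  have h2 : S.index = Nat.card ↥K := by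
    have e1 := Subgroup.card_mul_index S
    have e2 := Subgroup.card_mul_index K
    rw [h1] at e2
    have : Nat.card ↥S * S.index = Nat.card ↥S * Nat.card ↥K := by rw [e1, ← e2, mul_comm]
    exact Nat.eq_of_mul_eq_mul_left Nat.card_pos this
  have hidx : ¬ q ∣ S.index := by
    rw [h2]
    obtain ⟨k, hk⟩ := IsPGroup.iff_card.mp hK
    rw [hk]
    intro hdvd
    have := (Nat.prime_dvd_prime_iff_eq hq.out hp.out).mp (hq.out.dvd_of_dvd_pow hdvd)
    exact hpq this.symm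
  obtain ⟨c, hc⟩ := Cfsg.Agent.Helper9.exists_conj_le_sylow (hS.toSylow hidx) T hT
  have hcmem : c ∈ S ⊔ K := by rw [hsup]; exact Subgroup.mem_top c
  obtain ⟨s₀, hs₀, u₀, hu₀, rfl⟩ := Subgroup.mem_sup_of_normal_right.mp hcmem
  refine ⟨u₀, hu₀, fun t ht => ?_⟩
  have h3 : s₀ * u₀ * t * (s₀ * u₀)⁻¹ ∈ S := hc t ht
  have h4 := S.mul_mem (S.mul_mem (S.inv_mem hs₀) h3) hs₀
  have e : s₀⁻¹ * (s₀ * u₀ * t * (s₀ * u₀)⁻¹) * s₀ = u₀ * t * u₀⁻¹ := by group
  rwa [e] at h4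

theorem exists_conj_le_of_le_sup {G : Type u} [Group G] [Finite G] {p q : ℕ}
    [hp : Fact p.Prime] [hq : Fact q.Prime] (hpq : p ≠ q) (K S T : Subgroup G)
    (hK : IsPGroup p ↥K) (hS : IsPGroup q ↥S) (hT : IsPGroup q ↥T)
    (hn : S ≤ normalizer (K : Set G)) (hTle : T ≤ S ⊔ K) :
    ∃ u ∈ K, ∀ t ∈ T, u * t * u⁻¹ ∈ S := by
  have hKL : K ≤ S ⊔ K := le_sup_right
  have hSL : S ≤ S ⊔ K := le_sup_left
  have hLn : S ⊔ K ≤ normalizer (K : Set G) := sup_le hn Subgroup.le_normalizer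
  have hKn : (K.subgroupOf (S ⊔ K)).Normal := Subgroup.normal_subgroupOf_of_le_normalizer hLn
  have hsup : S.subgroupOf (S ⊔ K) ⊔ K.subgroupOf (S ⊔ K) = ⊤ := by
    rw [← Subgroup.subgroupOf_sup hSL hKL, Subgroup.subgroupOf_self]
  obtain ⟨u, hu, h⟩ := exists_conj_le_of_sup_eq_top hpq (K.subgroupOf (S ⊔ K))
    (S.subgroupOf (S ⊔ K)) (T.subgroupOf (S ⊔ K)) hK.comap_subtype hS.comap_subtype
    hT.comap_subtype hsup
  refine ⟨(u : G), hu, fun t ht => ?_⟩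
  have h5 := h ⟨t, hTle ht⟩ (Subgroup.mem_subgroupOf.mpr ht)
  exact Subgroup.mem_subgroupOf.mp h5

end Cfsg.Agent.Helper10.TW
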