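import Mathlib
import Cfsg.Prelude.Def_EvenTechniques
import Cfsg.Agent.Lib.Helper10.TW6
import Cfsg.Agent.Lib.Helper10.TW7

set_option autoImplicit false

/-! Thompson–Wielandt: the second core is a `p`-group. -/

namespace Cfsg.Agent.Helper10.TW

open Cfsg Subgroup Cfsg.Agent.Helper7

universe u

variable {G : Type u} [Group G]

/-- `O_p(M)` as a subgroup of the ambient group -/
def oP (p : ℕ) (M : Subgroup G) : Subgroup G := (Cfsg.pCore p ↥M).map M.subtype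

theorem oP_le (p : ℕ) (M : Subgroup G) : oP p M ≤ M := Subgroup.map_subtype_le _

theorem le_normalizer_oP (p : ℕ) (M : Subgroup G) : M ≤ normalizer ((oP p M : Subgroup G) : Set G) :=
  le_normalizer_map_subtype_of_normal _

theorem oP_isPGroup (p : ℕ) [Fact p.Prime] (M : Subgroup G) : IsPGroup p ↥(oP p M) :=
  (pCore_isPGroup p).map _

/-- the normal `p`-subgroup `O_p(M₂) ∩ B₁` of `M₂` -/
def kK (p : ℕ) (M₁ M₂ : Subgroup G) : Subgroup G := oP p M₂ ⊓ cA M₂ M₁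

/-- admissible elements: elements of `M₂` centralizing `B₁` modulo `K` -/
def Adm (p : ℕ) (M₁ M₂ : Subgroup G) (x : G) : Prop :=
  x ∈ M₂ ∧ ∀ b ∈ cA M₂ M₁, b * x * b⁻¹ * x⁻¹ ∈ kK p M₁ M₂ ∧ b * x⁻¹ * b⁻¹ * x ∈ kK p M₁ M₂

theorem Adm.inv {p : ℕ} {M₁ M₂ : Subgroup G} {x : G} (h : Adm p M₁ M₂ x) : Adm p M₁ M₂ x⁻¹ := by
  refine ⟨M₂.inv_mem h.1, fun b hb => ?_⟩
  obtain ⟨h1, h2⟩ := h.2 b hb
  constructor
  · rw [inv_inv]; exact h2
  · rw [inv_inv]; exact h1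

theorem conj_mem_of_mem_normalizer' {A : Subgroup G} {m y : G} (hm : m ∈ normalizer (A : Set G))
    (hy : y ∈ A) : m * y * m⁻¹ ∈ A :=
  (Subgroup.mem_normalizer_iff.mp hm y).mp hy

theorem le_normalizer_cA (M₁ M₂ : Subgroup G) :
    M₁ ≤ normalizer ((cA M₁ M₂ : Subgroup G) : Set G) := le_normalizer_coreIn _ _

theorem le_normalizer_cA2 (M₁ M₂ : Subgroup G) :
    M₁ ≤ normalizer ((cA2 M₁ M₂ : Subgroup G) : Set G) := le_normalizer_coreIn _ _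

theorem M₂_le_normalizer_kK (p : ℕ) (M₁ M₂ : Subgroup G) :
    M₂ ≤ normalizer ((kK p M₁ M₂ : Subgroup G) : Set G) := by
  apply le_normalizer_of_forall_conj_mem
  intro m hm y hy
  exact ⟨conj_mem_of_mem_normalizer' (le_normalizer_oP p M₂ hm) hy.1,
    conj_mem_of_mem_normalizer' (le_normalizer_cA M₂ M₁ hm) hy.2⟩

theorem Adm.conj {p : ℕ} {M₁ M₂ : Subgroup G} {x : G} (h : Adm p M₁ M₂ x) {m : G} (hm : m ∈ M₂) :
    Adm p M₁ M₂ (m * x * m⁻¹) := by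
  refine ⟨M₂.mul_mem (M₂.mul_mem hm h.1) (M₂.inv_mem hm), fun b hb => ?_⟩
  have hb' : m⁻¹ * b * m ∈ cA M₂ M₁ := by
    have := conj_mem_of_mem_normalizer' (le_normalizer_cA M₂ M₁ (M₂.inv_mem hm)) hb
    rwa [inv_inv] at this
  obtain ⟨h1, h2⟩ := h.2 _ hb'
  have hmK := M₂_le_normalizer_kK p M₁ M₂ hm
  constructor
  · have := conj_mem_of_mem_normalizer' hmK h1
    have e : m * (m⁻¹ * b * m * x * (m⁻¹ * b * m)⁻¹ * x⁻¹) * m⁻¹ =
        b * (m * x * m⁻¹) * b⁻¹ * (m * x * m⁻¹)⁻¹ := by group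
    rwa [e] at this
  · have := conj_mem_of_mem_normalizer' hmK h2
    have e : m * (m⁻¹ * b * m * x⁻¹ * (m⁻¹ * b * m)⁻¹ * x) * m⁻¹ =
        b * (m * x * m⁻¹)⁻¹ * b⁻¹ * (m * x * m⁻¹) := by group
    rwa [e] at this

theorem comm_mem_kK_of_mem_oP {p : ℕ} {M₁ M₂ : Subgroup G} {x : G} (hx : x ∈ oP p M₂) {b : G}
    (hb : b ∈ cA M₂ M₁) : b * x * b⁻¹ * x⁻¹ ∈ kK p M₁ M₂ := by
  have hbM : b ∈ M₂ := coreIn_le_left _ _ hb
  have hxM : x ∈ M₂ := oP_le p M₂ hx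
  constructor
  · exact (oP p M₂).mul_mem (conj_mem_of_mem_normalizer' (le_normalizer_oP p M₂ hbM) hx)
      ((oP p M₂).inv_mem hx)
  · have h1 := conj_mem_of_mem_normalizer' (le_normalizer_coreIn M₂ _ hxM)
      ((cA M₂ M₁).inv_mem hb)
    have := (cA M₂ M₁).mul_mem hb h1
    have e : b * (x * b⁻¹ * x⁻¹) = b * x * b⁻¹ * x⁻¹ := by group
    rwa [e] at this

theorem adm_of_mem_oP {p : ℕ} {M₁ M₂ : Subgroup G} {x : G} (hx : x ∈ oP p M₂) :
    Adm p M₁ M₂ x := by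
  refine ⟨oP_le p M₂ hx, fun b hb => ⟨comm_mem_kK_of_mem_oP hx hb, ?_⟩⟩
  have := comm_mem_kK_of_mem_oP (M₁ := M₁) ((oP p M₂).inv_mem hx) hb
  rwa [inv_inv] at this

section fin

variable [Finite G] {M₁ M₂ : Subgroup G}

/-- `O_p(M₁) ∩ B₁ ≤ O_p(M₂)` -/
theorem oP_inf_cA_le (p : ℕ) [Fact p.Prime] (M₁ M₂ : Subgroup G) :
    oP p M₁ ⊓ cA M₂ M₁ ≤ oP p M₂ := by
  set I := oP p M₁ ⊓ cA M₂ M₁ with hI
  have hBM₁ : cA M₂ M₁ ≤ M₁ := (cA_le_inf M₂ M₁).trans inf_le_right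
  have hBM₂ : cA M₂ M₁ ≤ M₂ := coreIn_le_left _ _
  have hB1 : ((cA M₂ M₁).subgroupOf M₂).IsSubnormal := by
    have : ((cA M₂ M₁).subgroupOf M₂).Normal := by
      unfold cA
      rw [subgroupOf_coreIn]
      infer_instance
    exact this.isSubnormal
  have hI1 : (I.subgroupOf M₂).IsSubnormal := by
    apply isSubnormal_subgroupOf_step inf_le_right hB1
    apply le_normalizer_of_forall_conj_mem
    intro b hb y hy
    exact ⟨conj_mem_of_mem_normalizer' (le_normalizer_oP p M₁ (hBM₁ hb)) hy.1,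
      (cA M₂ M₁).mul_mem ((cA M₂ M₁).mul_mem hb hy.2) ((cA M₂ M₁).inv_mem hb)⟩
  have hIp : IsPGroup p ↥(I.subgroupOf M₂) := ((oP_isPGroup p M₁).to_le inf_le_left).comap_subtype
  have hle := Cfsg.Agent.Helper14.subnormal_isPGroup_le_pCore hI1 hIp
  intro x hx
  exact ⟨⟨x, hBM₂ hx.2⟩, hle (Subgroup.mem_subgroupOf.mpr hx), rfl⟩

theorem adm_of_mem_oP₁ {p : ℕ} [Fact p.Prime] {y : G} (hy : y ∈ oP p M₁) (hyM : y ∈ M₂) :
    Adm p M₁ M₂ y := by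
  have hBM₁ : cA M₂ M₁ ≤ M₁ := (cA_le_inf M₂ M₁).trans inf_le_right
  have key : ∀ z ∈ oP p M₁, z ∈ M₂ → ∀ b ∈ cA M₂ M₁, b * z * b⁻¹ * z⁻¹ ∈ kK p M₁ M₂ := by
    intro z hz hzM b hb
    have h1 : b * z * b⁻¹ * z⁻¹ ∈ oP p M₁ :=
      (oP p M₁).mul_mem (conj_mem_of_mem_normalizer' (le_normalizer_oP p M₁ (hBM₁ hb)) hz)
        ((oP p M₁).inv_mem hz)
    have h2 : b * z * b⁻¹ * z⁻¹ ∈ cA M₂ M₁ := by
      have h3 := conj_mem_of_mem_normalizer' (le_normalizer_cA M₂ M₁ hzM)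
        ((cA M₂ M₁).inv_mem hb)
      have := (cA M₂ M₁).mul_mem hb h3
      have e : b * (z * b⁻¹ * z⁻¹) = b * z * b⁻¹ * z⁻¹ := by group
      rwa [e] at this
    exact ⟨oP_inf_cA_le p M₁ M₂ ⟨h1, h2⟩, h2⟩
  refine ⟨hyM, fun b hb => ⟨key y hy hyM b hb, ?_⟩⟩
  have := key y⁻¹ ((oP p M₁).inv_mem hy) (M₂.inv_mem hyM) b hb
  rwa [inv_inv] at this

/-- the key conjugation lemma -/
theorem conj_mem_cA2 {p q : ℕ} [hp : Fact p.Prime] [hq : Fact q.Prime] (hpq : p ≠ q) {x : G}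
    (hx : Adm p M₁ M₂ x) {a : G} (ha : a ∈ cA2 M₁ M₂) (haq : ∃ k : ℕ, orderOf a = q ^ k) :
    x⁻¹ * a * x ∈ cA2 M₁ M₂ := by
  set K := kK p M₁ M₂ with hK
  set S := zpowers a with hS
  have hSA : S ≤ cA2 M₁ M₂ := by
    rw [hS, Subgroup.zpowers_le]; exact ha
  have hAB : cA2 M₁ M₂ ≤ cA M₂ M₁ := (cA2_le_yY M₁ M₂).trans (yY_le_cA' M₁ M₂)
  have hBM₂ : cA M₂ M₁ ≤ M₂ := coreIn_le_left _ _
  have hBM₁ : cA M₂ M₁ ≤ M₁ := (cA_le_inf M₂ M₁).trans inf_le_right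
  have hSq : IsPGroup q ↥S := by
    obtain ⟨k, hk⟩ := haq
    apply IsPGroup.of_card (n := k)
    rw [hS, Nat.card_zpowers, hk]
  have hKp : IsPGroup p ↥K := (oP_isPGroup p M₂).to_le inf_le_left
  have hn : S ≤ normalizer (K : Set G) :=
    ((hSA.trans hAB).trans hBM₂).trans (M₂_le_normalizer_kK p M₁ M₂)
  set T := S.map (MulAut.conj x⁻¹).toMonoidHom with hT
  have hTq : IsPGroup q ↥T := hSq.map _
  have hTle : T ≤ S ⊔ K := by
    rintro _ ⟨s, hs, rfl⟩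
    have hsB : s⁻¹ ∈ cA M₂ M₁ := hAB (hSA (S.inv_mem hs))
    have h2 := (hx.2 _ hsB).2
    have e : (MulAut.conj x⁻¹).toMonoidHom s = s * (s⁻¹ * x⁻¹ * s⁻¹⁻¹ * x) := by
      simp [MulAut.conj_apply]
      group
    rw [e]
    exact Subgroup.mul_mem_sup hs h2
  obtain ⟨u, hu, h⟩ := exists_conj_le_of_le_sup hpq K S T hKp hSq hTq hn hTle
  have h1 : u * (x⁻¹ * a * x) * u⁻¹ ∈ cA2 M₁ M₂ := by
    apply hSA
    apply h
    refine ⟨a, Subgroup.mem_zpowers a, ?_⟩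
    simp [MulAut.conj_apply]
  have huM : u⁻¹ ∈ M₁ := M₁.inv_mem (hBM₁ hu.2)
  have := conj_mem_of_mem_normalizer' (le_normalizer_cA2 M₁ M₂ huM) h1
  have e : u⁻¹ * (u * (x⁻¹ * a * x) * u⁻¹) * u⁻¹⁻¹ = x⁻¹ * a * x := by group
  rwa [e] at this

/-- the stabilizer of the set of positions of `a` -/
def stabA (A : Subgroup G) (a : G) : Subgroup G where
  carrier := {h | ∀ g : G, g⁻¹ * a * g ∈ A ↔ (g * h)⁻¹ * a * (g * h) ∈ A}
  one_mem' := by intro g; simp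
  mul_mem' := by
    intro h₁ h₂ hh₁ hh₂ g
    rw [hh₁ g, hh₂ (g * h₁), mul_assoc g h₁ h₂]
  inv_mem' := by
    intro h hh g
    have := hh (g * h⁻¹)
    rw [inv_mul_cancel_right] at this
    exact this.symm

theorem mem_stabA_iff (A : Subgroup G) (a h : G) :
    h ∈ stabA A a ↔ ∀ g : G, g⁻¹ * a * g ∈ A ↔ (g * h)⁻¹ * a * (g * h) ∈ A := Iff.rfl

theorem orderOf_conj' (g a : G) : orderOf (g⁻¹ * a * g) = orderOf a := by
  have := orderOf_injective (MulAut.conj g⁻¹).toMonoidHom (MulAut.conj g⁻¹).injective a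
  simpa [MulAut.conj_apply] using this

theorem adm_mem_stabA {p q : ℕ} [hp : Fact p.Prime] [hq : Fact q.Prime] (hpq : p ≠ q) {x : G}
    (hx : Adm p M₁ M₂ x) {a : G} (haq : ∃ k : ℕ, orderOf a = q ^ k) :
    x ∈ stabA (cA2 M₁ M₂) a := by
  intro g
  constructor
  · intro hg
    have haq' : ∃ k : ℕ, orderOf (g⁻¹ * a * g) = q ^ k := by rw [orderOf_conj']; exact haq
    have := conj_mem_cA2 hpq hx hg haq'
    have e : x⁻¹ * (g⁻¹ * a * g) * x = (g * x)⁻¹ * a * (g * x) := by group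
    rwa [e] at this
  · intro hg
    have haq' : ∃ k : ℕ, orderOf ((g * x)⁻¹ * a * (g * x)) = q ^ k := by
      rw [orderOf_conj']; exact haq
    have := conj_mem_cA2 hpq hx.inv hg haq'
    have e : x⁻¹⁻¹ * ((g * x)⁻¹ * a * (g * x)) * x⁻¹ = g⁻¹ * a * g := by group
    rwa [e] at this

theorem le_stabA (M₁ M₂ : Subgroup G) (a : G) : M₁ ≤ stabA (cA2 M₁ M₂) a := by
  intro m hm g
  have hn := le_normalizer_cA2 M₁ M₂ (M₁.inv_mem hm)
  have := Subgroup.mem_normalizer_iff.mp hn (g⁻¹ * a * g)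
  have e : m⁻¹ * (g⁻¹ * a * g) * m⁻¹⁻¹ = (g * m)⁻¹ * a * (g * m) := by group
  rw [e] at this
  exact this

/-- Thompson–Wielandt: the second core is a `p`-group for every prime `p` with `O_p(M₁) ≠ 1` -/
theorem isPGroup_cA2 (h : Pair M₁ M₂) (e : ↥M₁ ≃* ↥M₂) (p : ℕ) [hp : Fact p.Prime]
    (hQ : Cfsg.pCore p ↥M₁ ≠ ⊥) : IsPGroup p ↥(cA2 M₁ M₂) := by
  set Q₁ := oP p M₁ with hQ₁
  set Q₂ := oP p M₂ with hQ₂
  have hQ₁p : IsPGroup p ↥Q₁ := oP_isPGroup p M₁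
  have hQ₂p : IsPGroup p ↥Q₂ := oP_isPGroup p M₂
  have hcard : Nat.card ↥Q₁ = Nat.card ↥Q₂ := by
    rw [hQ₁, hQ₂, oP, oP, Subgroup.card_map_of_injective M₁.subtype_injective,
      Subgroup.card_map_of_injective M₂.subtype_injective, ← map_pCore_mulEquiv p e,
      Subgroup.card_map_of_injective e.injective]
  have hQ₁ne : Q₁ ≠ ⊥ := by
    intro hbot
    exact hQ ((Subgroup.map_eq_bot_iff_of_injective _ M₁.subtype_injective).mp hbot)
  have hQ₂ne : Q₂ ≠ ⊥ := by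
    intro hbot
    rw [hbot, Subgroup.card_bot] at hcard
    exact hQ₁ne (Subgroup.card_eq_one.mp hcard)
  by_cases hall : ∀ x, Adm p M₁ M₂ x → x ∈ M₁
  · exfalso
    have hQ₂M₁ : Q₂ ≤ M₁ := fun x hx => hall x (adm_of_mem_oP hx)
    have hQ₂M₂ : Q₂ ≤ M₂ := oP_le p M₂
    have hQ₁M₁ : Q₁ ≤ M₁ := oP_le p M₁
    have hinf : Q₁ ⊓ M₂ ≤ Q₂ := by
      intro y hy
      apply oP_inf_cA_le p M₁ M₂
      refine ⟨hy.1, ?_⟩
      refine ⟨⟨y, hy.2⟩, ?_, rfl⟩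
      intro m
      rw [Subgroup.mem_subgroupOf]
      have hadm := (adm_of_mem_oP₁ (M₂ := M₂) hy.1 hy.2).conj m.2
      exact ⟨hadm.1, hall _ hadm⟩
    have hN₂ : normalizer (Q₂ : Set G) ≤ M₂ :=
      h.symm.benderMax Q₂ hQ₂ne hQ₂M₂ (le_normalizer_oP p M₂)
    have hle : Q₁ ≤ Q₂ := by
      by_contra hcon
      set W := Q₁ ⊔ Q₂ with hW
      have hWp : IsPGroup p ↥W :=
        IsPGroup.to_sup_of_normal_left' hQ₁p hQ₂p (hQ₂M₁.trans (le_normalizer_oP p M₁))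
      have hlt : Q₂ < W := by
        refine lt_of_le_of_ne le_sup_right ?_
        intro heq
        apply hcon
        rw [heq]
        exact le_sup_left
      have hlt2 := lt_inf_normalizer_of_lt p hWp hlt
      have hle2 : W ⊓ normalizer (Q₂ : Set G) ≤ Q₂ := by
        intro w hw
        have hwM₂ : w ∈ M₂ := hN₂ hw.2
        -- decompose `w` inside `M₁`
        have hmap : W = (Cfsg.pCore p ↥M₁ ⊔ Q₂.subgroupOf M₁).map M₁.subtype := by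
          rw [Subgroup.map_sup, Subgroup.map_subgroupOf_eq_of_le hQ₂M₁]
          rfl
        have hw1 : w ∈ (Cfsg.pCore p ↥M₁ ⊔ Q₂.subgroupOf M₁).map M₁.subtype := by
          rw [← hmap]; exact hw.1
        obtain ⟨w', hw', rfl⟩ := hw1
        obtain ⟨a, ha, b, hb, rfl⟩ := Subgroup.mem_sup_of_normal_left.mp hw'
        have hbQ : (b : G) ∈ Q₂ := Subgroup.mem_subgroupOf.mp hb
        have haQ : (a : G) ∈ Q₁ := ⟨a, ha, rfl⟩
        have haM₂ : (a : G) ∈ M₂ := by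
          have := M₂.mul_mem hwM₂ (M₂.inv_mem (hQ₂M₂ hbQ))
          simpa using this
        have := Q₂.mul_mem (hinf ⟨haQ, haM₂⟩) hbQ
        simpa using this
      exact absurd (lt_of_lt_of_le hlt2 hle2) (lt_irrefl _)
    have heq : Q₁ = Q₂ := Subgroup.eq_of_le_of_card_ge hle hcard.ge
    apply h.false_of_both Q₁ hQ₁ne hQ₁M₁ (le_normalizer_oP p M₁)
    rw [heq]
    exact le_normalizer_oP p M₂
  · push Not at hall
    obtain ⟨x, hx, hxM⟩ := hall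
    by_contra hnp
    -- a prime `q ≠ p` dividing the order
    have hex : ∃ q : ℕ, q.Prime ∧ q ∣ Nat.card ↥(cA2 M₁ M₂) ∧ q ≠ p := by
      by_contra hcon
      push Not at hcon
      apply hnp
      have := Nat.eq_prime_pow_of_unique_prime_dvd (n := Nat.card ↥(cA2 M₁ M₂)) (p := p)
        Nat.card_pos.ne' (fun {d} hd hdvd => hcon d hd hdvd)
      exact IsPGroup.of_card this
    obtain ⟨q, hq, hqd, hqp⟩ := hex
    have hqf : Fact q.Prime := ⟨hq⟩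
    obtain ⟨a', ha'⟩ := exists_prime_orderOf_dvd_card' q hqd
    set a : G := (a' : G) with ha
    have hord : orderOf a = q := by rw [ha, Subgroup.orderOf_coe]; exact ha'
    have haq : ∃ k : ℕ, orderOf a = q ^ k := ⟨1, by rw [hord, pow_one]⟩
    have hxs : x ∈ stabA (cA2 M₁ M₂) a := adm_mem_stabA (Ne.symm hqp) hx haq
    have hlt : M₁ < stabA (cA2 M₁ M₂) a :=
      lt_of_le_of_ne (le_stabA M₁ M₂ a) (fun heq => hxM (heq ▸ hxs))
    have htop : stabA (cA2 M₁ M₂) a = ⊤ := h.co₁.2 _ hlt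
    have hcore : a ∈ M₁.normalCore := by
      intro b
      have hb : b⁻¹ ∈ stabA (cA2 M₁ M₂) a := by rw [htop]; exact Subgroup.mem_top _
      have := (hb 1).mp (by rw [inv_one, one_mul, mul_one]; exact a'.2)
      have h3 : b * a * b⁻¹ ∈ cA2 M₁ M₂ := by simpa using this
      exact coreIn_le_left _ _ h3
    rw [h.core₁, Subgroup.mem_bot] at hcore
    rw [hcore, orderOf_one] at hord
    exact hq.one_lt.ne hord

end fin

end Cfsg.Agent.Helper10.TW
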