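import Mathlib
import Cfsg.Prelude.Def_EvenTechniques
import Cfsg.Agent.Lib.Helper10.TW8

set_option autoImplicit false

/-! Thompson–Wielandt: the full statement for a pair of conjugate core-free maximal subgroups. -/

namespace Cfsg.Agent.Helper10.TW

open Cfsg Subgroup Cfsg.Agent.Helper7 Cfsg.Agent.Helper10.CharPChain

universe u

variable {G : Type u} [Group G] [Finite G] {M₁ M₂ : Subgroup G}

theorem fstar_eq_pCore_of_isPGroup {H : Type u} [Group H] [Finite H] (p : ℕ) [Fact p.Prime]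
    (h : IsPGroup p ↥(Cfsg.generalizedFittingSubgroup H)) :
    Cfsg.generalizedFittingSubgroup H = Cfsg.pCore p H :=
  le_antisymm (le_pCore inferInstance h)
    ((pCore_le_fittingSubgroup p).trans fittingSubgroup_le_generalizedFittingSubgroup)

theorem fstar_cA_eq (p : ℕ) [Fact p.Prime] (M₁ M₂ : Subgroup G)
    (h : IsPGroup p ↥(Cfsg.generalizedFittingSubgroup ↥M₁)) :
    Cfsg.generalizedFittingSubgroup ↥(cA M₁ M₂) = Cfsg.pCore p ↥(cA M₁ M₂) := by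
  have hc := (isPGroup_generalizedFittingSubgroup_iff p).mp h
  have h1 := charp_of_normal p (((M₁ ⊓ M₂).subgroupOf M₁).normalCore) hc
  have e := Subgroup.equivMapOfInjective (((M₁ ⊓ M₂).subgroupOf M₁).normalCore) M₁.subtype
    M₁.subtype_injective
  have h2 := centralizer_pCore_le_of_mulEquiv p e h1
  exact generalizedFittingSubgroup_eq_pCore_of_centralizer_le p h2

theorem pCore_ne_bot_of_isPGroup {H : Type u} [Group H] [Finite H] [Nontrivial H] (p : ℕ)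
    [Fact p.Prime] (h : IsPGroup p ↥(Cfsg.generalizedFittingSubgroup H)) :
    Cfsg.pCore p H ≠ ⊥ := by
  intro hbot
  have h1 := fstar_eq_pCore_of_isPGroup p h
  rw [hbot] at h1
  have h2 := centralizer_generalizedFittingSubgroup_le (G := H)
  rw [h1] at h2
  obtain ⟨x, hx⟩ := exists_ne (1 : H)
  apply hx
  have : x ∈ centralizer (((⊥ : Subgroup H) : Subgroup H) : Set H) := by
    rw [Subgroup.mem_centralizer_iff]
    intro y hy
    have hy' : y = 1 := Subgroup.mem_bot.mp hy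
    rw [hy']; simp
  exact Subgroup.mem_bot.mp (h2 this)

/-- the full Thompson–Wielandt theorem -/
theorem tw_full (h : Pair M₁ M₂) (e : ↥M₁ ≃* ↥M₂) (hA2 : cA2 M₁ M₂ ≠ ⊥) (hB2 : cA2 M₂ M₁ ≠ ⊥) :
    ∃ p : ℕ, p.Prime ∧ IsPGroup p ↥(cA2 M₁ M₂) ∧ IsPGroup p ↥(cA2 M₂ M₁) ∧
      IsPGroup p ↥(cA2 M₁ M₂ ⊔ cA2 M₂ M₁) ∧
      Cfsg.generalizedFittingSubgroup ↥M₁ = Cfsg.pCore p ↥M₁ ∧
      Cfsg.generalizedFittingSubgroup ↥(cA M₁ M₂) = Cfsg.pCore p ↥(cA M₁ M₂) ∧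
      Cfsg.generalizedFittingSubgroup ↥M₂ = Cfsg.pCore p ↥M₂ ∧
      Cfsg.generalizedFittingSubgroup ↥(cA M₂ M₁) = Cfsg.pCore p ↥(cA M₂ M₁) := by
  obtain ⟨p, hp, hp1, hp2⟩ := tw_weak h hA2 hB2
  have hpf : Fact p.Prime := ⟨hp⟩
  have hnt₁ : Nontrivial ↥M₁ := by
    obtain ⟨x, hx, hx1⟩ := (Subgroup.ne_bot_iff_exists_ne_one).mp hA2 |> fun ⟨x, hx⟩ =>
      (⟨(x : G), x.2, fun h => hx (Subtype.ext h)⟩ : ∃ y : G, y ∈ cA2 M₁ M₂ ∧ y ≠ 1)
    refine ⟨⟨⟨x, coreIn_le_left _ _ hx⟩, 1, ?_⟩⟩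
    intro heq
    exact hx1 (congrArg Subtype.val heq)
  have hnt₂ : Nontrivial ↥M₂ := by
    obtain ⟨x, hx, hx1⟩ := (Subgroup.ne_bot_iff_exists_ne_one).mp hB2 |> fun ⟨x, hx⟩ =>
      (⟨(x : G), x.2, fun h => hx (Subtype.ext h)⟩ : ∃ y : G, y ∈ cA2 M₂ M₁ ∧ y ≠ 1)
    refine ⟨⟨⟨x, coreIn_le_left _ _ hx⟩, 1, ?_⟩⟩
    intro heq
    exact hx1 (congrArg Subtype.val heq)
  have hQ₁ := pCore_ne_bot_of_isPGroup p hp1
  have hQ₂ := pCore_ne_bot_of_isPGroup p hp2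
  have hA := isPGroup_cA2 h e p hQ₁
  have hB := isPGroup_cA2 h.symm e.symm p hQ₂
  refine ⟨p, hp, hA, hB, ?_, fstar_eq_pCore_of_isPGroup p hp1, fstar_cA_eq p M₁ M₂ hp1,
    fstar_eq_pCore_of_isPGroup p hp2, fstar_cA_eq p M₂ M₁ hp2⟩
  apply IsPGroup.to_sup_of_normal_left' hA hB
  refine le_trans ?_ (le_normalizer_cA2 M₁ M₂)
  exact (((cA2_le_yY' M₁ M₂).trans (yY_le_cA M₁ M₂)).trans (cA_le_inf M₁ M₂)).trans inf_le_left

end Cfsg.Agent.Helper10.TW
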