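import Mathlib
import Cfsg.Agent.Lib.Helper10.Tutte1

set_option autoImplicit false

/-! Abstract Tutte, second part: the sequence of involutions `e i` along the line and the basic
calculus with them. -/

namespace Cfsg.Agent.Helper10.Tutte

open Subgroup

universe u

section gen

variable {G : Type u} [Group G]

theorem commute_of_mem_closure {S T : Set G} (hST : ∀ x ∈ S, ∀ y ∈ T, Commute x y) {a b : G}
    (ha : a ∈ closure S) (hb : b ∈ closure T) : Commute a b := by
  have h1 : ∀ x ∈ S, Commute x b := by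
    intro x hx
    induction hb using Subgroup.closure_induction with
    | mem y hy => exact hST x hx y hy
    | one => exact Commute.one_right x
    | mul y z _ _ hy hz => exact hy.mul_right hz
    | inv y _ hy => exact hy.inv_right
  induction ha using Subgroup.closure_induction with
  | mem x hx => exact h1 x hx
  | one => exact Commute.one_left b
  | mul y z _ _ hy hz => exact hy.mul_left hz
  | inv y _ hy => exact hy.inv_left

theorem commute_of_mem_closure_right {T : Set G} {a : G} (hT : ∀ y ∈ T, Commute a y) {b : G}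
    (hb : b ∈ closure T) : Commute a b := by
  apply commute_of_mem_closure (S := {a}) _ (subset_closure (Set.mem_singleton a)) hb
  intro x hx y hy
  rw [Set.mem_singleton_iff] at hx
  rw [hx]; exact hT y hy

theorem sq_eq_one_of_mem_closure {S : Set G} (hc : ∀ x ∈ S, ∀ y ∈ S, Commute x y)
    (hs : ∀ x ∈ S, x * x = 1) {a : G} (ha : a ∈ closure S) : a * a = 1 := by
  induction ha using Subgroup.closure_induction with
  | mem x hx => exact hs x hx
  | one => simp
  | mul y z hy hz h1 h2 =>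
    have hyz : Commute y z := commute_of_mem_closure hc hy hz
    calc y * z * (y * z) = y * (z * y) * z := by group
      _ = y * (y * z) * z := by rw [hyz.eq]
      _ = (y * y) * (z * z) := by group
      _ = 1 := by rw [h1, h2, mul_one]
  | inv y _ hy => rw [← mul_inv_rev, hy, inv_one]

theorem mem_normalizer_closure_of_invol {S : Set G} {g : G} (hg : g * g = 1)
    (h : ∀ x ∈ S, g * x * g⁻¹ ∈ closure S) :
    g ∈ normalizer ((closure S : Subgroup G) : Set G) := by
  have hfw : ∀ y ∈ closure S, g * y * g⁻¹ ∈ closure S := by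
    intro y hy
    induction hy using Subgroup.closure_induction with
    | mem x hx => exact h x hx
    | one => simp
    | mul y z _ _ h1 h2 =>
      have : g * (y * z) * g⁻¹ = (g * y * g⁻¹) * (g * z * g⁻¹) := by group
      rw [this]; exact mul_mem h1 h2
    | inv y _ h1 =>
      have : g * y⁻¹ * g⁻¹ = (g * y * g⁻¹)⁻¹ := by group
      rw [this]; exact inv_mem h1
  rw [Subgroup.mem_normalizer_iff]
  intro y
  constructor
  · exact hfw y
  · intro hy
    have h2 := hfw _ hy
    have hginv : g⁻¹ = g := inv_eq_of_mul_eq_one_right hg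
    have : g * (g * y * g⁻¹) * g⁻¹ = y := by
      rw [hginv]
      calc g * (g * y * g) * g = (g * g) * y * (g * g) := by group
        _ = y := by rw [hg, one_mul, mul_one]
    rwa [this] at h2

/-- the translates of an element along `h` -/
def ee (h e0 : G) (i : ℤ) : G := h ^ i * e0 * (h ^ i)⁻¹

theorem conj_ee (h e0 : G) (n i : ℤ) :
    h ^ n * ee h e0 i * (h ^ n)⁻¹ = ee h e0 (i + n) := by
  unfold ee
  rw [add_comm, zpow_add]; group

theorem conj_h_ee (h e0 : G) (i : ℤ) : h * ee h e0 i * h⁻¹ = ee h e0 (i + 1) := by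
  have := conj_ee h e0 1 i
  rwa [zpow_one] at this

theorem commute_ee_shift (h e0 : G) (n i j : ℤ) :
    Commute (ee h e0 (i + n)) (ee h e0 (j + n)) ↔ Commute (ee h e0 i) (ee h e0 j) := by
  rw [← conj_ee h e0 n i, ← conj_ee h e0 n j]
  exact Commute.conj_iff (h ^ n)

theorem mem_K_union {B : Subgroup G} {h : G} {a b c d a' b' : ℤ} {x : G} (h1 : x ∈ K B h a b)
    (h2 : x ∈ K B h c d)
    (hsub : ∀ k : ℤ, a' ≤ k → k < b' → (a ≤ k ∧ k < b) ∨ (c ≤ k ∧ k < d)) :
    x ∈ K B h a' b' := by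
  rw [mem_K] at h1 h2 ⊢
  intro k hk1 hk2
  rcases hsub k hk1 hk2 with h3 | h3
  · exact h1 k h3.1 h3.2
  · exact h2 k h3.1 h3.2

end gen

section cfg

variable {G : Type u} [Group G] [Finite G]

/-- the configuration reached after the first part, with a chosen involution fixing a stretch
of length `s - 1` -/
structure Cfg (B : Subgroup G) (h : G) (s : ℕ) (e0 : G) : Prop where
  hs : 3 ≤ s
  card : ∀ (a : ℤ) (m : ℕ), 1 ≤ m → m ≤ s → Nat.card ↥(K B h a (a + m)) = 2 ^ (s - m)
  bot : ∀ a b : ℤ, a + s ≤ b → K B h a b = ⊥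
  gen : Bk B h (-1) ⊔ Bk B h 0 ⊔ Bk B h 1 = ⊤
  core : ∀ R : Subgroup G, R ≤ B → R.Normal → R = ⊥
  mem : e0 ∈ K B h 0 ((s : ℤ) - 1)
  ne : e0 ≠ 1

variable {B : Subgroup G} {h : G} {s : ℕ} {e0 : G}

theorem Cfg.cardK (C : Cfg B h s e0) {a b : ℤ} (m : ℕ) (hb : b = a + m) (h1 : 1 ≤ m)
    (h2 : m ≤ s) : Nat.card ↥(K B h a b) = 2 ^ (s - m) := by
  rw [hb]; exact C.card a m h1 h2

theorem Cfg.card_two (C : Cfg B h s e0) {a b a' b' : ℤ} (m : ℕ) (hm : b = a + m)
    (hm' : b' = a' + (m : ℤ) + 1) (h1 : 1 ≤ m) (h2 : m + 1 ≤ s) :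
    Nat.card ↥(K B h a b) = 2 * Nat.card ↥(K B h a' b') := by
  rw [C.cardK m hm h1 (by omega), C.cardK (m + 1) (by rw [hm']; push_cast; ring) (by omega) h2]
  have : s - m = (s - (m + 1)) + 1 := by omega
  rw [this, pow_succ]; ring

theorem Cfg.ee_mem (C : Cfg B h s e0) (i : ℤ) : ee h e0 i ∈ K B h i (i + s - 1) := by
  have := conj_mem_cj (g := h ^ i) C.mem
  rw [cj_K] at this
  have e1 : (0 : ℤ) + i = i := zero_add i
  have e2 : (s : ℤ) - 1 + i = i + s - 1 := by ring
  rw [e1, e2] at this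
  exact this

theorem Cfg.ee_mem_K (C : Cfg B h s e0) {i a b : ℤ} (h1 : i ≤ a) (h2 : b ≤ i + s - 1) :
    ee h e0 i ∈ K B h a b := K_anti h1 h2 (C.ee_mem i)

theorem Cfg.ee_ne (C : Cfg B h s e0) (i : ℤ) : ee h e0 i ≠ 1 := by
  unfold ee
  intro hh
  apply C.ne
  have : e0 = (h ^ i)⁻¹ * (h ^ i * e0 * (h ^ i)⁻¹) * h ^ i := by group
  rw [this, hh]; group

theorem Cfg.eq_one_or (C : Cfg B h s e0) (i : ℤ) {x : G} (hx : x ∈ K B h i (i + s - 1)) :
    x = 1 ∨ x = ee h e0 i := by
  have hs := C.hs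
  have hc : Nat.card ↥(K B h i (i + s - 1)) = 2 := by
    rw [C.cardK (s - 1) (by omega) (by omega) (by omega)]
    have : s - (s - 1) = 1 := by omega
    rw [this, pow_one]
  by_contra hcon
  push_neg at hcon
  obtain ⟨y, _, hy⟩ := (Nat.card_eq_two_iff' (1 : ↥(K B h i (i + s - 1)))).mp hc
  have h1 := hy ⟨x, hx⟩ (fun hh => hcon.1 (congrArg Subtype.val hh))
  have h2 := hy ⟨ee h e0 i, C.ee_mem i⟩ (fun hh => C.ee_ne i (congrArg Subtype.val hh))
  apply hcon.2
  have := h1.trans h2.symm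
  exact congrArg Subtype.val this

theorem Cfg.ee_sq (C : Cfg B h s e0) (i : ℤ) : ee h e0 i * ee h e0 i = 1 := by
  rcases C.eq_one_or i (mul_mem (C.ee_mem i) (C.ee_mem i)) with h1 | h1
  · exact h1
  · exfalso
    apply C.ee_ne i
    calc ee h e0 i = (ee h e0 i)⁻¹ * (ee h e0 i * ee h e0 i) := by group
      _ = (ee h e0 i)⁻¹ * ee h e0 i := by rw [h1]
      _ = 1 := by group

theorem Cfg.ee_inv (C : Cfg B h s e0) (i : ℤ) : (ee h e0 i)⁻¹ = ee h e0 i :=
  inv_eq_of_mul_eq_one_right (C.ee_sq i)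

theorem Cfg.ee_not_mem_left (C : Cfg B h s e0) {i a b : ℤ} (h1 : a ≤ i - 1) (h2 : i ≤ b) :
    ee h e0 i ∉ K B h a b := by
  intro hmem
  have h3 : ee h e0 i ∈ K B h (i - 1) (i + s - 1) :=
    mem_K_union hmem (C.ee_mem i) (by intro k hk1 hk2; omega)
  rw [C.bot (i - 1) (i + s - 1) (by omega), Subgroup.mem_bot] at h3
  exact C.ee_ne i h3

theorem Cfg.ee_not_mem_right (C : Cfg B h s e0) {i a b : ℤ} (h1 : a ≤ i + s - 1)
    (h2 : i + s ≤ b) : ee h e0 i ∉ K B h a b := by
  intro hmem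
  have h3 : ee h e0 i ∈ K B h i (i + s) :=
    mem_K_union hmem (C.ee_mem i) (by intro k hk1 hk2; omega)
  rw [C.bot i (i + s) (by omega), Subgroup.mem_bot] at h3
  exact C.ee_ne i h3

/-- splitting an element of a stretch stabilizer along a subgroup of index two -/
theorem Cfg.split (C : Cfg B h s e0) {a b a' b' : ℤ} (m : ℕ) (hm : b = a + m)
    (hm' : b' = a' + (m : ℤ) + 1) (h1 : 1 ≤ m) (h2 : m + 1 ≤ s) (ha : a' ≤ a) (hb : b ≤ b')
    {x y : G} (hx : x ∈ K B h a b) (hy : y ∈ K B h a b) (hx' : x ∉ K B h a' b')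
    (hy' : y ∉ K B h a' b') : x * y⁻¹ ∈ K B h a' b' :=
  mul_inv_mem_of_not_mem (K_anti ha hb) (C.card_two m hm hm' h1 h2) hx hy hx' hy'

theorem Cfg.conj_mem (C : Cfg B h s e0) {a b a' b' : ℤ} (m : ℕ) (hm : b = a + m)
    (hm' : b' = a' + (m : ℤ) + 1) (h1 : 1 ≤ m) (h2 : m + 1 ≤ s) (ha : a' ≤ a) (hb : b ≤ b')
    {x y : G} (hx : x ∈ K B h a b) (hy : y ∈ K B h a' b') : x * y * x⁻¹ ∈ K B h a' b' :=
  conj_mem_of_card (K_anti ha hb) (C.card_two m hm hm' h1 h2) hx hy

theorem Cfg.K_eq_closure (C : Cfg B h s e0) : ∀ (d : ℕ) (i j : ℤ), j = i + d → j ≤ i + s - 2 →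
    K B h j (i + s - 1) = closure (ee h e0 '' Set.Icc i j) := by
  intro d
  induction d with
  | zero =>
    intro i j hj _
    have hji : j = i := by rw [hj]; simp
    rw [hji, Set.Icc_self, Set.image_singleton]
    apply le_antisymm
    · intro x hx
      rcases C.eq_one_or i hx with h1 | h1
      · rw [h1]; exact one_mem _
      · rw [h1]; exact subset_closure (Set.mem_singleton _)
    · rw [closure_le, Set.singleton_subset_iff]
      exact C.ee_mem i
  | succ d ih =>
    intro i j hj hjs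
    push_cast at hj
    have hs := C.hs
    have ih1 := ih i (j - 1) (by omega) (by omega)
    have ih2 := ih (i + 1) j (by omega) (by omega)
    have e2 : i + 1 + (s : ℤ) - 1 = i + s := by ring
    rw [e2] at ih2
    obtain ⟨m, hm⟩ : ∃ m : ℕ, i + s - 1 = j + m := ⟨(i + s - 1 - j).toNat, by omega⟩
    have hm1 : 1 ≤ m := by omega
    have hm2 : m + 2 ≤ s := by omega
    have hsup : K B h (j - 1) (i + s - 1) ⊔ K B h j (i + s) = K B h j (i + s - 1) := by
      apply sup_eq_of_card (K_anti (by omega) le_rfl) (K_anti le_rfl (by omega))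
      · exact C.card_two m hm (by omega) hm1 (by omega)
      · exact C.card_two m hm (by omega) hm1 (by omega)
      · intro heq
        have hinf : K B h (j - 1) (i + s - 1) ⊓ K B h j (i + s) = K B h (j - 1) (i + s) :=
          K_inf (by omega) (by omega) (by omega)
        rw [← heq, inf_idem] at hinf
        have hc := C.card_two (a := j - 1) (b := i + s - 1) (a' := j - 1) (b' := i + s) (m + 1)
          (by push_cast; omega) (by push_cast; omega) (by omega) (by omega)
        rw [← hinf] at hc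
        have : 0 < Nat.card ↥(K B h (j - 1) (i + s - 1)) := Nat.card_pos
        omega
    rw [← hsup, ih1, ih2, ← Subgroup.closure_union, ← Set.image_union]
    congr 2
    ext k
    simp only [Set.mem_union, Set.mem_Icc]
    omega

theorem Cfg.K_le_closure (C : Cfg B h s e0) (j b : ℤ) (hjb : j < b) :
    K B h j b ≤ closure (ee h e0 '' Set.Icc (b - s + 1) j) := by
  by_cases hij : b - s + 1 ≤ j
  · obtain ⟨d, hd⟩ : ∃ d : ℕ, j = (b - s + 1) + d := ⟨(j - (b - s + 1)).toNat, by omega⟩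
    have := C.K_eq_closure d (b - s + 1) j hd (by omega)
    have e : b - (s : ℤ) + 1 + s - 1 = b := by ring
    rw [e] at this
    rw [this]
  · rw [C.bot j b (by omega)]
    exact bot_le

theorem Cfg.Bk_le_closure (C : Cfg B h s e0) (k a b : ℤ) (ha : a ≤ k - s + 2) (hb : k ≤ b) :
    Bk B h k ≤ closure (ee h e0 '' Set.Icc a b) := by
  rw [← K_single]
  refine (C.K_le_closure k (k + 1) (by omega)).trans ?_
  apply Subgroup.closure_mono
  apply Set.image_mono
  apply Set.Icc_subset_Icc <;> omega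

theorem Cfg.gen_shift (C : Cfg B h s e0) (k : ℤ) :
    Bk B h (k - 1) ⊔ Bk B h k ⊔ Bk B h (k + 1) = ⊤ := by
  have := congrArg (cj (h ^ k)) C.gen
  rw [cj_top, cj_sup, cj_sup, cj_Bk, cj_Bk, cj_Bk] at this
  have e1 : (-1 : ℤ) + k = k - 1 := by ring
  have e2 : (0 : ℤ) + k = k := by ring
  have e3 : (1 : ℤ) + k = k + 1 := by ring
  rwa [e1, e2, e3] at this

theorem Cfg.top_le_closure (C : Cfg B h s e0) (k a b : ℤ) (ha : a ≤ k - s + 1) (hb : k + 1 ≤ b) :
    (⊤ : Subgroup G) ≤ closure (ee h e0 '' Set.Icc a b) := by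
  rw [← C.gen_shift k]
  exact sup_le (sup_le (C.Bk_le_closure _ a b (by omega) (by omega))
    (C.Bk_le_closure _ a b (by omega) (by omega))) (C.Bk_le_closure _ a b (by omega) (by omega))

/-- the commutator of `e i` and `e j` fixes a longer stretch -/
theorem Cfg.comm_mem (C : Cfg B h s e0) {i j : ℤ} (hij : i < j) (hj : j ≤ i + s - 2) :
    ee h e0 i * ee h e0 j * ee h e0 i * ee h e0 j ∈ K B h (j - 1) (i + s) := by
  have hs := C.hs
  obtain ⟨m, hm⟩ : ∃ m : ℕ, i + s - 1 = j + m := ⟨(i + s - 1 - j).toNat, by omega⟩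
  have hm1 : 1 ≤ m := by omega
  have hm2 : m + 1 ≤ s := by omega
  have hiL : ee h e0 i ∈ K B h j (i + s - 1) := C.ee_mem_K (by omega) (by omega)
  have hjL : ee h e0 j ∈ K B h j (i + s - 1) := C.ee_mem_K (by omega) (by omega)
  have hj1 : ee h e0 j ∈ K B h j (i + s) := C.ee_mem_K (by omega) (by omega)
  have hi2 : ee h e0 i ∈ K B h (j - 1) (i + s - 1) := C.ee_mem_K (by omega) (by omega)
  have h1 : ee h e0 i * ee h e0 j * (ee h e0 i)⁻¹ ∈ K B h j (i + s) :=
    C.conj_mem m hm (by omega) hm1 hm2 le_rfl (by omega) hiL hj1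
  have h2 : ee h e0 j * ee h e0 i * (ee h e0 j)⁻¹ ∈ K B h (j - 1) (i + s - 1) :=
    C.conj_mem m hm (by omega) hm1 hm2 (by omega) le_rfl hjL hi2
  rw [C.ee_inv] at h1 h2
  have h3 : ee h e0 i * ee h e0 j * ee h e0 i * ee h e0 j ∈ K B h j (i + s) := mul_mem h1 hj1
  have h4 : ee h e0 i * ee h e0 j * ee h e0 i * ee h e0 j ∈ K B h (j - 1) (i + s - 1) := by
    have := mul_mem hi2 h2
    rwa [← mul_assoc, ← mul_assoc] at this
  exact mem_K_union h3 h4 (by intro k hk1 hk2; omega)

theorem Cfg.ee_mem_B (C : Cfg B h s e0) : ee h e0 0 ∈ B := by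
  have hs := C.hs
  have := K_le_Bk (B := B) (h := h) (a := 0) (b := 0 + s - 1) (k := 0) le_rfl (by omega) (C.ee_mem 0)
  rwa [Bk_zero] at this

theorem Cfg.exists_ncomm (C : Cfg B h s e0) :
    ∃ m : ℕ, 1 ≤ m ∧ 2 * m ≤ s + 1 ∧ ¬ Commute (ee h e0 0) (ee h e0 m) := by
  have hs := C.hs
  by_contra hcon
  push_neg at hcon
  have hall : ∀ j : ℤ, j ∈ Set.Icc (-(((s + 1) / 2 : ℕ) : ℤ)) (((s + 1) / 2 : ℕ) : ℤ) →
      Commute (ee h e0 0) (ee h e0 j) := by
    intro j hj
    rw [Set.mem_Icc] at hj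
    rcases lt_trichotomy j 0 with hj0 | hj0 | hj0
    · obtain ⟨m, hm⟩ : ∃ m : ℕ, j = -(m : ℤ) := ⟨(-j).toNat, by omega⟩
      have h1 := hcon m (by omega) (by omega)
      have h2 := (commute_ee_shift h e0 (-(m : ℤ)) 0 m).mpr h1
      have e1 : (0 : ℤ) + -(m : ℤ) = j := by omega
      have e2 : (m : ℤ) + -(m : ℤ) = 0 := by omega
      rw [e1, e2] at h2
      exact h2.symm
    · rw [hj0]
    · obtain ⟨m, hm⟩ : ∃ m : ℕ, j = (m : ℤ) := ⟨j.toNat, by omega⟩
      rw [hm]
      exact hcon m (by omega) (by omega)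
  have hcent : ∀ g : G, Commute (ee h e0 0) g := by
    intro g
    have hg : g ∈ closure (ee h e0 '' Set.Icc (-(((s + 1) / 2 : ℕ) : ℤ)) (((s + 1) / 2 : ℕ) : ℤ)) :=
      C.top_le_closure ((((s + 1) / 2 : ℕ) : ℤ) - 1) _ _ (by omega) (by omega) (Subgroup.mem_top g)
    apply commute_of_mem_closure_right _ hg
    rintro y ⟨j, hj, rfl⟩
    exact hall j hj
  have hn : (Subgroup.center G ⊓ B).Normal := by
    refine ⟨fun x hx g => ?_⟩
    have hxc : ∀ g : G, g * x = x * g := Subgroup.mem_center_iff.mp hx.1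
    have : g * x * g⁻¹ = x := by rw [hxc g, mul_assoc, mul_inv_cancel, mul_one]
    rw [this]; exact hx
  have hbot := C.core _ inf_le_right hn
  have hmem : ee h e0 0 ∈ Subgroup.center G ⊓ B := by
    rw [Subgroup.mem_inf]
    refine ⟨?_, C.ee_mem_B⟩
    rw [Subgroup.mem_center_iff]
    intro g
    exact ((hcent g).eq).symm
  rw [hbot, Subgroup.mem_bot] at hmem
  exact C.ee_ne 0 hmem

/-- the commuting parameter of the configuration -/
structure Lam (h e0 : G) (s lam : ℕ) : Prop where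
  two_le : 2 ≤ lam
  le : 2 * lam ≤ s + 1
  comm : ∀ i j : ℤ, j < i + lam → i < j + lam → Commute (ee h e0 i) (ee h e0 j)
  ncomm : ∀ i : ℤ, ¬ Commute (ee h e0 i) (ee h e0 (i + lam))

theorem Cfg.exists_lam (C : Cfg B h s e0) : ∃ lam : ℕ, Lam h e0 s lam := by
  classical
  have hs := C.hs
  have hex := C.exists_ncomm
  have hspec := Nat.find_spec hex
  have hmin : ∀ m : ℕ, 1 ≤ m → m < Nat.find hex → Commute (ee h e0 0) (ee h e0 m) := by
    intro m hm1 hm2
    have := Nat.find_min hex hm2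
    by_contra hc
    exact this ⟨hm1, by omega, hc⟩
  have hncomm : ∀ i : ℤ, ¬ Commute (ee h e0 i) (ee h e0 (i + (Nat.find hex : ℕ))) := by
    intro i hc
    have := (commute_ee_shift h e0 i 0 (Nat.find hex : ℕ)).mp (by
      rw [zero_add, add_comm]; exact hc)
    exact hspec.2.2 this
  have hcomm1 : ∀ i j : ℤ, i ≤ j → j < i + (Nat.find hex : ℕ) →
      Commute (ee h e0 i) (ee h e0 j) := by
    intro i j hij hj
    rcases eq_or_lt_of_le hij with rfl | hlt
    · exact Commute.refl _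
    · obtain ⟨m, hm⟩ : ∃ m : ℕ, j = i + m := ⟨(j - i).toNat, by omega⟩
      have h1 := hmin m (by omega) (by omega)
      have := (commute_ee_shift h e0 i 0 m).mpr h1
      rw [zero_add, add_comm] at this
      rw [hm]; exact this
  refine ⟨Nat.find hex, ?_, hspec.2.1, ?_, hncomm⟩
  · by_contra hlt
    have h1 : Nat.find hex = 1 := by omega
    have h2 := C.comm_mem (i := 0) (j := 1) (by norm_num) (by omega)
    rw [C.bot (1 - 1) (0 + s) (by omega), Subgroup.mem_bot] at h2
    apply hncomm 0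
    rw [h1]
    have e1 : (0 : ℤ) + ((1 : ℕ) : ℤ) = 1 := by norm_num
    rw [e1]
    -- from e0 e1 e0 e1 = 1
    have h3 : ee h e0 0 * ee h e0 1 = (ee h e0 1)⁻¹ * (ee h e0 0)⁻¹ := by
      rw [eq_comm, ← mul_inv_rev]
      apply inv_eq_of_mul_eq_one_right
      rw [← h2]; group
    rw [C.ee_inv, C.ee_inv] at h3
    exact h3
  · intro i j h1 h2
    rcases le_total i j with hij | hij
    · exact hcomm1 i j hij h1
    · exact (hcomm1 j i hij h2).symm

end cfg

end Cfsg.Agent.Helper10.Tutte
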