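import Mathlib
import Cfsg.Agent.Lib.Helper10.Tutte2

set_option autoImplicit false

/-! Abstract Tutte, third part: the bound `s ≤ 5`. -/

namespace Cfsg.Agent.Helper10.Tutte

open Subgroup

universe u

section alg

variable {G : Type u} [Group G]

theorem commute_of_comm_eq_one {a b : G} (ha : a * a = 1) (hb : b * b = 1)
    (h : a * b * a * b = 1) : Commute a b := by
  have hainv : a⁻¹ = a := inv_eq_of_mul_eq_one_right ha
  have hbinv : b⁻¹ = b := inv_eq_of_mul_eq_one_right hb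
  have h3 : a * b = (b)⁻¹ * (a)⁻¹ := by
    rw [eq_comm, ← mul_inv_rev]
    apply inv_eq_of_mul_eq_one_right
    rw [← h]; group
  rw [hainv, hbinv] at h3
  exact h3

theorem comm_alg {a b c : G} (ha : a * a = 1) (hc : c * c = 1)
    (hcb : Commute c b) (hbu : Commute b (a * c * a * c)) : Commute c (a * b * a * b) := by
  have hainv : a⁻¹ = a := inv_eq_of_mul_eq_one_right ha
  have h1 : Commute b (a * c * a) := by
    have : a * c * a = (a * c * a * c) * c := by rw [mul_assoc (a * c * a) c c, hc, mul_one]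
    rw [this]; exact hbu.mul_right hcb.symm
  have h2 : Commute (a * b * a⁻¹) (a * (a * c * a) * a⁻¹) := (Commute.conj_iff a).mpr h1
  have h3 : a * (a * c * a) * a⁻¹ = c := by
    calc a * (a * c * a) * a⁻¹ = (a * a) * c * (a * a⁻¹) := by group
      _ = c := by rw [ha, mul_inv_cancel, one_mul, mul_one]
  rw [h3, hainv] at h2
  exact (h2.symm).mul_right hcb

theorem not_commute_of_split {c w w' x : G} (hw : w' = w * x⁻¹) (h1 : Commute c w')
    (h2 : ¬ Commute c x) : ¬ Commute c w := by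
  intro hcw
  apply h2
  have : x = w'⁻¹ * w := by rw [hw]; group
  rw [this]
  exact h1.inv_right.mul_right hcw

theorem commute_comm_of_sq {a b : G} (ha : a * a = 1) (hb : b * b = 1)
    (hu : (a * b * a * b) * (a * b * a * b) = 1) :
    Commute a (a * b * a * b) ∧ Commute b (a * b * a * b) := by
  have hainv : a⁻¹ = a := inv_eq_of_mul_eq_one_right ha
  have hbinv : b⁻¹ = b := inv_eq_of_mul_eq_one_right hb
  have huinv : (a * b * a * b)⁻¹ = a * b * a * b := inv_eq_of_mul_eq_one_right hu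
  have hu' : a * b * a * b = b * a * b * a := by
    rw [← huinv]
    calc (a * b * a * b)⁻¹ = b⁻¹ * a⁻¹ * b⁻¹ * a⁻¹ := by group
      _ = b * a * b * a := by rw [hainv, hbinv]
  constructor
  · show a * (a * b * a * b) = (a * b * a * b) * a
    calc a * (a * b * a * b) = (a * a) * b * a * b := by group
      _ = b * a * b := by rw [ha, one_mul]
      _ = b * a * b * (a * a) := by rw [ha, mul_one]
      _ = (b * a * b * a) * a := by group
      _ = (a * b * a * b) * a := by rw [← hu']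
  · show b * (a * b * a * b) = (a * b * a * b) * b
    calc b * (a * b * a * b) = (b * a * b * a) * b := by group
      _ = (a * b * a * b) * b := by rw [← hu']

end alg

section main

variable {G : Type u} [Group G] [Finite G] {B : Subgroup G} {h : G} {s : ℕ} {e0 : G} {lam : ℕ}

local notation "𝔢" => ee h e0

/-- the basic commutator -/
def ww (h e0 : G) (lam : ℕ) : G := ee h e0 0 * ee h e0 lam * ee h e0 0 * ee h e0 lam

theorem Cfg.ww_ne (C : Cfg B h s e0) (L : Lam h e0 s lam) : ww h e0 lam ≠ 1 := by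
  intro hw
  apply L.ncomm 0
  rw [zero_add]
  exact commute_of_comm_eq_one (C.ee_sq 0) (C.ee_sq lam) hw

theorem Cfg.ww_mem (C : Cfg B h s e0) (L : Lam h e0 s lam) (h4 : 4 ≤ s) :
    ww h e0 lam ∈ K B h ((lam : ℤ) - 1) s := by
  have hs := C.hs
  have h1 := L.two_le
  have h2 := L.le
  have := C.comm_mem (i := 0) (j := lam) (by omega) (by omega)
  rw [zero_add] at this
  exact this

theorem Cfg.exists_mu (C : Cfg B h s e0) (L : Lam h e0 s lam) (h4 : 4 ≤ s) :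
    ∃ μ : ℕ, 1 ≤ μ ∧ μ + 1 ≤ lam ∧ ww h e0 lam ∈ K B h ((lam : ℤ) - 1) ((μ : ℤ) + s - 1) ∧
      ww h e0 lam ∉ K B h ((lam : ℤ) - 1) ((μ : ℤ) + s) := by
  classical
  have hs := C.hs
  have hl1 := L.two_le
  have hl2 := L.le
  have hP : ww h e0 lam ∉ K B h ((lam : ℤ) - 1) (((lam - 1 : ℕ) : ℤ) + s) := by
    rw [C.bot _ _ (by omega), Subgroup.mem_bot]
    exact C.ww_ne L
  have hex : ∃ m : ℕ, ww h e0 lam ∉ K B h ((lam : ℤ) - 1) ((m : ℤ) + s) := ⟨lam - 1, hP⟩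
  have hspec := Nat.find_spec hex
  have hle : Nat.find hex ≤ lam - 1 := Nat.find_min' hex hP
  have h0 : Nat.find hex ≠ 0 := by
    intro h0
    rw [h0] at hspec
    apply hspec
    have := C.ww_mem L h4
    simpa using this
  refine ⟨Nat.find hex, by omega, by omega, ?_, hspec⟩
  have hmin := Nat.find_min hex (m := Nat.find hex - 1) (by omega)
  push_neg at hmin
  have e : ((Nat.find hex - 1 : ℕ) : ℤ) + s = (Nat.find hex : ℤ) + s - 1 := by omega
  rwa [e] at hmin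

theorem Cfg.exists_nu (C : Cfg B h s e0) (L : Lam h e0 s lam) (h4 : 4 ≤ s) :
    ∃ ν : ℕ, 1 ≤ ν ∧ ν + 1 ≤ lam ∧ ww h e0 lam ∈ K B h (ν : ℤ) s ∧
      ww h e0 lam ∉ K B h ((ν : ℤ) - 1) s := by
  classical
  have hs := C.hs
  have hl1 := L.two_le
  have hl2 := L.le
  have hP : ww h e0 lam ∉ K B h ((lam : ℤ) - 1 - ((lam - 1 : ℕ) : ℤ)) s := by
    rw [C.bot _ _ (by omega), Subgroup.mem_bot]
    exact C.ww_ne L
  have hex : ∃ m : ℕ, ww h e0 lam ∉ K B h ((lam : ℤ) - 1 - (m : ℤ)) s := ⟨lam - 1, hP⟩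
  have hspec := Nat.find_spec hex
  have hle : Nat.find hex ≤ lam - 1 := Nat.find_min' hex hP
  have h0 : Nat.find hex ≠ 0 := by
    intro h0
    rw [h0] at hspec
    apply hspec
    have := C.ww_mem L h4
    simpa using this
  refine ⟨lam - Nat.find hex, by omega, by omega, ?_, ?_⟩
  · have hmin := Nat.find_min hex (m := Nat.find hex - 1) (by omega)
    push_neg at hmin
    have e : (lam : ℤ) - 1 - ((Nat.find hex - 1 : ℕ) : ℤ) = ((lam - Nat.find hex : ℕ) : ℤ) := by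
      omega
    rwa [e] at hmin
  · have e : ((lam - Nat.find hex : ℕ) : ℤ) - 1 = (lam : ℤ) - 1 - (Nat.find hex : ℤ) := by omega
    rw [e]; exact hspec

theorem Cfg.mu_le_nu (C : Cfg B h s e0) (L : Lam h e0 s lam) {μ ν : ℕ} (hν : ν + 1 ≤ lam)
    (hm : ww h e0 lam ∈ K B h ((lam : ℤ) - 1) ((μ : ℤ) + s - 1))
    (hn : ww h e0 lam ∈ K B h (ν : ℤ) s) : μ ≤ ν := by
  have hs := C.hs
  have hl1 := L.two_le
  have hl2 := L.le
  by_contra hcon
  have h1 : ww h e0 lam ∈ K B h (ν : ℤ) ((μ : ℤ) + s - 1) :=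
    mem_K_union hn hm (by intro k hk1 hk2; omega)
  rw [C.bot _ _ (by omega), Subgroup.mem_bot] at h1
  exact C.ww_ne L h1

theorem Cfg.caseI (C : Cfg B h s e0) (L : Lam h e0 s lam) {μ : ℕ} (h1 : 1 ≤ μ)
    (h2 : μ + 1 ≤ lam)
    (hm : ww h e0 lam ∈ K B h ((lam : ℤ) - 1) ((μ : ℤ) + s - 1))
    (hn : ww h e0 lam ∉ K B h ((lam : ℤ) - 1) ((μ : ℤ) + s)) : s ≤ lam + μ + 1 := by
  have hs := C.hs
  have hl1 := L.two_le
  have hl2 := L.le
  by_contra hcon
  obtain ⟨k, hk⟩ : ∃ k : ℤ, k = (lam : ℤ) + μ := ⟨_, rfl⟩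
  have hcb : Commute (𝔢 k) (𝔢 lam) := L.comm k lam (by omega) (by omega)
  have hu : 𝔢 0 * 𝔢 k * 𝔢 0 * 𝔢 k ∈ K B h (k - 1) (0 + s) :=
    C.comm_mem (by omega) (by omega)
  have hu2 := C.K_le_closure (k - 1) (0 + s) (by omega) hu
  have hbu : Commute (𝔢 lam) (𝔢 0 * 𝔢 k * 𝔢 0 * 𝔢 k) := by
    apply commute_of_mem_closure_right _ hu2
    rintro y ⟨j, hj, rfl⟩
    rw [Set.mem_Icc] at hj
    exact L.comm lam j (by omega) (by omega)
  have hcw : Commute (𝔢 k) (ww h e0 lam) := comm_alg (C.ee_sq 0) (C.ee_sq k) hcb hbu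
  have hμL : 𝔢 μ ∈ K B h ((lam : ℤ) - 1) ((μ : ℤ) + s - 1) := C.ee_mem_K (by omega) (by omega)
  have hμH : 𝔢 μ ∉ K B h ((lam : ℤ) - 1) ((μ : ℤ) + s) :=
    C.ee_not_mem_right (by omega) (by omega)
  have hsplit : ww h e0 lam * (𝔢 μ)⁻¹ ∈ K B h ((lam : ℤ) - 1) ((μ : ℤ) + s) :=
    C.split (μ + s - lam) (by omega) (by omega) (by omega) (by omega) le_rfl (by omega)
      hm hμL hn hμH
  have hsplit2 := C.K_le_closure _ _ (by omega) hsplit
  have hcw' : Commute (𝔢 k) (ww h e0 lam * (𝔢 μ)⁻¹) := by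
    apply commute_of_mem_closure_right _ hsplit2
    rintro y ⟨j, hj, rfl⟩
    rw [Set.mem_Icc] at hj
    exact L.comm k j (by omega) (by omega)
  have hnc : ¬ Commute (𝔢 k) (𝔢 μ) := by
    intro hc
    apply L.ncomm μ
    have e : (μ : ℤ) + lam = k := by omega
    rw [e]; exact hc.symm
  exact not_commute_of_split rfl hcw' hnc hcw

theorem Cfg.caseII (C : Cfg B h s e0) (L : Lam h e0 s lam) {ν : ℕ} (h1 : 1 ≤ ν)
    (h2 : ν + 1 ≤ lam)
    (hm : ww h e0 lam ∈ K B h (ν : ℤ) s)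
    (hn : ww h e0 lam ∉ K B h ((ν : ℤ) - 1) s) : s + ν ≤ 2 * lam + 1 := by
  have hs := C.hs
  have hl1 := L.two_le
  have hl2 := L.le
  by_contra hcon
  obtain ⟨k, hk⟩ : ∃ k : ℤ, k = (ν : ℤ) - lam := ⟨_, rfl⟩
  have hcb : Commute (𝔢 k) (𝔢 0) := L.comm k 0 (by omega) (by omega)
  have hu0 : 𝔢 k * 𝔢 lam * 𝔢 k * 𝔢 lam ∈ K B h ((lam : ℤ) - 1) (k + s) :=
    C.comm_mem (by omega) (by omega)
  have hu : 𝔢 lam * 𝔢 k * 𝔢 lam * 𝔢 k ∈ K B h ((lam : ℤ) - 1) (k + s) := by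
    have := inv_mem hu0
    have e : (𝔢 k * 𝔢 lam * 𝔢 k * 𝔢 lam)⁻¹ = (𝔢 lam)⁻¹ * (𝔢 k)⁻¹ * (𝔢 lam)⁻¹ * (𝔢 k)⁻¹ := by
      group
    rw [e, C.ee_inv, C.ee_inv] at this
    exact this
  have hu2 := C.K_le_closure _ _ (by omega) hu
  have hbu : Commute (𝔢 0) (𝔢 lam * 𝔢 k * 𝔢 lam * 𝔢 k) := by
    apply commute_of_mem_closure_right _ hu2
    rintro y ⟨j, hj, rfl⟩
    rw [Set.mem_Icc] at hj
    exact L.comm 0 j (by omega) (by omega)
  have hcw0 : Commute (𝔢 k) (𝔢 lam * 𝔢 0 * 𝔢 lam * 𝔢 0) :=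
    comm_alg (C.ee_sq lam) (C.ee_sq k) hcb hbu
  have hcw : Commute (𝔢 k) (ww h e0 lam) := by
    have e : ww h e0 lam = (𝔢 lam * 𝔢 0 * 𝔢 lam * 𝔢 0)⁻¹ := by
      have e' : (𝔢 lam * 𝔢 0 * 𝔢 lam * 𝔢 0)⁻¹ =
          (𝔢 0)⁻¹ * (𝔢 lam)⁻¹ * (𝔢 0)⁻¹ * (𝔢 lam)⁻¹ := by group
      rw [e', C.ee_inv, C.ee_inv]; rfl
    rw [e]; exact hcw0.inv_right
  have hνL : 𝔢 ν ∈ K B h (ν : ℤ) s := C.ee_mem_K (by omega) (by omega)
  have hνH : 𝔢 ν ∉ K B h ((ν : ℤ) - 1) s := C.ee_not_mem_left (by omega) (by omega)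
  have hsplit : ww h e0 lam * (𝔢 ν)⁻¹ ∈ K B h ((ν : ℤ) - 1) s :=
    C.split (s - ν) (by omega) (by omega) (by omega) (by omega) (by omega) le_rfl
      hm hνL hn hνH
  have hsplit2 := C.K_le_closure _ _ (by omega) hsplit
  have hcw' : Commute (𝔢 k) (ww h e0 lam * (𝔢 ν)⁻¹) := by
    apply commute_of_mem_closure_right _ hsplit2
    rintro y ⟨j, hj, rfl⟩
    rw [Set.mem_Icc] at hj
    exact L.comm k j (by omega) (by omega)
  have hnc : ¬ Commute (𝔢 k) (𝔢 ν) := by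
    intro hc
    apply L.ncomm k
    have e : k + (lam : ℤ) = ν := by omega
    rw [e]; exact hc
  exact not_commute_of_split rfl hcw' hnc hcw

theorem comm_shift (h e0 : G) (n i j : ℤ) :
    h ^ n * (ee h e0 i * ee h e0 j * ee h e0 i * ee h e0 j) * (h ^ n)⁻¹ =
      ee h e0 (i + n) * ee h e0 (j + n) * ee h e0 (i + n) * ee h e0 (j + n) := by
  rw [← conj_ee h e0 n i, ← conj_ee h e0 n j]; group

theorem conj_mem_K {x : G} {a b : ℤ} (n : ℤ) (hx : x ∈ K B h a b) :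
    h ^ n * x * (h ^ n)⁻¹ ∈ K B h (a + n) (b + n) := by
  have := conj_mem_cj (g := h ^ n) hx
  rwa [cj_K] at this

theorem Cfg.false_of_seven (C : Cfg B h 7 e0) (L : Lam h e0 7 4)
    (hw : 𝔢 0 * 𝔢 4 * 𝔢 0 * 𝔢 4 = 𝔢 2) : False := by
  -- the shifted relations
  have hrel : ∀ i : ℤ, 𝔢 i * 𝔢 (i + 4) * 𝔢 i * 𝔢 (i + 4) = 𝔢 (i + 2) := by
    intro i
    have h1 := comm_shift h e0 i 0 4
    rw [hw, conj_ee] at h1
    have e1 : (0 : ℤ) + i = i := zero_add i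
    have e2 : (4 : ℤ) + i = i + 4 := add_comm _ _
    have e3 : (2 : ℤ) + i = i + 2 := add_comm _ _
    rw [e1, e2, e3] at h1
    exact h1.symm
  have hrel1 : ∀ i : ℤ, 𝔢 i * 𝔢 (i + 4) * 𝔢 i = 𝔢 (i + 2) * 𝔢 (i + 4) := by
    intro i
    rw [← hrel i, mul_assoc (𝔢 i * 𝔢 (i + 4) * 𝔢 i), C.ee_sq, mul_one]
  have hrel2 : ∀ i : ℤ, 𝔢 (i + 4) * 𝔢 i * 𝔢 (i + 4) = 𝔢 i * 𝔢 (i + 2) := by
    intro i
    rw [← hrel i]
    calc 𝔢 (i + 4) * 𝔢 i * 𝔢 (i + 4) = (𝔢 i * 𝔢 i) * 𝔢 (i + 4) * 𝔢 i * 𝔢 (i + 4) := by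
          rw [C.ee_sq, one_mul]
      _ = 𝔢 i * (𝔢 i * 𝔢 (i + 4) * 𝔢 i * 𝔢 (i + 4)) := by group
  -- the group `Y`
  have hY : K B h 4 7 = closure (𝔢 '' Set.Icc 1 4) := by
    have := C.K_eq_closure 3 1 4 (by norm_num) (by norm_num)
    norm_num at this
    exact this
  have hmemY : ∀ i : ℤ, 1 ≤ i → i ≤ 4 → 𝔢 i ∈ K B h 4 7 := by
    intro i h1 h2
    exact C.ee_mem_K (by omega) (by push_cast; omega)
  have hYcomm : ∀ x ∈ 𝔢 '' Set.Icc (1 : ℤ) 4, ∀ y ∈ 𝔢 '' Set.Icc (1 : ℤ) 4, Commute x y := by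
    rintro x ⟨i, hi, rfl⟩ y ⟨j, hj, rfl⟩
    rw [Set.mem_Icc] at hi hj
    exact L.comm i j (by push_cast; omega) (by push_cast; omega)
  have hYsq : ∀ x ∈ K B h 4 7, x * x = 1 := by
    intro x hx
    rw [hY] at hx
    apply sq_eq_one_of_mem_closure hYcomm _ hx
    rintro y ⟨j, _, rfl⟩
    exact C.ee_sq j
  -- the element `u`
  obtain ⟨u, hu⟩ : ∃ u : G, u = 𝔢 0 * 𝔢 5 * 𝔢 0 * 𝔢 5 := ⟨_, rfl⟩
  have huY : u ∈ K B h 4 7 := by
    have := C.comm_mem (i := 0) (j := 5) (by norm_num) (by norm_num)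
    norm_num at this
    rw [hu]; exact this
  have hucomm := commute_comm_of_sq (C.ee_sq 0) (C.ee_sq 5) (by rw [← hu]; exact hYsq u huY)
  rw [← hu] at hucomm
  have hu37 : u ∈ K B h 3 7 := by
    by_contra hcon
    have h4L : 𝔢 4 ∈ K B h 4 7 := hmemY 4 (by norm_num) (by norm_num)
    have h4H : 𝔢 4 ∉ K B h 3 7 := C.ee_not_mem_left (by norm_num) (by norm_num)
    have hsplit : u * (𝔢 4)⁻¹ ∈ K B h 3 7 :=
      C.split 3 (by norm_num) (by norm_num) (by norm_num) (by norm_num) (by norm_num) le_rfl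
        huY h4L hcon h4H
    have hsplit2 := C.K_le_closure _ _ (by norm_num) hsplit
    have hc : Commute (𝔢 0) (u * (𝔢 4)⁻¹) := by
      apply commute_of_mem_closure_right _ hsplit2
      rintro y ⟨j, hj, rfl⟩
      rw [Set.mem_Icc] at hj
      push_cast at hj
      exact L.comm 0 j (by push_cast; omega) (by push_cast; omega)
    have hnc : ¬ Commute (𝔢 0) (𝔢 4) := by
      have := L.ncomm 0
      norm_num at this
      exact this
    exact not_commute_of_split rfl hc hnc hucomm.1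
  have hu48 : u ∈ K B h 4 8 := by
    by_contra hcon
    have h1L : 𝔢 1 ∈ K B h 4 7 := hmemY 1 (by norm_num) (by norm_num)
    have h1H : 𝔢 1 ∉ K B h 4 8 := C.ee_not_mem_right (by norm_num) (by norm_num)
    have hsplit : u * (𝔢 1)⁻¹ ∈ K B h 4 8 :=
      C.split 3 (by norm_num) (by norm_num) (by norm_num) (by norm_num) le_rfl (by norm_num)
        huY h1L hcon h1H
    have hsplit2 := C.K_le_closure _ _ (by norm_num) hsplit
    have hc : Commute (𝔢 5) (u * (𝔢 1)⁻¹) := by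
      apply commute_of_mem_closure_right _ hsplit2
      rintro y ⟨j, hj, rfl⟩
      rw [Set.mem_Icc] at hj
      push_cast at hj
      exact L.comm 5 j (by push_cast; omega) (by push_cast; omega)
    have hnc : ¬ Commute (𝔢 5) (𝔢 1) := by
      have := L.ncomm 1
      norm_num at this
      exact fun hc => this hc.symm
    exact not_commute_of_split rfl hc hnc hucomm.2
  have hu38 : u ∈ K B h 3 8 := mem_K_union hu37 hu48 (by intro k hk1 hk2; omega)
  -- conjugates of `u`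
  have hu16 : 𝔢 1 * 𝔢 6 * 𝔢 1 * 𝔢 6 ∈ K B h 4 7 := by
    have h1 := conj_mem_K (B := B) (h := h) 1 hu38
    rw [hu, comm_shift] at h1
    norm_num at h1
    exact K_anti (by norm_num) (by norm_num) h1
  have hu14 : 𝔢 (-1) * 𝔢 4 * 𝔢 (-1) * 𝔢 4 ∈ K B h 4 7 := by
    have h1 := conj_mem_K (B := B) (h := h) (-1) hu38
    rw [hu, comm_shift] at h1
    norm_num at h1
    exact K_anti (by norm_num) (by norm_num) h1
  -- every `e j` normalizes `Y`
  have hnormal : ∀ j : ℤ, -1 ≤ j → j ≤ 6 → ∀ i : ℤ, 1 ≤ i → i ≤ 4 →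
      𝔢 j * 𝔢 i * (𝔢 j)⁻¹ ∈ K B h 4 7 := by
    intro j hj1 hj2 i hi1 hi2
    rw [C.ee_inv]
    by_cases hc : i < j + 4 ∧ j < i + 4
    · have hcomm : Commute (𝔢 j) (𝔢 i) := L.comm j i (by push_cast; omega) (by push_cast; omega)
      rw [hcomm.eq, mul_assoc, C.ee_sq, mul_one]
      exact hmemY i hi1 hi2
    · have hcases : (j = 0 ∧ i = 4) ∨ (j = 5 ∧ i = 1) ∨ (j = 6 ∧ i = 2) ∨ (j = 6 ∧ i = 1) ∨
          (j = -1 ∧ i = 3) ∨ (j = -1 ∧ i = 4) := by omega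
      rcases hcases with ⟨rfl, rfl⟩ | ⟨rfl, rfl⟩ | ⟨rfl, rfl⟩ | ⟨rfl, rfl⟩ | ⟨rfl, rfl⟩ | ⟨rfl, rfl⟩
      · have := hrel1 0
        norm_num at this
        rw [this]
        exact mul_mem (hmemY 2 (by norm_num) (by norm_num)) (hmemY 4 (by norm_num) (by norm_num))
      · have := hrel2 1
        norm_num at this
        rw [this]
        exact mul_mem (hmemY 1 (by norm_num) (by norm_num)) (hmemY 3 (by norm_num) (by norm_num))
      · have := hrel2 2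
        norm_num at this
        rw [this]
        exact mul_mem (hmemY 2 (by norm_num) (by norm_num)) (hmemY 4 (by norm_num) (by norm_num))
      · have e : 𝔢 6 * 𝔢 1 * 𝔢 6 = 𝔢 1 * (𝔢 1 * 𝔢 6 * 𝔢 1 * 𝔢 6) := by
          calc 𝔢 6 * 𝔢 1 * 𝔢 6 = (𝔢 1 * 𝔢 1) * 𝔢 6 * 𝔢 1 * 𝔢 6 := by rw [C.ee_sq, one_mul]
            _ = 𝔢 1 * (𝔢 1 * 𝔢 6 * 𝔢 1 * 𝔢 6) := by group
        rw [e]
        exact mul_mem (hmemY 1 (by norm_num) (by norm_num)) hu16
      · have := hrel1 (-1)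
        norm_num at this
        rw [this]
        exact mul_mem (hmemY 1 (by norm_num) (by norm_num)) (hmemY 3 (by norm_num) (by norm_num))
      · have e : 𝔢 (-1) * 𝔢 4 * 𝔢 (-1) = (𝔢 (-1) * 𝔢 4 * 𝔢 (-1) * 𝔢 4) * 𝔢 4 := by
          rw [mul_assoc (𝔢 (-1) * 𝔢 4 * 𝔢 (-1)), C.ee_sq, mul_one]
        rw [e]
        exact mul_mem hu14 (hmemY 4 (by norm_num) (by norm_num))
  have htop : (⊤ : Subgroup G) ≤ normalizer ((K B h 4 7 : Subgroup G) : Set G) := by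
    refine (C.top_le_closure 5 (-1) 6 (by norm_num) (by norm_num)).trans ?_
    rw [closure_le]
    rintro y ⟨j, hj, rfl⟩
    rw [Set.mem_Icc] at hj
    rw [SetLike.mem_coe, hY]
    apply mem_normalizer_closure_of_invol (C.ee_sq j)
    rintro x ⟨i, hi, rfl⟩
    rw [Set.mem_Icc] at hi
    rw [← hY]
    exact hnormal j hj.1 hj.2 i hi.1 hi.2
  have hYn : (K B h 4 7).Normal := by
    rw [← Subgroup.normalizer_eq_top_iff, eq_top_iff]
    exact htop
  have hYB : K B h 4 7 ≤ B := by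
    intro y hy
    have h1 := hYn.conj_mem y hy (h ^ (4 : ℤ))
    have h2 : h ^ (4 : ℤ) * y * (h ^ (4 : ℤ))⁻¹ ∈ Bk B h 4 :=
      K_le_Bk (by norm_num) (by norm_num) h1
    unfold Bk at h2
    rw [mem_cj] at h2
    have e : (h ^ (4 : ℤ))⁻¹ * (h ^ (4 : ℤ) * y * (h ^ (4 : ℤ))⁻¹) * h ^ (4 : ℤ) = y := by group
    rwa [e] at h2
  have hbot := C.core _ hYB hYn
  have h1 := hmemY 1 (by norm_num) (by norm_num)
  rw [hbot, Subgroup.mem_bot] at h1
  exact C.ee_ne 1 h1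

theorem Cfg.false (C : Cfg B h s e0) (hs : 6 ≤ s) : False := by
  obtain ⟨lam, L⟩ := C.exists_lam
  have hl1 := L.two_le
  have hl2 := L.le
  obtain ⟨μ, hμ1, hμ2, hμm, hμn⟩ := C.exists_mu L (by omega)
  obtain ⟨ν, hν1, hν2, hνm, hνn⟩ := C.exists_nu L (by omega)
  have hμν := C.mu_le_nu L hν2 hμm hνm
  have hI := C.caseI L hμ1 hμ2 hμm hμn
  have hII := C.caseII L hν1 hν2 hνm hνn
  have h7 : s = 7 := by omega
  have h4 : lam = 4 := by omega
  have hμ : μ = 2 := by omega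
  have hν : ν = 2 := by omega
  subst h7 h4 hμ hν
  have hw : ww h e0 4 ∈ K B h 2 8 := by
    apply mem_K_union hνm hμm
    intro k hk1 hk2
    push_cast
    omega
  have hw2 : ww h e0 4 = 𝔢 2 := by
    have := C.eq_one_or 2 (x := ww h e0 4) (by norm_num; exact hw)
    rcases this with h1 | h1
    · exact absurd h1 (C.ww_ne L)
    · exact h1
  exact C.false_of_seven L hw2

/-- **Tutte's theorem, abstract form.**  If `B ∩ hBh⁻¹` has index two in `B`, the three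
consecutive translates of `B` generate `G`, and `B` contains no nontrivial normal subgroup of
`G`, then the order of `B` divides `16`. -/
theorem tutte (B : Subgroup G) (h : G) (hT : (B ⊓ cj h B).relIndex B = 2)
    (hgen : cj h⁻¹ B ⊔ B ⊔ cj h B = ⊤)
    (hcore : ∀ R : Subgroup G, R ≤ B → R.Normal → R = ⊥) : Nat.card ↥B ∣ 16 := by
  have hgen' : Bk B h (-1) ⊔ Bk B h 0 ⊔ Bk B h 1 = ⊤ := by
    unfold Bk
    rw [zpow_neg_one, zpow_zero, zpow_one, cj_one]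
    exact hgen
  obtain ⟨s, hs2, hcard, hbot⟩ := partA B h hT hgen' hcore
  have hB : Nat.card ↥B = 2 ^ (s - 1) := by
    have := hcard 0 1 le_rfl (by omega)
    have e : (0 : ℤ) + ((1 : ℕ) : ℤ) = 0 + 1 := by norm_num
    rw [e, K_single, Bk_zero] at this
    exact this
  rw [hB]
  by_cases hs6 : s ≤ 5
  · have : (16 : ℕ) = 2 ^ 4 := by norm_num
    rw [this]
    exact pow_dvd_pow 2 (by omega)
  · exfalso
    have hc2 : Nat.card ↥(K B h 0 ((s : ℤ) - 1)) = 2 := by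
      have := hcard 0 (s - 1) (by omega) (by omega)
      have e : (0 : ℤ) + ((s - 1 : ℕ) : ℤ) = (s : ℤ) - 1 := by omega
      rw [e] at this
      rw [this]
      have : s - (s - 1) = 1 := by omega
      rw [this, pow_one]
    have hne : K B h 0 ((s : ℤ) - 1) ≠ ⊥ := by
      intro hb
      rw [hb, Subgroup.card_bot] at hc2
      omega
    obtain ⟨x, hx, hx1⟩ := (Subgroup.ne_bot_iff_exists_ne_one).mp hne |> fun ⟨x, hx⟩ =>
      (⟨(x : G), x.2, fun hh => hx (Subtype.ext hh)⟩ :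
        ∃ y : G, y ∈ K B h 0 ((s : ℤ) - 1) ∧ y ≠ 1)
    have C : Cfg B h s x := ⟨by omega, hcard, hbot, hgen', hcore, hx, hx1⟩
    exact C.false (by omega)

end main

end Cfsg.Agent.Helper10.Tutte
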