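import Mathlib
import Cfsg.Agent.Lib.Helper10.Tutte3
import Cfsg.Agent.Lib.Helper10.TW9
import Cfsg.Agent.Lib.Helper10.TW5
import Cfsg.Agent.Lib.Helper10.TW4
import Cfsg.Agent.Lib.Helper9.SylowLemmas

set_option autoImplicit false

/-! Sims: a pair of conjugate core-free maximal subgroups meeting in a subgroup of index three. -/

namespace Cfsg.Agent.Helper10.Tutte

open Subgroup Cfsg.Agent.Helper10.TW

universe u

section app

variable {G : Type u} [Group G] [Finite G]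

theorem sup_eq_of_prime_index {H₁ H₂ L : Subgroup G} (h1 : H₁ ≤ L) (h2 : H₂ ≤ L) {p : ℕ}
    (hp : p.Prime) (hc : H₁.relIndex L = p) (hcard : Nat.card ↥H₂ = Nat.card ↥H₁)
    (hne : H₁ ≠ H₂) : H₁ ⊔ H₂ = L := by
  have hle : H₁ ⊔ H₂ ≤ L := sup_le h1 h2
  have hmul := Subgroup.relIndex_mul_relIndex H₁ (H₁ ⊔ H₂) L le_sup_left hle
  rw [hc] at hmul
  have hd : H₁.relIndex (H₁ ⊔ H₂) ∣ p := Dvd.intro _ hmul
  rcases (Nat.dvd_prime hp).mp hd with h | h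
  · exfalso
    rw [Subgroup.relIndex_eq_one] at h
    have h21 : H₂ ≤ H₁ := le_sup_right.trans h
    have : H₂ = H₁ := Subgroup.eq_of_le_of_card_ge h21 (by omega)
    exact hne this.symm
  · rw [h] at hmul
    have hp0 : 0 < p := hp.pos
    have h1' : (H₁ ⊔ H₂).relIndex L = 1 := by
      have : p * (H₁ ⊔ H₂).relIndex L = p * 1 := by rw [hmul, mul_one]
      exact Nat.eq_of_mul_eq_mul_left hp0 this
    rw [Subgroup.relIndex_eq_one] at h1'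
    exact le_antisymm hle h1'

theorem exists_conj_eq_of_card {M P Q : Subgroup G} (hP : P ≤ M) (hQ : Q ≤ M) (n : ℕ)
    (hPc : Nat.card ↥P = 2 ^ n) (hQc : Nat.card ↥Q = 2 ^ n) (hM : P.relIndex M = 3) :
    ∃ m ∈ M, cj m Q = P := by
  have h2 : Fact (Nat.Prime 2) := ⟨Nat.prime_two⟩
  have hP' : IsPGroup 2 ↥(P.subgroupOf M) := by
    apply IsPGroup.of_card (n := n)
    rw [Nat.card_congr (Subgroup.subgroupOfEquivOfLe hP).toEquiv, hPc]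
  have hQ' : IsPGroup 2 ↥(Q.subgroupOf M) := by
    apply IsPGroup.of_card (n := n)
    rw [Nat.card_congr (Subgroup.subgroupOfEquivOfLe hQ).toEquiv, hQc]
  have hidx : ¬ 2 ∣ (P.subgroupOf M).index := by
    change ¬ 2 ∣ P.relIndex M
    rw [hM]; norm_num
  obtain ⟨c, hc⟩ := Cfsg.Agent.Helper9.exists_conj_le_sylow (hP'.toSylow hidx)
    (Q.subgroupOf M) hQ'
  refine ⟨c, c.2, ?_⟩
  apply Subgroup.eq_of_le_of_card_ge
  · intro x hx
    rw [mem_cj] at hx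
    have := hc ⟨(c : G)⁻¹ * x * c, hQ hx⟩ (by rw [Subgroup.mem_subgroupOf]; exact hx)
    rw [IsPGroup.mem_toSylow, Subgroup.mem_subgroupOf] at this
    have e : ((c * ⟨(c : G)⁻¹ * x * c, hQ hx⟩ * c⁻¹ : ↥M) : G) = x := by
      simp only [Subgroup.coe_mul, Subgroup.coe_inv]
      group
    rwa [e] at this
  · rw [card_cj, hPc, hQc]

theorem Pair.sup_eq_top {M₁ M₂ : Subgroup G} (hp : Pair M₁ M₂) : M₁ ⊔ M₂ = ⊤ := by
  apply hp.co₁.2
  apply lt_of_le_of_ne le_sup_left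
  intro heq
  have h21 : M₂ ≤ M₁ := by rw [heq]; exact le_sup_right
  rcases eq_or_lt_of_le h21 with h | h
  · exact hp.ne h.symm
  · exact hp.co₁.1 (hp.co₂.2 M₁ h)

/-- the case where some element of `M₂` moves `B = M₁ ⊓ M₂` -/
theorem card_dvd_of_moving {M₁ M₂ : Subgroup G} (hp : Pair M₁ M₂) (n : ℕ)
    (hn : Nat.card ↥(M₁ ⊓ M₂) = 2 ^ n) (h₂ : (M₁ ⊓ M₂).relIndex M₂ = 3) (g : G)
    (hgB : cj g (M₁ ⊓ M₂) = M₁ ⊓ M₂) (hgM : cj g M₁ = M₂) (u : G) (hu : u ∈ M₂)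
    (hne : cj u (M₁ ⊓ M₂) ≠ M₁ ⊓ M₂) : Nat.card ↥(M₁ ⊓ M₂) ∣ 16 := by
  obtain ⟨B, hB⟩ : ∃ B : Subgroup G, B = M₁ ⊓ M₂ := ⟨_, rfl⟩
  rw [← hB] at hn h₂ hgB hne ⊢
  have hBM₁ : B ≤ M₁ := by rw [hB]; exact inf_le_left
  have hBM₂ : B ≤ M₂ := by rw [hB]; exact inf_le_right
  have huM : cj u M₂ = M₂ := by
    apply mem_normalizer_iff_cj.mp
    exact Subgroup.le_normalizer hu
  have hhB : cj (u * g) B = cj u B := by rw [cj_mul, hgB]
  have hhM : cj (u * g) M₁ = M₂ := by rw [cj_mul, hgM, huM]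
  have hhBM : cj (u * g) B ≤ M₂ := by
    rw [← hhM]; exact cj_mono hBM₁
  have hne' : B ≠ cj (u * g) B := by rw [hhB]; exact fun h => hne h.symm
  have hcardh : Nat.card ↥(cj (u * g) B) = Nat.card ↥B := card_cj _ _
  have hidx : (cj (u * g) B).relIndex M₂ = 3 := by
    rw [hhB, ← huM, relIndex_cj]; exact h₂
  -- index two
  have hT : (B ⊓ cj (u * g) B).relIndex B = 2 := by
    rw [Subgroup.inf_relIndex_left]
    have h1 : (cj (u * g) B).relIndex B ≤ 3 := by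
      rw [← hidx]
      exact Subgroup.relIndex_le_of_le_right hBM₂ (by rw [hidx]; norm_num)
    have h2 : (cj (u * g) B).relIndex B ∣ 2 ^ n := by
      rw [← hn]; exact Subgroup.relIndex_dvd_card _ _
    obtain ⟨i, _, hi⟩ := (Nat.dvd_prime_pow Nat.prime_two).mp h2
    rw [hi] at h1 ⊢
    have hi2 : i < 2 := by
      by_contra hcon
      have : 2 ^ 2 ≤ 2 ^ i := Nat.pow_le_pow_right (by norm_num) (by omega)
      omega
    have hi0 : i ≠ 0 := by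
      intro h0
      rw [h0, pow_zero, Subgroup.relIndex_eq_one] at hi
      exact hne' (Subgroup.eq_of_le_of_card_ge hi (by omega))
    have : i = 1 := by omega
    rw [this, pow_one]
  -- generation
  have hsup₂ : B ⊔ cj (u * g) B = M₂ :=
    sup_eq_of_prime_index hBM₂ hhBM Nat.prime_three h₂ hcardh hne'
  have hsup₁ : cj (u * g)⁻¹ B ⊔ B = M₁ := by
    have := congrArg (cj (u * g)⁻¹) hsup₂
    rw [cj_sup, cj_inv_cj, ← hhM, cj_inv_cj] at this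
    exact this
  have hgen : cj (u * g)⁻¹ B ⊔ B ⊔ cj (u * g) B = ⊤ := by
    rw [eq_top_iff, ← Pair.sup_eq_top hp]
    apply sup_le
    · rw [← hsup₁]; exact le_sup_left
    · rw [← hsup₂]
      exact sup_le (le_sup_right.trans le_sup_left) le_sup_right
  have hcore : ∀ R : Subgroup G, R ≤ B → R.Normal → R = ⊥ := by
    intro R hR hRn
    have : R ≤ M₁.normalCore := (Subgroup.normal_le_normalCore).mpr (hR.trans hBM₁)
    rw [hp.core₁] at this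
    exact le_bot_iff.mp this
  exact tutte B (u * g) hT hgen hcore

/-- `M₁ ⊓ M₂` is a `2`-group -/
theorem exists_card_inf_eq_two_pow {M₁ M₂ : Subgroup G} (hp : Pair M₁ M₂) (e : ↥M₁ ≃* ↥M₂)
    (h₁ : (M₁ ⊓ M₂).relIndex M₁ = 3) (h₂ : (M₁ ⊓ M₂).relIndex M₂ = 3) :
    ∃ n : ℕ, Nat.card ↥(M₁ ⊓ M₂) = 2 ^ n := by
  have hA2B : cA2 M₁ M₂ ≤ M₁ ⊓ M₂ :=
    (cA2_le_yY M₁ M₂).trans ((yY_le_cA M₁ M₂).trans (cA_le_inf M₁ M₂))
  have hB2B : cA2 M₂ M₁ ≤ M₁ ⊓ M₂ :=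
    (cA2_le_yY' M₁ M₂).trans ((yY_le_cA M₁ M₂).trans (cA_le_inf M₁ M₂))
  have h48 : (3 : ℕ).factorial * ((3 - 1 : ℕ).factorial) ^ 3 = 16 * 3 := by decide
  have hrA : (cA2 M₁ M₂).relIndex (M₁ ⊓ M₂) ∣ 16 := by
    have h := relIndex_cA2_dvd M₁ M₂ 3 h₁ h₂
    rw [h48, ← Subgroup.relIndex_mul_relIndex _ _ _ hA2B inf_le_left, h₁] at h
    exact Nat.dvd_of_mul_dvd_mul_right (by norm_num) h
  have hrB : (cA2 M₂ M₁).relIndex (M₁ ⊓ M₂) ∣ 16 := by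
    have h := relIndex_cA2_dvd M₂ M₁ 3 (by rw [inf_comm]; exact h₂) (by rw [inf_comm]; exact h₁)
    rw [h48, ← Subgroup.relIndex_mul_relIndex _ _ _ hB2B inf_le_right, h₂] at h
    exact Nat.dvd_of_mul_dvd_mul_right (by norm_num) h
  have h16 : (16 : ℕ) = 2 ^ 4 := by norm_num
  by_cases hA : cA2 M₁ M₂ = ⊥
  · rw [hA, Subgroup.relIndex_bot_left, h16] at hrA
    obtain ⟨i, _, hi⟩ := (Nat.dvd_prime_pow Nat.prime_two).mp hrA
    exact ⟨i, hi⟩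
  by_cases hB : cA2 M₂ M₁ = ⊥
  · rw [hB, Subgroup.relIndex_bot_left, h16] at hrB
    obtain ⟨i, _, hi⟩ := (Nat.dvd_prime_pow Nat.prime_two).mp hrB
    exact ⟨i, hi⟩
  obtain ⟨p, hpp, hpA, hpB, hpAB, -⟩ := tw_full hp e hA hB
  have hpf : Fact p.Prime := ⟨hpp⟩
  by_cases hp2 : p = 2
  · subst hp2
    obtain ⟨a, ha⟩ := IsPGroup.iff_card.mp hpA
    have hc := card_mul_relIndex hA2B
    have hd : Nat.card ↥(M₁ ⊓ M₂) ∣ 2 ^ (a + 4) := by
      rw [← hc, ha, pow_add]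
      exact Nat.mul_dvd_mul_left _ (by rw [← h16]; exact hrA)
    obtain ⟨i, _, hi⟩ := (Nat.dvd_prime_pow Nat.prime_two).mp hd
    exact ⟨i, hi⟩
  · exfalso
    have hPB : cA2 M₁ M₂ ⊔ cA2 M₂ M₁ ≤ M₁ ⊓ M₂ := sup_le hA2B hB2B
    obtain ⟨c, hc⟩ := IsPGroup.iff_card.mp hpAB
    have key : ∀ X : Subgroup G, X ≤ cA2 M₁ M₂ ⊔ cA2 M₂ M₁ → X.relIndex (M₁ ⊓ M₂) ∣ 16 →
        cA2 M₁ M₂ ⊔ cA2 M₂ M₁ ≤ X := by
      intro X hX hX16
      have h1 : X.relIndex (cA2 M₁ M₂ ⊔ cA2 M₂ M₁) ∣ 2 ^ 4 := by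
        rw [← h16]
        exact (Dvd.intro _ (Subgroup.relIndex_mul_relIndex _ _ _ hX hPB)).trans hX16
      have h2 : X.relIndex (cA2 M₁ M₂ ⊔ cA2 M₂ M₁) ∣ p ^ c := by
        rw [← hc]; exact Subgroup.relIndex_dvd_card _ _
      obtain ⟨i, _, hi⟩ := (Nat.dvd_prime_pow hpp).mp h2
      have hi0 : i = 0 := by
        by_contra hi0
        have h3 : p ∣ 2 ^ 4 := (dvd_pow_self p hi0).trans (hi ▸ h1)
        have h4 : p ∣ 2 := hpp.dvd_of_dvd_pow h3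
        exact hp2 ((Nat.prime_dvd_prime_iff_eq hpp Nat.prime_two).mp h4)
      rw [hi0, pow_zero, Subgroup.relIndex_eq_one] at hi
      exact hi
    have hAB : cA2 M₁ M₂ = cA2 M₂ M₁ := by
      apply le_antisymm
      · exact le_sup_left.trans (key _ le_sup_right hrB)
      · exact le_sup_right.trans (key _ le_sup_left hrA)
    refine Pair.false_of_both hp (cA2 M₁ M₂) hA (coreIn_le_left _ _) (le_normalizer_cA2 M₁ M₂) ?_
    rw [hAB]
    exact le_normalizer_cA2 M₂ M₁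

theorem card_inf_dvd_sixteen {M₁ M₂ : Subgroup G} (hp : Pair M₁ M₂) (g₀ : G)
    (hg₀ : cj g₀ M₁ = M₂) (h₁ : (M₁ ⊓ M₂).relIndex M₁ = 3) (h₂ : (M₁ ⊓ M₂).relIndex M₂ = 3) :
    Nat.card ↥(M₁ ⊓ M₂) ∣ 16 := by
  have e : ↥M₁ ≃* ↥M₂ :=
    ((MulAut.conj g₀).subgroupMap M₁).trans (MulEquiv.subgroupCongr hg₀)
  obtain ⟨n, hn⟩ := exists_card_inf_eq_two_pow hp e h₁ h₂
  -- adjust the conjugating element so that it normalizes the intersection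
  obtain ⟨m, hm, hmB⟩ := exists_conj_eq_of_card (M := M₂) (P := M₁ ⊓ M₂)
    (Q := cj g₀ (M₁ ⊓ M₂)) inf_le_right (by rw [← hg₀]; exact cj_mono inf_le_left) n hn
    (by rw [card_cj, hn]) h₂
  have hmM : cj m M₂ = M₂ := mem_normalizer_iff_cj.mp (Subgroup.le_normalizer hm)
  have hgB : cj (m * g₀) (M₁ ⊓ M₂) = M₁ ⊓ M₂ := by rw [cj_mul, hmB]
  have hgM : cj (m * g₀) M₁ = M₂ := by rw [cj_mul, hg₀, hmM]
  by_cases hmove₂ : ∃ u ∈ M₂, cj u (M₁ ⊓ M₂) ≠ M₁ ⊓ M₂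
  · obtain ⟨u, hu, hne⟩ := hmove₂
    exact card_dvd_of_moving hp n hn h₂ (m * g₀) hgB hgM u hu hne
  by_cases hmove₁ : ∃ u ∈ M₁, cj u (M₁ ⊓ M₂) ≠ M₁ ⊓ M₂
  · obtain ⟨u, hu, hne⟩ := hmove₁
    have hgB' : cj (m * g₀)⁻¹ (M₂ ⊓ M₁) = M₂ ⊓ M₁ := by
      rw [inf_comm]
      conv_lhs => rw [← hgB]
      rw [cj_inv_cj]
    have hgM' : cj (m * g₀)⁻¹ M₂ = M₁ := by
      rw [← hgM, cj_inv_cj]
    have := card_dvd_of_moving hp.symm n (by rw [inf_comm]; exact hn)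
      (by rw [inf_comm]; exact h₁) (m * g₀)⁻¹ hgB' hgM' u hu (by rw [inf_comm]; exact hne)
    rwa [inf_comm] at this
  · push Not at hmove₂ hmove₁
    by_cases hbot : M₁ ⊓ M₂ = ⊥
    · rw [hbot, Subgroup.card_bot]; norm_num
    · exfalso
      refine Pair.false_of_both hp (M₁ ⊓ M₂) hbot inf_le_left ?_ ?_
      · intro u hu
        exact mem_normalizer_iff_cj.mpr (hmove₁ u hu)
      · intro u hu
        exact mem_normalizer_iff_cj.mpr (hmove₂ u hu)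

end app

end Cfsg.Agent.Helper10.Tutte
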