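import Mathlib
import Cfsg.Agent.Lib.Helper10.Tutte4
import Cfsg.Agent.Lib.Helper10.Sims1
import Cfsg.Agent.Lib.Helper22.Aut3U

set_option autoImplicit false

/-! Sims: structure of the stabilizer when a suborbit has length three (internal forms of the
recognition lemmas, and the bound on the parameter `s`). -/

namespace Cfsg.Agent.Helper10.Sims

open Subgroup Cfsg.Agent.Helper10.Tutte

universe u

section struct0

variable {G : Type u} [Group G] [Finite G]

/-- the outcome of Tutte's theorem, with the parameter `s` -/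
theorem tutte_struct (B : Subgroup G) (h : G) (hT : (B ⊓ cj h B).relIndex B = 2)
    (hgen : cj h⁻¹ B ⊔ B ⊔ cj h B = ⊤)
    (hcore : ∀ R : Subgroup G, R ≤ B → R.Normal → R = ⊥) :
    ∃ s : ℕ, 2 ≤ s ∧ s ≤ 5 ∧
      (∀ (a : ℤ) (m : ℕ), 1 ≤ m → m ≤ s → Nat.card ↥(K B h a (a + m)) = 2 ^ (s - m)) ∧
      (∀ a b : ℤ, a + s ≤ b → K B h a b = ⊥) ∧
      (3 ≤ s → ∃ e0 : G, Cfg B h s e0) := by
  have hgen' : Bk B h (-1) ⊔ Bk B h 0 ⊔ Bk B h 1 = ⊤ := by
    unfold Bk
    rw [zpow_neg_one, zpow_zero, zpow_one, cj_one]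
    exact hgen
  obtain ⟨s, hs2, hcard, hbot⟩ := partA B h hT hgen' hcore
  have hex : 3 ≤ s → ∃ e0 : G, Cfg B h s e0 := by
    intro hs3
    have hc2 : Nat.card ↥(K B h 0 ((s : ℤ) - 1)) = 2 := by
      have := hcard 0 (s - 1) (by omega) (by omega)
      have e : (0 : ℤ) + ((s - 1 : ℕ) : ℤ) = (s : ℤ) - 1 := by omega
      rw [e] at this
      rw [this]
      have : s - (s - 1) = 1 := by omega
      rw [this, pow_one]
    have hne : K B h 0 ((s : ℤ) - 1) ≠ ⊥ := by
      intro hb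
      rw [hb, Subgroup.card_bot] at hc2
      omega
    obtain ⟨x, hx, hx1⟩ : ∃ y : G, y ∈ K B h 0 ((s : ℤ) - 1) ∧ y ≠ 1 := by
      obtain ⟨y, hy⟩ := (Subgroup.ne_bot_iff_exists_ne_one).mp hne
      exact ⟨(y : G), y.2, fun hh => hy (Subtype.ext hh)⟩
    exact ⟨x, ⟨hs3, hcard, hbot, hgen', hcore, hx, hx1⟩⟩
  refine ⟨s, hs2, ?_, hcard, hbot, hex⟩
  by_contra hs6
  obtain ⟨e0, C⟩ := hex (by omega)
  exact C.false (by omega)

end struct0

section internal

variable {G : Type u} [Group G] [Finite G]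

/-- the core of `B` in `M` is `B ⊓ B₁` when this is normal in `M` and `B₁` is a conjugate -/
theorem normalCore_subgroupOf_eq {M B B₁ N : Subgroup G} (hNB : N = B ⊓ B₁) (hNM : N ≤ M)
    (hNn : M ≤ normalizer (N : Set G)) (hu : ∃ u ∈ M, cj u B ≤ B₁) :
    (B.subgroupOf M).normalCore = N.subgroupOf M := by
  apply le_antisymm
  · intro x hx
    rw [Subgroup.mem_subgroupOf, hNB]
    obtain ⟨u, huM, hu⟩ := hu
    refine ⟨?_, ?_⟩
    · have := hx 1
      rw [Subgroup.mem_subgroupOf] at this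
      simpa using this
    · apply hu
      rw [mem_cj]
      have := hx ⟨u⁻¹, M.inv_mem huM⟩
      rw [Subgroup.mem_subgroupOf] at this
      simpa using this
  · have hn : (N.subgroupOf M).Normal :=
      (Subgroup.normal_subgroupOf_iff_le_normalizer hNM).mpr hNn
    rw [Subgroup.normal_le_normalCore]
    intro x hx
    rw [Subgroup.mem_subgroupOf] at hx ⊢
    rw [hNB] at hx
    exact hx.1

variable {M B B₁ N : Subgroup G}

theorem cube_mem_internal (hidx : B.relIndex M = 3) (hNB : N = B ⊓ B₁) (hNM : N ≤ M)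
    (hNn : M ≤ normalizer (N : Set G)) (hu : ∃ u ∈ M, cj u B ≤ B₁) {t t' : G} (htM : t ∈ M)
    (ht'M : t' ∈ M) (ht : t * t ∈ N) (ht' : t' * t' ∈ N) (htN : t ∉ N) (ht'N : t' ∉ N) :
    (t * t') ^ 3 ∈ N := by
  have hcore := normalCore_subgroupOf_eq hNB hNM hNn hu
  have := cube_mem_core (M := ↥M) (B.subgroupOf M) hidx (t := ⟨t, htM⟩) (t' := ⟨t', ht'M⟩)
    (by rw [hcore, Subgroup.mem_subgroupOf]; exact ht)
    (by rw [hcore, Subgroup.mem_subgroupOf]; exact ht')
    (by rw [hcore, Subgroup.mem_subgroupOf]; exact htN)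
    (by rw [hcore, Subgroup.mem_subgroupOf]; exact ht'N)
  rw [hcore, Subgroup.mem_subgroupOf] at this
  exact this

theorem centralizer_le_internal (hidx : B.relIndex M = 3) (hNB : N = B ⊓ B₁) (hNM : N ≤ M)
    (hNn : M ≤ normalizer (N : Set G)) (hu : ∃ u ∈ M, cj u B ≤ B₁)
    (hab : ∀ v ∈ N, ∀ w ∈ N, Commute v w) {t y : G} (htM : t ∈ M) (hyM : y ∈ M)
    (ht : t * t ∈ N) (hy : y ^ 3 ∈ N) (htc : ∃ v ∈ N, ¬ Commute t v)
    (hyc : ∃ v ∈ N, ¬ Commute y v) :
    ∀ x ∈ M, (∀ v ∈ N, Commute x v) → x ∈ N := by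
  have hcore := normalCore_subgroupOf_eq hNB hNM hNn hu
  have hn : (N.subgroupOf M).Normal :=
    (Subgroup.normal_subgroupOf_iff_le_normalizer hNM).mpr hNn
  have hmemC : ∀ x : ↥M, x ∈ centralizer ((N.subgroupOf M : Subgroup ↥M) : Set ↥M) ↔
      ∀ v ∈ N, Commute (x : G) v := by
    intro x
    rw [Subgroup.mem_centralizer_iff]
    constructor
    · intro hx v hv
      have := hx ⟨v, hNM hv⟩ (by rw [SetLike.mem_coe, Subgroup.mem_subgroupOf]; exact hv)
      exact (congrArg Subtype.val this).symm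
    · intro hx v hv
      rw [SetLike.mem_coe, Subgroup.mem_subgroupOf] at hv
      exact Subtype.ext ((hx v hv).eq).symm
  have hle := le_core_of_normal (M := ↥M) (B.subgroupOf M) hidx
    (centralizer ((N.subgroupOf M : Subgroup ↥M) : Set ↥M))
    (t := ⟨t, htM⟩) (y := ⟨y, hyM⟩)
    (by
      rw [hcore]
      intro x hx
      rw [Subgroup.mem_subgroupOf] at hx
      rw [hmemC]
      intro v hv
      exact hab _ hx v hv)
    (by rw [hcore, Subgroup.mem_subgroupOf]; exact ht)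
    (by
      rw [hmemC]
      obtain ⟨v, hv, hc⟩ := htc
      exact fun hh => hc (hh v hv))
    (by rw [hcore, Subgroup.mem_subgroupOf]; exact hy)
    (by
      rw [hmemC]
      obtain ⟨v, hv, hc⟩ := hyc
      exact fun hh => hc (hh v hv))
  intro x hxM hx
  have := hle ((hmemC ⟨x, hxM⟩).mpr hx)
  rw [hcore, Subgroup.mem_subgroupOf] at this
  exact this

theorem card_subgroupOf_of_le {H L : Subgroup G} (h : H ≤ L) :
    Nat.card ↥(H.subgroupOf L) = Nat.card ↥H :=
  Nat.card_congr (Subgroup.subgroupOfEquivOfLe h).toEquiv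

theorem mem_centralizer_subgroupOf {M N : Subgroup G} (hNM : N ≤ M) (x : ↥M) :
    x ∈ centralizer ((N.subgroupOf M : Subgroup ↥M) : Set ↥M) ↔
      ∀ v ∈ N, Commute (x : G) v := by
  rw [Subgroup.mem_centralizer_iff]
  constructor
  · intro hx v hv
    have := hx ⟨v, hNM hv⟩ (by rw [SetLike.mem_coe, Subgroup.mem_subgroupOf]; exact hv)
    exact (congrArg Subtype.val this).symm
  · intro hx v hv
    rw [SetLike.mem_coe, Subgroup.mem_subgroupOf] at hv
    exact Subtype.ext ((hx v hv).eq).symm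

theorem s3_internal {M B : Subgroup G} (hBM : B ≤ M) (hcard : Nat.card ↥M = 6)
    (hB : Nat.card ↥B = 2) (hn : ¬ M ≤ normalizer (B : Set G)) :
    Nonempty (↥M ≃* Equiv.Perm (Fin 3)) := by
  apply s3_recog (M := ↥M) hcard (B.subgroupOf M)
  · rw [card_subgroupOf_of_le hBM, hB]
  · intro hnorm
    exact hn ((Subgroup.normal_subgroupOf_iff_le_normalizer hBM).mp hnorm)

theorem d12_internal {M : Subgroup G} (hcard : Nat.card ↥M = 12) {z t t' : G} (hzM : z ∈ M)
    (htM : t ∈ M) (ht'M : t' ∈ M) (hz : ∀ g ∈ M, Commute z g) (hz2 : z * z = 1) (hz1 : z ≠ 1)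
    (ht : t * t = 1) (ht' : t' * t' = 1) (hy3 : (t * t') ^ 3 = 1 ∨ (t * t') ^ 3 = z)
    (hy2 : (t * t') ^ 2 ≠ 1) : Nonempty (↥M ≃* DihedralGroup 6) := by
  apply d12_recog (M := ↥M) hcard ⟨z, hzM⟩ ⟨t, htM⟩ ⟨t', ht'M⟩
  · intro g
    exact Subtype.ext (hz g g.2).eq
  · exact Subtype.ext hz2
  · exact fun hh => hz1 (congrArg Subtype.val hh)
  · exact Subtype.ext ht
  · exact Subtype.ext ht'
  · rcases hy3 with h | h
    · left; exact Subtype.ext h
    · right; exact Subtype.ext h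
  · exact fun hh => hy2 (congrArg Subtype.val hh)

theorem s4_internal {M N : Subgroup G} (hNM : N ≤ M) (hNn : M ≤ normalizer (N : Set G))
    (hcard : Nat.card ↥M = 24) (hN : Nat.card ↥N = 4)
    (hC : ∀ x ∈ M, (∀ v ∈ N, Commute x v) → x ∈ N) :
    Nonempty (↥M ≃* Equiv.Perm (Fin 4)) := by
  have hn : (N.subgroupOf M).Normal :=
    (Subgroup.normal_subgroupOf_iff_le_normalizer hNM).mpr hNn
  apply s4_recog (M := ↥M) hcard (N.subgroupOf M)
  · rw [card_subgroupOf_of_le hNM, hN]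
  · intro x hx
    rw [mem_centralizer_subgroupOf hNM] at hx
    rw [Subgroup.mem_subgroupOf]
    exact hC x x.2 hx

theorem s4z2_internal {M N A : Subgroup G} (hNM : N ≤ M) (hNn : M ≤ normalizer (N : Set G))
    (hcard : Nat.card ↥M = 48) (hN : Nat.card ↥N = 8)
    (hC : ∀ x ∈ M, (∀ v ∈ N, Commute x v) → x ∈ N) {z : G} (hzM : z ∈ M)
    (hz : ∀ g ∈ M, Commute z g) (hz2 : z * z = 1) (hz1 : z ≠ 1) (hAM : A ≤ M)
    (hA : Nat.card ↥A = 8) (hzA : z ∉ A) :
    Nonempty (↥M ≃* Equiv.Perm (Fin 4) × Multiplicative (ZMod 2)) := by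
  have hn : (N.subgroupOf M).Normal :=
    (Subgroup.normal_subgroupOf_iff_le_normalizer hNM).mpr hNn
  apply s4z2_recog (M := ↥M) hcard (N.subgroupOf M) _ _ ⟨z, hzM⟩ _ _ _ (A.subgroupOf M)
  · rw [card_subgroupOf_of_le hAM, hA]
  · rw [Subgroup.mem_subgroupOf]; exact hzA
  · rw [card_subgroupOf_of_le hNM, hN]
  · intro x hx
    rw [mem_centralizer_subgroupOf hNM] at hx
    rw [Subgroup.mem_subgroupOf]
    exact hC x x.2 hx
  · intro g
    exact Subtype.ext (hz g g.2).eq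
  · exact Subtype.ext hz2
  · exact fun hh => hz1 (congrArg Subtype.val hh)

end internal

end Cfsg.Agent.Helper10.Sims
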