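import Mathlib
import Cfsg.Agent.Lib.Helper10.Sims2

set_option autoImplicit false

/-! Sims: the structure of `M = ⟨B, hBh⁻¹⟩` in the configuration of Tutte's theorem, when `B`
has index three in `M`. -/

namespace Cfsg.Agent.Helper10.Tutte

open Subgroup Cfsg.Agent.Helper10.Sims

universe u

section kcalc

variable {G : Type u} [Group G] [Finite G] {B : Subgroup G} {h : G} {s : ℕ} {e0 : G} {lam : ℕ}

local notation "𝔢" => ee h e0

theorem K01 : K B h 0 1 = Bk B h 0 := by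
  have := K_single (B := B) (h := h) 0
  rwa [zero_add] at this

theorem K12 : K B h 1 2 = Bk B h 1 := by
  have := K_single (B := B) (h := h) 1
  norm_num at this
  exact this

theorem N_eq : K B h 0 2 = Bk B h 0 ⊓ Bk B h 1 := by
  rw [← K01, ← K12, K_inf (by norm_num) le_rfl (by norm_num)]

theorem Cfg.card_Bk0 (C : Cfg B h s e0) : Nat.card ↥(Bk B h 0) = 2 ^ (s - 1) := by
  have hs := C.hs
  rw [← K01]
  exact C.cardK 1 (by norm_num) le_rfl (by omega)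

theorem Cfg.card_Bk1 (C : Cfg B h s e0) : Nat.card ↥(Bk B h 1) = 2 ^ (s - 1) := by
  have hs := C.hs
  rw [← K12]
  exact C.cardK 1 (by norm_num) le_rfl (by omega)

theorem Cfg.card_N (C : Cfg B h s e0) : Nat.card ↥(K B h 0 2) = 2 ^ (s - 2) := by
  have hs := C.hs
  exact C.cardK 2 (by norm_num) (by norm_num) (by omega)

theorem Cfg.card_M (C : Cfg B h s e0) {M : Subgroup G} (hB0 : Bk B h 0 ≤ M)
    (hidx : (Bk B h 0).relIndex M = 3) : Nat.card ↥M = 2 ^ (s - 1) * 3 := by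
  have := card_mul_relIndex hB0
  rw [hidx, C.card_Bk0] at this
  exact this.symm

theorem Cfg.exists_u (C : Cfg B h s e0) {M : Subgroup G} (hB0 : Bk B h 0 ≤ M)
    (hB1 : Bk B h 1 ≤ M) (hidx : (Bk B h 0).relIndex M = 3) :
    ∃ u ∈ M, cj u (Bk B h 0) ≤ Bk B h 1 := by
  have hidx1 : (Bk B h 1).relIndex M = 3 := by
    have h1 := card_mul_relIndex hB1
    rw [C.card_M hB0 hidx, C.card_Bk1] at h1
    have hpos : 0 < 2 ^ (s - 1) := by positivity
    exact Nat.eq_of_mul_eq_mul_left hpos h1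
  obtain ⟨m, hm, hmB⟩ := exists_conj_eq_of_card (M := M) (P := Bk B h 1) (Q := Bk B h 0)
    hB1 hB0 (s - 1) C.card_Bk1 C.card_Bk0 hidx1
  exact ⟨m, hm, hmB.le⟩

theorem Cfg.le_normalizer_N (C : Cfg B h s e0) :
    Bk B h 0 ⊔ Bk B h 1 ≤ normalizer ((K B h 0 2 : Subgroup G) : Set G) := by
  have hs := C.hs
  apply sup_le
  · rw [← K01]
    exact le_normalizer_of_card (K_anti le_rfl (by norm_num))
      (C.card_two 1 (by norm_num) (by norm_num) le_rfl (by omega))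
  · rw [← K12]
    exact le_normalizer_of_card (K_anti (by norm_num) le_rfl)
      (C.card_two 1 (by norm_num) (by norm_num) le_rfl (by omega))

theorem Cfg.M_le_closure (C : Cfg B h s e0) :
    Bk B h 0 ⊔ Bk B h 1 ≤ closure (𝔢 '' Set.Icc (2 - (s : ℤ)) 1) :=
  sup_le (C.Bk_le_closure 0 _ _ (by omega) (by norm_num))
    (C.Bk_le_closure 1 _ _ (by omega) le_rfl)

theorem Cfg.ee_mem_M (C : Cfg B h s e0) {i : ℤ} (h1 : 2 - (s : ℤ) ≤ i) (h2 : i ≤ 1) :
    𝔢 i ∈ Bk B h 0 ⊔ Bk B h 1 := by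
  have hs := C.hs
  by_cases hi : i ≤ 0
  · apply (le_sup_left : Bk B h 0 ≤ _)
    rw [← K01]
    exact C.ee_mem_K hi (by omega)
  · apply (le_sup_right : Bk B h 1 ≤ _)
    rw [← K12]
    exact C.ee_mem_K (by omega) (by omega)

theorem Cfg.t_not_mem_N (C : Cfg B h s e0) : 𝔢 (2 - (s : ℤ)) ∉ K B h 0 2 :=
  C.ee_not_mem_right (by omega) (by omega)

theorem Cfg.t'_not_mem_N (C : Cfg B h s e0) : 𝔢 1 ∉ K B h 0 2 :=
  C.ee_not_mem_left (by norm_num) (by norm_num)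

theorem Cfg.t'_not_mem_B (C : Cfg B h s e0) : 𝔢 1 ∉ Bk B h 0 := by
  rw [← K01]
  exact C.ee_not_mem_left (by norm_num) (by norm_num)

theorem Cfg.cube_mem (C : Cfg B h s e0) {M : Subgroup G} (hM : M = Bk B h 0 ⊔ Bk B h 1)
    (hidx : (Bk B h 0).relIndex M = 3) : (𝔢 (2 - (s : ℤ)) * 𝔢 1) ^ 3 ∈ K B h 0 2 := by
  have hs := C.hs
  have hB0 : Bk B h 0 ≤ M := by rw [hM]; exact le_sup_left
  have hB1 : Bk B h 1 ≤ M := by rw [hM]; exact le_sup_right
  have hNM : K B h 0 2 ≤ M := by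
    rw [N_eq]; exact inf_le_left.trans hB0
  apply cube_mem_internal hidx N_eq hNM (by rw [hM]; exact C.le_normalizer_N)
    (C.exists_u hB0 hB1 hidx)
  · rw [hM]; exact C.ee_mem_M le_rfl (by omega)
  · rw [hM]; exact C.ee_mem_M (by omega) le_rfl
  · rw [C.ee_sq]; exact one_mem _
  · rw [C.ee_sq]; exact one_mem _
  · exact C.t_not_mem_N
  · exact C.t'_not_mem_N

/-- `e i` centralizes `M` when it commutes with all the generators -/
theorem Cfg.commute_M (C : Cfg B h s e0) (L : Lam h e0 s lam) {i : ℤ} (hi1 : 1 < i + lam)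
    (hi2 : i + s < 2 + lam) : ∀ g ∈ Bk B h 0 ⊔ Bk B h 1, Commute (𝔢 i) g := by
  intro g hg
  apply commute_of_mem_closure_right _ (C.M_le_closure hg)
  rintro y ⟨j, hj, rfl⟩
  rw [Set.mem_Icc] at hj
  exact L.comm i j (by omega) (by omega)

theorem Cfg.N_abelian (C : Cfg B h s e0) (L : Lam h e0 s lam) (hlam : s < lam + 3) :
    ∀ v ∈ K B h 0 2, ∀ w ∈ K B h 0 2, Commute v w := by
  intro v hv w hw
  have h1 := C.K_le_closure 0 2 (by norm_num) hv
  have h2 := C.K_le_closure 0 2 (by norm_num) hw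
  apply commute_of_mem_closure _ h1 h2
  rintro x ⟨i, hi, rfl⟩ y ⟨j, hj, rfl⟩
  rw [Set.mem_Icc] at hi hj
  exact L.comm i j (by omega) (by omega)

theorem Cfg.e0_mem_N (C : Cfg B h s e0) : 𝔢 0 ∈ K B h 0 2 := by
  have hs := C.hs
  exact C.ee_mem_K le_rfl (by omega)

theorem Cfg.not_commute_y (C : Cfg B h s e0) (L : Lam h e0 s lam) (hlam : lam + 2 = s) :
    ¬ Commute (𝔢 (2 - (s : ℤ))) (𝔢 0) ∧ ¬ Commute (𝔢 (2 - (s : ℤ)) * 𝔢 1) (𝔢 0) := by
  have hl := L.two_le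
  have h1 : ¬ Commute (𝔢 (2 - (s : ℤ))) (𝔢 0) := by
    have := L.ncomm (2 - (s : ℤ))
    have e : 2 - (s : ℤ) + lam = 0 := by omega
    rwa [e] at this
  refine ⟨h1, fun hc => h1 ?_⟩
  have h2 : Commute (𝔢 1) (𝔢 0) := L.comm 1 0 (by omega) (by omega)
  have : 𝔢 (2 - (s : ℤ)) = (𝔢 (2 - (s : ℤ)) * 𝔢 1) * (𝔢 1)⁻¹ := by group
  rw [this]
  exact hc.mul_left h2.inv_left

theorem Cfg.centralizer_le (C : Cfg B h s e0) (L : Lam h e0 s lam) (hlam : lam + 2 = s)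
    {M : Subgroup G} (hM : M = Bk B h 0 ⊔ Bk B h 1) (hidx : (Bk B h 0).relIndex M = 3) :
    ∀ x ∈ M, (∀ v ∈ K B h 0 2, Commute x v) → x ∈ K B h 0 2 := by
  have hs := C.hs
  have hB0 : Bk B h 0 ≤ M := by rw [hM]; exact le_sup_left
  have hB1 : Bk B h 1 ≤ M := by rw [hM]; exact le_sup_right
  have hNM : K B h 0 2 ≤ M := by
    rw [N_eq]; exact inf_le_left.trans hB0
  have htM : 𝔢 (2 - (s : ℤ)) ∈ M := by rw [hM]; exact C.ee_mem_M le_rfl (by omega)
  have ht'M : 𝔢 1 ∈ M := by rw [hM]; exact C.ee_mem_M (by omega) le_rfl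
  obtain ⟨hnc1, hnc2⟩ := C.not_commute_y L hlam
  exact centralizer_le_internal hidx N_eq hNM (by rw [hM]; exact C.le_normalizer_N)
    (C.exists_u hB0 hB1 hidx) (C.N_abelian L (by omega)) htM (M.mul_mem htM ht'M)
    (by rw [C.ee_sq]; exact one_mem _) (C.cube_mem hM hidx)
    ⟨𝔢 0, C.e0_mem_N, hnc1⟩ ⟨𝔢 0, C.e0_mem_N, hnc2⟩

theorem two_mul_card_le {H L : Subgroup G} (hle : H ≤ L) {x : G} (hx : x ∈ L) (hxH : x ∉ H) :
    2 * Nat.card ↥H ≤ Nat.card ↥L := by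
  obtain ⟨k, hk⟩ := Subgroup.card_dvd_of_le hle
  have hpos : 0 < Nat.card ↥H := Nat.card_pos
  have hposL : 0 < Nat.card ↥L := Nat.card_pos
  have hk2 : 2 ≤ k := by
    by_contra hcon
    have : k = 0 ∨ k = 1 := by omega
    rcases this with rfl | rfl
    · rw [hk] at hposL; omega
    · rw [mul_one] at hk
      have : H = L := Subgroup.eq_of_le_of_card_ge hle (by omega)
      exact hxH (this ▸ hx)
  rw [hk]
  calc 2 * Nat.card ↥H = Nat.card ↥H * 2 := by ring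
    _ ≤ Nat.card ↥H * k := Nat.mul_le_mul_left _ hk2

theorem Cfg.struct3 (C : Cfg B h 3 e0) {M : Subgroup G} (hM : M = Bk B h 0 ⊔ Bk B h 1)
    (hidx : (Bk B h 0).relIndex M = 3) : Nonempty (↥M ≃* DihedralGroup 6) := by
  obtain ⟨lam, L⟩ := C.exists_lam
  have hl1 := L.two_le
  have hl2 := L.le
  have hB0 : Bk B h 0 ≤ M := by rw [hM]; exact le_sup_left
  have hcard : Nat.card ↥M = 12 := by rw [C.card_M hB0 hidx]; norm_num
  have hz : ∀ g ∈ M, Commute (𝔢 0) g := by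
    rw [hM]
    exact C.commute_M L (i := 0) (by omega) (by push_cast; omega)
  have hcube := C.cube_mem hM hidx
  have e1 : (2 : ℤ) - ((3 : ℕ) : ℤ) = -1 := by norm_num
  rw [e1] at hcube
  have hy3 : (𝔢 (-1) * 𝔢 1) ^ 3 = 1 ∨ (𝔢 (-1) * 𝔢 1) ^ 3 = 𝔢 0 := by
    apply C.eq_one_or 0
    have e2 : (0 : ℤ) + ((3 : ℕ) : ℤ) - 1 = 2 := by norm_num
    rw [e2]; exact hcube
  have hy2 : (𝔢 (-1) * 𝔢 1) ^ 2 ≠ 1 := by
    intro h2
    have hyN : 𝔢 (-1) * 𝔢 1 ∈ K B h 0 2 := by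
      have key : ∀ y : G, y = y ^ 3 * (y ^ 2)⁻¹ := by intro y; group
      rw [key (𝔢 (-1) * 𝔢 1), h2, inv_one, mul_one]; exact hcube
    apply C.t'_not_mem_B
    have h1 : 𝔢 (-1) ∈ Bk B h 0 := by
      rw [← K01]; exact C.ee_mem_K (by norm_num) (by norm_num)
    have h2' : 𝔢 (-1) * 𝔢 1 ∈ Bk B h 0 := by
      rw [← K01]; exact K_anti le_rfl (by norm_num) hyN
    have : 𝔢 1 = (𝔢 (-1))⁻¹ * (𝔢 (-1) * 𝔢 1) := by group
    rw [this]; exact mul_mem (inv_mem h1) h2'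
  have hm0 : 𝔢 0 ∈ M := by rw [hM]; exact C.ee_mem_M (by norm_num) (by norm_num)
  have hm1 : 𝔢 (-1) ∈ M := by rw [hM]; exact C.ee_mem_M (by norm_num) (by norm_num)
  have hm2 : 𝔢 1 ∈ M := by rw [hM]; exact C.ee_mem_M (by norm_num) (by norm_num)
  exact d12_internal hcard hm0 hm1 hm2 hz (C.ee_sq 0) (C.ee_ne 0) (C.ee_sq (-1)) (C.ee_sq 1)
    hy3 hy2

theorem Cfg.struct4 (C : Cfg B h 4 e0) {M : Subgroup G} (hM : M = Bk B h 0 ⊔ Bk B h 1)
    (hidx : (Bk B h 0).relIndex M = 3) : Nonempty (↥M ≃* Equiv.Perm (Fin 4)) := by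
  obtain ⟨lam, L⟩ := C.exists_lam
  have hl1 := L.two_le
  have hl2 := L.le
  have hB0 : Bk B h 0 ≤ M := by rw [hM]; exact le_sup_left
  have hcard : Nat.card ↥M = 24 := by rw [C.card_M hB0 hidx]; norm_num
  have hNM : K B h 0 2 ≤ M := by
    rw [N_eq]; exact inf_le_left.trans hB0
  have hcardN : Nat.card ↥(K B h 0 2) = 4 := by rw [C.card_N]; norm_num
  exact s4_internal hNM (by rw [hM]; exact C.le_normalizer_N) hcard hcardN
    (C.centralizer_le L (by omega) hM hidx)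

theorem Cfg.struct5 (C : Cfg B h 5 e0) {M : Subgroup G} (hM : M = Bk B h 0 ⊔ Bk B h 1)
    (hidx : (Bk B h 0).relIndex M = 3) :
    Nonempty (↥M ≃* Equiv.Perm (Fin 4) × Multiplicative (ZMod 2)) := by
  obtain ⟨lam, L⟩ := C.exists_lam
  have hl1 := L.two_le
  have hl2 := L.le
  obtain ⟨μ, hμ1, hμ2, hμm, hμn⟩ := C.exists_mu L (by norm_num)
  have hI := C.caseI L hμ1 hμ2 hμm hμn
  have hlam : lam = 3 := by omega
  subst hlam
  have hB0 : Bk B h 0 ≤ M := by rw [hM]; exact le_sup_left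
  have hcard : Nat.card ↥M = 48 := by rw [C.card_M hB0 hidx]; norm_num
  have hNM : K B h 0 2 ≤ M := by
    rw [N_eq]; exact inf_le_left.trans hB0
  have hcardN : Nat.card ↥(K B h 0 2) = 8 := by rw [C.card_N]; norm_num
  have hC := C.centralizer_le L (by norm_num) hM hidx
  have hNab := C.N_abelian L (by norm_num)
  obtain ⟨hnc1, hnc2⟩ := C.not_commute_y L (by norm_num)
  have hcube := C.cube_mem hM hidx
  have e1 : (2 : ℤ) - ((5 : ℕ) : ℤ) = -3 := by norm_num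
  rw [e1] at hnc1 hnc2 hcube
  -- the central involution
  have hzM : 𝔢 (-1) ∈ M := by rw [hM]; exact C.ee_mem_M (by norm_num) (by norm_num)
  have hz : ∀ g ∈ M, Commute (𝔢 (-1)) g := by
    rw [hM]
    exact C.commute_M L (i := -1) (by norm_num) (by norm_num)
  have htM : 𝔢 (-3) ∈ M := by rw [hM]; exact C.ee_mem_M (by norm_num) (by norm_num)
  have ht'M : 𝔢 1 ∈ M := by rw [hM]; exact C.ee_mem_M (by norm_num) (by norm_num)
  have he0N : 𝔢 0 ∈ K B h 0 2 := C.e0_mem_N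
  have hzN : 𝔢 (-1) ∈ K B h 0 2 := C.ee_mem_K (by norm_num) (by norm_num)
  have htN : 𝔢 (-3) ∉ K B h 0 2 := by
    have := C.t_not_mem_N
    rwa [e1] at this
  -- the commutator `a`
  obtain ⟨a, ha⟩ : ∃ a : G, a = 𝔢 (-3) * 𝔢 0 * 𝔢 (-3) * 𝔢 0 := ⟨_, rfl⟩
  have haK : a ∈ K B h (-1) 2 := by
    have := C.comm_mem (i := -3) (j := 0) (by norm_num) (by norm_num)
    norm_num at this
    rw [ha]; exact this
  have haN : a ∈ K B h 0 2 := K_anti (by norm_num) le_rfl haK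
  have ha1 : a ≠ 1 := by
    intro h1
    rw [ha] at h1
    exact hnc1 (commute_of_comm_eq_one (C.ee_sq _) (C.ee_sq _) h1)
  have haK' := C.K_le_closure (-1) 2 (by norm_num) haK
  have haa : a * a = 1 := by
    apply sq_eq_one_of_mem_closure _ _ haK'
    · rintro x ⟨i, hi, rfl⟩ y ⟨j, hj, rfl⟩
      rw [Set.mem_Icc] at hi hj
      exact L.comm i j (by push_cast at hi hj ⊢; omega) (by push_cast at hi hj ⊢; omega)
    · rintro x ⟨i, _, rfl⟩
      exact C.ee_sq i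
  have hae0 : Commute a (𝔢 0) := hNab a haN _ he0N
  have hta : Commute (𝔢 (-3)) a := by
    apply commute_of_mem_closure_right _ haK'
    rintro y ⟨j, hj, rfl⟩
    rw [Set.mem_Icc] at hj
    exact L.comm (-3) j (by push_cast at hj ⊢; omega) (by push_cast at hj ⊢; omega)
  have hte0 : 𝔢 (-3) * 𝔢 0 * (𝔢 (-3))⁻¹ = a * 𝔢 0 := by
    rw [C.ee_inv, ha, mul_assoc (𝔢 (-3) * 𝔢 0 * 𝔢 (-3)), C.ee_sq, mul_one]
  have he0K : 𝔢 0 ∉ K B h (-1) 2 := C.ee_not_mem_left (by norm_num) (by norm_num)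
  have haz : a ≠ 𝔢 (-1) := by
    intro haz
    apply hnc2
    have hy1 : (𝔢 (-3) * 𝔢 1) * 𝔢 0 * (𝔢 (-3) * 𝔢 1)⁻¹ = 𝔢 (-1) * 𝔢 0 := by
      have hc : Commute (𝔢 1) (𝔢 0) := L.comm 1 0 (by norm_num) (by norm_num)
      calc (𝔢 (-3) * 𝔢 1) * 𝔢 0 * (𝔢 (-3) * 𝔢 1)⁻¹
          = 𝔢 (-3) * (𝔢 1 * 𝔢 0) * (𝔢 1)⁻¹ * (𝔢 (-3))⁻¹ := by group
        _ = 𝔢 (-3) * (𝔢 0 * 𝔢 1) * (𝔢 1)⁻¹ * (𝔢 (-3))⁻¹ := by rw [hc.eq]
        _ = 𝔢 (-3) * 𝔢 0 * (𝔢 (-3))⁻¹ := by group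
        _ = 𝔢 (-1) * 𝔢 0 := by rw [hte0, haz]
    have hy2 : (𝔢 (-3) * 𝔢 1) * 𝔢 (-1) * (𝔢 (-3) * 𝔢 1)⁻¹ = 𝔢 (-1) := by
      have := hz _ (M.mul_mem htM ht'M)
      rw [← this.eq]; group
    have hyy : Commute ((𝔢 (-3) * 𝔢 1) * (𝔢 (-3) * 𝔢 1)) (𝔢 0) := by
      have h3 : ((𝔢 (-3) * 𝔢 1) * (𝔢 (-3) * 𝔢 1)) * 𝔢 0 *
          ((𝔢 (-3) * 𝔢 1) * (𝔢 (-3) * 𝔢 1))⁻¹ = 𝔢 0 := by
        calc ((𝔢 (-3) * 𝔢 1) * (𝔢 (-3) * 𝔢 1)) * 𝔢 0 * ((𝔢 (-3) * 𝔢 1) * (𝔢 (-3) * 𝔢 1))⁻¹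
            = (𝔢 (-3) * 𝔢 1) * ((𝔢 (-3) * 𝔢 1) * 𝔢 0 * (𝔢 (-3) * 𝔢 1)⁻¹) *
                (𝔢 (-3) * 𝔢 1)⁻¹ := by group
          _ = (𝔢 (-3) * 𝔢 1) * (𝔢 (-1) * 𝔢 0) * (𝔢 (-3) * 𝔢 1)⁻¹ := by rw [hy1]
          _ = ((𝔢 (-3) * 𝔢 1) * 𝔢 (-1) * (𝔢 (-3) * 𝔢 1)⁻¹) *
                ((𝔢 (-3) * 𝔢 1) * 𝔢 0 * (𝔢 (-3) * 𝔢 1)⁻¹) := by group
          _ = 𝔢 (-1) * (𝔢 (-1) * 𝔢 0) := by rw [hy1, hy2]
          _ = 𝔢 0 := by rw [← mul_assoc, C.ee_sq, one_mul]
      show ((𝔢 (-3) * 𝔢 1) * (𝔢 (-3) * 𝔢 1)) * 𝔢 0 = 𝔢 0 * ((𝔢 (-3) * 𝔢 1) * (𝔢 (-3) * 𝔢 1))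
      calc ((𝔢 (-3) * 𝔢 1) * (𝔢 (-3) * 𝔢 1)) * 𝔢 0
          = (((𝔢 (-3) * 𝔢 1) * (𝔢 (-3) * 𝔢 1)) * 𝔢 0 *
              ((𝔢 (-3) * 𝔢 1) * (𝔢 (-3) * 𝔢 1))⁻¹) * ((𝔢 (-3) * 𝔢 1) * (𝔢 (-3) * 𝔢 1)) := by
            group
        _ = 𝔢 0 * ((𝔢 (-3) * 𝔢 1) * (𝔢 (-3) * 𝔢 1)) := by rw [h3]
    have hy3c : Commute ((𝔢 (-3) * 𝔢 1) ^ 3) (𝔢 0) := hNab _ hcube _ he0N
    have key : ∀ y : G, y = y ^ 3 * (y * y)⁻¹ := by intro y; group
    rw [key (𝔢 (-3) * 𝔢 1)]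
    exact hy3c.mul_left hyy.inv_left
  -- the subgroup `A`
  have hmem1 : ∀ x ∈ closure ({𝔢 0} : Set G), x = 1 ∨ x = 𝔢 0 := by
    intro x hx
    apply C.eq_one_or 0
    have hle : closure ({𝔢 0} : Set G) ≤ K B h 0 (0 + ((5 : ℕ) : ℤ) - 1) := by
      rw [closure_le, Set.singleton_subset_iff]
      exact C.ee_mem 0
    exact hle hx
  have hsq2 : a * a ∈ closure ({𝔢 0} : Set G) := by rw [haa]; exact one_mem _
  have hconj2 : ∀ x ∈ ({𝔢 0} : Set G), a * x * a⁻¹ ∈ closure ({𝔢 0} : Set G) := by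
    intro x hx
    rw [Set.mem_singleton_iff] at hx
    rw [hx, hae0.eq, mul_assoc, mul_inv_cancel, mul_one]
    exact subset_closure (Set.mem_singleton _)
  have hmem2 : ∀ x ∈ closure ({a, 𝔢 0} : Set G), x = 1 ∨ x = 𝔢 0 ∨ x = a ∨ x = a * 𝔢 0 := by
    intro x hx
    rcases Cfsg.Agent.Helper22.Aut3.mem_or_of_mem_closure_insert hsq2 hconj2 hx with h1 | h1
    · rcases hmem1 x h1 with h2 | h2
      · exact Or.inl h2
      · exact Or.inr (Or.inl h2)
    · rcases hmem1 _ h1 with h2 | h2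
      · right; right; left
        calc x = a * (a⁻¹ * x) := by group
          _ = a := by rw [h2, mul_one]
      · right; right; right
        calc x = a * (a⁻¹ * x) := by group
          _ = a * 𝔢 0 := by rw [h2]
  have hA2N : closure ({a, 𝔢 0} : Set G) ≤ K B h 0 2 := by
    rw [closure_le]
    intro x hx
    rcases hx with rfl | hx
    · exact haN
    · rw [Set.mem_singleton_iff] at hx
      rw [hx]; exact he0N
  have hsq3 : 𝔢 (-3) * 𝔢 (-3) ∈ closure ({a, 𝔢 0} : Set G) := by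
    rw [C.ee_sq]; exact one_mem _
  have hconj3 : ∀ x ∈ ({a, 𝔢 0} : Set G),
      𝔢 (-3) * x * (𝔢 (-3))⁻¹ ∈ closure ({a, 𝔢 0} : Set G) := by
    intro x hx
    rcases hx with rfl | hx
    · rw [hta.eq, mul_assoc, mul_inv_cancel, mul_one]
      exact subset_closure (Set.mem_insert _ _)
    · rw [Set.mem_singleton_iff] at hx
      rw [hx, hte0]
      exact mul_mem (subset_closure (Set.mem_insert _ _))
        (subset_closure (Set.mem_insert_of_mem _ (Set.mem_singleton _)))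
  obtain ⟨A, hAdef⟩ : ∃ A : Subgroup G, A = closure (insert (𝔢 (-3)) ({a, 𝔢 0} : Set G)) :=
    ⟨_, rfl⟩
  have hAM : A ≤ M := by
    rw [hAdef, closure_le]
    intro x hx
    rcases hx with rfl | rfl | hx
    · exact htM
    · rw [ha]
      exact M.mul_mem (M.mul_mem (M.mul_mem htM (hNM he0N)) htM) (hNM he0N)
    · rw [Set.mem_singleton_iff] at hx
      rw [hx]; exact hNM he0N
  have hzA : 𝔢 (-1) ∉ A := by
    intro hmem
    rw [hAdef] at hmem
    rcases Cfsg.Agent.Helper22.Aut3.mem_or_of_mem_closure_insert hsq3 hconj3 hmem with h1 | h1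
    · rcases hmem2 _ h1 with h2 | h2 | h2 | h2
      · exact C.ee_ne (-1) h2
      · apply he0K
        rw [← h2]
        exact C.ee_mem_K (by norm_num) (by norm_num)
      · exact haz h2.symm
      · apply he0K
        have : 𝔢 0 = a⁻¹ * 𝔢 (-1) := by rw [h2]; group
        rw [this]
        exact mul_mem (inv_mem haK) (C.ee_mem_K (by norm_num) (by norm_num))
    · apply htN
      have h2 := hA2N h1
      have : 𝔢 (-3) = 𝔢 (-1) * ((𝔢 (-3))⁻¹ * 𝔢 (-1))⁻¹ := by group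
      rw [this]
      exact mul_mem hzN (inv_mem h2)
  have hAcard : Nat.card ↥A = 8 := by
    apply le_antisymm
    · have h1 := Cfsg.Agent.Helper22.Aut3.card_closure_insert_le hsq3 hconj3
      have h2 := Cfsg.Agent.Helper22.Aut3.card_closure_insert_le hsq2 hconj2
      have h3 : Nat.card ↥(closure ({𝔢 0} : Set G)) ≤ 2 := by
        have hle : closure ({𝔢 0} : Set G) ≤ K B h 0 (0 + ((5 : ℕ) : ℤ) - 1) := by
          rw [closure_le, Set.singleton_subset_iff]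
          exact C.ee_mem 0
        have := Subgroup.card_le_of_le hle
        rw [C.cardK 4 (by norm_num) (by norm_num) (by norm_num)] at this
        norm_num at this
        exact this
      rw [hAdef]
      have e : ({a, 𝔢 0} : Set G) = insert a ({𝔢 0} : Set G) := rfl
      rw [e] at h1 ⊢
      omega
    · have hpos : 0 < Nat.card ↥(⊥ : Subgroup G) := Nat.card_pos
      have c1 : 2 * Nat.card ↥(⊥ : Subgroup G) ≤ Nat.card ↥(closure ({𝔢 0} : Set G)) :=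
        two_mul_card_le bot_le (subset_closure (Set.mem_singleton (𝔢 0)))
          (by rw [Subgroup.mem_bot]; exact C.ee_ne 0)
      have c2 : 2 * Nat.card ↥(closure ({𝔢 0} : Set G)) ≤
          Nat.card ↥(closure ({a, 𝔢 0} : Set G)) := by
        apply two_mul_card_le (closure_mono (by
          intro x hx
          exact Set.mem_insert_of_mem _ hx)) (subset_closure (Set.mem_insert a _))
        intro hmem
        rcases hmem1 a hmem with h2 | h2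
        · exact ha1 h2
        · exact he0K (h2 ▸ haK)
      have c3 : 2 * Nat.card ↥(closure ({a, 𝔢 0} : Set G)) ≤ Nat.card ↥A := by
        rw [hAdef]
        apply two_mul_card_le (closure_mono (by
          intro x hx
          exact Set.mem_insert_of_mem _ hx)) (subset_closure (Set.mem_insert _ _))
        intro hmem
        exact htN (hA2N hmem)
      rw [Subgroup.card_bot] at c1
      omega
  exact s4z2_internal hNM (by rw [hM]; exact C.le_normalizer_N) hcard hcardN hC hzM hz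
    (C.ee_sq (-1)) (C.ee_ne (-1)) hAM hAcard hzA

end kcalc

section main

variable {G : Type u} [Group G] [Finite G]

/-- **Structure theorem.** In the configuration of Tutte's theorem, if `B` has index three in
`M = ⟨B, hBh⁻¹⟩` then `M` is `S₃`, `D₁₂`, `S₄` or `S₄ × Z₂`. -/
theorem struct (B : Subgroup G) (h : G) (hT : (B ⊓ cj h B).relIndex B = 2)
    (hgen : cj h⁻¹ B ⊔ B ⊔ cj h B = ⊤)
    (hcore : ∀ R : Subgroup G, R ≤ B → R.Normal → R = ⊥) (M : Subgroup G)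
    (hM : M = B ⊔ cj h B) (hidx : B.relIndex M = 3) :
    Nonempty (↥M ≃* Equiv.Perm (Fin 3)) ∨ Nonempty (↥M ≃* DihedralGroup 6) ∨
      Nonempty (↥M ≃* Equiv.Perm (Fin 4)) ∨
      Nonempty (↥M ≃* Equiv.Perm (Fin 4) × Multiplicative (ZMod 2)) := by
  obtain ⟨s, hs2, hs5, hcard, hbot, hex⟩ := tutte_struct B h hT hgen hcore
  have hB0 : Bk B h 0 = B := Bk_zero
  have hB1 : Bk B h 1 = cj h B := by unfold Bk; rw [zpow_one]
  have hM' : M = Bk B h 0 ⊔ Bk B h 1 := by rw [hB0, hB1]; exact hM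
  have hidx' : (Bk B h 0).relIndex M = 3 := by rw [hB0]; exact hidx
  have hBM : B ≤ M := by rw [hM]; exact le_sup_left
  have hs : s = 2 ∨ s = 3 ∨ s = 4 ∨ s = 5 := by omega
  rcases hs with rfl | rfl | rfl | rfl
  · left
    have hBcard : Nat.card ↥B = 2 := by
      have := hcard 0 1 le_rfl (by norm_num)
      have e : (0 : ℤ) + ((1 : ℕ) : ℤ) = 0 + 1 := by norm_num
      rw [e, K_single, Bk_zero] at this
      rw [this]; norm_num
    have hMcard : Nat.card ↥M = 6 := by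
      have := card_mul_relIndex hBM
      rw [hidx, hBcard] at this
      omega
    apply s3_internal hBM hMcard hBcard
    intro hn
    have hhM : cj h B ≤ M := by rw [hM]; exact le_sup_right
    have hidx1 : (cj h B).relIndex M = 3 := by
      have h1 := card_mul_relIndex hhM
      rw [card_cj, hBcard, hMcard] at h1
      omega
    obtain ⟨m, hm, hmB⟩ := exists_conj_eq_of_card (M := M) (P := cj h B) (Q := B) hhM hBM 1
      (by rw [card_cj, hBcard]; norm_num) (by rw [hBcard]; norm_num) hidx1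
    have h1 : cj m B = B := mem_normalizer_iff_cj.mp (hn hm)
    rw [h1] at hmB
    rw [← hmB, inf_idem, Subgroup.relIndex_self] at hT
    omega
  · right; left
    obtain ⟨e0, C⟩ := hex le_rfl
    exact C.struct3 hM' hidx'
  · right; right; left
    obtain ⟨e0, C⟩ := hex (by norm_num)
    exact C.struct4 hM' hidx'
  · right; right; right
    obtain ⟨e0, C⟩ := hex (by norm_num)
    exact C.struct5 hM' hidx'

end main

end Cfsg.Agent.Helper10.Tutte
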