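import Mathlib
import Cfsg.Agent.Lib.Helper10.Sims3

set_option autoImplicit false

/-! Sims: a pair of conjugate core-free maximal subgroups meeting in a subgroup of index three;
the isomorphism type. -/

namespace Cfsg.Agent.Helper10.Tutte

open Subgroup Cfsg.Agent.Helper10.TW Cfsg.Agent.Helper10.Sims

universe u

section app

variable {G : Type u} [Group G] [Finite G]

/-- the configuration of Tutte's theorem in the case where some element of `M₂` moves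
`B = M₁ ⊓ M₂` -/
theorem config_of_moving {M₁ M₂ : Subgroup G} (hp : Pair M₁ M₂) (n : ℕ)
    (hn : Nat.card ↥(M₁ ⊓ M₂) = 2 ^ n) (h₂ : (M₁ ⊓ M₂).relIndex M₂ = 3) (g : G)
    (hgB : cj g (M₁ ⊓ M₂) = M₁ ⊓ M₂) (hgM : cj g M₁ = M₂) (u : G) (hu : u ∈ M₂)
    (hne : cj u (M₁ ⊓ M₂) ≠ M₁ ⊓ M₂) :
    ∃ h : G, ((M₁ ⊓ M₂) ⊓ cj h (M₁ ⊓ M₂)).relIndex (M₁ ⊓ M₂) = 2 ∧
      cj h⁻¹ (M₁ ⊓ M₂) ⊔ (M₁ ⊓ M₂) ⊔ cj h (M₁ ⊓ M₂) = ⊤ ∧
      (∀ R : Subgroup G, R ≤ M₁ ⊓ M₂ → R.Normal → R = ⊥) ∧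
      (M₁ ⊓ M₂) ⊔ cj h (M₁ ⊓ M₂) = M₂ := by
  obtain ⟨B, hB⟩ : ∃ B : Subgroup G, B = M₁ ⊓ M₂ := ⟨_, rfl⟩
  rw [← hB] at hn h₂ hgB hne ⊢
  have hBM₁ : B ≤ M₁ := by rw [hB]; exact inf_le_left
  have hBM₂ : B ≤ M₂ := by rw [hB]; exact inf_le_right
  have huM : cj u M₂ = M₂ := by
    apply mem_normalizer_iff_cj.mp
    exact Subgroup.le_normalizer hu
  have hhB : cj (u * g) B = cj u B := by rw [cj_mul, hgB]
  have hhM : cj (u * g) M₁ = M₂ := by rw [cj_mul, hgM, huM]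
  have hhBM : cj (u * g) B ≤ M₂ := by
    rw [← hhM]; exact cj_mono hBM₁
  have hne' : B ≠ cj (u * g) B := by rw [hhB]; exact fun h => hne h.symm
  have hcardh : Nat.card ↥(cj (u * g) B) = Nat.card ↥B := card_cj _ _
  have hidx : (cj (u * g) B).relIndex M₂ = 3 := by
    rw [hhB, ← huM, relIndex_cj]; exact h₂
  have hT : (B ⊓ cj (u * g) B).relIndex B = 2 := by
    rw [Subgroup.inf_relIndex_left]
    have h1 : (cj (u * g) B).relIndex B ≤ 3 := by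
      rw [← hidx]
      exact Subgroup.relIndex_le_of_le_right hBM₂ (by rw [hidx]; norm_num)
    have h2 : (cj (u * g) B).relIndex B ∣ 2 ^ n := by
      rw [← hn]; exact Subgroup.relIndex_dvd_card _ _
    obtain ⟨i, _, hi⟩ := (Nat.dvd_prime_pow Nat.prime_two).mp h2
    rw [hi] at h1 ⊢
    have hi2 : i < 2 := by
      by_contra hcon
      have : 2 ^ 2 ≤ 2 ^ i := Nat.pow_le_pow_right (by norm_num) (by omega)
      omega
    have hi0 : i ≠ 0 := by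
      intro h0
      rw [h0, pow_zero, Subgroup.relIndex_eq_one] at hi
      exact hne' (Subgroup.eq_of_le_of_card_ge hi (by omega))
    have : i = 1 := by omega
    rw [this, pow_one]
  have hsup₂ : B ⊔ cj (u * g) B = M₂ :=
    sup_eq_of_prime_index hBM₂ hhBM Nat.prime_three h₂ hcardh hne'
  have hsup₁ : cj (u * g)⁻¹ B ⊔ B = M₁ := by
    have := congrArg (cj (u * g)⁻¹) hsup₂
    rw [cj_sup, cj_inv_cj, ← hhM, cj_inv_cj] at this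
    exact this
  have hgen : cj (u * g)⁻¹ B ⊔ B ⊔ cj (u * g) B = ⊤ := by
    rw [eq_top_iff, ← Pair.sup_eq_top hp]
    apply sup_le
    · rw [← hsup₁]; exact le_sup_left
    · rw [← hsup₂]
      exact sup_le (le_sup_right.trans le_sup_left) le_sup_right
  have hcore : ∀ R : Subgroup G, R ≤ B → R.Normal → R = ⊥ := by
    intro R hR hRn
    have : R ≤ M₁.normalCore := (Subgroup.normal_le_normalCore).mpr (hR.trans hBM₁)
    rw [hp.core₁] at this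
    exact le_bot_iff.mp this
  exact ⟨u * g, hT, hgen, hcore, hsup₂⟩

theorem struct_of_moving {M₁ M₂ : Subgroup G} (hp : Pair M₁ M₂) (n : ℕ)
    (hn : Nat.card ↥(M₁ ⊓ M₂) = 2 ^ n) (h₂ : (M₁ ⊓ M₂).relIndex M₂ = 3) (g : G)
    (hgB : cj g (M₁ ⊓ M₂) = M₁ ⊓ M₂) (hgM : cj g M₁ = M₂) (u : G) (hu : u ∈ M₂)
    (hne : cj u (M₁ ⊓ M₂) ≠ M₁ ⊓ M₂) :
    Nonempty (↥M₂ ≃* Equiv.Perm (Fin 3)) ∨ Nonempty (↥M₂ ≃* DihedralGroup 6) ∨
      Nonempty (↥M₂ ≃* Equiv.Perm (Fin 4)) ∨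
      Nonempty (↥M₂ ≃* Equiv.Perm (Fin 4) × Multiplicative (ZMod 2)) := by
  obtain ⟨h, hT, hgen, hcore, hsup⟩ := config_of_moving hp n hn h₂ g hgB hgM u hu hne
  exact struct (M₁ ⊓ M₂) h hT hgen hcore M₂ hsup.symm h₂

theorem struct_pair {M₁ M₂ : Subgroup G} (hp : Pair M₁ M₂) (g₀ : G)
    (hg₀ : cj g₀ M₁ = M₂) (h₁ : (M₁ ⊓ M₂).relIndex M₁ = 3) (h₂ : (M₁ ⊓ M₂).relIndex M₂ = 3) :
    Nonempty (↥M₁ ≃* Multiplicative (ZMod 3)) ∨ Nonempty (↥M₁ ≃* Equiv.Perm (Fin 3)) ∨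
      Nonempty (↥M₁ ≃* DihedralGroup 6) ∨ Nonempty (↥M₁ ≃* Equiv.Perm (Fin 4)) ∨
      Nonempty (↥M₁ ≃* Equiv.Perm (Fin 4) × Multiplicative (ZMod 2)) := by
  have e : ↥M₁ ≃* ↥M₂ :=
    ((MulAut.conj g₀).subgroupMap M₁).trans (MulEquiv.subgroupCongr hg₀)
  obtain ⟨n, hn⟩ := exists_card_inf_eq_two_pow hp e h₁ h₂
  obtain ⟨m, hm, hmB⟩ := exists_conj_eq_of_card (M := M₂) (P := M₁ ⊓ M₂)
    (Q := cj g₀ (M₁ ⊓ M₂)) inf_le_right (by rw [← hg₀]; exact cj_mono inf_le_left) n hn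
    (by rw [card_cj, hn]) h₂
  have hmM : cj m M₂ = M₂ := mem_normalizer_iff_cj.mp (Subgroup.le_normalizer hm)
  have hgB : cj (m * g₀) (M₁ ⊓ M₂) = M₁ ⊓ M₂ := by rw [cj_mul, hmB]
  have hgM : cj (m * g₀) M₁ = M₂ := by rw [cj_mul, hg₀, hmM]
  by_cases hmove₂ : ∃ u ∈ M₂, cj u (M₁ ⊓ M₂) ≠ M₁ ⊓ M₂
  · obtain ⟨u, hu, hne⟩ := hmove₂
    right
    rcases struct_of_moving hp n hn h₂ (m * g₀) hgB hgM u hu hne with ⟨⟨f⟩⟩ | ⟨⟨f⟩⟩ | ⟨⟨f⟩⟩ | ⟨⟨f⟩⟩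
    · exact Or.inl ⟨e.trans f⟩
    · exact Or.inr (Or.inl ⟨e.trans f⟩)
    · exact Or.inr (Or.inr (Or.inl ⟨e.trans f⟩))
    · exact Or.inr (Or.inr (Or.inr ⟨e.trans f⟩))
  by_cases hmove₁ : ∃ u ∈ M₁, cj u (M₁ ⊓ M₂) ≠ M₁ ⊓ M₂
  · obtain ⟨u, hu, hne⟩ := hmove₁
    have hgB' : cj (m * g₀)⁻¹ (M₂ ⊓ M₁) = M₂ ⊓ M₁ := by
      rw [inf_comm]
      conv_lhs => rw [← hgB]
      rw [cj_inv_cj]
    have hgM' : cj (m * g₀)⁻¹ M₂ = M₁ := by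
      rw [← hgM, cj_inv_cj]
    right
    exact struct_of_moving hp.symm n (by rw [inf_comm]; exact hn)
      (by rw [inf_comm]; exact h₁) (m * g₀)⁻¹ hgB' hgM' u hu (by rw [inf_comm]; exact hne)
  · push Not at hmove₂ hmove₁
    left
    have hbot : M₁ ⊓ M₂ = ⊥ := by
      by_contra hbot
      refine Pair.false_of_both hp (M₁ ⊓ M₂) hbot inf_le_left ?_ ?_
      · intro u hu
        exact mem_normalizer_iff_cj.mpr (hmove₁ u hu)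
      · intro u hu
        exact mem_normalizer_iff_cj.mpr (hmove₂ u hu)
    have hcard : Nat.card ↥M₁ = 3 := by
      have := card_mul_relIndex (inf_le_left : M₁ ⊓ M₂ ≤ M₁)
      rw [h₁, hbot, Subgroup.card_bot] at this
      omega
    have h3 : Fact (Nat.Prime 3) := ⟨Nat.prime_three⟩
    exact ⟨mulEquivOfPrimeCardEq (p := 3) hcard (by rw [Nat.card_eq_fintype_card]; rfl)⟩

end app

end Cfsg.Agent.Helper10.Tutte
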