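import Mathlib
import Cfsg.Agent.Lib.Helper10.Sims4
import Cfsg.Agent.Lib.Helper10.Cores
import Cfsg.Agent.Lib.Helper10.SecFusion
import Cfsg.Agent.Lib.Helper10.BenderPair2
import Cfsg.Agent.Lib.Helper22.SelfCent

set_option autoImplicit false

/-! Sims, local form: a maximal 2-local with dihedral quotient. -/

namespace Cfsg.Agent.Helper10.Tutte

open Subgroup Cfsg.Agent.Helper10.TW Cfsg.Agent.Helper10.Sims

universe u

section ql

variable {M : Type u} [Group M] [Finite M]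

theorem card_modEq_card_inf_centralizer (N : Subgroup M) [hN : N.Normal] (x : M) (q : ℕ)
    [Fact q.Prime] (hx : orderOf x = q) :
    Nat.card ↥N ≡ Nat.card ↥(N ⊓ centralizer (zpowers x : Set M)) [MOD q] := by
  have hT : ∀ u ∈ zpowers x, ∀ y ∈ (N : Set M), u * y * u⁻¹ ∈ (N : Set M) :=
    fun u _ y hy => hN.conj_mem y hy u
  let _ := Cfsg.Agent.Helper22.conjActionOn x (N : Set M) hT
  have h1 := (Cfsg.Agent.Helper22.isPGroup_zpowers hx).card_modEq_card_fixedPoints (N : Set M)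
  have h2 : Nat.card (MulAction.fixedPoints (zpowers x) (N : Set M)) =
      Nat.card ↥(N ⊓ centralizer (zpowers x : Set M)) := by
    apply Nat.card_congr
    refine ⟨fun c => ⟨c.1.1, ⟨c.1.2, ?_⟩⟩, fun f => ⟨⟨f.1, f.2.1⟩, ?_⟩, ?_, ?_⟩
    · show (c.1.1 : M) ∈ centralizer (zpowers x : Set M)
      rw [Subgroup.mem_centralizer_iff]
      intro u hu
      have hc := c.2 ⟨u, hu⟩
      have hc' : u * (c.1.1 : M) * u⁻¹ = c.1.1 := congrArg Subtype.val hc
      calc u * (c.1.1 : M) = (u * (c.1.1 : M) * u⁻¹) * u := by group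
        _ = c.1.1 * u := by rw [hc']
    · intro u
      apply Subtype.ext
      show (u : M) * f.1 * (u : M)⁻¹ = f.1
      have := (Subgroup.mem_centralizer_iff.mp f.2.2) u u.2
      rw [this]; group
    · intro c; rfl
    · intro f; rfl
  rw [← h2]
  exact h1

theorem q_eq_three (N : Subgroup M) [hN : N.Normal]
    (hchar : centralizer (N : Set M) ≤ N) (q : ℕ) (hq : q.Prime) (hq2 : q ≠ 2)
    (hdvd : q ∣ Nat.card M)
    (hcard : Nat.card ↥N = 4 ∨ (Nat.card ↥N = 8 ∧ ∃ z ∈ N, z ≠ 1 ∧ ∀ g : M, Commute z g)) :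
    q = 3 := by
  have hqf : Fact q.Prime := ⟨hq⟩
  obtain ⟨x, hx⟩ := exists_prime_orderOf_dvd_card' q hdvd
  have hmod := card_modEq_card_inf_centralizer N x q hx
  obtain ⟨F, hF⟩ : ∃ F : Subgroup M, F = N ⊓ centralizer (zpowers x : Set M) := ⟨_, rfl⟩
  rw [← hF] at hmod
  have hFN : F ≤ N := by rw [hF]; exact inf_le_left
  have hdF : Nat.card ↥F ∣ Nat.card ↥N := Subgroup.card_dvd_of_le hFN
  have hq2' : ¬ q ∣ 2 := fun h => hq2 ((Nat.prime_dvd_prime_iff_eq hq Nat.prime_two).mp h)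
  have hne : Nat.card ↥F ≠ Nat.card ↥N := by
    intro he
    have hFe : F = N := Subgroup.eq_of_le_of_card_ge hFN he.ge
    have hxc : x ∈ centralizer (N : Set M) := by
      rw [Subgroup.mem_centralizer_iff]
      intro y hy
      have hy' : y ∈ F := by rw [hFe]; exact hy
      rw [hF] at hy'
      exact ((Subgroup.mem_centralizer_iff.mp hy'.2) x (mem_zpowers x)).symm
    have hxN : x ∈ N := hchar hxc
    have h1 : q ∣ Nat.card ↥N := by
      have h2 : orderOf (⟨x, hxN⟩ : ↥N) = q := by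
        rw [← hx]; exact Subgroup.orderOf_mk x hxN
      rw [← h2]; exact orderOf_dvd_natCard _
    rcases hcard with h4 | ⟨h8, -⟩
    · rw [h4] at h1
      have : q ∣ 2 ^ 2 := by norm_num; exact h1
      exact hq2' (hq.dvd_of_dvd_pow this)
    · rw [h8] at h1
      have : q ∣ 2 ^ 3 := by norm_num; exact h1
      exact hq2' (hq.dvd_of_dvd_pow this)
  have hpos : 0 < Nat.card ↥F := Nat.card_pos
  rcases hcard with h4 | ⟨h8, z, hzN, hz1, hzc⟩
  · rw [h4] at hmod hdF hne
    have hdF' : Nat.card ↥F ∣ 2 ^ 2 := by norm_num; exact hdF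
    obtain ⟨i, hi, hFi⟩ := (Nat.dvd_prime_pow Nat.prime_two).mp hdF'
    rw [hFi] at hmod hne
    have hle : 2 ^ i ≤ 4 := by
      calc 2 ^ i ≤ 2 ^ 2 := Nat.pow_le_pow_right (by norm_num) hi
        _ = 4 := by norm_num
    have hd := (Nat.modEq_iff_dvd' hle).mp hmod.symm
    interval_cases i
    · norm_num at hd
      exact (Nat.prime_dvd_prime_iff_eq hq Nat.prime_three).mp hd
    · norm_num at hd
      exact absurd hd hq2'
    · norm_num at hne
  · rw [h8] at hmod hdF hne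
    have hzF : z ∈ F := by
      rw [hF, Subgroup.mem_inf]
      refine ⟨hzN, ?_⟩
      rw [Subgroup.mem_centralizer_iff]
      intro u _
      exact ((hzc u).eq).symm
    have hF1 : Nat.card ↥F ≠ 1 := by
      intro h1
      have := (Subgroup.card_eq_one.mp h1)
      rw [this] at hzF
      exact hz1 (Subgroup.mem_bot.mp hzF)
    have hdF' : Nat.card ↥F ∣ 2 ^ 3 := by norm_num; exact hdF
    obtain ⟨i, hi, hFi⟩ := (Nat.dvd_prime_pow Nat.prime_two).mp hdF'
    rw [hFi] at hmod hne hF1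
    have hle : 2 ^ i ≤ 8 := by
      calc 2 ^ i ≤ 2 ^ 3 := Nat.pow_le_pow_right (by norm_num) hi
        _ = 8 := by norm_num
    have hd := (Nat.modEq_iff_dvd' hle).mp hmod.symm
    interval_cases i
    · norm_num at hF1
    · norm_num at hd
      have h6 : q ∣ 2 * 3 := by norm_num; exact hd
      rcases (Nat.Prime.dvd_mul hq).mp h6 with h | h
      · exact absurd h hq2'
      · exact (Nat.prime_dvd_prime_iff_eq hq Nat.prime_three).mp h
    · norm_num at hd
      have h4 : q ∣ 2 ^ 2 := by norm_num; exact hd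
      exact absurd (hq.dvd_of_dvd_pow h4) hq2'
    · norm_num at hne

end ql

section app

variable {G : Type u} [Group G] [Finite G]

/-- the configuration of Tutte's theorem for a pair of conjugate maximal subgroups meeting in a
subgroup `B` of prime index, where `B` has a subgroup `O` of index two normal in `M₂` -/
theorem config_of_moving' {M₁ M₂ : Subgroup G} (hp : Pair M₁ M₂) (q : ℕ) (hq : q.Prime)
    (h₂ : (M₁ ⊓ M₂).relIndex M₂ = q) (O : Subgroup G) (hOB : O ≤ M₁ ⊓ M₂)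
    (hO2 : O.relIndex (M₁ ⊓ M₂) = 2) (hON : M₂ ≤ normalizer (O : Set G)) (g : G)
    (hgB : cj g (M₁ ⊓ M₂) = M₁ ⊓ M₂) (hgM : cj g M₁ = M₂) (u : G) (hu : u ∈ M₂)
    (hne : cj u (M₁ ⊓ M₂) ≠ M₁ ⊓ M₂) :
    ∃ h : G, (M₁ ⊓ M₂) ⊓ cj h (M₁ ⊓ M₂) = O ∧
      ((M₁ ⊓ M₂) ⊓ cj h (M₁ ⊓ M₂)).relIndex (M₁ ⊓ M₂) = 2 ∧
      cj h⁻¹ (M₁ ⊓ M₂) ⊔ (M₁ ⊓ M₂) ⊔ cj h (M₁ ⊓ M₂) = ⊤ ∧
      (∀ R : Subgroup G, R ≤ M₁ ⊓ M₂ → R.Normal → R = ⊥) ∧
      (M₁ ⊓ M₂) ⊔ cj h (M₁ ⊓ M₂) = M₂ := by
  obtain ⟨B, hB⟩ : ∃ B : Subgroup G, B = M₁ ⊓ M₂ := ⟨_, rfl⟩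
  rw [← hB] at h₂ hgB hne hOB hO2 ⊢
  have hBM₁ : B ≤ M₁ := by rw [hB]; exact inf_le_left
  have hBM₂ : B ≤ M₂ := by rw [hB]; exact inf_le_right
  have huM : cj u M₂ = M₂ := by
    apply mem_normalizer_iff_cj.mp
    exact Subgroup.le_normalizer hu
  have hhB : cj (u * g) B = cj u B := by rw [cj_mul, hgB]
  have hhM : cj (u * g) M₁ = M₂ := by rw [cj_mul, hgM, huM]
  have hhBM : cj (u * g) B ≤ M₂ := by
    rw [← hhM]; exact cj_mono hBM₁
  have hne' : B ≠ cj (u * g) B := by rw [hhB]; exact fun h => hne h.symm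
  have hcardh : Nat.card ↥(cj (u * g) B) = Nat.card ↥B := card_cj _ _
  have huO : cj u O = O := mem_normalizer_iff_cj.mp (hON hu)
  have hOh : O ≤ cj (u * g) B := by
    rw [hhB, ← huO]; exact cj_mono hOB
  have hOle : O ≤ B ⊓ cj (u * g) B := le_inf hOB hOh
  have hmul := Subgroup.relIndex_mul_relIndex O (B ⊓ cj (u * g) B) B hOle inf_le_left
  rw [hO2] at hmul
  have hne1 : (B ⊓ cj (u * g) B).relIndex B ≠ 1 := by
    intro h1
    rw [Subgroup.relIndex_eq_one] at h1
    have h3 : B ≤ cj (u * g) B := h1.trans inf_le_right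
    exact hne' (Subgroup.eq_of_le_of_card_ge h3 hcardh.le)
  have hT : (B ⊓ cj (u * g) B).relIndex B = 2 := by
    have hd : (B ⊓ cj (u * g) B).relIndex B ∣ 2 := Dvd.intro_left _ hmul
    rcases (Nat.dvd_prime Nat.prime_two).mp hd with h | h
    · exact absurd h hne1
    · exact h
  have hO1 : O.relIndex (B ⊓ cj (u * g) B) = 1 := by
    rw [hT] at hmul; omega
  have hinf : B ⊓ cj (u * g) B = O :=
    le_antisymm (Subgroup.relIndex_eq_one.mp hO1) hOle
  have hsup₂ : B ⊔ cj (u * g) B = M₂ :=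
    sup_eq_of_prime_index hBM₂ hhBM hq h₂ hcardh hne'
  have hsup₁ : cj (u * g)⁻¹ B ⊔ B = M₁ := by
    have := congrArg (cj (u * g)⁻¹) hsup₂
    rw [cj_sup, cj_inv_cj, ← hhM, cj_inv_cj] at this
    exact this
  have hgen : cj (u * g)⁻¹ B ⊔ B ⊔ cj (u * g) B = ⊤ := by
    rw [eq_top_iff, ← Pair.sup_eq_top hp]
    apply sup_le
    · rw [← hsup₁]; exact le_sup_left
    · rw [← hsup₂]
      exact sup_le (le_sup_right.trans le_sup_left) le_sup_right
  have hcore : ∀ R : Subgroup G, R ≤ B → R.Normal → R = ⊥ := by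
    intro R hR hRn
    have : R ≤ M₁.normalCore := (Subgroup.normal_le_normalCore).mpr (hR.trans hBM₁)
    rw [hp.core₁] at this
    exact le_bot_iff.mp this
  exact ⟨u * g, hinf, hT, hgen, hcore, hsup₂⟩

/-- for `s = 5` the configuration has an involution of `B ∩ hBh⁻¹` central in `⟨B, hBh⁻¹⟩` -/
theorem exists_central_of_five {B : Subgroup G} {h e0 : G} (C : Cfg B h 5 e0) :
    ∃ z ∈ B ⊓ cj h B, z ≠ 1 ∧ ∀ g ∈ B ⊔ cj h B, Commute z g := by
  obtain ⟨lam, L⟩ := C.exists_lam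
  have hl1 := L.two_le
  have hl2 := L.le
  obtain ⟨μ, hμ1, hμ2, hμm, hμn⟩ := C.exists_mu L (by norm_num)
  have hI := C.caseI L hμ1 hμ2 hμm hμn
  have hlam : lam = 3 := by omega
  subst hlam
  have hB0 : Bk B h 0 = B := Bk_zero
  have hB1 : Bk B h 1 = cj h B := by unfold Bk; rw [zpow_one]
  have hz : ∀ g ∈ Bk B h 0 ⊔ Bk B h 1, Commute (ee h e0 (-1)) g :=
    C.commute_M L (i := -1) (by norm_num) (by norm_num)
  have hzN : ee h e0 (-1) ∈ K B h 0 2 := C.ee_mem_K (by norm_num) (by norm_num)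
  rw [N_eq] at hzN
  rw [hB0, hB1] at hz hzN
  exact ⟨ee h e0 (-1), hzN, C.ee_ne (-1), hz⟩

theorem isCoatom_cj {M : Subgroup G} (hM : IsCoatom M) (g : G) : IsCoatom (cj g M) := by
  refine ⟨?_, ?_⟩
  · intro htop
    apply hM.1
    have := congrArg (cj g⁻¹) htop
    rwa [cj_inv_cj, cj_top] at this
  · intro b hb
    have h1 : M ≤ cj g⁻¹ b := by
      have := cj_mono (g := g⁻¹) hb.le
      rwa [cj_inv_cj] at this
    have h2 : M ≠ cj g⁻¹ b := by
      intro he
      have := congrArg (cj g) he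
      rw [cj_cj_inv] at this
      exact hb.ne this
    have h3 := hM.2 _ (lt_of_le_of_ne h1 h2)
    have := congrArg (cj g) h3
    rwa [cj_cj_inv, cj_top] at this

end app

section sylow

variable {M : Type u} [Group M] [Finite M]

theorem sylow_facts (S : Sylow 2 M) (q : ℕ) (hq : q.Prime)
    (hidx : (Cfsg.pCore 2 M).index = 2 * q) :
    q ≠ 2 ∧ Cfsg.pCore 2 M ≤ (S : Subgroup M) ∧
      Nat.card ↥(S : Subgroup M) = 2 * Nat.card ↥(Cfsg.pCore 2 M) ∧
      Nat.card M = Nat.card ↥(Cfsg.pCore 2 M) * (2 * q) ∧ ¬ (S : Subgroup M).Normal := by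
  have h2f : Fact (Nat.Prime 2) := ⟨Nat.prime_two⟩
  have hcardM : Nat.card M = Nat.card ↥(Cfsg.pCore 2 M) * (2 * q) := by
    rw [← hidx, Subgroup.card_mul_index]
  obtain ⟨j, hj⟩ := IsPGroup.iff_card.mp (pCore_isPGroup (G := M) 2)
  have hq2 : q ≠ 2 := by
    intro h2
    rw [h2, hj] at hcardM
    have hM2 : IsPGroup 2 M := IsPGroup.of_card (n := j + 2) (by rw [hcardM]; ring)
    have htop : IsPGroup 2 ↥(⊤ : Subgroup M) :=
      IsPGroup.of_card (n := j + 2) (by rw [Subgroup.card_top, hcardM]; ring)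
    have hle : (⊤ : Subgroup M) ≤ Cfsg.pCore 2 M := le_pCore' Subgroup.normal_top htop
    have he : Cfsg.pCore 2 M = ⊤ := top_le_iff.mp hle
    rw [he, Subgroup.index_top, h2] at hidx
    omega
  have hOS : Cfsg.pCore 2 M ≤ (S : Subgroup M) := pCore_le_sylow (S : Subgroup M) S.2 S.not_dvd_index
  obtain ⟨k, hk⟩ := IsPGroup.iff_card.mp S.2
  have hSidx : Nat.card ↥(S : Subgroup M) * (S : Subgroup M).index = Nat.card M :=
    Subgroup.card_mul_index _
  have hcop2q : Nat.Coprime 2 q := (Nat.coprime_primes Nat.prime_two hq).mpr (Ne.symm hq2)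
  have hcopi : Nat.Coprime 2 (S : Subgroup M).index :=
    (Nat.Prime.coprime_iff_not_dvd Nat.prime_two).mpr S.not_dvd_index
  have hkj : 2 ^ k = 2 ^ (j + 1) := by
    have heq : 2 ^ k * (S : Subgroup M).index = 2 ^ (j + 1) * q := by
      rw [← hk, hSidx, hcardM, hj]; ring
    apply Nat.dvd_antisymm
    · apply Nat.Coprime.dvd_of_dvd_mul_right (Nat.Coprime.pow_left k hcop2q)
      exact Dvd.intro _ heq
    · apply Nat.Coprime.dvd_of_dvd_mul_right (Nat.Coprime.pow_left (j + 1) hcopi)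
      exact Dvd.intro _ heq.symm
  have hcardS : Nat.card ↥(S : Subgroup M) = 2 * Nat.card ↥(Cfsg.pCore 2 M) := by
    rw [hk, hkj, hj]; ring
  refine ⟨hq2, hOS, hcardS, hcardM, ?_⟩
  intro hn
  have hle : (S : Subgroup M) ≤ Cfsg.pCore 2 M := le_pCore' hn S.2
  have h1 := Subgroup.card_le_of_le hle
  have hpos : 0 < Nat.card ↥(Cfsg.pCore 2 M) := Nat.card_pos
  have : Nat.card ↥(S : Subgroup M) = 2 * Nat.card ↥(Cfsg.pCore 2 M) := hcardS
  omega

/-- a normal subgroup of order at most two is central -/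
theorem centralizer_eq_top_of_card_le_two (N : Subgroup M) [hN : N.Normal]
    (hc : Nat.card ↥N ≤ 2) : centralizer (N : Set M) = ⊤ := by
  rw [eq_top_iff]
  intro g _
  rw [Subgroup.mem_centralizer_iff]
  intro y hy
  by_cases hy1 : y = 1
  · rw [hy1, one_mul, mul_one]
  have hpos : 0 < Nat.card ↥N := Nat.card_pos
  have hc2 : Nat.card ↥N = 2 := by
    by_contra hne
    have h1 : Nat.card ↥N = 1 := by omega
    have := Subgroup.card_eq_one.mp h1
    rw [this] at hy
    exact hy1 (Subgroup.mem_bot.mp hy)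
  have hconj : g * y * g⁻¹ ∈ N := hN.conj_mem y hy g
  rcases eq_one_or_of_card_two hc2 hy hy1 hconj with h | h
  · exfalso
    apply hy1
    have : y = g⁻¹ * (g * y * g⁻¹) * g := by group
    rw [this, h]; group
  · calc y * g = g * y * g⁻¹ * g := by rw [h]
      _ = g * y := by group

end sylow

section main

variable {H : Type u} [Group H] [Finite H]

/-- **Sims, local form.** -/
theorem sims_local [IsSimpleGroup H] (G : Subgroup H) (hG : IsCoatom G)
    (hchar : centralizer (Cfsg.pCore 2 ↥G : Set ↥G) ≤ Cfsg.pCore 2 ↥G) (S : Sylow 2 ↥G)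
    (hN : ¬ normalizer (((S : Subgroup ↥G).map G.subtype : Subgroup H) : Set H) ≤ G) (q : ℕ)
    (hq : q.Prime) (hD : Nonempty (↥G ⧸ Cfsg.pCore 2 ↥G ≃* DihedralGroup q)) :
    Nonempty (↥G ≃* Equiv.Perm (Fin 4)) ∨
      Nonempty (↥G ≃* Equiv.Perm (Fin 4) × Multiplicative (ZMod 2)) := by
  have hidx : (Cfsg.pCore 2 ↥G).index = 2 * q := by
    obtain ⟨e⟩ := hD
    rw [Subgroup.index_eq_card, Nat.card_congr e.toEquiv, DihedralGroup.nat_card]
  obtain ⟨hq2, hOS, hcardS, hcardG, hSn⟩ := sylow_facts S q hq hidx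
  have hOn : (Cfsg.pCore 2 ↥G).Normal := pCore_normal 2
  have h2f : Fact (Nat.Prime 2) := ⟨Nat.prime_two⟩
  obtain ⟨j, hj⟩ := IsPGroup.iff_card.mp (pCore_isPGroup (G := ↥G) 2)
  obtain ⟨T, hT⟩ : ∃ T : Subgroup H, T = (S : Subgroup ↥G).map G.subtype := ⟨_, rfl⟩
  obtain ⟨O', hO'⟩ : ∃ O' : Subgroup H, O' = (Cfsg.pCore 2 ↥G).map G.subtype := ⟨_, rfl⟩
  rw [← hT] at hN
  have hTG : T ≤ G := by rw [hT]; exact Subgroup.map_subtype_le _
  have hO'T : O' ≤ T := by rw [hT, hO']; exact Subgroup.map_mono hOS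
  have hcT : Nat.card ↥T = 2 * 2 ^ j := by
    rw [hT, Subgroup.card_map_of_injective G.subtype_injective, hcardS, hj]
  have hcO' : Nat.card ↥O' = 2 ^ j := by
    rw [hO', Subgroup.card_map_of_injective G.subtype_injective, hj]
  have hcG : Nat.card ↥G = 2 ^ j * (2 * q) := by rw [hcardG, hj]
  have hO'2 : O'.relIndex T = 2 := relIndex_two_of_card hO'T (by rw [hcT, hcO'])
  have hTq : T.relIndex G = q := by
    have := card_mul_relIndex hTG
    rw [hcT, hcG] at this
    have hpos : 0 < 2 * 2 ^ j := by positivity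
    apply Nat.eq_of_mul_eq_mul_left hpos
    rw [this]; ring
  have hGN : G ≤ normalizer (O' : Set H) := by
    rw [hO']; exact BenderPair.le_normalizer_map_subtype G _
  -- `G` is not normal
  have hGnn : ¬ G.Normal := by
    intro hn
    rcases hn.eq_bot_or_eq_top with h | h
    · rw [h, Subgroup.card_bot] at hcG
      have h1 : 0 < 2 ^ j := by positivity
      have hq0 := hq.two_le
      nlinarith
    · exact hG.1 h
  have hnG : normalizer (G : Set H) = G := by
    rcases eq_or_lt_of_le (Subgroup.le_normalizer (H := G)) with h | h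
    · exact h.symm
    · exfalso
      exact hGnn (Subgroup.normalizer_eq_top_iff.mp (hG.2 _ h))
  obtain ⟨x, hxN, hxG⟩ := SetLike.not_le_iff_exists.mp hN
  have hxT : cj x T = T := mem_normalizer_iff_cj.mp hxN
  -- the pair
  have hco₁ : IsCoatom (cj x⁻¹ G) := isCoatom_cj hG x⁻¹
  have hne : cj x⁻¹ G ≠ G := by
    intro he
    have h1 : x⁻¹ ∈ normalizer (G : Set H) := mem_normalizer_iff_cj.mpr he
    rw [hnG] at h1
    exact hxG (by simpa using inv_mem h1)
  have hcore : ∀ M : Subgroup H, IsCoatom M → M.normalCore = ⊥ := by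
    intro M hM
    rcases (Subgroup.normalCore_normal M).eq_bot_or_eq_top with h | h
    · exact h
    · exfalso
      apply hM.1
      rw [eq_top_iff, ← h]
      exact Subgroup.normalCore_le M
  have hp : Pair (cj x⁻¹ G) G := ⟨hco₁, hG, hne, hcore _ hco₁, hcore _ hG⟩
  -- the intersection
  have hTM₁ : T ≤ cj x⁻¹ G := by
    have h1 : cj x⁻¹ T = T := by
      conv_lhs => rw [← hxT]
      rw [cj_inv_cj]
    rw [← h1]; exact cj_mono hTG
  have hB : cj x⁻¹ G ⊓ G = T := by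
    have hTB : T ≤ cj x⁻¹ G ⊓ G := le_inf hTM₁ hTG
    have hmul := Subgroup.relIndex_mul_relIndex T (cj x⁻¹ G ⊓ G) G hTB inf_le_right
    rw [hTq] at hmul
    have hd : (cj x⁻¹ G ⊓ G).relIndex G ∣ q := Dvd.intro_left _ hmul
    rcases (Nat.dvd_prime hq).mp hd with h | h
    · exfalso
      rw [Subgroup.relIndex_eq_one] at h
      have h3 : G ≤ cj x⁻¹ G := h.trans inf_le_left
      exact hne (Subgroup.eq_of_le_of_card_ge h3 (card_cj _ _).le).symm
    · rw [h] at hmul
      have h1 : T.relIndex (cj x⁻¹ G ⊓ G) = 1 := by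
        have hq0 := hq.pos
        exact Nat.eq_of_mul_eq_mul_right hq0 (by rw [hmul, one_mul])
      exact le_antisymm (Subgroup.relIndex_eq_one.mp h1) hTB
  -- a moving element
  have hmove : ∃ u ∈ G, cj u T ≠ T := by
    by_contra hcon
    push Not at hcon
    apply hSn
    refine ⟨fun y hy g' => ?_⟩
    have hyT : (y : H) ∈ T := by rw [hT]; exact Subgroup.mem_map_of_mem G.subtype hy
    have h1 : (g' : H) * (y : H) * (g' : H)⁻¹ ∈ cj (g' : H) T := conj_mem_cj hyT
    rw [hcon _ g'.2, hT] at h1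
    obtain ⟨s, hs, hse⟩ := h1
    have h2 : s = g' * y * g'⁻¹ := by
      apply Subtype.ext
      rw [Subgroup.coe_mul, Subgroup.coe_mul, Subgroup.coe_inv]
      exact hse
    rw [← h2]; exact hs
  obtain ⟨u, hu, hune⟩ := hmove
  obtain ⟨h, hinf, hT2, hgen, hcoreB, hsup⟩ := config_of_moving' hp q hq
    (by rw [hB]; exact hTq) O' (by rw [hB]; exact hO'T) (by rw [hB]; exact hO'2) hGN x
    (by rw [hB]; exact hxT) (cj_cj_inv x G) u hu (by rw [hB]; exact hune)
  rw [hB] at hinf hT2 hgen hcoreB hsup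
  obtain ⟨s, hs2, hs5, hcard, hbot, hex⟩ := tutte_struct T h hT2 hgen hcoreB
  have hcT' : Nat.card ↥T = 2 ^ (s - 1) := by
    have := hcard 0 1 le_rfl (by omega)
    have e : (0 : ℤ) + ((1 : ℕ) : ℤ) = 0 + 1 := by norm_num
    rw [e, K_single, Bk_zero] at this
    exact this
  have hjs : s - 1 = j + 1 := by
    have h1 : 2 ^ (s - 1) = 2 ^ (j + 1) := by rw [← hcT', hcT]; ring
    exact Nat.pow_right_injective le_rfl h1
  -- small cases: the core is central
  have hj2 : 2 ≤ j := by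
    by_contra hlt
    have hle : Nat.card ↥(Cfsg.pCore 2 ↥G) ≤ 2 := by
      rw [hj]
      have h01 : j = 0 ∨ j = 1 := by omega
      rcases h01 with h | h <;> rw [h] <;> norm_num
    have hc := centralizer_eq_top_of_card_le_two (Cfsg.pCore 2 ↥G) hle
    rw [hc] at hchar
    have he : Cfsg.pCore 2 ↥G = ⊤ := top_le_iff.mp hchar
    rw [he, Subgroup.index_top] at hidx
    have := hq.two_le
    omega
  have hqdvd : q ∣ Nat.card ↥G := by
    rw [hcG]; exact Dvd.intro_left (2 ^ j * 2) (by ring)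
  have hq3 : q = 3 := by
    apply q_eq_three (Cfsg.pCore 2 ↥G) hchar q hq hq2 hqdvd
    have hs' : s = 4 ∨ s = 5 := by omega
    rcases hs' with rfl | rfl
    · left
      have h2 : j = 2 := by omega
      rw [hj, h2]; norm_num
    · right
      have h3 : j = 3 := by omega
      refine ⟨by rw [hj, h3]; norm_num, ?_⟩
      obtain ⟨e0, C⟩ := hex (by norm_num)
      obtain ⟨z, hzN, hz1, hzc⟩ := exists_central_of_five C
      rw [hinf, hO'] at hzN
      obtain ⟨z', hz', hzz⟩ := hzN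
      refine ⟨z', hz', ?_, ?_⟩
      · intro h1
        apply hz1
        rw [← hzz, h1]; rfl
      · intro g'
        have h1 := hzc (g' : H) (by rw [hsup]; exact g'.2)
        apply Subtype.ext
        show (z' : H) * (g' : H) = (g' : H) * (z' : H)
        have hzz' : (z' : H) = z := hzz
        rw [hzz']; exact h1.eq
  subst hq3
  have h4j : 4 ≤ 2 ^ j := by
    calc 4 = 2 ^ 2 := by norm_num
      _ ≤ 2 ^ j := Nat.pow_le_pow_right (by norm_num) hj2
  rcases struct T h hT2 hgen hcoreB G hsup.symm hTq with ⟨⟨f⟩⟩ | ⟨⟨f⟩⟩ | h4 | h5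
  · exfalso
    have h1 := Nat.card_congr f.toEquiv
    rw [hcG, Nat.card_perm, Nat.card_fin] at h1
    have h6 : Nat.factorial 3 = 6 := by decide
    rw [h6] at h1
    omega
  · exfalso
    have h1 := Nat.card_congr f.toEquiv
    rw [hcG, DihedralGroup.nat_card] at h1
    omega
  · exact Or.inl h4
  · exact Or.inr h5

end main

end Cfsg.Agent.Helper10.Tutte
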