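import Mathlib
import Cfsg.Prelude.Def_CaseTheorems
import Cfsg.Agent.Lib.Helper10.Sims1
import Cfsg.Agent.Lib.Helper10.SecFusion
import Cfsg.Agent.Lib.Helper3.Dihedral

set_option autoImplicit false

/-! The quotient of a group by its odd core, in the situations arising from the weak form of
Tutte's theorem. -/

namespace Cfsg.Agent.Helper10.Sims

open Subgroup Cfsg.Agent.Helper10.Tutte Cfsg.Agent.Helper10

universe u

section quot

variable {M : Type u} [Group M] [Finite M]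

local notation "𝒩" => Cfsg.oddCore M

theorem card_map_of_inf_ker {M' : Type*} [Group M'] (f : M →* M') (X : Subgroup M)
    (hX : X ⊓ f.ker = ⊥) : Nat.card ↥(X.map f) = Nat.card ↥X := by
  symm
  apply Nat.card_congr
  refine Equiv.ofBijective
    (fun x : ↥X => (⟨f x, Subgroup.mem_map_of_mem f x.2⟩ : ↥(X.map f))) ⟨?_, ?_⟩
  · intro x y hxy
    have h1 : f (x : M) = f (y : M) := congrArg Subtype.val hxy
    have h2 : (x : M) * (y : M)⁻¹ ∈ X ⊓ f.ker := by
      rw [Subgroup.mem_inf]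
      refine ⟨X.mul_mem x.2 (X.inv_mem y.2), ?_⟩
      rw [MonoidHom.mem_ker, map_mul, map_inv, h1, mul_inv_cancel]
    rw [hX, Subgroup.mem_bot] at h2
    apply Subtype.ext
    exact mul_inv_eq_one.mp h2
  · rintro ⟨_, x, hx, rfl⟩
    exact ⟨⟨x, hx⟩, rfl⟩

/-- a `2`-subgroup meets the odd core trivially -/
theorem inf_oddCore_eq_bot (X : Subgroup M) (k : ℕ) (hX : Nat.card ↥X = 2 ^ k) :
    X ⊓ Cfsg.oddCore M = ⊥ := by
  apply (Subgroup.disjoint_of_coprime_natCard _).eq_bot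
  rw [hX]
  have h1 : (Nat.card ↥(Cfsg.oddCore M)).Coprime 2 := card_pPrimeCore_coprime 2
  exact (Nat.Coprime.pow_right k h1).symm

theorem ker_mk_oddCore : (QuotientGroup.mk' (Cfsg.oddCore M)).ker = Cfsg.oddCore M :=
  QuotientGroup.ker_mk' _

/-- the order of a quotient generated by two involutions whose product has order three is at
most six -/
theorem card_le_six_of_gen {W : Type*} [Group W] (a b : W) (ha : a * a = 1) (hb : b * b = 1)
    (hab : (a * b) ^ 3 = 1) (hgen : ∀ R : Subgroup W, a ∈ R → b ∈ R → R = ⊤) :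
    Nat.card W ≤ 6 := by
  have hinv : a * (a * b) * a = (a * b)⁻¹ := by
    have h1 : (a * b) * (b * a) = 1 := by
      calc (a * b) * (b * a) = a * (b * b) * a := by group
        _ = 1 := by rw [hb, mul_one, ha]
    have h2 : (a * b)⁻¹ = b * a := inv_eq_of_mul_eq_one_right h1
    rw [h2]
    calc a * (a * b) * a = (a * a) * b * a := by group
      _ = b * a := by rw [ha, one_mul]
  let ψ : DihedralGroup 3 →* W := Cfsg.Agent.Helper3.dihedralLift (n := 3) (a * b) a hab ha hinv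
  have hr : ψ (DihedralGroup.r 1) = a * b := by
    show Cfsg.Agent.Helper3.zmodPow (a * b) (1 : ZMod 3) = a * b
    unfold Cfsg.Agent.Helper3.zmodPow
    have : (1 : ZMod 3).val = 1 := rfl
    rw [this, pow_one]
  have hs : ψ (DihedralGroup.sr 0) = a := by
    show a * Cfsg.Agent.Helper3.zmodPow (a * b) (0 : ZMod 3) = a
    rw [Cfsg.Agent.Helper3.zmodPow_zero, mul_one]
  have htop : ψ.range = ⊤ := by
    apply hgen
    · exact ⟨_, hs⟩
    · have h1 : a * b ∈ ψ.range := ⟨_, hr⟩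
      have h2 : a ∈ ψ.range := ⟨_, hs⟩
      have : b = a⁻¹ * (a * b) := by group
      rw [this]
      exact mul_mem (inv_mem h2) h1
  have hsurj : Function.Surjective ψ := MonoidHom.range_eq_top.mp htop
  have := Nat.card_le_card_of_surjective ψ hsurj
  rwa [DihedralGroup.nat_card] at this

theorem quot_core (Q P : Subgroup M) [hQn : Q.Normal] (a : ℕ) (hQc : Nat.card ↥Q = 2 ^ a)
    (hQab : ∀ v ∈ Q, ∀ w ∈ Q, Commute v w) (hQP : Q ≤ P) (hPc : Nat.card ↥P = 2 * 2 ^ a)
    (hPs : ¬ 2 ∣ P.index) (t t' : M) (htP : t ∈ P) (ht2 : t * t = 1) (ht'2 : t' * t' = 1)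
    (hgen : ∀ R : Subgroup M, Q ≤ R → t ∈ R → t' ∈ R → R = ⊤)
    (htQ : ∃ v ∈ Q, ¬ Commute t v)
    (hρ3 : ∀ v ∈ Q, Commute ((t * t') ^ 3) v) (hρ : ∃ v ∈ Q, ¬ Commute (t * t') v) :
    Nat.card (M ⧸ Cfsg.oddCore M) = 6 * 2 ^ a ∧
      centralizer ((Q.map (QuotientGroup.mk' (Cfsg.oddCore M)) :
        Subgroup (M ⧸ Cfsg.oddCore M)) : Set (M ⧸ Cfsg.oddCore M)) ≤
        Q.map (QuotientGroup.mk' (Cfsg.oddCore M)) := by
  have hNn : Subgroup.Normal 𝒩 := inferInstance
  have hNc : (Nat.card ↥𝒩).Coprime 2 := card_pPrimeCore_coprime 2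
  obtain ⟨C, hC⟩ : ∃ C : Subgroup M, C = centralizer (Q : Set M) := ⟨_, rfl⟩
  have hCn : C.Normal := by rw [hC]; infer_instance
  have hmemC : ∀ x : M, x ∈ C ↔ ∀ v ∈ Q, Commute x v := by
    intro x
    rw [hC, Subgroup.mem_centralizer_iff]
    constructor
    · intro h v hv; exact (h v hv).symm
    · intro h v hv; exact (h v hv).eq.symm
  have hQC : Q ≤ C := by
    intro v hv
    rw [hmemC]
    intro w hw
    exact hQab v hv w hw
  have htC : t ∉ C := by
    intro h
    obtain ⟨v, hv, hnc⟩ := htQ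
    exact hnc ((hmemC t).mp h v hv)
  have hρC : t * t' ∉ C := by
    intro h
    obtain ⟨v, hv, hnc⟩ := hρ
    exact hnc ((hmemC _).mp h v hv)
  have hρ3C : (t * t') ^ 3 ∈ C := (hmemC _).mpr hρ3
  have hcardPQ : Nat.card ↥P = 2 * Nat.card ↥Q := by rw [hPc, hQc]
  -- `C ⊓ P = Q`
  have hCP : C ⊓ P = Q := by
    apply le_antisymm
    · intro x hx
      by_contra hxQ
      have htQ' : t ∉ Q := fun h => htC (hQC h)
      have h1 := mul_inv_mem_of_not_mem hQP hcardPQ hx.2 htP hxQ htQ'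
      apply htC
      have h2 : t = (x * t⁻¹)⁻¹ * x := by group
      rw [h2]
      exact mul_mem (inv_mem (hQC h1)) hx.1
    · exact le_inf hQC hQP
  -- the order of `C`
  obtain ⟨r, hr⟩ : ∃ r : ℕ, r = P.relIndex (P ⊔ C) := ⟨_, rfl⟩
  have hr2 : ¬ 2 ∣ r := by
    intro h2
    apply hPs
    have := Subgroup.relIndex_mul_index (le_sup_left : P ≤ P ⊔ C)
    rw [← this, ← hr]
    exact Dvd.dvd.mul_right h2 _
  have hcardC : Nat.card ↥C = 2 ^ a * r := by
    have h1 : C.relIndex (P ⊔ C) = 2 := by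
      rw [Subgroup.relIndex_sup_right, ← Subgroup.inf_relIndex_right, hCP]
      exact relIndex_two_of_card hQP hcardPQ
    have h2 := card_mul_relIndex (le_sup_right : C ≤ P ⊔ C)
    have h3 := card_mul_relIndex (le_sup_left : P ≤ P ⊔ C)
    rw [h1] at h2
    rw [← hr, hPc] at h3
    have : Nat.card ↥C * 2 = 2 ^ a * r * 2 := by rw [h2, ← h3]; ring
    exact Nat.eq_of_mul_eq_mul_right (by norm_num) this
  have hrpos : 0 < r := by
    rcases Nat.eq_zero_or_pos r with h | h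
    · exfalso; apply hr2; rw [h]; exact dvd_zero 2
    · exact h
  have hcop : Nat.Coprime (2 ^ a) r := by
    apply Nat.Coprime.pow_left
    exact (Nat.Prime.coprime_iff_not_dvd Nat.prime_two).mpr hr2
  -- Schur–Zassenhaus in `C`
  have hQ₀n : (Q.subgroupOf C).Normal := hQn.subgroupOf C
  have hQ₀c : Nat.card ↥(Q.subgroupOf C) = 2 ^ a := by
    rw [card_subgroupOf, inf_eq_left.mpr hQC, hQc]
  have hQ₀i : (Q.subgroupOf C).index = r := by
    have := (Q.subgroupOf C).card_mul_index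
    rw [hQ₀c, hcardC] at this
    exact Nat.eq_of_mul_eq_mul_left (by positivity) this
  obtain ⟨K₀, hK₀⟩ := Subgroup.exists_right_complement'_of_coprime (N := Q.subgroupOf C)
    (by rw [hQ₀c, hQ₀i]; exact hcop)
  have hK₀c : Nat.card ↥K₀ = r := by
    have := hK₀.card_mul_card
    rw [hQ₀c, hcardC] at this
    exact Nat.eq_of_mul_eq_mul_left (by positivity) this
  obtain ⟨K, hK⟩ : ∃ K : Subgroup M, K = K₀.map C.subtype := ⟨_, rfl⟩
  have hKc : Nat.card ↥K = r := by
    rw [hK, Subgroup.card_map_of_injective C.subtype_injective, hK₀c]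
  have hKC : K ≤ C := by rw [hK]; exact Subgroup.map_subtype_le _
  -- decomposition of the elements of `C`
  have hdec : ∀ y ∈ C, ∃ q ∈ Q, ∃ k ∈ K, y = q * k := by
    intro y hy
    obtain ⟨⟨q, k⟩, hqk, -⟩ := (Subgroup.isComplement'_def.mp hK₀).existsUnique (⟨y, hy⟩ : ↥C)
    refine ⟨(q : ↥C), Subgroup.mem_subgroupOf.mp q.2, (k : ↥C), ?_, ?_⟩
    · rw [hK]; exact ⟨(k : ↥C), k.2, rfl⟩
    · have := congrArg Subtype.val hqk
      simpa using this.symm
  have hpowK : ∀ k ∈ K, k ^ r = 1 := by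
    intro k hk
    rw [← hKc]
    exact orderOf_dvd_iff_pow_eq_one.mp (Subgroup.orderOf_dvd_natCard K hk)
  have hpowQ : ∀ q ∈ Q, q ^ 2 ^ a = 1 := by
    intro q hq
    rw [← hQc]
    exact orderOf_dvd_iff_pow_eq_one.mp (Subgroup.orderOf_dvd_natCard Q hq)
  have hchar : ∀ y ∈ C, y ^ r = 1 → y ∈ K := by
    intro y hy hyr
    obtain ⟨q, hq, k, hk, rfl⟩ := hdec y hy
    have hc : Commute q k := ((hmemC k).mp (hKC hk) q hq).symm
    rw [hc.mul_pow, hpowK k hk, mul_one] at hyr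
    have h1 := (pow_gcd_eq_one (a := q)).mpr ⟨hyr, hpowQ q hq⟩
    have h2 : Nat.gcd r (2 ^ a) = 1 := hcop.symm
    rw [h2, pow_one] at h1
    rw [h1, one_mul]; exact hk
  have hKn : K.Normal := by
    refine ⟨fun x hx g => ?_⟩
    apply hchar _ (hCn.conj_mem x (hKC hx) g)
    rw [conj_pow, hpowK x hx, mul_one, mul_inv_cancel]
  have hKN : K ≤ 𝒩 := by
    apply le_pPrimeCore' hKn
    rw [hKc]
    exact (Nat.Prime.coprime_iff_not_dvd Nat.prime_two).mpr hr2 |>.symm
  -- `𝒩` centralizes `Q`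
  have hNQ : 𝒩 ⊓ Q = ⊥ := by
    apply (Subgroup.disjoint_of_coprime_natCard _).eq_bot
    rw [hQc]
    exact Nat.Coprime.pow_right a hNc
  have hNC : 𝒩 ≤ C := by
    intro x hx
    rw [hmemC]
    intro v hv
    have h1 : x * v * x⁻¹ * v⁻¹ ∈ 𝒩 ⊓ Q := by
      rw [Subgroup.mem_inf]
      refine ⟨?_, ?_⟩
      · have := hNn.conj_mem x⁻¹ (inv_mem hx) v
        have e : x * v * x⁻¹ * v⁻¹ = x * (v * x⁻¹ * v⁻¹) := by group
        rw [e]; exact mul_mem hx this
      · exact mul_mem (hQn.conj_mem v hv x) (inv_mem hv)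
    rw [hNQ, Subgroup.mem_bot] at h1
    show x * v = v * x
    calc x * v = (x * v * x⁻¹ * v⁻¹) * (v * x) := by group
      _ = v * x := by rw [h1, one_mul]
  have hNcard : Nat.card ↥𝒩 = r := by
    apply Nat.dvd_antisymm
    · have h1 : Nat.card ↥𝒩 ∣ 2 ^ a * r := by
        rw [← hcardC]; exact Subgroup.card_dvd_of_le hNC
      exact Nat.Coprime.dvd_of_dvd_mul_left (Nat.Coprime.pow_right a hNc) h1
    · rw [← hKc]; exact Subgroup.card_dvd_of_le hKN
  have hKeqN : K = 𝒩 := Subgroup.eq_of_le_of_card_ge hKN (by rw [hNcard, hKc])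
  -- the index of `C`
  have hCidx : C.index = 6 := by
    rw [Subgroup.index_eq_card]
    have ha2 : ((t : M) : M ⧸ C) * ((t : M) : M ⧸ C) = 1 := by
      rw [← QuotientGroup.mk_mul, ht2]; rfl
    have hb2 : ((t' : M) : M ⧸ C) * ((t' : M) : M ⧸ C) = 1 := by
      rw [← QuotientGroup.mk_mul, ht'2]; rfl
    have hab3 : (((t : M) : M ⧸ C) * ((t' : M) : M ⧸ C)) ^ 3 = 1 := by
      rw [← QuotientGroup.mk_mul, ← QuotientGroup.mk_pow]
      exact (QuotientGroup.eq_one_iff _).mpr hρ3C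
    have ha1 : ((t : M) : M ⧸ C) ≠ 1 := fun h => htC ((QuotientGroup.eq_one_iff _).mp h)
    have hab1 : ((t : M) : M ⧸ C) * ((t' : M) : M ⧸ C) ≠ 1 := by
      rw [← QuotientGroup.mk_mul]
      exact fun h => hρC ((QuotientGroup.eq_one_iff _).mp h)
    apply le_antisymm
    · apply card_le_six_of_gen _ _ ha2 hb2 hab3
      intro R haR hbR
      have h1 : R.comap (QuotientGroup.mk' C) = ⊤ := by
        apply hgen
        · intro v hv
          rw [Subgroup.mem_comap]
          have : (QuotientGroup.mk' C) v = 1 := (QuotientGroup.eq_one_iff _).mpr (hQC hv)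
          rw [this]; exact one_mem R
        · exact haR
        · exact hbR
      rw [eq_top_iff]
      intro w _
      obtain ⟨x, rfl⟩ := QuotientGroup.mk'_surjective C w
      have : x ∈ R.comap (QuotientGroup.mk' C) := by rw [h1]; exact Subgroup.mem_top x
      exact this
    · have h2 : orderOf ((t : M) : M ⧸ C) = 2 := by
        apply orderOf_eq_prime
        · rw [pow_two]; exact ha2
        · exact ha1
      have h3 : orderOf (((t : M) : M ⧸ C) * ((t' : M) : M ⧸ C)) = 3 := by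
        have h3f : Fact (Nat.Prime 3) := ⟨Nat.prime_three⟩
        exact orderOf_eq_prime hab3 hab1
      have d2 : 2 ∣ Nat.card (M ⧸ C) := by rw [← h2]; exact orderOf_dvd_natCard _
      have d3 : 3 ∣ Nat.card (M ⧸ C) := by rw [← h3]; exact orderOf_dvd_natCard _
      have d6 : 2 * 3 ∣ Nat.card (M ⧸ C) :=
        Nat.Coprime.mul_dvd_of_dvd_of_dvd (by norm_num) d2 d3
      have hpos : 0 < Nat.card (M ⧸ C) := Nat.card_pos
      exact Nat.le_of_dvd hpos d6
  have hcardM : Nat.card M = 2 ^ a * r * 6 := by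
    rw [← C.card_mul_index, hCidx, hcardC]
  refine ⟨?_, ?_⟩
  · rw [← Subgroup.index_eq_card]
    have := Subgroup.card_mul_index 𝒩
    rw [hNcard, hcardM] at this
    have h2 : r * Subgroup.index 𝒩 = r * (6 * 2 ^ a) := by rw [this]; ring
    exact Nat.eq_of_mul_eq_mul_left hrpos h2
  · intro xbar hx
    obtain ⟨x, rfl⟩ := QuotientGroup.mk'_surjective 𝒩 xbar
    have hxC : x ∈ C := by
      rw [hmemC]
      intro v hv
      have h1 : (QuotientGroup.mk' 𝒩) v ∈ Q.map (QuotientGroup.mk' 𝒩) :=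
        Subgroup.mem_map_of_mem _ hv
      have h2 := Subgroup.mem_centralizer_iff.mp hx _ h1
      have h3 : x * v * x⁻¹ * v⁻¹ ∈ 𝒩 := by
        rw [← QuotientGroup.eq_one_iff (N := 𝒩)]
        have e : ((x * v * x⁻¹ * v⁻¹ : M) : M ⧸ 𝒩) =
            (QuotientGroup.mk' 𝒩 x) * (QuotientGroup.mk' 𝒩 v) * (QuotientGroup.mk' 𝒩 x)⁻¹ *
              (QuotientGroup.mk' 𝒩 v)⁻¹ := rfl
        rw [e, ← h2]; group
      have h4 : x * v * x⁻¹ * v⁻¹ ∈ 𝒩 ⊓ Q :=
        Subgroup.mem_inf.mpr ⟨h3, mul_mem (hQn.conj_mem v hv x) (inv_mem hv)⟩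
      rw [hNQ, Subgroup.mem_bot] at h4
      show x * v = v * x
      calc x * v = (x * v * x⁻¹ * v⁻¹) * (v * x) := by group
        _ = v * x := by rw [h4, one_mul]
    obtain ⟨q, hq, k, hk, rfl⟩ := hdec x hxC
    refine ⟨q, hq, ?_⟩
    rw [map_mul]
    have : (QuotientGroup.mk' 𝒩) k = 1 := (QuotientGroup.eq_one_iff _).mpr (hKN hk)
    rw [this, mul_one]

end quot

end Cfsg.Agent.Helper10.Sims
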