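import Mathlib
import Cfsg.Agent.Lib.Helper10.SimsW1
import Cfsg.Agent.Lib.Helper10.Tutte2

set_option autoImplicit false

/-! Recognition of the quotient by the odd core: the three cases. -/

namespace Cfsg.Agent.Helper10.Sims

open Subgroup Cfsg.Agent.Helper10.Tutte Cfsg.Agent.Helper10

universe u

section recog

variable {M : Type u} [Group M] [Finite M]

local notation "𝒩" => Cfsg.oddCore M

theorem quot_s4 (Q P : Subgroup M) [hQn : Q.Normal] (hQc : Nat.card ↥Q = 4)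
    (hQab : ∀ v ∈ Q, ∀ w ∈ Q, Commute v w) (hQP : Q ≤ P) (hPc : Nat.card ↥P = 8)
    (hPs : ¬ 2 ∣ P.index) (t t' : M) (htP : t ∈ P) (ht2 : t * t = 1) (ht'2 : t' * t' = 1)
    (hgen : ∀ R : Subgroup M, Q ≤ R → t ∈ R → t' ∈ R → R = ⊤)
    (htQ : ∃ v ∈ Q, ¬ Commute t v)
    (hρ3 : ∀ v ∈ Q, Commute ((t * t') ^ 3) v) (hρ : ∃ v ∈ Q, ¬ Commute (t * t') v) :
    Nonempty (M ⧸ Cfsg.oddCore M ≃* Equiv.Perm (Fin 4)) := by
  obtain ⟨hcard, hcent⟩ := quot_core Q P 2 (by rw [hQc]; norm_num) hQab hQP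
    (by rw [hPc]; norm_num) hPs t t' htP ht2 ht'2 hgen htQ hρ3 hρ
  have hVn : (Q.map (QuotientGroup.mk' 𝒩)).Normal :=
    hQn.map _ (QuotientGroup.mk'_surjective _)
  have hVc : Nat.card ↥(Q.map (QuotientGroup.mk' 𝒩)) = 4 := by
    rw [card_map_of_inf_ker, hQc]
    rw [QuotientGroup.ker_mk']
    exact inf_oddCore_eq_bot Q 2 (by rw [hQc]; norm_num)
  exact s4_recog (by rw [hcard]; norm_num) (Q.map (QuotientGroup.mk' 𝒩)) hVc hcent

theorem quot_s4z2 (Q P : Subgroup M) [hQn : Q.Normal] (hQc : Nat.card ↥Q = 8)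
    (hQab : ∀ v ∈ Q, ∀ w ∈ Q, Commute v w) (hQP : Q ≤ P) (hPc : Nat.card ↥P = 16)
    (hPs : ¬ 2 ∣ P.index) (t t' : M) (htP : t ∈ P) (ht2 : t * t = 1) (ht'2 : t' * t' = 1)
    (hgen : ∀ R : Subgroup M, Q ≤ R → t ∈ R → t' ∈ R → R = ⊤)
    (htQ : ∃ v ∈ Q, ¬ Commute t v)
    (hρ3 : ∀ v ∈ Q, Commute ((t * t') ^ 3) v) (hρ : ∃ v ∈ Q, ¬ Commute (t * t') v)
    (z : M) (hzP : z ∈ P) (hz : ∀ g : M, Commute z g) (hz2 : z * z = 1) (hz1 : z ≠ 1)
    (A : Subgroup M) (hAP : A ≤ P) (hAc : Nat.card ↥A = 8) (hzA : z ∉ A) :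
    Nonempty (M ⧸ Cfsg.oddCore M ≃* Equiv.Perm (Fin 4) × Multiplicative (ZMod 2)) := by
  obtain ⟨hcard, hcent⟩ := quot_core Q P 3 (by rw [hQc]; norm_num) hQab hQP
    (by rw [hPc]; norm_num) hPs t t' htP ht2 ht'2 hgen htQ hρ3 hρ
  have hVn : (Q.map (QuotientGroup.mk' 𝒩)).Normal :=
    hQn.map _ (QuotientGroup.mk'_surjective _)
  have hVc : Nat.card ↥(Q.map (QuotientGroup.mk' 𝒩)) = 8 := by
    rw [card_map_of_inf_ker, hQc]
    rw [QuotientGroup.ker_mk']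
    exact inf_oddCore_eq_bot Q 3 (by rw [hQc]; norm_num)
  have hPN : P ⊓ 𝒩 = ⊥ := inf_oddCore_eq_bot P 4 (by rw [hPc]; norm_num)
  have hAN : A ⊓ 𝒩 = ⊥ := by
    rw [eq_bot_iff, ← hPN]
    exact inf_le_inf_right _ hAP
  have hAc' : Nat.card ↥(A.map (QuotientGroup.mk' 𝒩)) = 8 := by
    rw [card_map_of_inf_ker, hAc]
    rw [QuotientGroup.ker_mk']
    exact hAN
  have hzc : ∀ g : M ⧸ 𝒩, Commute ((QuotientGroup.mk' 𝒩) z) g := by
    intro g
    obtain ⟨x, rfl⟩ := QuotientGroup.mk'_surjective 𝒩 g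
    show (QuotientGroup.mk' 𝒩) z * (QuotientGroup.mk' 𝒩) x =
      (QuotientGroup.mk' 𝒩) x * (QuotientGroup.mk' 𝒩) z
    rw [← map_mul, ← map_mul, (hz x).eq]
  have hz2' : (QuotientGroup.mk' 𝒩) z * (QuotientGroup.mk' 𝒩) z = 1 := by
    rw [← map_mul, hz2, map_one]
  have hz1' : (QuotientGroup.mk' 𝒩) z ≠ 1 := by
    intro h1
    have h2 : z ∈ 𝒩 := (QuotientGroup.eq_one_iff z).mp h1
    have h3 : z ∈ P ⊓ 𝒩 := Subgroup.mem_inf.mpr ⟨hzP, h2⟩
    rw [hPN, Subgroup.mem_bot] at h3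
    exact hz1 h3
  have hzA' : (QuotientGroup.mk' 𝒩) z ∉ A.map (QuotientGroup.mk' 𝒩) := by
    rintro ⟨a, ha, hae⟩
    have h1 : a⁻¹ * z ∈ 𝒩 := QuotientGroup.eq.mp hae
    have h2 : a⁻¹ * z ∈ P ⊓ 𝒩 :=
      Subgroup.mem_inf.mpr ⟨mul_mem (inv_mem (hAP ha)) hzP, h1⟩
    rw [hPN, Subgroup.mem_bot] at h2
    apply hzA
    have : z = a := by
      calc z = a * (a⁻¹ * z) := by group
        _ = a := by rw [h2, mul_one]
    rw [this]; exact ha
  exact s4z2_recog (by rw [hcard]; norm_num) (Q.map (QuotientGroup.mk' 𝒩)) hVc hcent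
    ((QuotientGroup.mk' 𝒩) z) hzc hz2' hz1' (A.map (QuotientGroup.mk' 𝒩)) hAc' hzA'

theorem quot_v4 (P : Subgroup M) (hPc : Nat.card ↥P = 4) (hexp : ∀ x ∈ P, x * x = 1)
    (z t t' : M) (hzP : z ∈ P) (htP : t ∈ P) (hz : ∀ g : M, Commute z g) (ht'2 : t' * t' = 1)
    (n : ℕ) (hn : Odd n) (hρn : (t * t') ^ n = 1 ∨ (t * t') ^ n = z)
    (hgen : ∀ R : Subgroup M, z ∈ R → t ∈ R → t' ∈ R → R = ⊤) :
    Nonempty (M ⧸ Cfsg.oddCore M ≃* Multiplicative (ZMod 2) × Multiplicative (ZMod 2)) := by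
  have ht2 : t * t = 1 := hexp t htP
  have hz2 : z * z = 1 := hexp z hzP
  have htinv : t⁻¹ = t := inv_eq_of_mul_eq_one_right ht2
  have ht'inv : t'⁻¹ = t' := inv_eq_of_mul_eq_one_right ht'2
  obtain ⟨ρ, hρ⟩ : ∃ ρ : M, ρ = t * t' := ⟨_, rfl⟩
  rw [← hρ] at hρn
  have hρinv : ρ⁻¹ = t' * t := by rw [hρ, mul_inv_rev, htinv, ht'inv]
  have hρP : ρ ^ n ∈ P := by
    rcases hρn with h | h
    · rw [h]; exact one_mem P
    · rw [h]; exact hzP
  have hρ2n : (ρ ^ 2) ^ n = 1 := by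
    rw [← pow_mul, mul_comm, pow_mul, pow_two]
    exact hexp _ hρP
  obtain ⟨K, hK⟩ : ∃ K : Subgroup M, K = closure ({ρ ^ 2} : Set M) := ⟨_, rfl⟩
  have hKz : K = zpowers (ρ ^ 2) := by rw [hK, Subgroup.zpowers_eq_closure]
  have hKc : Nat.card ↥K ∣ n := by
    rw [hKz, Nat.card_zpowers]
    exact orderOf_dvd_of_pow_eq_one hρ2n
  have hKcop : (Nat.card ↥K).Coprime 2 := by
    have h2 : Nat.Coprime n 2 := (Nat.coprime_two_right).mpr hn
    exact Nat.Coprime.coprime_dvd_left hKc h2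
  have hconj_t : t * ρ * t⁻¹ = ρ⁻¹ := by
    rw [hρinv, hρ, htinv]
    calc t * (t * t') * t = (t * t) * t' * t := by group
      _ = t' * t := by rw [ht2, one_mul]
  have hconj_t' : t' * ρ * t'⁻¹ = ρ⁻¹ := by
    rw [hρinv, hρ, ht'inv]
    calc t' * (t * t') * t' = t' * t * (t' * t') := by group
      _ = t' * t := by rw [ht'2, mul_one]
  have hKn : K.Normal := by
    rw [← Subgroup.normalizer_eq_top_iff]
    apply hgen
    · rw [Subgroup.mem_normalizer_iff]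
      intro k
      have : z * k * z⁻¹ = k := by rw [(hz k).eq, mul_assoc, mul_inv_cancel, mul_one]
      rw [this]
    · rw [hK]
      apply mem_normalizer_closure_of_invol ht2
      intro x hx
      rw [Set.mem_singleton_iff] at hx
      rw [hx, ← conj_pow, hconj_t]
      have : (ρ⁻¹) ^ 2 = (ρ ^ 2)⁻¹ := inv_pow ρ 2
      rw [this]
      exact inv_mem (subset_closure (Set.mem_singleton _))
    · rw [hK]
      apply mem_normalizer_closure_of_invol ht'2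
      intro x hx
      rw [Set.mem_singleton_iff] at hx
      rw [hx, ← conj_pow, hconj_t']
      have : (ρ⁻¹) ^ 2 = (ρ ^ 2)⁻¹ := inv_pow ρ 2
      rw [this]
      exact inv_mem (subset_closure (Set.mem_singleton _))
  have hKN : K ≤ 𝒩 := le_pPrimeCore' hKn hKcop
  have hsup : P ⊔ K = ⊤ := by
    apply hgen
    · exact (le_sup_left : P ≤ P ⊔ K) hzP
    · exact (le_sup_left : P ≤ P ⊔ K) htP
    · obtain ⟨m, hm⟩ := hn
      have h1 : ρ = ρ ^ n * ((ρ ^ 2) ^ m)⁻¹ := by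
        rw [hm, ← pow_mul, pow_succ]; group
      have h2 : ρ ∈ P ⊔ K := by
        rw [h1]
        apply mul_mem ((le_sup_left : P ≤ P ⊔ K) hρP)
        apply inv_mem
        apply pow_mem
        apply (le_sup_right : K ≤ P ⊔ K)
        rw [hK]; exact subset_closure (Set.mem_singleton _)
      have h3 : t' = t⁻¹ * ρ := by rw [hρ]; group
      rw [h3]
      exact mul_mem (inv_mem ((le_sup_left : P ≤ P ⊔ K) htP)) h2
  have hPN : P ⊓ 𝒩 = ⊥ := inf_oddCore_eq_bot P 2 (by rw [hPc]; norm_num)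
  have hcardM : Nat.card M ∣ 4 * Nat.card ↥K := by
    have := card_sup_dvd_mul_of_normal P K
    rw [hsup, Subgroup.card_top, hPc] at this
    exact this
  have hidx4 : Subgroup.index 𝒩 ∣ 4 := by
    have h1 := Subgroup.card_mul_index 𝒩
    have h2 : Nat.card ↥K ∣ Nat.card ↥𝒩 := Subgroup.card_dvd_of_le hKN
    have h3 : Nat.card ↥𝒩 * Subgroup.index 𝒩 ∣ Nat.card ↥𝒩 * 4 := by
      rw [h1, mul_comm]
      exact hcardM.trans (Nat.mul_dvd_mul_left 4 h2)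
    exact (Nat.mul_dvd_mul_iff_left Nat.card_pos).mp h3
  have hPbar : Nat.card ↥(P.map (QuotientGroup.mk' 𝒩)) = 4 := by
    rw [card_map_of_inf_ker, hPc]
    rw [QuotientGroup.ker_mk']
    exact hPN
  have hcardQ : Nat.card (M ⧸ 𝒩) = 4 := by
    rw [← Subgroup.index_eq_card]
    apply Nat.dvd_antisymm hidx4
    rw [Subgroup.index_eq_card, ← hPbar]
    exact Subgroup.card_subgroup_dvd_card _
  have hPtop : P.map (QuotientGroup.mk' 𝒩) = ⊤ := by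
    apply Subgroup.eq_top_of_card_eq
    rw [hPbar, hcardQ]
  have hsq : ∀ w : M ⧸ 𝒩, w ^ 2 = 1 := by
    intro w
    have hw : w ∈ P.map (QuotientGroup.mk' 𝒩) := by rw [hPtop]; exact Subgroup.mem_top w
    obtain ⟨p, hp, rfl⟩ := hw
    rw [pow_two, ← map_mul, hexp p hp, map_one]
  have hK4 : IsKleinFour (M ⧸ 𝒩) := by
    refine ⟨hcardQ, ?_⟩
    have h1 : Monoid.exponent (M ⧸ 𝒩) ∣ 2 := Monoid.exponent_dvd_of_forall_pow_eq_one hsq
    rcases (Nat.dvd_prime Nat.prime_two).mp h1 with h | h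
    · exfalso
      have hs : Subsingleton (M ⧸ 𝒩) := Monoid.exp_eq_one_iff.mp h
      have : Nat.card (M ⧸ 𝒩) = 1 := Nat.card_eq_one_iff_unique.mpr ⟨hs, ⟨1⟩⟩
      omega
    · exact h
  obtain ⟨e⟩ := IsKleinFour.nonempty_mulEquiv (G₁ := M ⧸ 𝒩)
    (G₂ := Multiplicative (ZMod 2 × ZMod 2))
  exact ⟨e.trans (MulEquiv.prodMultiplicative (ZMod 2) (ZMod 2))⟩

end recog

end Cfsg.Agent.Helper10.Sims
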