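import Mathlib
import Cfsg.Agent.Lib.Helper10.Tutte3

set_option autoImplicit false

/-! Abstract Tutte, weak form: the translates of `B` need not generate; only subgroups of `B`
normalized by three consecutive translates are assumed trivial. First part. -/

namespace Cfsg.Agent.Helper10.Tutte

open Subgroup

universe u

section gen

variable {G : Type u} [Group G]

theorem cj_le_normalizer {X R : Subgroup G} (g : G) (hX : X ≤ normalizer (R : Set G)) :
    cj g X ≤ normalizer ((cj g R : Subgroup G) : Set G) := by
  intro x hx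
  rw [mem_cj] at hx
  have h1 := hX hx
  rw [mem_normalizer_iff_cj] at h1 ⊢
  have h2 : cj x (cj g R) = cj g (cj (g⁻¹ * x * g) R) := by
    rw [← cj_mul, ← cj_mul]
    congr 1
    group
  rw [h2, h1]

end gen

section partAW

variable {G : Type u} [Group G] [Finite G] (B : Subgroup G) (h : G)

theorem partAW (hT : (B ⊓ cj h B).relIndex B = 2)
    (hcore : ∀ R : Subgroup G, R ≤ B → Bk B h (-1) ≤ normalizer (R : Set G) →
      Bk B h 0 ≤ normalizer (R : Set G) → Bk B h 1 ≤ normalizer (R : Set G) → R = ⊥) :
    ∃ s : ℕ, 2 ≤ s ∧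
      (∀ (a : ℤ) (m : ℕ), 1 ≤ m → m ≤ s → Nat.card ↥(K B h a (a + m)) = 2 ^ (s - m)) ∧
      (∀ a b : ℤ, a + s ≤ b → K B h a b = ⊥) := by
  have hc12 : cc B h 1 = 2 * cc B h 2 := by
    unfold cc
    have e1 : K B h 0 ((1 : ℕ) : ℤ) = B := by
      have := K_single (B := B) (h := h) 0
      rw [zero_add] at this
      push_cast; rw [this, Bk_zero]
    have e2 : K B h 0 ((2 : ℕ) : ℤ) = B ⊓ cj h B := by
      ext x; rw [mem_K, Subgroup.mem_inf]; push_cast
      constructor
      · intro hx
        have h0 := hx 0 le_rfl (by norm_num)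
        have h1 := hx 1 (by norm_num) (by norm_num)
        rw [Bk_zero] at h0
        unfold Bk at h1; rw [zpow_one] at h1
        exact ⟨h0, h1⟩
      · rintro ⟨h0, h1⟩ k hk1 hk2
        have : k = 0 ∨ k = 1 := by omega
        rcases this with rfl | rfl
        · rw [Bk_zero]; exact h0
        · unfold Bk; rw [zpow_one]; exact h1
    rw [e1, e2]
    exact card_of_relIndex_two inf_le_left hT
  have hex : ∃ m, 1 ≤ m ∧ cc B h (m + 1) = cc B h m := by
    by_contra hcon
    push Not at hcon
    have hall : ∀ m, 1 ≤ m → cc B h m = 2 * cc B h (m + 1) := by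
      intro m hm
      rcases cc_step B h hT m hm with h1 | h1
      · exact absurd h1.symm (hcon m hm)
      · exact h1
    have hpow : ∀ n, cc B h 1 = 2 ^ n * cc B h (n + 1) := by
      intro n
      induction n with
      | zero => simp
      | succ n ih => rw [ih, hall (n + 1) (by omega), pow_succ]; ring
    have h1 := hpow (cc B h 1)
    have h2 : cc B h 1 < 2 ^ (cc B h 1) := Nat.lt_two_pow_self
    have h3 : 0 < cc B h (cc B h 1 + 1) := cc_pos B h _
    have h4 : 2 ^ (cc B h 1) ≤ 2 ^ (cc B h 1) * cc B h (cc B h 1 + 1) :=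
      Nat.le_mul_of_pos_right _ h3
    rw [← h1] at h4
    omega
  obtain ⟨s, hs1, hs_eq, hmin⟩ : ∃ s, 1 ≤ s ∧ cc B h (s + 1) = cc B h s ∧
      ∀ m, 1 ≤ m → m < s → cc B h m = 2 * cc B h (m + 1) := by
    classical
    refine ⟨Nat.find hex, (Nat.find_spec hex).1, (Nat.find_spec hex).2, ?_⟩
    intro m hm hms
    have hnot := Nat.find_min hex hms
    rcases cc_step B h hT m hm with h1 | h1
    · exact absurd ⟨hm, h1.symm⟩ hnot
    · exact h1
  have hs2 : 2 ≤ s := by
    by_contra hcon
    have : s = 1 := by omega
    subst this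
    have h2 : cc B h 2 = cc B h 1 := hs_eq
    have := cc_pos B h 2
    omega
  -- the limit group
  obtain ⟨R, hR⟩ : ∃ R : Subgroup G, R = K B h 0 (s : ℤ) := ⟨_, rfl⟩
  have hR1 : K B h 0 ((s : ℤ) + 1) = R := by
    rw [hR]
    apply Subgroup.eq_of_le_of_card_ge (K_anti le_rfl (by omega))
    have e1 := card_K' B h 0 ((s : ℤ) + 1) (s + 1) (by push_cast; ring)
    have e2 := card_K' B h 0 (s : ℤ) s (by ring)
    rw [e1, e2, hs_eq]
  have hR2 : cj h R = R := by
    symm
    apply Subgroup.eq_of_le_of_card_ge
    · rw [hR, cj_h_K, zero_add]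
      rw [← hR, ← hR1]
      exact K_anti (by omega) le_rfl
    · rw [card_cj]
  have hRn : ∀ n : ℤ, cj (h ^ n) R = R := cj_zpow_eq hR2
  have hRK : ∀ a : ℤ, K B h a (a + s) = R := by
    intro a
    have := cj_K (B := B) (h := h) a 0 (s : ℤ)
    rw [zero_add, ← hR, hRn, add_comm] at this
    exact this.symm
  -- all stretches normalize `R`
  have hnorm : ∀ d m : ℕ, m + d = s → 1 ≤ m → ∀ a : ℤ,
      K B h a (a + m) ≤ normalizer (R : Set G) := by
    intro d
    induction d with
    | zero =>
      intro m hm _ a
      have : m = s := by omega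
      rw [this, hRK]
      exact Subgroup.le_normalizer
    | succ d ih =>
      intro m hm hm1 a
      have ih' := ih (m + 1) (by omega) (by omega)
      have hcm : cc B h m = 2 * cc B h (m + 1) := hmin m hm1 (by omega)
      rcases Nat.eq_zero_or_pos d with hd | hd
      · -- index two
        have hms : m + 1 = s := by omega
        have hRa : K B h a (a + (m : ℤ) + 1) = R := by
          have := hRK a
          rw [← hms] at this
          push_cast at this
          rw [← add_assoc] at this
          exact this
        rw [← hRa]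
        apply le_normalizer_of_card (K_anti le_rfl (by omega))
        rw [card_K' B h a (a + (m : ℤ) + 1) (m + 1) (by push_cast; ring), card_K, hcm]
      · -- generated by two shorter stretches
        have hcm2 : cc B h (m + 1) = 2 * cc B h (m + 2) := hmin (m + 1) (by omega) (by omega)
        have hsup : K B h (a - 1) (a + m) ⊔ K B h a (a + (m : ℤ) + 1) = K B h a (a + m) := by
          apply sup_eq_of_card (K_anti (by omega) le_rfl) (K_anti le_rfl (by omega))
          · rw [card_K, card_K' B h (a - 1) (a + m) (m + 1) (by push_cast; ring), hcm]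
          · rw [card_K, card_K' B h a (a + (m : ℤ) + 1) (m + 1) (by push_cast; ring), hcm]
          · intro heq
            have hinf : K B h (a - 1) (a + m) ⊓ K B h a (a + (m : ℤ) + 1) =
                K B h (a - 1) (a + (m : ℤ) + 1) := K_inf (by omega) (by omega) (by omega)
            rw [← heq, inf_idem] at hinf
            have e1 := card_K' B h (a - 1) (a + m) (m + 1) (by push_cast; ring)
            have e2 := card_K' B h (a - 1) (a + (m : ℤ) + 1) (m + 2) (by push_cast; ring)
            rw [hinf, e2] at e1
            have := cc_pos B h (m + 2)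
            omega
        rw [← hsup]
        apply sup_le
        · have := ih' (a - 1)
          have e : a - 1 + ((m + 1 : ℕ) : ℤ) = a + m := by push_cast; ring
          rwa [e] at this
        · have := ih' a
          have e : a + ((m + 1 : ℕ) : ℤ) = a + (m : ℤ) + 1 := by push_cast; ring
          rwa [e] at this
  have hBn : ∀ a : ℤ, Bk B h a ≤ normalizer (R : Set G) := by
    intro a
    have := hnorm (s - 1) 1 (by omega) le_rfl a
    push_cast at this
    rwa [K_single] at this
  have hRB : R ≤ B := by
    have : R ≤ Bk B h 0 := by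
      rw [hR]; exact K_le_Bk le_rfl (by omega)
    rwa [Bk_zero] at this
  have hRbot : R = ⊥ := hcore R hRB (hBn _) (hBn _) (hBn _)
  have hcs : cc B h s = 1 := by
    have := card_K' B h 0 (s : ℤ) s (by ring)
    rw [← this, ← hR, hRbot, Subgroup.card_bot]
  have hcards : ∀ d m : ℕ, m + d = s → 1 ≤ m → cc B h m = 2 ^ d := by
    intro d
    induction d with
    | zero =>
      intro m hm _
      have : m = s := by omega
      rw [this, hcs, pow_zero]
    | succ d ih =>
      intro m hm hm1
      rw [hmin m hm1 (by omega), ih (m + 1) (by omega) (by omega), pow_succ]; ring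
  refine ⟨s, hs2, ?_, ?_⟩
  · intro a m hm1 hms
    rw [card_K]
    exact hcards (s - m) m (by omega) hm1
  · intro a b hab
    rw [eq_bot_iff, ← hRbot, ← hRK a]
    exact K_anti le_rfl hab

end partAW

end Cfsg.Agent.Helper10.Tutte
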