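import Mathlib
import Cfsg.Agent.Lib.Helper10.TutteW1

set_option autoImplicit false

/-! Abstract Tutte, weak form, second part (parallel to `Tutte2`). -/

namespace Cfsg.Agent.Helper10.Tutte

open Subgroup

universe u

section cfgW

variable {G : Type u} [Group G] [Finite G]

/-- the configuration reached after the first part (weak form), with a chosen involution fixing
a stretch of length `s - 1` -/
structure CfgW (B : Subgroup G) (h : G) (s : ℕ) (e0 : G) : Prop where
  hs : 3 ≤ s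
  card : ∀ (a : ℤ) (m : ℕ), 1 ≤ m → m ≤ s → Nat.card ↥(K B h a (a + m)) = 2 ^ (s - m)
  bot : ∀ a b : ℤ, a + s ≤ b → K B h a b = ⊥
  core : ∀ R : Subgroup G, R ≤ B → Bk B h (-1) ≤ normalizer (R : Set G) →
    Bk B h 0 ≤ normalizer (R : Set G) → Bk B h 1 ≤ normalizer (R : Set G) → R = ⊥
  mem : e0 ∈ K B h 0 ((s : ℤ) - 1)
  ne : e0 ≠ 1


variable {B : Subgroup G} {h : G} {s : ℕ} {e0 : G}

theorem CfgW.cardK (C : CfgW B h s e0) {a b : ℤ} (m : ℕ) (hb : b = a + m) (h1 : 1 ≤ m)
    (h2 : m ≤ s) : Nat.card ↥(K B h a b) = 2 ^ (s - m) := by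
  rw [hb]; exact C.card a m h1 h2

theorem CfgW.card_two (C : CfgW B h s e0) {a b a' b' : ℤ} (m : ℕ) (hm : b = a + m)
    (hm' : b' = a' + (m : ℤ) + 1) (h1 : 1 ≤ m) (h2 : m + 1 ≤ s) :
    Nat.card ↥(K B h a b) = 2 * Nat.card ↥(K B h a' b') := by
  rw [C.cardK m hm h1 (by omega), C.cardK (m + 1) (by rw [hm']; push_cast; ring) (by omega) h2]
  have : s - m = (s - (m + 1)) + 1 := by omega
  rw [this, pow_succ]; ring

theorem CfgW.ee_mem (C : CfgW B h s e0) (i : ℤ) : ee h e0 i ∈ K B h i (i + s - 1) := by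
  have := conj_mem_cj (g := h ^ i) C.mem
  rw [cj_K] at this
  have e1 : (0 : ℤ) + i = i := zero_add i
  have e2 : (s : ℤ) - 1 + i = i + s - 1 := by ring
  rw [e1, e2] at this
  exact this

theorem CfgW.ee_mem_K (C : CfgW B h s e0) {i a b : ℤ} (h1 : i ≤ a) (h2 : b ≤ i + s - 1) :
    ee h e0 i ∈ K B h a b := K_anti h1 h2 (C.ee_mem i)

theorem CfgW.ee_ne (C : CfgW B h s e0) (i : ℤ) : ee h e0 i ≠ 1 := by
  unfold ee
  intro hh
  apply C.ne
  have : e0 = (h ^ i)⁻¹ * (h ^ i * e0 * (h ^ i)⁻¹) * h ^ i := by group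
  rw [this, hh]; group

theorem CfgW.eq_one_or (C : CfgW B h s e0) (i : ℤ) {x : G} (hx : x ∈ K B h i (i + s - 1)) :
    x = 1 ∨ x = ee h e0 i := by
  have hs := C.hs
  have hc : Nat.card ↥(K B h i (i + s - 1)) = 2 := by
    rw [C.cardK (s - 1) (by omega) (by omega) (by omega)]
    have : s - (s - 1) = 1 := by omega
    rw [this, pow_one]
  by_contra hcon
  push Not at hcon
  obtain ⟨y, _, hy⟩ := (Nat.card_eq_two_iff' (1 : ↥(K B h i (i + s - 1)))).mp hc
  have h1 := hy ⟨x, hx⟩ (fun hh => hcon.1 (congrArg Subtype.val hh))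
  have h2 := hy ⟨ee h e0 i, C.ee_mem i⟩ (fun hh => C.ee_ne i (congrArg Subtype.val hh))
  apply hcon.2
  have := h1.trans h2.symm
  exact congrArg Subtype.val this

theorem CfgW.ee_sq (C : CfgW B h s e0) (i : ℤ) : ee h e0 i * ee h e0 i = 1 := by
  rcases C.eq_one_or i (mul_mem (C.ee_mem i) (C.ee_mem i)) with h1 | h1
  · exact h1
  · exfalso
    apply C.ee_ne i
    calc ee h e0 i = (ee h e0 i)⁻¹ * (ee h e0 i * ee h e0 i) := by group
      _ = (ee h e0 i)⁻¹ * ee h e0 i := by rw [h1]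
      _ = 1 := by group

theorem CfgW.ee_inv (C : CfgW B h s e0) (i : ℤ) : (ee h e0 i)⁻¹ = ee h e0 i :=
  inv_eq_of_mul_eq_one_right (C.ee_sq i)

theorem CfgW.ee_not_mem_left (C : CfgW B h s e0) {i a b : ℤ} (h1 : a ≤ i - 1) (h2 : i ≤ b) :
    ee h e0 i ∉ K B h a b := by
  intro hmem
  have h3 : ee h e0 i ∈ K B h (i - 1) (i + s - 1) :=
    mem_K_union hmem (C.ee_mem i) (by intro k hk1 hk2; omega)
  rw [C.bot (i - 1) (i + s - 1) (by omega), Subgroup.mem_bot] at h3
  exact C.ee_ne i h3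

theorem CfgW.ee_not_mem_right (C : CfgW B h s e0) {i a b : ℤ} (h1 : a ≤ i + s - 1)
    (h2 : i + s ≤ b) : ee h e0 i ∉ K B h a b := by
  intro hmem
  have h3 : ee h e0 i ∈ K B h i (i + s) :=
    mem_K_union hmem (C.ee_mem i) (by intro k hk1 hk2; omega)
  rw [C.bot i (i + s) (by omega), Subgroup.mem_bot] at h3
  exact C.ee_ne i h3

/-- splitting an element of a stretch stabilizer along a subgroup of index two -/
theorem CfgW.split (C : CfgW B h s e0) {a b a' b' : ℤ} (m : ℕ) (hm : b = a + m)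
    (hm' : b' = a' + (m : ℤ) + 1) (h1 : 1 ≤ m) (h2 : m + 1 ≤ s) (ha : a' ≤ a) (hb : b ≤ b')
    {x y : G} (hx : x ∈ K B h a b) (hy : y ∈ K B h a b) (hx' : x ∉ K B h a' b')
    (hy' : y ∉ K B h a' b') : x * y⁻¹ ∈ K B h a' b' :=
  mul_inv_mem_of_not_mem (K_anti ha hb) (C.card_two m hm hm' h1 h2) hx hy hx' hy'

theorem CfgW.conj_mem (C : CfgW B h s e0) {a b a' b' : ℤ} (m : ℕ) (hm : b = a + m)
    (hm' : b' = a' + (m : ℤ) + 1) (h1 : 1 ≤ m) (h2 : m + 1 ≤ s) (ha : a' ≤ a) (hb : b ≤ b')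
    {x y : G} (hx : x ∈ K B h a b) (hy : y ∈ K B h a' b') : x * y * x⁻¹ ∈ K B h a' b' :=
  conj_mem_of_card (K_anti ha hb) (C.card_two m hm hm' h1 h2) hx hy

theorem CfgW.K_eq_closure (C : CfgW B h s e0) : ∀ (d : ℕ) (i j : ℤ), j = i + d → j ≤ i + s - 2 →
    K B h j (i + s - 1) = closure (ee h e0 '' Set.Icc i j) := by
  intro d
  induction d with
  | zero =>
    intro i j hj _
    have hji : j = i := by rw [hj]; simp
    rw [hji, Set.Icc_self, Set.image_singleton]
    apply le_antisymm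
    · intro x hx
      rcases C.eq_one_or i hx with h1 | h1
      · rw [h1]; exact one_mem _
      · rw [h1]; exact subset_closure (Set.mem_singleton _)
    · rw [closure_le, Set.singleton_subset_iff]
      exact C.ee_mem i
  | succ d ih =>
    intro i j hj hjs
    push_cast at hj
    have hs := C.hs
    have ih1 := ih i (j - 1) (by omega) (by omega)
    have ih2 := ih (i + 1) j (by omega) (by omega)
    have e2 : i + 1 + (s : ℤ) - 1 = i + s := by ring
    rw [e2] at ih2
    obtain ⟨m, hm⟩ : ∃ m : ℕ, i + s - 1 = j + m := ⟨(i + s - 1 - j).toNat, by omega⟩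
    have hm1 : 1 ≤ m := by omega
    have hm2 : m + 2 ≤ s := by omega
    have hsup : K B h (j - 1) (i + s - 1) ⊔ K B h j (i + s) = K B h j (i + s - 1) := by
      apply sup_eq_of_card (K_anti (by omega) le_rfl) (K_anti le_rfl (by omega))
      · exact C.card_two m hm (by omega) hm1 (by omega)
      · exact C.card_two m hm (by omega) hm1 (by omega)
      · intro heq
        have hinf : K B h (j - 1) (i + s - 1) ⊓ K B h j (i + s) = K B h (j - 1) (i + s) :=
          K_inf (by omega) (by omega) (by omega)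
        rw [← heq, inf_idem] at hinf
        have hc := C.card_two (a := j - 1) (b := i + s - 1) (a' := j - 1) (b' := i + s) (m + 1)
          (by push_cast; omega) (by push_cast; omega) (by omega) (by omega)
        rw [← hinf] at hc
        have : 0 < Nat.card ↥(K B h (j - 1) (i + s - 1)) := Nat.card_pos
        omega
    rw [← hsup, ih1, ih2, ← Subgroup.closure_union, ← Set.image_union]
    congr 2
    ext k
    simp only [Set.mem_union, Set.mem_Icc]
    omega

theorem CfgW.K_le_closure (C : CfgW B h s e0) (j b : ℤ) (hjb : j < b) :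
    K B h j b ≤ closure (ee h e0 '' Set.Icc (b - s + 1) j) := by
  by_cases hij : b - s + 1 ≤ j
  · obtain ⟨d, hd⟩ : ∃ d : ℕ, j = (b - s + 1) + d := ⟨(j - (b - s + 1)).toNat, by omega⟩
    have := C.K_eq_closure d (b - s + 1) j hd (by omega)
    have e : b - (s : ℤ) + 1 + s - 1 = b := by ring
    rw [e] at this
    rw [this]
  · rw [C.bot j b (by omega)]
    exact bot_le

theorem CfgW.Bk_le_closure (C : CfgW B h s e0) (k a b : ℤ) (ha : a ≤ k - s + 2) (hb : k ≤ b) :
    Bk B h k ≤ closure (ee h e0 '' Set.Icc a b) := by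
  rw [← K_single]
  refine (C.K_le_closure k (k + 1) (by omega)).trans ?_
  apply Subgroup.closure_mono
  apply Set.image_mono
  apply Set.Icc_subset_Icc <;> omega


/-- the commutator of `e i` and `e j` fixes a longer stretch -/
theorem CfgW.comm_mem (C : CfgW B h s e0) {i j : ℤ} (hij : i < j) (hj : j ≤ i + s - 2) :
    ee h e0 i * ee h e0 j * ee h e0 i * ee h e0 j ∈ K B h (j - 1) (i + s) := by
  have hs := C.hs
  obtain ⟨m, hm⟩ : ∃ m : ℕ, i + s - 1 = j + m := ⟨(i + s - 1 - j).toNat, by omega⟩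
  have hm1 : 1 ≤ m := by omega
  have hm2 : m + 1 ≤ s := by omega
  have hiL : ee h e0 i ∈ K B h j (i + s - 1) := C.ee_mem_K (by omega) (by omega)
  have hjL : ee h e0 j ∈ K B h j (i + s - 1) := C.ee_mem_K (by omega) (by omega)
  have hj1 : ee h e0 j ∈ K B h j (i + s) := C.ee_mem_K (by omega) (by omega)
  have hi2 : ee h e0 i ∈ K B h (j - 1) (i + s - 1) := C.ee_mem_K (by omega) (by omega)
  have h1 : ee h e0 i * ee h e0 j * (ee h e0 i)⁻¹ ∈ K B h j (i + s) :=
    C.conj_mem m hm (by omega) hm1 hm2 le_rfl (by omega) hiL hj1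
  have h2 : ee h e0 j * ee h e0 i * (ee h e0 j)⁻¹ ∈ K B h (j - 1) (i + s - 1) :=
    C.conj_mem m hm (by omega) hm1 hm2 (by omega) le_rfl hjL hi2
  rw [C.ee_inv] at h1 h2
  have h3 : ee h e0 i * ee h e0 j * ee h e0 i * ee h e0 j ∈ K B h j (i + s) := mul_mem h1 hj1
  have h4 : ee h e0 i * ee h e0 j * ee h e0 i * ee h e0 j ∈ K B h (j - 1) (i + s - 1) := by
    have := mul_mem hi2 h2
    rwa [← mul_assoc, ← mul_assoc] at this
  exact mem_K_union h3 h4 (by intro k hk1 hk2; omega)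

theorem CfgW.ee_mem_B (C : CfgW B h s e0) : ee h e0 0 ∈ B := by
  have hs := C.hs
  have := K_le_Bk (B := B) (h := h) (a := 0) (b := 0 + s - 1) (k := 0) le_rfl (by omega) (C.ee_mem 0)
  rwa [Bk_zero] at this


theorem CfgW.core_shift (C : CfgW B h s e0) (k : ℤ) (R : Subgroup G) (hR : R ≤ Bk B h k)
    (h1 : Bk B h (k - 1) ≤ normalizer (R : Set G)) (h2 : Bk B h k ≤ normalizer (R : Set G))
    (h3 : Bk B h (k + 1) ≤ normalizer (R : Set G)) : R = ⊥ := by
  have key : cj (h ^ (-k)) R = ⊥ := by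
    apply C.core
    · have := cj_mono (g := h ^ (-k)) hR
      rwa [cj_Bk, add_neg_cancel, Bk_zero] at this
    · have := cj_le_normalizer (h ^ (-k)) h1
      have e : k - 1 + -k = -1 := by ring
      rwa [cj_Bk, e] at this
    · have := cj_le_normalizer (h ^ (-k)) h2
      rwa [cj_Bk, add_neg_cancel] at this
    · have := cj_le_normalizer (h ^ (-k)) h3
      have e : k + 1 + -k = 1 := by ring
      rwa [cj_Bk, e] at this
  have := congrArg (cj (h ^ (-k))⁻¹) key
  rwa [cj_inv_cj, cj_bot] at this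

theorem CfgW.exists_ncomm (C : CfgW B h s e0) :
    ∃ m : ℕ, 1 ≤ m ∧ 2 * m ≤ s + 1 ∧ ¬ Commute (ee h e0 0) (ee h e0 m) := by
  have hs := C.hs
  by_contra hcon
  push Not at hcon
  have hall : ∀ j : ℤ, j ∈ Set.Icc (-(((s + 1) / 2 : ℕ) : ℤ)) (((s + 1) / 2 : ℕ) : ℤ) →
      Commute (ee h e0 0) (ee h e0 j) := by
    intro j hj
    rw [Set.mem_Icc] at hj
    rcases lt_trichotomy j 0 with hj0 | hj0 | hj0
    · obtain ⟨m, hm⟩ : ∃ m : ℕ, j = -(m : ℤ) := ⟨(-j).toNat, by omega⟩
      have h1 := hcon m (by omega) (by omega)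
      have h2 := (commute_ee_shift h e0 (-(m : ℤ)) 0 m).mpr h1
      have e1 : (0 : ℤ) + -(m : ℤ) = j := by omega
      have e2 : (m : ℤ) + -(m : ℤ) = 0 := by omega
      rw [e1, e2] at h2
      exact h2.symm
    · rw [hj0]
    · obtain ⟨m, hm⟩ : ∃ m : ℕ, j = (m : ℤ) := ⟨j.toNat, by omega⟩
      rw [hm]
      exact hcon m (by omega) (by omega)
  obtain ⟨k, hk⟩ : ∃ k : ℤ, k = (((s + 1) / 2 : ℕ) : ℤ) - 1 := ⟨_, rfl⟩
  have hcent : ∀ j : ℤ, k - 1 ≤ j → j ≤ k + 1 → ∀ g ∈ Bk B h j, Commute (ee h e0 0) g := by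
    intro j hj1 hj2 g hg
    have hg' := C.Bk_le_closure j (-(((s + 1) / 2 : ℕ) : ℤ)) (((s + 1) / 2 : ℕ) : ℤ)
      (by omega) (by omega) hg
    apply commute_of_mem_closure_right _ hg'
    rintro y ⟨i, hi, rfl⟩
    exact hall i hi
  have hnorm : ∀ j : ℤ, k - 1 ≤ j → j ≤ k + 1 →
      Bk B h j ≤ normalizer ((zpowers (ee h e0 0) : Subgroup G) : Set G) := by
    intro j hj1 hj2 g hg
    have hc := hcent j hj1 hj2 g hg
    rw [Subgroup.mem_normalizer_iff]
    intro y
    have key : ∀ w : G, w ∈ zpowers (ee h e0 0) → g * w * g⁻¹ = w := by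
      intro w hw
      have hcw : Commute g w := by
        obtain ⟨n, rfl⟩ := Subgroup.mem_zpowers_iff.mp hw
        exact (hc.symm).zpow_right n
      rw [hcw.eq, mul_assoc, mul_inv_cancel, mul_one]
    constructor
    · intro hy
      rw [key y hy]; exact hy
    · intro hy
      have h2 := key _ hy
      have h3 : y = g⁻¹ * (g * y * g⁻¹) * g := by group
      have hcw : Commute g (g * y * g⁻¹) := by
        obtain ⟨n, hn⟩ := Subgroup.mem_zpowers_iff.mp hy
        rw [← hn]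
        exact (hc.symm).zpow_right n
      have h4 : g⁻¹ * (g * y * g⁻¹) * g = g * y * g⁻¹ := by
        rw [mul_assoc, ← hcw.eq, ← mul_assoc, inv_mul_cancel, one_mul]
      rw [h3, h4]; exact hy
  have hle : zpowers (ee h e0 0) ≤ Bk B h k := by
    rw [Subgroup.zpowers_le]
    exact K_le_Bk (by omega) (by omega) (C.ee_mem 0)
  have hbot := C.core_shift k _ hle (hnorm _ (by omega) (by omega)) (hnorm _ (by omega) (by omega))
    (hnorm _ (by omega) (by omega))
  have hmem : ee h e0 0 ∈ zpowers (ee h e0 0) := Subgroup.mem_zpowers _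
  rw [hbot, Subgroup.mem_bot] at hmem
  exact C.ee_ne 0 hmem


theorem CfgW.exists_lam (C : CfgW B h s e0) : ∃ lam : ℕ, Lam h e0 s lam := by
  classical
  have hs := C.hs
  have hex := C.exists_ncomm
  have hspec := Nat.find_spec hex
  have hmin : ∀ m : ℕ, 1 ≤ m → m < Nat.find hex → Commute (ee h e0 0) (ee h e0 m) := by
    intro m hm1 hm2
    have := Nat.find_min hex hm2
    by_contra hc
    exact this ⟨hm1, by omega, hc⟩
  have hncomm : ∀ i : ℤ, ¬ Commute (ee h e0 i) (ee h e0 (i + (Nat.find hex : ℕ))) := by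
    intro i hc
    have := (commute_ee_shift h e0 i 0 (Nat.find hex : ℕ)).mp (by
      rw [zero_add, add_comm]; exact hc)
    exact hspec.2.2 this
  have hcomm1 : ∀ i j : ℤ, i ≤ j → j < i + (Nat.find hex : ℕ) →
      Commute (ee h e0 i) (ee h e0 j) := by
    intro i j hij hj
    rcases eq_or_lt_of_le hij with rfl | hlt
    · exact Commute.refl _
    · obtain ⟨m, hm⟩ : ∃ m : ℕ, j = i + m := ⟨(j - i).toNat, by omega⟩
      have h1 := hmin m (by omega) (by omega)
      have := (commute_ee_shift h e0 i 0 m).mpr h1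
      rw [zero_add, add_comm] at this
      rw [hm]; exact this
  refine ⟨Nat.find hex, ?_, hspec.2.1, ?_, hncomm⟩
  · by_contra hlt
    have h1 : Nat.find hex = 1 := by omega
    have h2 := C.comm_mem (i := 0) (j := 1) (by norm_num) (by omega)
    rw [C.bot (1 - 1) (0 + s) (by omega), Subgroup.mem_bot] at h2
    apply hncomm 0
    rw [h1]
    have e1 : (0 : ℤ) + ((1 : ℕ) : ℤ) = 1 := by norm_num
    rw [e1]
    -- from e0 e1 e0 e1 = 1
    have h3 : ee h e0 0 * ee h e0 1 = (ee h e0 1)⁻¹ * (ee h e0 0)⁻¹ := by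
      rw [eq_comm, ← mul_inv_rev]
      apply inv_eq_of_mul_eq_one_right
      rw [← h2]; group
    rw [C.ee_inv, C.ee_inv] at h3
    exact h3
  · intro i j h1 h2
    rcases le_total i j with hij | hij
    · exact hcomm1 i j hij h1
    · exact (hcomm1 j i hij h2).symm

end cfgW

end Cfsg.Agent.Helper10.Tutte
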