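import Mathlib
import Cfsg.Agent.Lib.Helper10.TutteW2

set_option autoImplicit false

/-! Abstract Tutte, weak form, third part (parallel to `Tutte3`). -/

namespace Cfsg.Agent.Helper10.Tutte

open Subgroup

universe u

section mainW

variable {G : Type u} [Group G] [Finite G] {B : Subgroup G} {h : G} {s : ℕ} {e0 : G} {lam : ℕ}

local notation "𝔢" => ee h e0

theorem CfgW.ww_ne (C : CfgW B h s e0) (L : Lam h e0 s lam) : ww h e0 lam ≠ 1 := by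
  intro hw
  apply L.ncomm 0
  rw [zero_add]
  exact commute_of_comm_eq_one (C.ee_sq 0) (C.ee_sq lam) hw

theorem CfgW.ww_mem (C : CfgW B h s e0) (L : Lam h e0 s lam) (h4 : 4 ≤ s) :
    ww h e0 lam ∈ K B h ((lam : ℤ) - 1) s := by
  have hs := C.hs
  have h1 := L.two_le
  have h2 := L.le
  have := C.comm_mem (i := 0) (j := lam) (by omega) (by omega)
  rw [zero_add] at this
  exact this

theorem CfgW.exists_mu (C : CfgW B h s e0) (L : Lam h e0 s lam) (h4 : 4 ≤ s) :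
    ∃ μ : ℕ, 1 ≤ μ ∧ μ + 1 ≤ lam ∧ ww h e0 lam ∈ K B h ((lam : ℤ) - 1) ((μ : ℤ) + s - 1) ∧
      ww h e0 lam ∉ K B h ((lam : ℤ) - 1) ((μ : ℤ) + s) := by
  classical
  have hs := C.hs
  have hl1 := L.two_le
  have hl2 := L.le
  have hP : ww h e0 lam ∉ K B h ((lam : ℤ) - 1) (((lam - 1 : ℕ) : ℤ) + s) := by
    rw [C.bot _ _ (by omega), Subgroup.mem_bot]
    exact C.ww_ne L
  have hex : ∃ m : ℕ, ww h e0 lam ∉ K B h ((lam : ℤ) - 1) ((m : ℤ) + s) := ⟨lam - 1, hP⟩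
  have hspec := Nat.find_spec hex
  have hle : Nat.find hex ≤ lam - 1 := Nat.find_min' hex hP
  have h0 : Nat.find hex ≠ 0 := by
    intro h0
    rw [h0] at hspec
    apply hspec
    have := C.ww_mem L h4
    simpa using this
  refine ⟨Nat.find hex, by omega, by omega, ?_, hspec⟩
  have hmin := Nat.find_min hex (m := Nat.find hex - 1) (by omega)
  push Not at hmin
  have e : ((Nat.find hex - 1 : ℕ) : ℤ) + s = (Nat.find hex : ℤ) + s - 1 := by omega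
  rwa [e] at hmin

theorem CfgW.exists_nu (C : CfgW B h s e0) (L : Lam h e0 s lam) (h4 : 4 ≤ s) :
    ∃ ν : ℕ, 1 ≤ ν ∧ ν + 1 ≤ lam ∧ ww h e0 lam ∈ K B h (ν : ℤ) s ∧
      ww h e0 lam ∉ K B h ((ν : ℤ) - 1) s := by
  classical
  have hs := C.hs
  have hl1 := L.two_le
  have hl2 := L.le
  have hP : ww h e0 lam ∉ K B h ((lam : ℤ) - 1 - ((lam - 1 : ℕ) : ℤ)) s := by
    rw [C.bot _ _ (by omega), Subgroup.mem_bot]
    exact C.ww_ne L
  have hex : ∃ m : ℕ, ww h e0 lam ∉ K B h ((lam : ℤ) - 1 - (m : ℤ)) s := ⟨lam - 1, hP⟩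
  have hspec := Nat.find_spec hex
  have hle : Nat.find hex ≤ lam - 1 := Nat.find_min' hex hP
  have h0 : Nat.find hex ≠ 0 := by
    intro h0
    rw [h0] at hspec
    apply hspec
    have := C.ww_mem L h4
    simpa using this
  refine ⟨lam - Nat.find hex, by omega, by omega, ?_, ?_⟩
  · have hmin := Nat.find_min hex (m := Nat.find hex - 1) (by omega)
    push Not at hmin
    have e : (lam : ℤ) - 1 - ((Nat.find hex - 1 : ℕ) : ℤ) = ((lam - Nat.find hex : ℕ) : ℤ) := by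
      omega
    rwa [e] at hmin
  · have e : ((lam - Nat.find hex : ℕ) : ℤ) - 1 = (lam : ℤ) - 1 - (Nat.find hex : ℤ) := by omega
    rw [e]; exact hspec

theorem CfgW.mu_le_nu (C : CfgW B h s e0) (L : Lam h e0 s lam) {μ ν : ℕ} (hν : ν + 1 ≤ lam)
    (hm : ww h e0 lam ∈ K B h ((lam : ℤ) - 1) ((μ : ℤ) + s - 1))
    (hn : ww h e0 lam ∈ K B h (ν : ℤ) s) : μ ≤ ν := by
  have hs := C.hs
  have hl1 := L.two_le
  have hl2 := L.le
  by_contra hcon
  have h1 : ww h e0 lam ∈ K B h (ν : ℤ) ((μ : ℤ) + s - 1) :=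
    mem_K_union hn hm (by intro k hk1 hk2; omega)
  rw [C.bot _ _ (by omega), Subgroup.mem_bot] at h1
  exact C.ww_ne L h1

theorem CfgW.caseI (C : CfgW B h s e0) (L : Lam h e0 s lam) {μ : ℕ} (h1 : 1 ≤ μ)
    (h2 : μ + 1 ≤ lam)
    (hm : ww h e0 lam ∈ K B h ((lam : ℤ) - 1) ((μ : ℤ) + s - 1))
    (hn : ww h e0 lam ∉ K B h ((lam : ℤ) - 1) ((μ : ℤ) + s)) : s ≤ lam + μ + 1 := by
  have hs := C.hs
  have hl1 := L.two_le
  have hl2 := L.le
  by_contra hcon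
  obtain ⟨k, hk⟩ : ∃ k : ℤ, k = (lam : ℤ) + μ := ⟨_, rfl⟩
  have hcb : Commute (𝔢 k) (𝔢 lam) := L.comm k lam (by omega) (by omega)
  have hu : 𝔢 0 * 𝔢 k * 𝔢 0 * 𝔢 k ∈ K B h (k - 1) (0 + s) :=
    C.comm_mem (by omega) (by omega)
  have hu2 := C.K_le_closure (k - 1) (0 + s) (by omega) hu
  have hbu : Commute (𝔢 lam) (𝔢 0 * 𝔢 k * 𝔢 0 * 𝔢 k) := by
    apply commute_of_mem_closure_right _ hu2
    rintro y ⟨j, hj, rfl⟩
    rw [Set.mem_Icc] at hj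
    exact L.comm lam j (by omega) (by omega)
  have hcw : Commute (𝔢 k) (ww h e0 lam) := comm_alg (C.ee_sq 0) (C.ee_sq k) hcb hbu
  have hμL : 𝔢 μ ∈ K B h ((lam : ℤ) - 1) ((μ : ℤ) + s - 1) := C.ee_mem_K (by omega) (by omega)
  have hμH : 𝔢 μ ∉ K B h ((lam : ℤ) - 1) ((μ : ℤ) + s) :=
    C.ee_not_mem_right (by omega) (by omega)
  have hsplit : ww h e0 lam * (𝔢 μ)⁻¹ ∈ K B h ((lam : ℤ) - 1) ((μ : ℤ) + s) :=
    C.split (μ + s - lam) (by omega) (by omega) (by omega) (by omega) le_rfl (by omega)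
      hm hμL hn hμH
  have hsplit2 := C.K_le_closure _ _ (by omega) hsplit
  have hcw' : Commute (𝔢 k) (ww h e0 lam * (𝔢 μ)⁻¹) := by
    apply commute_of_mem_closure_right _ hsplit2
    rintro y ⟨j, hj, rfl⟩
    rw [Set.mem_Icc] at hj
    exact L.comm k j (by omega) (by omega)
  have hnc : ¬ Commute (𝔢 k) (𝔢 μ) := by
    intro hc
    apply L.ncomm μ
    have e : (μ : ℤ) + lam = k := by omega
    rw [e]; exact hc.symm
  exact not_commute_of_split rfl hcw' hnc hcw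

theorem CfgW.caseII (C : CfgW B h s e0) (L : Lam h e0 s lam) {ν : ℕ} (h1 : 1 ≤ ν)
    (h2 : ν + 1 ≤ lam)
    (hm : ww h e0 lam ∈ K B h (ν : ℤ) s)
    (hn : ww h e0 lam ∉ K B h ((ν : ℤ) - 1) s) : s + ν ≤ 2 * lam + 1 := by
  have hs := C.hs
  have hl1 := L.two_le
  have hl2 := L.le
  by_contra hcon
  obtain ⟨k, hk⟩ : ∃ k : ℤ, k = (ν : ℤ) - lam := ⟨_, rfl⟩
  have hcb : Commute (𝔢 k) (𝔢 0) := L.comm k 0 (by omega) (by omega)
  have hu0 : 𝔢 k * 𝔢 lam * 𝔢 k * 𝔢 lam ∈ K B h ((lam : ℤ) - 1) (k + s) :=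
    C.comm_mem (by omega) (by omega)
  have hu : 𝔢 lam * 𝔢 k * 𝔢 lam * 𝔢 k ∈ K B h ((lam : ℤ) - 1) (k + s) := by
    have := inv_mem hu0
    have e : (𝔢 k * 𝔢 lam * 𝔢 k * 𝔢 lam)⁻¹ = (𝔢 lam)⁻¹ * (𝔢 k)⁻¹ * (𝔢 lam)⁻¹ * (𝔢 k)⁻¹ := by
      group
    rw [e, C.ee_inv, C.ee_inv] at this
    exact this
  have hu2 := C.K_le_closure _ _ (by omega) hu
  have hbu : Commute (𝔢 0) (𝔢 lam * 𝔢 k * 𝔢 lam * 𝔢 k) := by
    apply commute_of_mem_closure_right _ hu2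
    rintro y ⟨j, hj, rfl⟩
    rw [Set.mem_Icc] at hj
    exact L.comm 0 j (by omega) (by omega)
  have hcw0 : Commute (𝔢 k) (𝔢 lam * 𝔢 0 * 𝔢 lam * 𝔢 0) :=
    comm_alg (C.ee_sq lam) (C.ee_sq k) hcb hbu
  have hcw : Commute (𝔢 k) (ww h e0 lam) := by
    have e : ww h e0 lam = (𝔢 lam * 𝔢 0 * 𝔢 lam * 𝔢 0)⁻¹ := by
      have e' : (𝔢 lam * 𝔢 0 * 𝔢 lam * 𝔢 0)⁻¹ =
          (𝔢 0)⁻¹ * (𝔢 lam)⁻¹ * (𝔢 0)⁻¹ * (𝔢 lam)⁻¹ := by group
      rw [e', C.ee_inv, C.ee_inv]; rfl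
    rw [e]; exact hcw0.inv_right
  have hνL : 𝔢 ν ∈ K B h (ν : ℤ) s := C.ee_mem_K (by omega) (by omega)
  have hνH : 𝔢 ν ∉ K B h ((ν : ℤ) - 1) s := C.ee_not_mem_left (by omega) (by omega)
  have hsplit : ww h e0 lam * (𝔢 ν)⁻¹ ∈ K B h ((ν : ℤ) - 1) s :=
    C.split (s - ν) (by omega) (by omega) (by omega) (by omega) (by omega) le_rfl
      hm hνL hn hνH
  have hsplit2 := C.K_le_closure _ _ (by omega) hsplit
  have hcw' : Commute (𝔢 k) (ww h e0 lam * (𝔢 ν)⁻¹) := by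
    apply commute_of_mem_closure_right _ hsplit2
    rintro y ⟨j, hj, rfl⟩
    rw [Set.mem_Icc] at hj
    exact L.comm k j (by omega) (by omega)
  have hnc : ¬ Commute (𝔢 k) (𝔢 ν) := by
    intro hc
    apply L.ncomm k
    have e : k + (lam : ℤ) = ν := by omega
    rw [e]; exact hc
  exact not_commute_of_split rfl hcw' hnc hcw


theorem CfgW.false_of_seven (C : CfgW B h 7 e0) (L : Lam h e0 7 4)
    (hw : 𝔢 0 * 𝔢 4 * 𝔢 0 * 𝔢 4 = 𝔢 2) : False := by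
  -- the shifted relations
  have hrel : ∀ i : ℤ, 𝔢 i * 𝔢 (i + 4) * 𝔢 i * 𝔢 (i + 4) = 𝔢 (i + 2) := by
    intro i
    have h1 := comm_shift h e0 i 0 4
    rw [hw, conj_ee] at h1
    have e1 : (0 : ℤ) + i = i := zero_add i
    have e2 : (4 : ℤ) + i = i + 4 := add_comm _ _
    have e3 : (2 : ℤ) + i = i + 2 := add_comm _ _
    rw [e1, e2, e3] at h1
    exact h1.symm
  have hrel1 : ∀ i : ℤ, 𝔢 i * 𝔢 (i + 4) * 𝔢 i = 𝔢 (i + 2) * 𝔢 (i + 4) := by
    intro i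
    rw [← hrel i, mul_assoc (𝔢 i * 𝔢 (i + 4) * 𝔢 i), C.ee_sq, mul_one]
  have hrel2 : ∀ i : ℤ, 𝔢 (i + 4) * 𝔢 i * 𝔢 (i + 4) = 𝔢 i * 𝔢 (i + 2) := by
    intro i
    rw [← hrel i]
    calc 𝔢 (i + 4) * 𝔢 i * 𝔢 (i + 4) = (𝔢 i * 𝔢 i) * 𝔢 (i + 4) * 𝔢 i * 𝔢 (i + 4) := by
          rw [C.ee_sq, one_mul]
      _ = 𝔢 i * (𝔢 i * 𝔢 (i + 4) * 𝔢 i * 𝔢 (i + 4)) := by group
  -- the group `Y`
  have hY : K B h 4 7 = closure (𝔢 '' Set.Icc 1 4) := by
    have := C.K_eq_closure 3 1 4 (by norm_num) (by norm_num)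
    norm_num at this
    exact this
  have hmemY : ∀ i : ℤ, 1 ≤ i → i ≤ 4 → 𝔢 i ∈ K B h 4 7 := by
    intro i h1 h2
    exact C.ee_mem_K (by omega) (by push_cast; omega)
  have hYcomm : ∀ x ∈ 𝔢 '' Set.Icc (1 : ℤ) 4, ∀ y ∈ 𝔢 '' Set.Icc (1 : ℤ) 4, Commute x y := by
    rintro x ⟨i, hi, rfl⟩ y ⟨j, hj, rfl⟩
    rw [Set.mem_Icc] at hi hj
    exact L.comm i j (by push_cast; omega) (by push_cast; omega)
  have hYsq : ∀ x ∈ K B h 4 7, x * x = 1 := by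
    intro x hx
    rw [hY] at hx
    apply sq_eq_one_of_mem_closure hYcomm _ hx
    rintro y ⟨j, _, rfl⟩
    exact C.ee_sq j
  -- the element `u`
  obtain ⟨u, hu⟩ : ∃ u : G, u = 𝔢 0 * 𝔢 5 * 𝔢 0 * 𝔢 5 := ⟨_, rfl⟩
  have huY : u ∈ K B h 4 7 := by
    have := C.comm_mem (i := 0) (j := 5) (by norm_num) (by norm_num)
    norm_num at this
    rw [hu]; exact this
  have hucomm := commute_comm_of_sq (C.ee_sq 0) (C.ee_sq 5) (by rw [← hu]; exact hYsq u huY)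
  rw [← hu] at hucomm
  have hu37 : u ∈ K B h 3 7 := by
    by_contra hcon
    have h4L : 𝔢 4 ∈ K B h 4 7 := hmemY 4 (by norm_num) (by norm_num)
    have h4H : 𝔢 4 ∉ K B h 3 7 := C.ee_not_mem_left (by norm_num) (by norm_num)
    have hsplit : u * (𝔢 4)⁻¹ ∈ K B h 3 7 :=
      C.split 3 (by norm_num) (by norm_num) (by norm_num) (by norm_num) (by norm_num) le_rfl
        huY h4L hcon h4H
    have hsplit2 := C.K_le_closure _ _ (by norm_num) hsplit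
    have hc : Commute (𝔢 0) (u * (𝔢 4)⁻¹) := by
      apply commute_of_mem_closure_right _ hsplit2
      rintro y ⟨j, hj, rfl⟩
      rw [Set.mem_Icc] at hj
      push_cast at hj
      exact L.comm 0 j (by push_cast; omega) (by push_cast; omega)
    have hnc : ¬ Commute (𝔢 0) (𝔢 4) := by
      have := L.ncomm 0
      norm_num at this
      exact this
    exact not_commute_of_split rfl hc hnc hucomm.1
  have hu48 : u ∈ K B h 4 8 := by
    by_contra hcon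
    have h1L : 𝔢 1 ∈ K B h 4 7 := hmemY 1 (by norm_num) (by norm_num)
    have h1H : 𝔢 1 ∉ K B h 4 8 := C.ee_not_mem_right (by norm_num) (by norm_num)
    have hsplit : u * (𝔢 1)⁻¹ ∈ K B h 4 8 :=
      C.split 3 (by norm_num) (by norm_num) (by norm_num) (by norm_num) le_rfl (by norm_num)
        huY h1L hcon h1H
    have hsplit2 := C.K_le_closure _ _ (by norm_num) hsplit
    have hc : Commute (𝔢 5) (u * (𝔢 1)⁻¹) := by
      apply commute_of_mem_closure_right _ hsplit2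
      rintro y ⟨j, hj, rfl⟩
      rw [Set.mem_Icc] at hj
      push_cast at hj
      exact L.comm 5 j (by push_cast; omega) (by push_cast; omega)
    have hnc : ¬ Commute (𝔢 5) (𝔢 1) := by
      have := L.ncomm 1
      norm_num at this
      exact fun hc => this hc.symm
    exact not_commute_of_split rfl hc hnc hucomm.2
  have hu38 : u ∈ K B h 3 8 := mem_K_union hu37 hu48 (by intro k hk1 hk2; omega)
  -- conjugates of `u`
  have hu16 : 𝔢 1 * 𝔢 6 * 𝔢 1 * 𝔢 6 ∈ K B h 4 7 := by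
    have h1 := conj_mem_K (B := B) (h := h) 1 hu38
    rw [hu, comm_shift] at h1
    norm_num at h1
    exact K_anti (by norm_num) (by norm_num) h1
  have hu14 : 𝔢 (-1) * 𝔢 4 * 𝔢 (-1) * 𝔢 4 ∈ K B h 4 7 := by
    have h1 := conj_mem_K (B := B) (h := h) (-1) hu38
    rw [hu, comm_shift] at h1
    norm_num at h1
    exact K_anti (by norm_num) (by norm_num) h1
  -- every `e j` normalizes `Y`
  have hnormal : ∀ j : ℤ, -1 ≤ j → j ≤ 6 → ∀ i : ℤ, 1 ≤ i → i ≤ 4 →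
      𝔢 j * 𝔢 i * (𝔢 j)⁻¹ ∈ K B h 4 7 := by
    intro j hj1 hj2 i hi1 hi2
    rw [C.ee_inv]
    by_cases hc : i < j + 4 ∧ j < i + 4
    · have hcomm : Commute (𝔢 j) (𝔢 i) := L.comm j i (by push_cast; omega) (by push_cast; omega)
      rw [hcomm.eq, mul_assoc, C.ee_sq, mul_one]
      exact hmemY i hi1 hi2
    · have hcases : (j = 0 ∧ i = 4) ∨ (j = 5 ∧ i = 1) ∨ (j = 6 ∧ i = 2) ∨ (j = 6 ∧ i = 1) ∨
          (j = -1 ∧ i = 3) ∨ (j = -1 ∧ i = 4) := by omega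
      rcases hcases with ⟨rfl, rfl⟩ | ⟨rfl, rfl⟩ | ⟨rfl, rfl⟩ | ⟨rfl, rfl⟩ | ⟨rfl, rfl⟩ | ⟨rfl, rfl⟩
      · have := hrel1 0
        norm_num at this
        rw [this]
        exact mul_mem (hmemY 2 (by norm_num) (by norm_num)) (hmemY 4 (by norm_num) (by norm_num))
      · have := hrel2 1
        norm_num at this
        rw [this]
        exact mul_mem (hmemY 1 (by norm_num) (by norm_num)) (hmemY 3 (by norm_num) (by norm_num))
      · have := hrel2 2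
        norm_num at this
        rw [this]
        exact mul_mem (hmemY 2 (by norm_num) (by norm_num)) (hmemY 4 (by norm_num) (by norm_num))
      · have e : 𝔢 6 * 𝔢 1 * 𝔢 6 = 𝔢 1 * (𝔢 1 * 𝔢 6 * 𝔢 1 * 𝔢 6) := by
          calc 𝔢 6 * 𝔢 1 * 𝔢 6 = (𝔢 1 * 𝔢 1) * 𝔢 6 * 𝔢 1 * 𝔢 6 := by rw [C.ee_sq, one_mul]
            _ = 𝔢 1 * (𝔢 1 * 𝔢 6 * 𝔢 1 * 𝔢 6) := by group
        rw [e]
        exact mul_mem (hmemY 1 (by norm_num) (by norm_num)) hu16
      · have := hrel1 (-1)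
        norm_num at this
        rw [this]
        exact mul_mem (hmemY 1 (by norm_num) (by norm_num)) (hmemY 3 (by norm_num) (by norm_num))
      · have e : 𝔢 (-1) * 𝔢 4 * 𝔢 (-1) = (𝔢 (-1) * 𝔢 4 * 𝔢 (-1) * 𝔢 4) * 𝔢 4 := by
          rw [mul_assoc (𝔢 (-1) * 𝔢 4 * 𝔢 (-1)), C.ee_sq, mul_one]
        rw [e]
        exact mul_mem hu14 (hmemY 4 (by norm_num) (by norm_num))
  have hcl : closure (𝔢 '' Set.Icc (-1) 6) ≤ normalizer ((K B h 4 7 : Subgroup G) : Set G) := by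
    rw [closure_le]
    rintro y ⟨j, hj, rfl⟩
    rw [Set.mem_Icc] at hj
    rw [SetLike.mem_coe, hY]
    apply mem_normalizer_closure_of_invol (C.ee_sq j)
    rintro x ⟨i, hi, rfl⟩
    rw [Set.mem_Icc] at hi
    rw [← hY]
    exact hnormal j hj.1 hj.2 i hi.1 hi.2
  have hbot := C.core_shift 5 (K B h 4 7) (K_le_Bk (by norm_num) (by norm_num))
    ((C.Bk_le_closure 4 (-1) 6 (by norm_num) (by norm_num)).trans hcl)
    ((C.Bk_le_closure 5 (-1) 6 (by norm_num) (by norm_num)).trans hcl)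
    ((C.Bk_le_closure 6 (-1) 6 (by norm_num) (by norm_num)).trans hcl)
  have h1 := hmemY 1 (by norm_num) (by norm_num)
  rw [hbot, Subgroup.mem_bot] at h1
  exact C.ee_ne 1 h1


theorem CfgW.false (C : CfgW B h s e0) (hs : 6 ≤ s) : False := by
  obtain ⟨lam, L⟩ := C.exists_lam
  have hl1 := L.two_le
  have hl2 := L.le
  obtain ⟨μ, hμ1, hμ2, hμm, hμn⟩ := C.exists_mu L (by omega)
  obtain ⟨ν, hν1, hν2, hνm, hνn⟩ := C.exists_nu L (by omega)
  have hμν := C.mu_le_nu L hν2 hμm hνm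
  have hI := C.caseI L hμ1 hμ2 hμm hμn
  have hII := C.caseII L hν1 hν2 hνm hνn
  have h7 : s = 7 := by omega
  have h4 : lam = 4 := by omega
  have hμ : μ = 2 := by omega
  have hν : ν = 2 := by omega
  subst h7 h4 hμ hν
  have hw : ww h e0 4 ∈ K B h 2 8 := by
    apply mem_K_union hνm hμm
    intro k hk1 hk2
    push_cast
    omega
  have hw2 : ww h e0 4 = 𝔢 2 := by
    have := C.eq_one_or 2 (x := ww h e0 4) (by norm_num; exact hw)
    rcases this with h1 | h1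
    · exact absurd h1 (C.ww_ne L)
    · exact h1
  exact C.false_of_seven L hw2


/-- **Tutte's theorem, weak abstract form**, with the structure of the configuration. -/
theorem tutteW_struct (B : Subgroup G) (h : G) (hT : (B ⊓ cj h B).relIndex B = 2)
    (hcore : ∀ R : Subgroup G, R ≤ B → Bk B h (-1) ≤ normalizer (R : Set G) →
      Bk B h 0 ≤ normalizer (R : Set G) → Bk B h 1 ≤ normalizer (R : Set G) → R = ⊥) :
    ∃ s : ℕ, 2 ≤ s ∧ s ≤ 5 ∧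
      (∀ (a : ℤ) (m : ℕ), 1 ≤ m → m ≤ s → Nat.card ↥(K B h a (a + m)) = 2 ^ (s - m)) ∧
      (∀ a b : ℤ, a + s ≤ b → K B h a b = ⊥) ∧
      (3 ≤ s → ∃ e0 : G, CfgW B h s e0) := by
  obtain ⟨s, hs2, hcard, hbot⟩ := partAW B h hT hcore
  have hex : 3 ≤ s → ∃ e0 : G, CfgW B h s e0 := by
    intro hs3
    have hc2 : Nat.card ↥(K B h 0 ((s : ℤ) - 1)) = 2 := by
      have := hcard 0 (s - 1) (by omega) (by omega)
      have e : (0 : ℤ) + ((s - 1 : ℕ) : ℤ) = (s : ℤ) - 1 := by omega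
      rw [e] at this
      rw [this]
      have : s - (s - 1) = 1 := by omega
      rw [this, pow_one]
    have hne : K B h 0 ((s : ℤ) - 1) ≠ ⊥ := by
      intro hb
      rw [hb, Subgroup.card_bot] at hc2
      omega
    obtain ⟨x, hx, hx1⟩ : ∃ y : G, y ∈ K B h 0 ((s : ℤ) - 1) ∧ y ≠ 1 := by
      obtain ⟨x, hx⟩ := (Subgroup.ne_bot_iff_exists_ne_one).mp hne
      exact ⟨(x : G), x.2, fun hh => hx (Subtype.ext hh)⟩
    exact ⟨x, ⟨hs3, hcard, hbot, hcore, hx, hx1⟩⟩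
  refine ⟨s, hs2, ?_, hcard, hbot, hex⟩
  by_contra hs6
  obtain ⟨e0, C⟩ := hex (by omega)
  exact C.false (by omega)

end mainW

end Cfsg.Agent.Helper10.Tutte
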