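import Mathlib
import Cfsg.Agent.Lib.Helper10.SimsW2
import Cfsg.Agent.Lib.Helper10.TutteW3
import Cfsg.Agent.Lib.Helper10.Sims3
import Cfsg.Agent.Lib.Helper22.Aut3U

set_option autoImplicit false

/-! The structure of `H/O(H)` in the weak Tutte configuration: transfer to the subgroup `H` and
the element computations. -/

namespace Cfsg.Agent.Helper10.Tutte

open Subgroup Cfsg.Agent.Helper10.Sims Cfsg.Agent.Helper10

universe u

section gen

variable {G : Type u} [Group G]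

theorem conj_of_comm {a b c : G} (ha : a * a = 1) (hb : b * b = 1) (h : a * b * a * b = c) :
    a * b * a⁻¹ = c * b := by
  have hainv : a⁻¹ = a := inv_eq_of_mul_eq_one_right ha
  rw [hainv, ← h]
  calc a * b * a = a * b * a * (b * b) := by rw [hb, mul_one]
    _ = a * b * a * b * b := by group

theorem conj_of_comm' {a b c : G} (ha : a * a = 1) (hb : b * b = 1) (h : b * a * b * a = c) :
    a * b * a⁻¹ = b * c := by
  have hainv : a⁻¹ = a := inv_eq_of_mul_eq_one_right ha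
  rw [hainv, ← h]
  calc a * b * a = (b * b) * a * b * a := by rw [hb, one_mul]
    _ = b * (b * a * b * a) := by group

theorem conj_of_commute {a b : G} (h : Commute a b) : a * b * a⁻¹ = b := by
  rw [h.eq, mul_assoc, mul_inv_cancel, mul_one]

theorem commute_of_conj {a b : G} (h : a * b * a⁻¹ = b) : Commute a b := by
  show a * b = b * a
  calc a * b = (a * b * a⁻¹) * a := by group
    _ = b * a := by rw [h]

theorem conj_mul (a x y : G) : a * (x * y) * a⁻¹ = (a * x * a⁻¹) * (a * y * a⁻¹) := by group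

theorem mem_closure_single {z y : G} (hz : z * z = 1) (hy : y ∈ closure ({z} : Set G)) :
    y = 1 ∨ y = z := by
  have h0 : ({z} : Set G) = insert z (∅ : Set G) := by simp
  rw [h0] at hy
  rcases Cfsg.Agent.Helper22.Aut3.mem_or_of_mem_closure_insert (S := (∅ : Set G)) (g := z)
    (by rw [hz]; exact one_mem _) (by simp) hy with h | h
  · rw [Subgroup.closure_empty, Subgroup.mem_bot] at h
    exact Or.inl h
  · rw [Subgroup.closure_empty, Subgroup.mem_bot] at h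
    right
    calc y = z * (z⁻¹ * y) := by group
      _ = z := by rw [h, mul_one]

theorem mem_closure_pair {x z y : G} (hx : x * x = 1) (hz : z * z = 1) (hc : Commute x z)
    (hy : y ∈ closure ({x, z} : Set G)) : y = 1 ∨ y = x ∨ y = z ∨ y = x * z := by
  have hsq : x * x ∈ closure ({z} : Set G) := by rw [hx]; exact one_mem _
  have hconj : ∀ s ∈ ({z} : Set G), x * s * x⁻¹ ∈ closure ({z} : Set G) := by
    intro s hs
    rw [Set.mem_singleton_iff] at hs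
    rw [hs, conj_of_commute hc]
    exact subset_closure (Set.mem_singleton z)
  rcases Cfsg.Agent.Helper22.Aut3.mem_or_of_mem_closure_insert hsq hconj hy with h | h
  · rcases mem_closure_single hz h with h1 | h1
    · exact Or.inl h1
    · exact Or.inr (Or.inr (Or.inl h1))
  · rcases mem_closure_single hz h with h1 | h1
    · right; left
      calc y = x * (x⁻¹ * y) := by group
        _ = x := by rw [h1, mul_one]
    · right; right; right
      calc y = x * (x⁻¹ * y) := by group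
        _ = x * z := by rw [h1]

theorem commute_of_pow_four {ρ w : G} {n : ℕ} (hn : Odd n) (h4 : Commute (ρ ^ 4) w)
    (hn' : Commute (ρ ^ n) w) : Commute ρ w := by
  obtain ⟨m, hm⟩ := hn
  rcases Nat.even_or_odd m with ⟨j, hj⟩ | ⟨j, hj⟩
  · have e : ρ = ρ ^ n * ((ρ ^ 4) ^ j)⁻¹ := by
      have : n = 4 * j + 1 := by omega
      rw [this, ← pow_mul, pow_succ]; group
    rw [e]
    exact hn'.mul_left ((h4.pow_left j).inv_left)
  · have e : ρ = (ρ ^ 4) ^ (j + 1) * (ρ ^ n)⁻¹ := by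
      have : n = 4 * j + 3 := by omega
      rw [this, ← pow_mul]
      have e2 : 4 * (j + 1) = (4 * j + 3) + 1 := by ring
      rw [e2, pow_succ]; group
    rw [e]
    exact (h4.pow_left (j + 1)).mul_left hn'.inv_left

theorem commute_coe_iff {H : Subgroup G} (a b : ↥H) : Commute a b ↔ Commute (a : G) (b : G) := by
  constructor
  · intro h
    have := congrArg Subtype.val h.eq
    exact this
  · intro h
    exact Subtype.ext h.eq

end gen

section internal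

variable {G : Type u} [Group G] [Finite G]

theorem gen_transfer {H Q : Subgroup G} {t t' : G} (htH : t ∈ H) (ht'H : t' ∈ H)
    (hgen : ∀ R : Subgroup G, Q ≤ R → t ∈ R → t' ∈ R → H ≤ R) (R₀ : Subgroup ↥H)
    (hQ : Q.subgroupOf H ≤ R₀) (ht : (⟨t, htH⟩ : ↥H) ∈ R₀) (ht' : (⟨t', ht'H⟩ : ↥H) ∈ R₀)
    (hQH : Q ≤ H) : R₀ = ⊤ := by
  have h1 : H ≤ R₀.map H.subtype := by
    apply hgen
    · intro v hv
      exact ⟨⟨v, hQH hv⟩, hQ (Subgroup.mem_subgroupOf.mpr hv), rfl⟩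
    · exact ⟨_, ht, rfl⟩
    · exact ⟨_, ht', rfl⟩
  rw [eq_top_iff]
  intro x _
  obtain ⟨y, hy, hyx⟩ := h1 x.2
  have : y = x := Subtype.ext hyx
  rw [← this]; exact hy

theorem quot_s4_internal {H Q P : Subgroup G} (hQP : Q ≤ P) (hPH : P ≤ H)
    (hQn : H ≤ normalizer (Q : Set G)) (hQc : Nat.card ↥Q = 4)
    (hQab : ∀ v ∈ Q, ∀ w ∈ Q, Commute v w) (hPc : Nat.card ↥P = 8) (hPs : ¬ 2 ∣ P.relIndex H)
    {t t' : G} (htP : t ∈ P) (ht'H : t' ∈ H) (ht2 : t * t = 1) (ht'2 : t' * t' = 1)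
    (hgen : ∀ R : Subgroup G, Q ≤ R → t ∈ R → t' ∈ R → H ≤ R)
    (htQ : ∃ v ∈ Q, ¬ Commute t v) (hρ3 : ∀ v ∈ Q, Commute ((t * t') ^ 3) v)
    (hρ : ∃ v ∈ Q, ¬ Commute (t * t') v) :
    Nonempty (↥H ⧸ Cfsg.oddCore ↥H ≃* Equiv.Perm (Fin 4)) := by
  have hQH : Q ≤ H := hQP.trans hPH
  have hQ₀n : (Q.subgroupOf H).Normal := Subgroup.normal_subgroupOf_of_le_normalizer hQn
  refine quot_s4 (Q.subgroupOf H) (P.subgroupOf H) ?_ ?_ ?_ ?_ hPs ⟨t, hPH htP⟩ ⟨t', ht'H⟩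
    ?_ ?_ ?_ ?_ ?_ ?_ ?_
  · rw [card_subgroupOf_of_le hQH, hQc]
  · intro v hv w hw
    rw [commute_coe_iff]
    exact hQab _ (Subgroup.mem_subgroupOf.mp hv) _ (Subgroup.mem_subgroupOf.mp hw)
  · intro v hv
    exact Subgroup.mem_subgroupOf.mpr (hQP (Subgroup.mem_subgroupOf.mp hv))
  · rw [card_subgroupOf_of_le hPH, hPc]
  · exact Subgroup.mem_subgroupOf.mpr htP
  · exact Subtype.ext ht2
  · exact Subtype.ext ht'2
  · intro R₀ hQ ht ht'
    exact gen_transfer (hPH htP) ht'H hgen R₀ hQ ht ht' hQH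
  · obtain ⟨v, hv, hnc⟩ := htQ
    refine ⟨⟨v, hQH hv⟩, Subgroup.mem_subgroupOf.mpr hv, ?_⟩
    rw [commute_coe_iff]; exact hnc
  · intro v hv
    rw [commute_coe_iff]
    exact hρ3 _ (Subgroup.mem_subgroupOf.mp hv)
  · obtain ⟨v, hv, hnc⟩ := hρ
    refine ⟨⟨v, hQH hv⟩, Subgroup.mem_subgroupOf.mpr hv, ?_⟩
    rw [commute_coe_iff]; exact hnc

theorem quot_s4z2_internal {H Q P : Subgroup G} (hQP : Q ≤ P) (hPH : P ≤ H)
    (hQn : H ≤ normalizer (Q : Set G)) (hQc : Nat.card ↥Q = 8)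
    (hQab : ∀ v ∈ Q, ∀ w ∈ Q, Commute v w) (hPc : Nat.card ↥P = 16) (hPs : ¬ 2 ∣ P.relIndex H)
    {t t' : G} (htP : t ∈ P) (ht'H : t' ∈ H) (ht2 : t * t = 1) (ht'2 : t' * t' = 1)
    (hgen : ∀ R : Subgroup G, Q ≤ R → t ∈ R → t' ∈ R → H ≤ R)
    (htQ : ∃ v ∈ Q, ¬ Commute t v) (hρ3 : ∀ v ∈ Q, Commute ((t * t') ^ 3) v)
    (hρ : ∃ v ∈ Q, ¬ Commute (t * t') v) {z : G} (hzP : z ∈ P) (hz : ∀ g ∈ H, Commute z g)
    (hz2 : z * z = 1) (hz1 : z ≠ 1) {A : Subgroup G} (hAP : A ≤ P) (hAc : Nat.card ↥A = 8)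
    (hzA : z ∉ A) :
    Nonempty (↥H ⧸ Cfsg.oddCore ↥H ≃* Equiv.Perm (Fin 4) × Multiplicative (ZMod 2)) := by
  have hQH : Q ≤ H := hQP.trans hPH
  have hQ₀n : (Q.subgroupOf H).Normal := Subgroup.normal_subgroupOf_of_le_normalizer hQn
  refine quot_s4z2 (Q.subgroupOf H) (P.subgroupOf H) ?_ ?_ ?_ ?_ hPs ⟨t, hPH htP⟩ ⟨t', ht'H⟩
    ?_ ?_ ?_ ?_ ?_ ?_ ?_ ⟨z, hPH hzP⟩ ?_ ?_ ?_ ?_ (A.subgroupOf H) ?_ ?_ ?_
  · rw [card_subgroupOf_of_le hQH, hQc]
  · intro v hv w hw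
    rw [commute_coe_iff]
    exact hQab _ (Subgroup.mem_subgroupOf.mp hv) _ (Subgroup.mem_subgroupOf.mp hw)
  · intro v hv
    exact Subgroup.mem_subgroupOf.mpr (hQP (Subgroup.mem_subgroupOf.mp hv))
  · rw [card_subgroupOf_of_le hPH, hPc]
  · exact Subgroup.mem_subgroupOf.mpr htP
  · exact Subtype.ext ht2
  · exact Subtype.ext ht'2
  · intro R₀ hQ ht ht'
    exact gen_transfer (hPH htP) ht'H hgen R₀ hQ ht ht' hQH
  · obtain ⟨v, hv, hnc⟩ := htQ
    refine ⟨⟨v, hQH hv⟩, Subgroup.mem_subgroupOf.mpr hv, ?_⟩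
    rw [commute_coe_iff]; exact hnc
  · intro v hv
    rw [commute_coe_iff]
    exact hρ3 _ (Subgroup.mem_subgroupOf.mp hv)
  · obtain ⟨v, hv, hnc⟩ := hρ
    refine ⟨⟨v, hQH hv⟩, Subgroup.mem_subgroupOf.mpr hv, ?_⟩
    rw [commute_coe_iff]; exact hnc
  · exact Subgroup.mem_subgroupOf.mpr hzP
  · intro g
    rw [commute_coe_iff]
    exact hz _ g.2
  · exact Subtype.ext hz2
  · intro h1
    exact hz1 (congrArg Subtype.val h1)
  · intro v hv
    exact Subgroup.mem_subgroupOf.mpr (hAP (Subgroup.mem_subgroupOf.mp hv))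
  · rw [card_subgroupOf_of_le (hAP.trans hPH), hAc]
  · intro h1
    exact hzA (Subgroup.mem_subgroupOf.mp h1)

theorem quot_v4_internal {H P : Subgroup G} (hPH : P ≤ H) (hPc : Nat.card ↥P = 4)
    (hexp : ∀ x ∈ P, x * x = 1) {z t t' : G} (hzP : z ∈ P) (htP : t ∈ P) (ht'H : t' ∈ H)
    (hz : ∀ g ∈ H, Commute z g) (ht'2 : t' * t' = 1) (n : ℕ) (hn : Odd n)
    (hρn : (t * t') ^ n = 1 ∨ (t * t') ^ n = z)
    (hgen : ∀ R : Subgroup G, z ∈ R → t ∈ R → t' ∈ R → H ≤ R) :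
    Nonempty (↥H ⧸ Cfsg.oddCore ↥H ≃* Multiplicative (ZMod 2) × Multiplicative (ZMod 2)) := by
  refine quot_v4 (P.subgroupOf H) ?_ ?_ ⟨z, hPH hzP⟩ ⟨t, hPH htP⟩ ⟨t', ht'H⟩ ?_ ?_ ?_ ?_ n hn
    ?_ ?_
  · rw [card_subgroupOf_of_le hPH, hPc]
  · intro x hx
    exact Subtype.ext (hexp _ (Subgroup.mem_subgroupOf.mp hx))
  · exact Subgroup.mem_subgroupOf.mpr hzP
  · exact Subgroup.mem_subgroupOf.mpr htP
  · intro g
    rw [commute_coe_iff]
    exact hz _ g.2
  · exact Subtype.ext ht'2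
  · rcases hρn with h | h
    · left; exact Subtype.ext h
    · right; exact Subtype.ext h
  · intro R₀ hz' ht ht'
    have h1 : H ≤ R₀.map H.subtype := by
      apply hgen
      · exact ⟨_, hz', rfl⟩
      · exact ⟨_, ht, rfl⟩
      · exact ⟨_, ht', rfl⟩
    rw [eq_top_iff]
    intro x _
    obtain ⟨y, hy, hyx⟩ := h1 x.2
    have : y = x := Subtype.ext hyx
    rw [← this]; exact hy

end internal

end Cfsg.Agent.Helper10.Tutte
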