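import Mathlib
import Cfsg.Agent.Lib.Helper10.SimsW3

set_option autoImplicit false

/-! The structure of `H/O(H)` in the weak Tutte configuration: the three cases. -/

namespace Cfsg.Agent.Helper10.Tutte

open Subgroup Cfsg.Agent.Helper10.Sims Cfsg.Agent.Helper10

universe u

section abel

variable {G : Type u} [Group G]

/-- the third power of `ρ` centralizes an element lying in a three-cycle under conjugation -/
theorem commute_pow_three {ρ a b c : G} (h1 : ρ * a * ρ⁻¹ = b) (h2 : ρ * b * ρ⁻¹ = c)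
    (h3 : ρ * c * ρ⁻¹ = a) : Commute (ρ ^ 3) a := by
  apply commute_of_conj
  have e : ρ ^ 3 = ρ * ρ * ρ := by rw [pow_succ, pow_succ, pow_one]
  calc ρ ^ 3 * a * (ρ ^ 3)⁻¹ = ρ * (ρ * (ρ * a * ρ⁻¹) * ρ⁻¹) * ρ⁻¹ := by rw [e]; group
    _ = a := by rw [h1, h2, h3]

theorem commute_pow_four {ρ a b c d : G} (h1 : ρ * a * ρ⁻¹ = b) (h2 : ρ * b * ρ⁻¹ = c)
    (h3 : ρ * c * ρ⁻¹ = d) (h4 : ρ * d * ρ⁻¹ = a) : Commute (ρ ^ 4) a := by
  apply commute_of_conj
  have e : ρ ^ 4 = ρ * ρ * ρ * ρ := by rw [pow_succ, pow_succ, pow_succ, pow_one]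
  calc ρ ^ 4 * a * (ρ ^ 4)⁻¹ = ρ * (ρ * (ρ * (ρ * a * ρ⁻¹) * ρ⁻¹) * ρ⁻¹) * ρ⁻¹ := by
        rw [e]; group
    _ = a := by rw [h1, h2, h3, h4]

theorem conj_mul_mul (t t' v : G) : (t * t') * v * (t * t')⁻¹ = t * (t' * v * t'⁻¹) * t⁻¹ := by
  group

section three

variable {x z w : G} (hx : x * x = 1) (hz : z * z = 1) (hw : w * w = 1) (hxz : Commute x z)
  (hxw : Commute x w) (hzw : Commute z w)

include hx hz hw hxz hxw hzw

set_option linter.unusedSectionVars false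
set_option linter.unusedSimpArgs false

theorem ab_I1 : x * (z * (x * z * w)) = w := by
  have e1 : z * x = x * z := hxz.eq.symm
  have e1' : ∀ g : G, z * (x * g) = x * (z * g) := fun g => by
    rw [← mul_assoc, e1, mul_assoc]
  have x2' : ∀ g : G, x * (x * g) = g := fun g => by rw [← mul_assoc, hx, one_mul]
  have z2' : ∀ g : G, z * (z * g) = g := fun g => by rw [← mul_assoc, hz, one_mul]
  simp only [mul_assoc, e1', x2', z2']

theorem ab_I2 : w * z * (x * z * w) = x := by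
  have e1 : z * x = x * z := hxz.eq.symm
  have e2 : w * x = x * w := hxw.eq.symm
  have e3 : w * z = z * w := hzw.eq.symm
  have e1' : ∀ g : G, z * (x * g) = x * (z * g) := fun g => by
    rw [← mul_assoc, e1, mul_assoc]
  have e2' : ∀ g : G, w * (x * g) = x * (w * g) := fun g => by
    rw [← mul_assoc, e2, mul_assoc]
  have e3' : ∀ g : G, w * (z * g) = z * (w * g) := fun g => by
    rw [← mul_assoc, e3, mul_assoc]
  have z2' : ∀ g : G, z * (z * g) = g := fun g => by rw [← mul_assoc, hz, one_mul]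
  simp only [mul_assoc, e1, e2, e3, e1', e2', e3', z2', hw, hz, mul_one]

end three

section three'

variable {x z w : G} (hx : x * x = 1) (hz : z * z = 1) (hw : w * w = 1) (hxz : Commute x z)
  (hxw : Commute x w) (hzw : Commute z w)

include hx hz hw hxz hxw hzw

set_option linter.unusedSectionVars false
set_option linter.unusedSimpArgs false

theorem ab_facts : (z * x = x * z) ∧ (w * x = x * w) ∧ (w * z = z * w) ∧
    (∀ g : G, z * (x * g) = x * (z * g)) ∧ (∀ g : G, w * (x * g) = x * (w * g)) ∧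
    (∀ g : G, w * (z * g) = z * (w * g)) ∧ (∀ g : G, x * (x * g) = g) ∧
    (∀ g : G, z * (z * g) = g) ∧ (∀ g : G, w * (w * g) = g) := by
  have e1 : z * x = x * z := hxz.eq.symm
  have e2 : w * x = x * w := hxw.eq.symm
  have e3 : w * z = z * w := hzw.eq.symm
  refine ⟨e1, e2, e3, fun g => ?_, fun g => ?_, fun g => ?_, fun g => ?_, fun g => ?_,
    fun g => ?_⟩
  · rw [← mul_assoc, e1, mul_assoc]
  · rw [← mul_assoc, e2, mul_assoc]
  · rw [← mul_assoc, e3, mul_assoc]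
  · rw [← mul_assoc, hx, one_mul]
  · rw [← mul_assoc, hz, one_mul]
  · rw [← mul_assoc, hw, one_mul]

theorem ab_J0 : z * (z * w) = w := by
  obtain ⟨e1, e2, e3, e1', e2', e3', x2', z2', w2'⟩ := ab_facts hx hz hw hxz hxw hzw
  simp only [mul_assoc, e1, e2, e3, e1', e2', e3', x2', z2', w2', hx, hz, hw, mul_one]

theorem ab_J1 : x * z * (x * w) = z * w := by
  obtain ⟨e1, e2, e3, e1', e2', e3', x2', z2', w2'⟩ := ab_facts hx hz hw hxz hxw hzw
  simp only [mul_assoc, e1, e2, e3, e1', e2', e3', x2', z2', w2', hx, hz, hw, mul_one]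

theorem ab_J2 : z * (x * w) = x * (z * w) := by
  obtain ⟨e1, e2, e3, e1', e2', e3', x2', z2', w2'⟩ := ab_facts hx hz hw hxz hxw hzw
  simp only [mul_assoc, e1, e2, e3, e1', e2', e3', x2', z2', w2', hx, hz, hw, mul_one]

theorem ab_J3 : x * z * (z * (x * w)) = w := by
  obtain ⟨e1, e2, e3, e1', e2', e3', x2', z2', w2'⟩ := ab_facts hx hz hw hxz hxw hzw
  simp only [mul_assoc, e1, e2, e3, e1', e2', e3', x2', z2', w2', hx, hz, hw, mul_one]

end three'

section rho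

variable {t t' x z w : G} (ht : t * t = 1) (ht' : t' * t' = 1) (hx : x * x = 1) (hz : z * z = 1)
  (hw : w * w = 1) (hxz : Commute x z) (hxw : Commute x w) (hzw : Commute z w)
  (htx : Commute t x) (htz : Commute t z) (ht'z : Commute t' z) (ht'w : Commute t' w)

include ht ht' hx hz hw hxz hxw hzw htx htz ht'z ht'w

set_option linter.unusedSectionVars false

theorem rho_z : (t * t') * z * (t * t')⁻¹ = z := by
  rw [conj_mul_mul, conj_of_commute ht'z, conj_of_commute htz]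

theorem rho_good (ha : t * w * t * w = x * z) (ha' : x * t' * x * t' = z * w) :
    Commute ((t * t') ^ 3) x ∧ Commute ((t * t') ^ 3) z ∧ Commute ((t * t') ^ 3) w := by
  have k1 : t * w * t⁻¹ = x * z * w := conj_of_comm ht hw ha
  have k2 : t * x * t⁻¹ = x := conj_of_commute htx
  have k2z : t * z * t⁻¹ = z := conj_of_commute htz
  have k3 : t' * x * t'⁻¹ = x * (z * w) := conj_of_comm' ht' hx ha'
  have k4 : t' * w * t'⁻¹ = w := conj_of_commute ht'w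
  have Rz : (t * t') * z * (t * t')⁻¹ = z :=
    rho_z ht ht' hx hz hw hxz hxw hzw htx htz ht'z ht'w
  have R1 : (t * t') * w * (t * t')⁻¹ = x * z * w := by
    rw [conj_mul_mul, k4, k1]
  have R2 : (t * t') * x * (t * t')⁻¹ = w := by
    calc (t * t') * x * (t * t')⁻¹ = t * (x * (z * w)) * t⁻¹ := by rw [conj_mul_mul, k3]
      _ = (t * x * t⁻¹) * (t * (z * w) * t⁻¹) := conj_mul _ _ _
      _ = (t * x * t⁻¹) * ((t * z * t⁻¹) * (t * w * t⁻¹)) := by rw [conj_mul t z w]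
      _ = x * (z * (x * z * w)) := by rw [k1, k2, k2z]
      _ = w := ab_I1 hx hz hw hxz hxw hzw
  have R3 : (t * t') * (x * z * w) * (t * t')⁻¹ = x := by
    calc (t * t') * (x * z * w) * (t * t')⁻¹
        = ((t * t') * (x * z) * (t * t')⁻¹) * ((t * t') * w * (t * t')⁻¹) := conj_mul _ _ _
      _ = (((t * t') * x * (t * t')⁻¹) * ((t * t') * z * (t * t')⁻¹)) *
            ((t * t') * w * (t * t')⁻¹) := by rw [conj_mul (t * t') x z]
      _ = w * z * (x * z * w) := by rw [R1, R2, Rz]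
      _ = x := ab_I2 hx hz hw hxz hxw hzw
  exact ⟨commute_pow_three R2 R1 R3, (commute_of_conj Rz).pow_left 3, commute_pow_three R1 R3 R2⟩

theorem rho_bad1 (ha : t * w * t * w = z) : Commute ((t * t') ^ 4) w := by
  have k1 : t * w * t⁻¹ = z * w := conj_of_comm ht hw ha
  have k4 : t' * w * t'⁻¹ = w := conj_of_commute ht'w
  have Rz : (t * t') * z * (t * t')⁻¹ = z :=
    rho_z ht ht' hx hz hw hxz hxw hzw htx htz ht'z ht'w
  have R1 : (t * t') * w * (t * t')⁻¹ = z * w := by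
    rw [conj_mul_mul, k4, k1]
  have R2 : (t * t') * (z * w) * (t * t')⁻¹ = w := by
    rw [conj_mul, Rz, R1]
    exact ab_J0 hx hz hw hxz hxw hzw
  exact commute_pow_four R1 R2 R1 R2

theorem rho_bad2 (ha : t * w * t * w = x) (ha' : x * t' * x * t' = z) :
    Commute ((t * t') ^ 4) w := by
  have k1 : t * w * t⁻¹ = x * w := conj_of_comm ht hw ha
  have k2 : t * x * t⁻¹ = x := conj_of_commute htx
  have k2z : t * z * t⁻¹ = z := conj_of_commute htz
  have k3 : t' * x * t'⁻¹ = x * z := conj_of_comm' ht' hx ha'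
  have k4 : t' * w * t'⁻¹ = w := conj_of_commute ht'w
  have Rz : (t * t') * z * (t * t')⁻¹ = z :=
    rho_z ht ht' hx hz hw hxz hxw hzw htx htz ht'z ht'w
  have R1 : (t * t') * w * (t * t')⁻¹ = x * w := by
    rw [conj_mul_mul, k4, k1]
  have Rx : (t * t') * x * (t * t')⁻¹ = x * z := by
    rw [conj_mul_mul, k3, conj_mul, k2, k2z]
  have S2 : (t * t') * (x * w) * (t * t')⁻¹ = z * w := by
    rw [conj_mul, Rx, R1]
    exact ab_J1 hx hz hw hxz hxw hzw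
  have S3 : (t * t') * (z * w) * (t * t')⁻¹ = x * (z * w) := by
    rw [conj_mul, Rz, R1]
    exact ab_J2 hx hz hw hxz hxw hzw
  have S4 : (t * t') * (x * (z * w)) * (t * t')⁻¹ = w := by
    rw [conj_mul, conj_mul (t * t') z w, Rx, Rz, R1]
    exact ab_J3 hx hz hw hxz hxw hzw
  exact commute_pow_four R1 S2 S3 S4

end rho

end abel

section kcalcW

variable {G : Type u} [Group G] [Finite G] {B : Subgroup G} {h : G} {s : ℕ} {e0 : G} {lam : ℕ}

local notation "𝔢" => ee h e0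

theorem CfgW.card_Bk0 (C : CfgW B h s e0) : Nat.card ↥(Bk B h 0) = 2 ^ (s - 1) := by
  have hs := C.hs
  rw [← K01]
  exact C.cardK 1 (by norm_num) le_rfl (by omega)

theorem CfgW.card_Bk1 (C : CfgW B h s e0) : Nat.card ↥(Bk B h 1) = 2 ^ (s - 1) := by
  have hs := C.hs
  rw [← K12]
  exact C.cardK 1 (by norm_num) le_rfl (by omega)

theorem CfgW.card_N (C : CfgW B h s e0) : Nat.card ↥(K B h 0 2) = 2 ^ (s - 2) := by
  have hs := C.hs
  exact C.cardK 2 (by norm_num) (by norm_num) (by omega)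


theorem CfgW.le_normalizer_N (C : CfgW B h s e0) :
    Bk B h 0 ⊔ Bk B h 1 ≤ normalizer ((K B h 0 2 : Subgroup G) : Set G) := by
  have hs := C.hs
  apply sup_le
  · rw [← K01]
    exact le_normalizer_of_card (K_anti le_rfl (by norm_num))
      (C.card_two 1 (by norm_num) (by norm_num) le_rfl (by omega))
  · rw [← K12]
    exact le_normalizer_of_card (K_anti (by norm_num) le_rfl)
      (C.card_two 1 (by norm_num) (by norm_num) le_rfl (by omega))

theorem CfgW.M_le_closure (C : CfgW B h s e0) :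
    Bk B h 0 ⊔ Bk B h 1 ≤ closure (𝔢 '' Set.Icc (2 - (s : ℤ)) 1) :=
  sup_le (C.Bk_le_closure 0 _ _ (by omega) (by norm_num))
    (C.Bk_le_closure 1 _ _ (by omega) le_rfl)

theorem CfgW.ee_mem_M (C : CfgW B h s e0) {i : ℤ} (h1 : 2 - (s : ℤ) ≤ i) (h2 : i ≤ 1) :
    𝔢 i ∈ Bk B h 0 ⊔ Bk B h 1 := by
  have hs := C.hs
  by_cases hi : i ≤ 0
  · apply (le_sup_left : Bk B h 0 ≤ _)
    rw [← K01]
    exact C.ee_mem_K hi (by omega)
  · apply (le_sup_right : Bk B h 1 ≤ _)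
    rw [← K12]
    exact C.ee_mem_K (by omega) (by omega)

theorem CfgW.t_not_mem_N (C : CfgW B h s e0) : 𝔢 (2 - (s : ℤ)) ∉ K B h 0 2 :=
  C.ee_not_mem_right (by omega) (by omega)

theorem CfgW.t'_not_mem_N (C : CfgW B h s e0) : 𝔢 1 ∉ K B h 0 2 :=
  C.ee_not_mem_left (by norm_num) (by norm_num)

theorem CfgW.t'_not_mem_B (C : CfgW B h s e0) : 𝔢 1 ∉ Bk B h 0 := by
  rw [← K01]
  exact C.ee_not_mem_left (by norm_num) (by norm_num)

/-- `e i` centralizes `M` when it commutes with all the generators -/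
theorem CfgW.commute_M (C : CfgW B h s e0) (L : Lam h e0 s lam) {i : ℤ} (hi1 : 1 < i + lam)
    (hi2 : i + s < 2 + lam) : ∀ g ∈ Bk B h 0 ⊔ Bk B h 1, Commute (𝔢 i) g := by
  intro g hg
  apply commute_of_mem_closure_right _ (C.M_le_closure hg)
  rintro y ⟨j, hj, rfl⟩
  rw [Set.mem_Icc] at hj
  exact L.comm i j (by omega) (by omega)

theorem CfgW.N_abelian (C : CfgW B h s e0) (L : Lam h e0 s lam) (hlam : s < lam + 3) :
    ∀ v ∈ K B h 0 2, ∀ w ∈ K B h 0 2, Commute v w := by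
  intro v hv w hw
  have h1 := C.K_le_closure 0 2 (by norm_num) hv
  have h2 := C.K_le_closure 0 2 (by norm_num) hw
  apply commute_of_mem_closure _ h1 h2
  rintro x ⟨i, hi, rfl⟩ y ⟨j, hj, rfl⟩
  rw [Set.mem_Icc] at hi hj
  exact L.comm i j (by omega) (by omega)

theorem CfgW.e0_mem_N (C : CfgW B h s e0) : 𝔢 0 ∈ K B h 0 2 := by
  have hs := C.hs
  exact C.ee_mem_K le_rfl (by omega)

theorem CfgW.not_commute_y (C : CfgW B h s e0) (L : Lam h e0 s lam) (hlam : lam + 2 = s) :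
    ¬ Commute (𝔢 (2 - (s : ℤ))) (𝔢 0) ∧ ¬ Commute (𝔢 (2 - (s : ℤ)) * 𝔢 1) (𝔢 0) := by
  have hl := L.two_le
  have h1 : ¬ Commute (𝔢 (2 - (s : ℤ))) (𝔢 0) := by
    have := L.ncomm (2 - (s : ℤ))
    have e : 2 - (s : ℤ) + lam = 0 := by omega
    rwa [e] at this
  refine ⟨h1, fun hc => h1 ?_⟩
  have h2 : Commute (𝔢 1) (𝔢 0) := L.comm 1 0 (by omega) (by omega)
  have : 𝔢 (2 - (s : ℤ)) = (𝔢 (2 - (s : ℤ)) * 𝔢 1) * (𝔢 1)⁻¹ := by group
  rw [this]
  exact hc.mul_left h2.inv_left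


theorem CfgW.gen_le (C : CfgW B h s e0) {R : Subgroup G}
    (hmid : ∀ i : ℤ, 3 - (s : ℤ) ≤ i → i ≤ 0 → 𝔢 i ∈ R) (ht : 𝔢 (2 - (s : ℤ)) ∈ R)
    (ht' : 𝔢 1 ∈ R) : Bk B h 0 ⊔ Bk B h 1 ≤ R := by
  refine C.M_le_closure.trans ?_
  rw [closure_le]
  rintro y ⟨i, hi, rfl⟩
  rw [Set.mem_Icc] at hi
  by_cases h1 : i = 2 - (s : ℤ)
  · rw [h1]; exact ht
  · by_cases h2 : i = 1
    · rw [h2]; exact ht'
    · exact hmid i (by omega) (by omega)

theorem CfgW.structW3 (C : CfgW B h 3 e0) {H : Subgroup G} (hH : H = Bk B h 0 ⊔ Bk B h 1)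
    (n : ℕ) (hn : Odd n)
    (hpow : ∀ x ∈ Bk B h 0, ∀ y ∈ Bk B h 1, x * x = 1 → y * y = 1 → x ∉ K B h 0 2 →
      y ∉ K B h 0 2 → (x * y) ^ n ∈ K B h 0 2) :
    Nonempty (↥H ⧸ Cfsg.oddCore ↥H ≃* Multiplicative (ZMod 2) × Multiplicative (ZMod 2)) := by
  obtain ⟨lam, L⟩ := C.exists_lam
  have hl1 := L.two_le
  have hl2 := L.le
  have hlam : lam = 2 := by omega
  subst hlam
  have hB0 : Bk B h 0 ≤ H := by rw [hH]; exact le_sup_left
  have hcardP : Nat.card ↥(Bk B h 0) = 4 := by rw [C.card_Bk0]; norm_num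
  have e1 : (2 : ℤ) - ((3 : ℕ) : ℤ) = -1 := by norm_num
  have hzP : 𝔢 0 ∈ Bk B h 0 := by rw [← K01]; exact C.ee_mem_K (by norm_num) (by norm_num)
  have htP : 𝔢 (-1) ∈ Bk B h 0 := by rw [← K01]; exact C.ee_mem_K (by norm_num) (by norm_num)
  have ht'B1 : 𝔢 1 ∈ Bk B h 1 := by rw [← K12]; exact C.ee_mem_K (by norm_num) (by norm_num)
  have ht'H : 𝔢 1 ∈ H := by rw [hH]; exact (le_sup_right : Bk B h 1 ≤ _) ht'B1
  have htN : 𝔢 (-1) ∉ K B h 0 2 := by have := C.t_not_mem_N; rwa [e1] at this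
  have ht'N : 𝔢 1 ∉ K B h 0 2 := C.t'_not_mem_N
  have hz : ∀ g ∈ H, Commute (𝔢 0) g := by
    rw [hH]; exact C.commute_M L (i := 0) (by norm_num) (by norm_num)
  have hexp : ∀ x ∈ Bk B h 0, x * x = 1 := by
    intro x hx
    have hx' := C.Bk_le_closure 0 (-1) 0 (by norm_num) le_rfl hx
    apply sq_eq_one_of_mem_closure _ _ hx'
    · rintro x ⟨i, hi, rfl⟩ y ⟨j, hj, rfl⟩
      rw [Set.mem_Icc] at hi hj
      exact L.comm i j (by push_cast; omega) (by push_cast; omega)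
    · rintro x ⟨i, _, rfl⟩
      exact C.ee_sq i
  have hρn : (𝔢 (-1) * 𝔢 1) ^ n = 1 ∨ (𝔢 (-1) * 𝔢 1) ^ n = 𝔢 0 := by
    apply C.eq_one_or 0
    have e2 : (0 : ℤ) + ((3 : ℕ) : ℤ) - 1 = 2 := by norm_num
    rw [e2]
    exact hpow _ htP _ ht'B1 (C.ee_sq _) (C.ee_sq _) htN ht'N
  refine quot_v4_internal hB0 hcardP hexp hzP htP ht'H hz (C.ee_sq 1) n hn hρn ?_
  intro R hzR htR ht'R
  rw [hH]
  apply C.gen_le
  · intro i hi1 hi2
    have : i = 0 := by push_cast at hi1; omega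
    rw [this]; exact hzR
  · rw [e1]; exact htR
  · exact ht'R

theorem CfgW.structW4 (C : CfgW B h 4 e0) {H : Subgroup G} (hH : H = Bk B h 0 ⊔ Bk B h 1)
    (hsyl : ¬ 2 ∣ (Bk B h 0).relIndex H) :
    Nonempty (↥H ⧸ Cfsg.oddCore ↥H ≃* Equiv.Perm (Fin 4)) := by
  obtain ⟨lam, L⟩ := C.exists_lam
  have hl1 := L.two_le
  have hl2 := L.le
  have hlam : lam = 2 := by omega
  subst hlam
  have hB0 : Bk B h 0 ≤ H := by rw [hH]; exact le_sup_left
  have hQP : K B h 0 2 ≤ Bk B h 0 := by rw [N_eq]; exact inf_le_left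
  have hcardN : Nat.card ↥(K B h 0 2) = 4 := by rw [C.card_N]; norm_num
  have hcardP : Nat.card ↥(Bk B h 0) = 8 := by rw [C.card_Bk0]; norm_num
  have hNab := C.N_abelian L (by norm_num)
  obtain ⟨hnc1, hnc2⟩ := C.not_commute_y L (by norm_num)
  have e1 : (2 : ℤ) - ((4 : ℕ) : ℤ) = -2 := by norm_num
  rw [e1] at hnc1 hnc2
  have htP : 𝔢 (-2) ∈ Bk B h 0 := by rw [← K01]; exact C.ee_mem_K (by norm_num) (by norm_num)
  have ht'B1 : 𝔢 1 ∈ Bk B h 1 := by rw [← K12]; exact C.ee_mem_K (by norm_num) (by norm_num)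
  have ht'H : 𝔢 1 ∈ H := by rw [hH]; exact (le_sup_right : Bk B h 1 ≤ _) ht'B1
  have he0N : 𝔢 0 ∈ K B h 0 2 := C.e0_mem_N
  have hxN : 𝔢 (-1) ∈ K B h 0 2 := C.ee_mem_K (by norm_num) (by norm_num)
  -- the two commutators
  have hc : 𝔢 (-2) * 𝔢 0 * 𝔢 (-2) * 𝔢 0 = 𝔢 (-1) := by
    have hm := C.comm_mem (i := -2) (j := 0) (by norm_num) (by norm_num)
    have e2 : (0 : ℤ) - 1 = -1 := by norm_num
    have e3 : (-2 : ℤ) + ((4 : ℕ) : ℤ) = -1 + ((4 : ℕ) : ℤ) - 1 := by norm_num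
    rw [e2, e3] at hm
    rcases C.eq_one_or (-1) hm with h1 | h1
    · exact absurd (commute_of_comm_eq_one (C.ee_sq _) (C.ee_sq _) h1) hnc1
    · exact h1
  have hc' : 𝔢 (-1) * 𝔢 1 * 𝔢 (-1) * 𝔢 1 = 𝔢 0 := by
    have hm := C.comm_mem (i := -1) (j := 1) (by norm_num) (by norm_num)
    have e2 : (1 : ℤ) - 1 = 0 := by norm_num
    have e3 : (-1 : ℤ) + ((4 : ℕ) : ℤ) = 0 + ((4 : ℕ) : ℤ) - 1 := by norm_num
    rw [e2, e3] at hm
    rcases C.eq_one_or 0 hm with h1 | h1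
    · exfalso
      have := L.ncomm (-1)
      have e4 : (-1 : ℤ) + ((2 : ℕ) : ℤ) = 1 := by norm_num
      rw [e4] at this
      exact this (commute_of_comm_eq_one (C.ee_sq _) (C.ee_sq _) h1)
    · exact h1
  have hxw : Commute (𝔢 (-1)) (𝔢 0) := L.comm _ _ (by norm_num) (by norm_num)
  have htx : Commute (𝔢 (-2)) (𝔢 (-1)) := L.comm _ _ (by norm_num) (by norm_num)
  have ht'w : Commute (𝔢 1) (𝔢 0) := L.comm _ _ (by norm_num) (by norm_num)
  have k1 : 𝔢 (-2) * 𝔢 0 * (𝔢 (-2))⁻¹ = 𝔢 (-1) * 𝔢 0 := conj_of_comm (C.ee_sq _) (C.ee_sq _) hc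
  have k2 : 𝔢 (-2) * 𝔢 (-1) * (𝔢 (-2))⁻¹ = 𝔢 (-1) := conj_of_commute htx
  have k3 : 𝔢 1 * 𝔢 (-1) * (𝔢 1)⁻¹ = 𝔢 (-1) * 𝔢 0 :=
    conj_of_comm' (C.ee_sq _) (C.ee_sq _) hc'
  have k4 : 𝔢 1 * 𝔢 0 * (𝔢 1)⁻¹ = 𝔢 0 := conj_of_commute ht'w
  have R1 : (𝔢 (-2) * 𝔢 1) * 𝔢 0 * (𝔢 (-2) * 𝔢 1)⁻¹ = 𝔢 (-1) * 𝔢 0 := by
    rw [conj_mul_mul, k4, k1]
  have R2 : (𝔢 (-2) * 𝔢 1) * 𝔢 (-1) * (𝔢 (-2) * 𝔢 1)⁻¹ = 𝔢 0 := by
    rw [conj_mul_mul, k3, conj_mul, k2, k1, ← mul_assoc, C.ee_sq, one_mul]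
  have R3 : (𝔢 (-2) * 𝔢 1) * (𝔢 (-1) * 𝔢 0) * (𝔢 (-2) * 𝔢 1)⁻¹ = 𝔢 (-1) := by
    rw [conj_mul, R2, R1, hxw.eq, ← mul_assoc, C.ee_sq, one_mul]
  have hρ3 : ∀ v ∈ K B h 0 2, Commute ((𝔢 (-2) * 𝔢 1) ^ 3) v := by
    intro v hv
    have hv' := C.K_le_closure 0 2 (by norm_num) hv
    apply commute_of_mem_closure_right _ hv'
    rintro y ⟨i, hi, rfl⟩
    rw [Set.mem_Icc] at hi
    have : i = -1 ∨ i = 0 := by push_cast at hi; omega
    rcases this with rfl | rfl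
    · exact commute_pow_three R2 R1 R3
    · exact commute_pow_three R1 R3 R2
  refine quot_s4_internal hQP hB0 (by rw [hH]; exact C.le_normalizer_N) hcardN hNab hcardP hsyl
    htP ht'H (C.ee_sq _) (C.ee_sq _) ?_ ⟨𝔢 0, he0N, hnc1⟩ hρ3 ⟨𝔢 0, he0N, hnc2⟩
  intro R hQR htR ht'R
  rw [hH]
  apply C.gen_le
  · intro i hi1 hi2
    exact hQR (C.ee_mem_K hi2 (by push_cast at hi1 ⊢; omega))
  · rw [e1]; exact htR
  · exact ht'R

theorem CfgW.structW5 (C : CfgW B h 5 e0) {H : Subgroup G} (hH : H = Bk B h 0 ⊔ Bk B h 1)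
    (hsyl : ¬ 2 ∣ (Bk B h 0).relIndex H) (n : ℕ) (hn : Odd n)
    (hpow : ∀ x ∈ Bk B h 0, ∀ y ∈ Bk B h 1, x * x = 1 → y * y = 1 → x ∉ K B h 0 2 →
      y ∉ K B h 0 2 → (x * y) ^ n ∈ K B h 0 2) :
    Nonempty (↥H ⧸ Cfsg.oddCore ↥H ≃* Equiv.Perm (Fin 4) × Multiplicative (ZMod 2)) := by
  obtain ⟨lam, L⟩ := C.exists_lam
  have hl1 := L.two_le
  have hl2 := L.le
  obtain ⟨μ, hμ1, hμ2, hμm, hμn⟩ := C.exists_mu L (by norm_num)
  have hI := C.caseI L hμ1 hμ2 hμm hμn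
  have hlam : lam = 3 := by omega
  subst hlam
  have hB0 : Bk B h 0 ≤ H := by rw [hH]; exact le_sup_left
  have hQP : K B h 0 2 ≤ Bk B h 0 := by rw [N_eq]; exact inf_le_left
  have hcardN : Nat.card ↥(K B h 0 2) = 8 := by rw [C.card_N]; norm_num
  have hcardP : Nat.card ↥(Bk B h 0) = 16 := by rw [C.card_Bk0]; norm_num
  have hNab := C.N_abelian L (by norm_num)
  obtain ⟨hnc1, hnc2⟩ := C.not_commute_y L (by norm_num)
  have e1 : (2 : ℤ) - ((5 : ℕ) : ℤ) = -3 := by norm_num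
  rw [e1] at hnc1 hnc2
  have hz : ∀ g ∈ H, Commute (𝔢 (-1)) g := by
    rw [hH]; exact C.commute_M L (i := -1) (by norm_num) (by norm_num)
  have htP : 𝔢 (-3) ∈ Bk B h 0 := by rw [← K01]; exact C.ee_mem_K (by norm_num) (by norm_num)
  have ht'B1 : 𝔢 1 ∈ Bk B h 1 := by rw [← K12]; exact C.ee_mem_K (by norm_num) (by norm_num)
  have ht'H : 𝔢 1 ∈ H := by rw [hH]; exact (le_sup_right : Bk B h 1 ≤ _) ht'B1
  have he0N : 𝔢 0 ∈ K B h 0 2 := C.e0_mem_N
  have hzN : 𝔢 (-1) ∈ K B h 0 2 := C.ee_mem_K (by norm_num) (by norm_num)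
  have hxN : 𝔢 (-2) ∈ K B h 0 2 := C.ee_mem_K (by norm_num) (by norm_num)
  have htN : 𝔢 (-3) ∉ K B h 0 2 := by have := C.t_not_mem_N; rwa [e1] at this
  have ht'N : 𝔢 1 ∉ K B h 0 2 := C.t'_not_mem_N
  have hxz : Commute (𝔢 (-2)) (𝔢 (-1)) := L.comm _ _ (by norm_num) (by norm_num)
  have hxw : Commute (𝔢 (-2)) (𝔢 0) := L.comm _ _ (by norm_num) (by norm_num)
  have hzw : Commute (𝔢 (-1)) (𝔢 0) := L.comm _ _ (by norm_num) (by norm_num)
  have htx : Commute (𝔢 (-3)) (𝔢 (-2)) := L.comm _ _ (by norm_num) (by norm_num)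
  have htz : Commute (𝔢 (-3)) (𝔢 (-1)) := L.comm _ _ (by norm_num) (by norm_num)
  have ht'z : Commute (𝔢 1) (𝔢 (-1)) := L.comm _ _ (by norm_num) (by norm_num)
  have ht'w : Commute (𝔢 1) (𝔢 0) := L.comm _ _ (by norm_num) (by norm_num)
  have hρn : (𝔢 (-3) * 𝔢 1) ^ n ∈ K B h 0 2 :=
    hpow _ htP _ ht'B1 (C.ee_sq _) (C.ee_sq _) htN ht'N
  have hcn : Commute ((𝔢 (-3) * 𝔢 1) ^ n) (𝔢 0) := hNab _ hρn _ he0N
  -- the commutator `a`
  obtain ⟨a, ha⟩ : ∃ a : G, a = 𝔢 (-3) * 𝔢 0 * 𝔢 (-3) * 𝔢 0 := ⟨_, rfl⟩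
  have haK : a ∈ K B h (-1) 2 := by
    have := C.comm_mem (i := -3) (j := 0) (by norm_num) (by norm_num)
    norm_num at this
    rw [ha]; exact this
  have haN : a ∈ K B h 0 2 := K_anti (by norm_num) le_rfl haK
  have ha1 : a ≠ 1 := by
    intro h1
    rw [ha] at h1
    exact hnc1 (commute_of_comm_eq_one (C.ee_sq _) (C.ee_sq _) h1)
  have haK' := C.K_le_closure (-1) 2 (by norm_num) haK
  have hpair : a ∈ closure ({𝔢 (-2), 𝔢 (-1)} : Set G) := by
    refine closure_mono ?_ haK'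
    rintro y ⟨i, hi, rfl⟩
    rw [Set.mem_Icc] at hi
    have : i = -2 ∨ i = -1 := by push_cast at hi; omega
    rcases this with rfl | rfl
    · exact Set.mem_insert _ _
    · exact Set.mem_insert_of_mem _ (Set.mem_singleton _)
  have hshift := comm_shift h e0 1 (-3) 0
  have e2 : (-3 : ℤ) + 1 = -2 := by norm_num
  have e3 : (0 : ℤ) + 1 = 1 := by norm_num
  have e4 : (-2 : ℤ) + 1 = -1 := by norm_num
  have e5 : (-1 : ℤ) + 1 = 0 := by norm_num
  rw [e2, e3, ← ha] at hshift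
  have hgood : a = 𝔢 (-2) * 𝔢 (-1) := by
    rcases mem_closure_pair (C.ee_sq _) (C.ee_sq _) hxz hpair with h1 | h1 | h1 | h1
    · exact absurd h1 ha1
    · exfalso
      rw [h1, conj_ee, e4] at hshift
      have h4 := rho_bad2 (C.ee_sq (-3)) (C.ee_sq 1) (C.ee_sq (-2)) (C.ee_sq (-1)) (C.ee_sq 0)
        hxz hxw hzw htx htz ht'z ht'w (ha.symm.trans h1) hshift.symm
      exact hnc2 (commute_of_pow_four hn h4 hcn)
    · exfalso
      have h4 := rho_bad1 (t' := 𝔢 1) (x := 𝔢 (-2)) (C.ee_sq (-3)) (C.ee_sq 1) (C.ee_sq (-2))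
        (C.ee_sq (-1)) (C.ee_sq 0) hxz hxw hzw htx htz ht'z ht'w (ha.symm.trans h1)
      exact hnc2 (commute_of_pow_four hn h4 hcn)
    · exact h1
  have ha' : 𝔢 (-2) * 𝔢 1 * 𝔢 (-2) * 𝔢 1 = 𝔢 (-1) * 𝔢 0 := by
    rw [← hshift, hgood, conj_mul, conj_ee, conj_ee, e4, e5]
  obtain ⟨hρx, hρz, hρw⟩ := rho_good (C.ee_sq (-3)) (C.ee_sq 1) (C.ee_sq (-2)) (C.ee_sq (-1))
    (C.ee_sq 0) hxz hxw hzw htx htz ht'z ht'w (ha.symm.trans hgood) ha'
  have hρ3 : ∀ v ∈ K B h 0 2, Commute ((𝔢 (-3) * 𝔢 1) ^ 3) v := by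
    intro v hv
    have hv' := C.K_le_closure 0 2 (by norm_num) hv
    apply commute_of_mem_closure_right _ hv'
    rintro y ⟨i, hi, rfl⟩
    rw [Set.mem_Icc] at hi
    have : i = -2 ∨ i = -1 ∨ i = 0 := by push_cast at hi; omega
    rcases this with rfl | rfl | rfl
    · exact hρx
    · exact hρz
    · exact hρw
  have haa : a * a = 1 := by
    apply sq_eq_one_of_mem_closure _ _ haK'
    · rintro x ⟨i, hi, rfl⟩ y ⟨j, hj, rfl⟩
      rw [Set.mem_Icc] at hi hj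
      exact L.comm i j (by push_cast at hi hj ⊢; omega) (by push_cast at hi hj ⊢; omega)
    · rintro x ⟨i, _, rfl⟩
      exact C.ee_sq i
  have hae0 : Commute a (𝔢 0) := hNab a haN _ he0N
  have hta : Commute (𝔢 (-3)) a := by
    apply commute_of_mem_closure_right _ haK'
    rintro y ⟨j, hj, rfl⟩
    rw [Set.mem_Icc] at hj
    exact L.comm (-3) j (by push_cast at hj ⊢; omega) (by push_cast at hj ⊢; omega)
  have hte0 : 𝔢 (-3) * 𝔢 0 * (𝔢 (-3))⁻¹ = a * 𝔢 0 := by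
    rw [C.ee_inv, ha, mul_assoc (𝔢 (-3) * 𝔢 0 * 𝔢 (-3)), C.ee_sq, mul_one]
  have he0K : 𝔢 0 ∉ K B h (-1) 2 := C.ee_not_mem_left (by norm_num) (by norm_num)
  have haz : a ≠ 𝔢 (-1) := by
    intro haz
    rw [hgood] at haz
    exact C.ee_ne (-2) (mul_right_cancel (haz.trans (one_mul _).symm))
  -- the subgroup `A`
  have hmem1 : ∀ x ∈ closure ({𝔢 0} : Set G), x = 1 ∨ x = 𝔢 0 := by
    intro x hx
    apply C.eq_one_or 0
    have hle : closure ({𝔢 0} : Set G) ≤ K B h 0 (0 + ((5 : ℕ) : ℤ) - 1) := by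
      rw [closure_le, Set.singleton_subset_iff]
      exact C.ee_mem 0
    exact hle hx
  have hsq2 : a * a ∈ closure ({𝔢 0} : Set G) := by rw [haa]; exact one_mem _
  have hconj2 : ∀ x ∈ ({𝔢 0} : Set G), a * x * a⁻¹ ∈ closure ({𝔢 0} : Set G) := by
    intro x hx
    rw [Set.mem_singleton_iff] at hx
    rw [hx, hae0.eq, mul_assoc, mul_inv_cancel, mul_one]
    exact subset_closure (Set.mem_singleton _)
  have hmem2 : ∀ x ∈ closure ({a, 𝔢 0} : Set G), x = 1 ∨ x = 𝔢 0 ∨ x = a ∨ x = a * 𝔢 0 := by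
    intro x hx
    rcases Cfsg.Agent.Helper22.Aut3.mem_or_of_mem_closure_insert hsq2 hconj2 hx with h1 | h1
    · rcases hmem1 x h1 with h2 | h2
      · exact Or.inl h2
      · exact Or.inr (Or.inl h2)
    · rcases hmem1 _ h1 with h2 | h2
      · right; right; left
        calc x = a * (a⁻¹ * x) := by group
          _ = a := by rw [h2, mul_one]
      · right; right; right
        calc x = a * (a⁻¹ * x) := by group
          _ = a * 𝔢 0 := by rw [h2]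
  have hA2N : closure ({a, 𝔢 0} : Set G) ≤ K B h 0 2 := by
    rw [closure_le]
    intro x hx
    rcases hx with rfl | hx
    · exact haN
    · rw [Set.mem_singleton_iff] at hx
      rw [hx]; exact he0N
  have hsq3 : 𝔢 (-3) * 𝔢 (-3) ∈ closure ({a, 𝔢 0} : Set G) := by
    rw [C.ee_sq]; exact one_mem _
  have hconj3 : ∀ x ∈ ({a, 𝔢 0} : Set G),
      𝔢 (-3) * x * (𝔢 (-3))⁻¹ ∈ closure ({a, 𝔢 0} : Set G) := by
    intro x hx
    rcases hx with rfl | hx
    · rw [hta.eq, mul_assoc, mul_inv_cancel, mul_one]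
      exact subset_closure (Set.mem_insert _ _)
    · rw [Set.mem_singleton_iff] at hx
      rw [hx, hte0]
      exact mul_mem (subset_closure (Set.mem_insert _ _))
        (subset_closure (Set.mem_insert_of_mem _ (Set.mem_singleton _)))
  obtain ⟨A, hAdef⟩ : ∃ A : Subgroup G, A = closure (insert (𝔢 (-3)) ({a, 𝔢 0} : Set G)) :=
    ⟨_, rfl⟩
  have hAP : A ≤ Bk B h 0 := by
    rw [hAdef, closure_le]
    intro x hx
    rcases hx with rfl | rfl | hx
    · exact htP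
    · exact hQP haN
    · rw [Set.mem_singleton_iff] at hx
      rw [hx]; exact hQP he0N
  have hzA : 𝔢 (-1) ∉ A := by
    intro hmem
    rw [hAdef] at hmem
    rcases Cfsg.Agent.Helper22.Aut3.mem_or_of_mem_closure_insert hsq3 hconj3 hmem with h1 | h1
    · rcases hmem2 _ h1 with h2 | h2 | h2 | h2
      · exact C.ee_ne (-1) h2
      · apply he0K
        rw [← h2]
        exact C.ee_mem_K (by norm_num) (by norm_num)
      · exact haz h2.symm
      · apply he0K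
        have : 𝔢 0 = a⁻¹ * 𝔢 (-1) := by rw [h2]; group
        rw [this]
        exact mul_mem (inv_mem haK) (C.ee_mem_K (by norm_num) (by norm_num))
    · apply htN
      have h2 := hA2N h1
      have : 𝔢 (-3) = 𝔢 (-1) * ((𝔢 (-3))⁻¹ * 𝔢 (-1))⁻¹ := by group
      rw [this]
      exact mul_mem hzN (inv_mem h2)
  have hAcard : Nat.card ↥A = 8 := by
    apply le_antisymm
    · have h1 := Cfsg.Agent.Helper22.Aut3.card_closure_insert_le hsq3 hconj3
      have h2 := Cfsg.Agent.Helper22.Aut3.card_closure_insert_le hsq2 hconj2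
      have h3 : Nat.card ↥(closure ({𝔢 0} : Set G)) ≤ 2 := by
        have hle : closure ({𝔢 0} : Set G) ≤ K B h 0 (0 + ((5 : ℕ) : ℤ) - 1) := by
          rw [closure_le, Set.singleton_subset_iff]
          exact C.ee_mem 0
        have := Subgroup.card_le_of_le hle
        rw [C.cardK 4 (by norm_num) (by norm_num) (by norm_num)] at this
        norm_num at this
        exact this
      rw [hAdef]
      have e : ({a, 𝔢 0} : Set G) = insert a ({𝔢 0} : Set G) := rfl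
      rw [e] at h1 ⊢
      omega
    · have hpos : 0 < Nat.card ↥(⊥ : Subgroup G) := Nat.card_pos
      have c1 : 2 * Nat.card ↥(⊥ : Subgroup G) ≤ Nat.card ↥(closure ({𝔢 0} : Set G)) :=
        two_mul_card_le bot_le (subset_closure (Set.mem_singleton (𝔢 0)))
          (by rw [Subgroup.mem_bot]; exact C.ee_ne 0)
      have c2 : 2 * Nat.card ↥(closure ({𝔢 0} : Set G)) ≤
          Nat.card ↥(closure ({a, 𝔢 0} : Set G)) := by
        apply two_mul_card_le (closure_mono (by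
          intro x hx
          exact Set.mem_insert_of_mem _ hx)) (subset_closure (Set.mem_insert a _))
        intro hmem
        rcases hmem1 a hmem with h2 | h2
        · exact ha1 h2
        · exact he0K (h2 ▸ haK)
      have c3 : 2 * Nat.card ↥(closure ({a, 𝔢 0} : Set G)) ≤ Nat.card ↥A := by
        rw [hAdef]
        apply two_mul_card_le (closure_mono (by
          intro x hx
          exact Set.mem_insert_of_mem _ hx)) (subset_closure (Set.mem_insert _ _))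
        intro hmem
        exact htN (hA2N hmem)
      rw [Subgroup.card_bot] at c1
      omega
  refine quot_s4z2_internal hQP hB0 (by rw [hH]; exact C.le_normalizer_N) hcardN hNab hcardP hsyl
    htP ht'H (C.ee_sq _) (C.ee_sq _) ?_ ⟨𝔢 0, he0N, hnc1⟩ hρ3 ⟨𝔢 0, he0N, hnc2⟩ (hQP hzN) hz
    (C.ee_sq (-1)) (C.ee_ne (-1)) hAP hAcard hzA
  intro R hQR htR ht'R
  rw [hH]
  apply C.gen_le
  · intro i hi1 hi2
    exact hQR (C.ee_mem_K hi2 (by push_cast at hi1 ⊢; omega))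
  · rw [e1]; exact htR
  · exact ht'R

end kcalcW

section mainW

variable {G : Type u} [Group G] [Finite G]

/-- **Structure theorem, weak form.** -/
theorem structW (B : Subgroup G) (h : G) (hT : (B ⊓ cj h B).relIndex B = 2)
    (hcore : ∀ R : Subgroup G, R ≤ B → Bk B h (-1) ≤ normalizer (R : Set G) →
      Bk B h 0 ≤ normalizer (R : Set G) → Bk B h 1 ≤ normalizer (R : Set G) → R = ⊥)
    (H : Subgroup G) (hH : H = B ⊔ cj h B) (hsyl : ¬ 2 ∣ B.relIndex H)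
    (hB4 : 4 ≤ Nat.card ↥B) (n : ℕ) (hn : Odd n)
    (hpow : ∀ x ∈ B, ∀ y ∈ cj h B, x * x = 1 → y * y = 1 → x ∉ B ⊓ cj h B →
      y ∉ B ⊓ cj h B → (x * y) ^ n ∈ B ⊓ cj h B) :
    (Nat.card ↥B = 4 ∨ Nat.card ↥B = 8 ∨ Nat.card ↥B = 16) ∧
    (Nonempty (↥H ⧸ Cfsg.oddCore ↥H ≃* Multiplicative (ZMod 2) × Multiplicative (ZMod 2)) ∨
     Nonempty (↥H ⧸ Cfsg.oddCore ↥H ≃* Equiv.Perm (Fin 4)) ∨
     Nonempty (↥H ⧸ Cfsg.oddCore ↥H ≃* Equiv.Perm (Fin 4) × Multiplicative (ZMod 2))) := by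
  obtain ⟨s, hs2, hs5, hcard, hbot, hex⟩ := tutteW_struct B h hT hcore
  have hB0 : Bk B h 0 = B := Bk_zero
  have hB1 : Bk B h 1 = cj h B := by unfold Bk; rw [zpow_one]
  have hN : K B h 0 2 = B ⊓ cj h B := by rw [N_eq, hB0, hB1]
  have hH' : H = Bk B h 0 ⊔ Bk B h 1 := by rw [hB0, hB1]; exact hH
  have hsyl' : ¬ 2 ∣ (Bk B h 0).relIndex H := by rw [hB0]; exact hsyl
  have hpow' : ∀ x ∈ Bk B h 0, ∀ y ∈ Bk B h 1, x * x = 1 → y * y = 1 → x ∉ K B h 0 2 →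
      y ∉ K B h 0 2 → (x * y) ^ n ∈ K B h 0 2 := by
    rw [hB0, hB1, hN]; exact hpow
  have hBcard : Nat.card ↥B = 2 ^ (s - 1) := by
    have := hcard 0 1 le_rfl (by omega)
    have e : (0 : ℤ) + ((1 : ℕ) : ℤ) = 0 + 1 := by norm_num
    rw [e, K_single, Bk_zero] at this
    exact this
  have hs : s = 2 ∨ s = 3 ∨ s = 4 ∨ s = 5 := by omega
  rcases hs with rfl | rfl | rfl | rfl
  · rw [hBcard] at hB4; norm_num at hB4
  · obtain ⟨e0, C⟩ := hex le_rfl
    exact ⟨Or.inl (by rw [hBcard]; norm_num), Or.inl (C.structW3 hH' n hn hpow')⟩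
  · obtain ⟨e0, C⟩ := hex (by norm_num)
    exact ⟨Or.inr (Or.inl (by rw [hBcard]; norm_num)), Or.inr (Or.inl (C.structW4 hH' hsyl'))⟩
  · obtain ⟨e0, C⟩ := hex (by norm_num)
    exact ⟨Or.inr (Or.inr (by rw [hBcard]; norm_num)),
      Or.inr (Or.inr (C.structW5 hH' hsyl' n hn hpow'))⟩

end mainW

end Cfsg.Agent.Helper10.Tutte
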