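import Mathlib
import Cfsg.Agent.Lib.Helper10.SimsW4
import Cfsg.Agent.Lib.Helper10.BenderPair2
import Cfsg.Agent.Lib.Helper22.SelfCent

set_option autoImplicit false

/-! A subgroup `H` with `H/O₂(H)` dihedral and an outer `2`-element normalizing a Sylow
`2`-subgroup of `H` and no nontrivial normal subgroup of `H` inside it. -/

namespace Cfsg.Agent.Helper10.Tutte

open Subgroup Cfsg.Agent.Helper10
open Pointwise

universe u

section typelevel

variable {M : Type u} [Group M] [Finite M]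

/-- a central involution of a quotient by `O₂` is trivial -/
theorem central_invol_eq_one {D : Type*} [Group D] (φ : M →* D) (hφ : Function.Surjective φ)
    (hker : φ.ker = Cfsg.pCore 2 M) {z : D} (hz : z ∈ Subgroup.center D) (hz2 : z * z = 1) :
    z = 1 := by
  have h2f : Fact (Nat.Prime 2) := ⟨Nat.prime_two⟩
  have hsq : ∀ w ∈ Subgroup.zpowers z, w * w = 1 := by
    intro w hw
    obtain ⟨k, rfl⟩ := Subgroup.mem_zpowers_iff.mp hw
    rw [← (Commute.refl z).mul_zpow, hz2, one_zpow]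
  have hZn : (Subgroup.zpowers z).Normal := by
    constructor
    intro a ha g
    obtain ⟨k, rfl⟩ := Subgroup.mem_zpowers_iff.mp ha
    have hc : z ^ k ∈ Subgroup.center D := (Subgroup.center D).zpow_mem hz k
    have := Subgroup.mem_center_iff.mp hc g
    rw [this, mul_assoc, mul_inv_cancel, mul_one]
    exact Subgroup.zpow_mem_zpowers z k
  have hNn : ((Subgroup.zpowers z).comap φ).Normal := hZn.comap φ
  have hNp : IsPGroup 2 ↥((Subgroup.zpowers z).comap φ) := by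
    rintro ⟨g, hg⟩
    have hg' : φ g ∈ Subgroup.zpowers z := hg
    have h1 : g * g ∈ Cfsg.pCore 2 M := by
      rw [← hker, MonoidHom.mem_ker, map_mul]
      exact hsq _ hg'
    obtain ⟨j, hj⟩ := pCore_isPGroup (G := M) 2 ⟨g * g, h1⟩
    refine ⟨j + 1, ?_⟩
    apply Subtype.ext
    have hj' : (g * g) ^ 2 ^ j = 1 := by
      have := congrArg Subtype.val hj
      simpa using this
    show g ^ 2 ^ (j + 1) = 1
    rw [pow_succ, mul_comm, pow_mul, pow_two]
    exact hj'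
  have hle := le_pCore' hNn hNp
  obtain ⟨g, hg⟩ := hφ z
  have hgN : g ∈ (Subgroup.zpowers z).comap φ := by
    show φ g ∈ Subgroup.zpowers z
    rw [hg]; exact Subgroup.mem_zpowers z
  have := hle hgN
  rw [← hker, MonoidHom.mem_ker] at this
  rw [← hg]; exact this

/-- if `M/O₂(M)` is dihedral of order `2n` then `n` is odd -/
theorem odd_of_dihedral {n : ℕ} (hn : 2 ≤ n) (φ : M →* DihedralGroup n)
    (hφ : Function.Surjective φ) (hker : φ.ker = Cfsg.pCore 2 M) : Odd n := by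
  by_contra hodd
  rw [Nat.not_odd_iff_even] at hodd
  obtain ⟨m, hm⟩ := hodd
  have hmm : (m : ZMod n) + m = 0 := by
    have : ((m + m : ℕ) : ZMod n) = 0 := by rw [← hm]; exact ZMod.natCast_self n
    rwa [Nat.cast_add] at this
  have hz : DihedralGroup.r (m : ZMod n) ∈ Subgroup.center (DihedralGroup n) := by
    rw [Subgroup.mem_center_iff]
    rintro (j | j)
    · rw [DihedralGroup.r_mul_r, DihedralGroup.r_mul_r, add_comm]
    · rw [DihedralGroup.sr_mul_r, DihedralGroup.r_mul_sr]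
      congr 1
      rw [eq_sub_iff_add_eq, add_assoc, hmm, add_zero]
  have hz2 : DihedralGroup.r (m : ZMod n) * DihedralGroup.r (m : ZMod n) = 1 := by
    rw [DihedralGroup.r_mul_r, hmm, DihedralGroup.r_zero]
  have h1 := central_invol_eq_one φ hφ hker hz hz2
  rw [DihedralGroup.one_def] at h1
  have h2 : (m : ZMod n) = 0 := DihedralGroup.r.inj h1
  rw [ZMod.natCast_eq_zero_iff] at h2
  have := Nat.le_of_dvd (by omega) h2
  omega

end typelevel

section glevel

variable {G : Type u} [Group G] [Finite G]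

theorem cj_eq_smul (g : G) (X : Subgroup G) : cj g X = MulAut.conj g • X := by
  ext x
  rw [mem_cj, Cfsg.Agent.Helper22.mem_conj_smul_iff]

theorem glauberman_core (H : Subgroup G) (hO : Cfsg.pCore 2 ↥H ≠ ⊥) (n : ℕ) (hn : 2 ≤ n)
    (φ : ↥H →* DihedralGroup n) (hφ : Function.Surjective φ) (hker : φ.ker = Cfsg.pCore 2 ↥H)
    (P : Subgroup G) (hPH : P ≤ H) (hP : IsPGroup 2 P) (hPsyl : ¬ 2 ∣ P.relIndex H) (y : G)
    (hy2 : y ^ 2 ∈ P ⊔ Subgroup.centralizer (P : Set G)) (hyN : cj y P = P)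
    (hyQ : ∀ Q : Subgroup G, Q ≤ P → H ≤ normalizer (Q : Set G) → cj y Q = Q → Q = ⊥) :
    (Nat.card ↥P = 4 ∨ Nat.card ↥P = 8 ∨ Nat.card ↥P = 16) ∧
    (Nonempty (↥H ⧸ Cfsg.oddCore ↥H ≃* Multiplicative (ZMod 2) × Multiplicative (ZMod 2)) ∨
     Nonempty (↥H ⧸ Cfsg.oddCore ↥H ≃* Equiv.Perm (Fin 4)) ∨
     Nonempty (↥H ⧸ Cfsg.oddCore ↥H ≃* Equiv.Perm (Fin 4) × Multiplicative (ZMod 2))) := by
  have h2f : Fact (Nat.Prime 2) := ⟨Nat.prime_two⟩
  have hodd : Odd n := odd_of_dihedral hn φ hφ hker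
  have hn0 : NeZero n := ⟨by omega⟩
  obtain ⟨O', hO'def⟩ : ∃ O' : Subgroup G, O' = (Cfsg.pCore 2 ↥H).map H.subtype := ⟨_, rfl⟩
  have hmemO' : ∀ m : ↥H, (m : G) ∈ O' ↔ φ m = 1 := by
    intro m
    rw [hO'def, ← MonoidHom.mem_ker, hker]
    constructor
    · rintro ⟨m', hm', hmm⟩
      have : m' = m := Subtype.ext hmm
      rw [← this]; exact hm'
    · intro hm
      exact ⟨m, hm, rfl⟩
  have hO'P : O' ≤ P := by
    have hS : IsPGroup 2 ↥(P.subgroupOf H) := hP.comap_subtype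
    have := pCore_le_sylow (P.subgroupOf H) hS hPsyl
    rw [hO'def]
    rintro x ⟨m, hm, rfl⟩
    exact Subgroup.mem_subgroupOf.mp (this hm)
  have hO'ne : O' ≠ ⊥ := by
    rw [hO'def]
    intro hb
    apply hO
    exact (Subgroup.map_eq_bot_iff_of_injective _ H.subtype_injective).mp hb
  have hO'n : H ≤ normalizer (O' : Set G) := by
    rw [hO'def]
    exact BenderPair.le_normalizer_map_subtype H (Cfsg.pCore 2 ↥H)
  have hcardH : Nat.card ↥H = Nat.card ↥O' * (2 * n) := by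
    have h1 : Nat.card ↥O' = Nat.card ↥(Cfsg.pCore 2 ↥H) := by
      rw [hO'def]
      exact Subgroup.card_map_of_injective H.subtype_injective
    have h2 := Subgroup.card_mul_index φ.ker
    rw [Subgroup.index_ker, MonoidHom.range_eq_top.mpr hφ, Subgroup.card_top,
      DihedralGroup.nat_card, hker] at h2
    rw [h1, h2]
  have hcardP : Nat.card ↥P = 2 * Nat.card ↥O' := by
    obtain ⟨a, ha⟩ := IsPGroup.iff_card.mp hP
    obtain ⟨b, hb⟩ := IsPGroup.iff_card.mp (hP.to_le hO'P)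
    have hidx := card_mul_relIndex hPH
    have hcopn : Nat.Coprime 2 n := Nat.coprime_two_left.mpr hodd
    have hcopi : Nat.Coprime 2 (P.relIndex H) :=
      (Nat.Prime.coprime_iff_not_dvd Nat.prime_two).mpr hPsyl
    have heq : 2 ^ a * P.relIndex H = 2 ^ (b + 1) * n := by
      rw [← ha, hidx, hcardH, hb]; ring
    have hab : 2 ^ a = 2 ^ (b + 1) := by
      apply Nat.dvd_antisymm
      · apply Nat.Coprime.dvd_of_dvd_mul_right (Nat.Coprime.pow_left a hcopn)
        exact Dvd.intro _ heq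
      · apply Nat.Coprime.dvd_of_dvd_mul_right (Nat.Coprime.pow_left (b + 1) hcopi)
        exact Dvd.intro _ heq.symm
    rw [ha, hab, hb]; ring
  have hB4 : 4 ≤ Nat.card ↥P := by
    have hpos : 0 < Nat.card ↥O' := Nat.card_pos
    have h1 : Nat.card ↥O' ≠ 1 := fun h1 => hO'ne (Subgroup.card_eq_one.mp h1)
    omega
  obtain ⟨t₀, ht₀P, ht₀O⟩ : ∃ t ∈ P, t ∉ O' := by
    by_contra hcon
    push Not at hcon
    have hle : P ≤ O' := hcon
    have := Subgroup.card_le_of_le hle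
    have hpos : 0 < Nat.card ↥O' := Nat.card_pos
    omega
  obtain ⟨τ, hτ⟩ : ∃ τ : ↥H, τ = ⟨t₀, hPH ht₀P⟩ := ⟨_, rfl⟩
  have hτc : (τ : G) = t₀ := by rw [hτ]
  have hτ1 : φ τ ≠ 1 := by
    rw [Ne, ← hmemO', hτc]; exact ht₀O
  have hτ2 : φ τ * φ τ = 1 := by
    rw [← map_mul, ← hmemO']
    have := mul_inv_mem_of_not_mem hO'P hcardP ht₀P (inv_mem ht₀P) ht₀O (by rwa [inv_mem_iff])
    rw [inv_inv] at this
    show (τ : G) * (τ : G) ∈ O'
    rw [hτc]; exact this
  obtain ⟨i, hi⟩ : ∃ i, φ τ = DihedralGroup.sr i := by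
    rcases hφτ : φ τ with k | i
    · exfalso
      rw [hφτ, DihedralGroup.r_mul_r, DihedralGroup.one_def] at hτ2
      have hk : k + k = 0 := DihedralGroup.r.inj hτ2
      rw [ZMod.add_self_eq_zero_iff_eq_zero hodd] at hk
      apply hτ1; rw [hφτ, hk, DihedralGroup.r_zero]
    · exact ⟨i, rfl⟩
  have hφP : ∀ m : ↥H, (m : G) ∈ P → (m : G) ∉ O' → φ m = DihedralGroup.sr i := by
    intro m hmP hmO
    have h1 := mul_inv_mem_of_not_mem hO'P hcardP hmP ht₀P hmO ht₀O
    have h2 : ((m * τ⁻¹ : ↥H) : G) ∈ O' := by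
      show (m : G) * (τ : G)⁻¹ ∈ O'
      rw [hτc]; exact h1
    rw [hmemO', map_mul, map_inv, mul_inv_eq_one] at h2
    rw [h2, hi]
  obtain ⟨u, hu⟩ := hφ (DihedralGroup.r 1)
  have hconj : ∀ m : ↥H, φ m = DihedralGroup.sr i →
      φ (u * m * u⁻¹) = DihedralGroup.sr (i - 2) := by
    intro m hm
    rw [map_mul, map_mul, map_inv, hu, hm, DihedralGroup.r_mul_sr, DihedralGroup.inv_r,
      DihedralGroup.sr_mul_r]
    congr 1; ring
  have huH : (u : G) ∈ H := u.2
  have hO'P₁ : O' ≤ cj (u : G) P := by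
    have h1 : cj (u : G) O' = O' := mem_normalizer_iff_cj.mp (hO'n huH)
    rw [← h1]; exact cj_mono hO'P
  have hP₁H : cj (u : G) P ≤ H := by
    have h1 : cj (u : G) H = H := mem_normalizer_iff_cj.mp (Subgroup.le_normalizer huH)
    exact (cj_mono hPH).trans h1.le
  have hφP₁ : ∀ m : ↥H, (m : G) ∈ cj (u : G) P → (m : G) ∉ O' →
      φ m = DihedralGroup.sr (i - 2) := by
    intro m hmP hmO
    rw [mem_cj] at hmP
    have hp : ((u⁻¹ * m * u : ↥H) : G) ∈ P := hmP
    have hpO : ((u⁻¹ * m * u : ↥H) : G) ∉ O' := by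
      intro hin
      apply hmO
      rw [hmemO'] at hin ⊢
      rw [map_mul, map_mul, map_inv] at hin
      have : φ m = φ u * ((φ u)⁻¹ * φ m * φ u) * (φ u)⁻¹ := by group
      rw [this, hin]; group
    have h1 := hconj _ (hφP _ hp hpO)
    have e : u * (u⁻¹ * m * u) * u⁻¹ = m := by group
    rwa [e] at h1
  have h2ne : (2 : ZMod n) ≠ 0 := by
    intro h2
    have h3 : ((2 : ℕ) : ZMod n) = 0 := by exact_mod_cast h2
    rw [ZMod.natCast_eq_zero_iff] at h3
    have h4 := Nat.le_of_dvd (by norm_num) h3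
    have h5 : n = 2 := by omega
    rw [h5] at hodd
    exact absurd hodd (by decide)
  have hinf : P ⊓ cj (u : G) P = O' := by
    apply le_antisymm
    · intro x hx
      rw [Subgroup.mem_inf] at hx
      by_contra hxO
      have h1 := hφP ⟨x, hPH hx.1⟩ hx.1 hxO
      have h2 := hφP₁ ⟨x, hPH hx.1⟩ hx.2 hxO
      rw [h1] at h2
      have := DihedralGroup.sr.inj h2
      exact h2ne (sub_eq_self.mp this.symm)
    · exact le_inf hO'P hO'P₁
  obtain ⟨h, hh⟩ : ∃ h : G, h = (u : G) * y := ⟨_, rfl⟩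
  have hcjh : cj h P = cj (u : G) P := by rw [hh, cj_mul, hyN]
  have hT : (P ⊓ cj h P).relIndex P = 2 := by
    rw [hcjh, hinf]; exact relIndex_two_of_card hO'P hcardP
  have hH : H = P ⊔ cj h P := by
    rw [hcjh]
    apply le_antisymm _ (sup_le hPH hP₁H)
    obtain ⟨τ₁, hτ₁⟩ : ∃ τ₁ : ↥H, τ₁ = u * τ * u⁻¹ := ⟨_, rfl⟩
    have hτX : (τ : G) ∈ P ⊔ cj (u : G) P := by
      rw [hτc]; exact (le_sup_left : P ≤ _) ht₀P
    have hτ₁X : (τ₁ : G) ∈ P ⊔ cj (u : G) P := by
      apply (le_sup_right : cj (u : G) P ≤ _)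
      rw [hτ₁]
      show (u : G) * (τ : G) * (u : G)⁻¹ ∈ cj (u : G) P
      rw [hτc]; exact conj_mem_cj ht₀P
    have hφτ₁ : φ τ₁ = DihedralGroup.sr (i - 2) := by rw [hτ₁]; exact hconj τ hi
    obtain ⟨m, hm⟩ := hodd
    obtain ⟨σ, hσ⟩ : ∃ σ : ↥H, σ = (τ * τ₁) ^ m := ⟨_, rfl⟩
    have hσX : (σ : G) ∈ P ⊔ cj (u : G) P := by
      rw [hσ, Subgroup.coe_pow, Subgroup.coe_mul]
      exact pow_mem (mul_mem hτX hτ₁X) m
    have hφσ : φ σ = DihedralGroup.r 1 := by
      rw [hσ, map_pow, map_mul, hi, hφτ₁, DihedralGroup.sr_mul_sr, DihedralGroup.r_pow]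
      congr 1
      have h0 : ((2 * m + 1 : ℕ) : ZMod n) = 0 := by rw [← hm]; exact ZMod.natCast_self n
      push_cast at h0
      linear_combination (-1 : ZMod n) * h0
    have hr : ∀ k : ZMod n, ∃ m' : ↥H, (m' : G) ∈ P ⊔ cj (u : G) P ∧
        φ m' = DihedralGroup.r k := by
      intro k
      refine ⟨σ ^ k.val, ?_, ?_⟩
      · rw [Subgroup.coe_pow]; exact pow_mem hσX _
      · rw [map_pow, hφσ, DihedralGroup.r_one_pow, ZMod.natCast_zmod_val]
    have hall : ∀ d : DihedralGroup n, ∃ m' : ↥H, (m' : G) ∈ P ⊔ cj (u : G) P ∧ φ m' = d := by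
      rintro (k | k)
      · exact hr k
      · obtain ⟨m', hm'X, hm'⟩ := hr (k - i)
        refine ⟨τ * m', ?_, ?_⟩
        · rw [Subgroup.coe_mul]; exact mul_mem hτX hm'X
        · rw [map_mul, hi, hm', DihedralGroup.sr_mul_r]; congr 1; ring
    intro g hg
    obtain ⟨m', hm'X, hm'⟩ := hall (φ ⟨g, hg⟩)
    have h1 : ((m'⁻¹ * ⟨g, hg⟩ : ↥H) : G) ∈ O' := by
      rw [hmemO', map_mul, map_inv, hm', inv_mul_cancel]
    have h2 : g = (m' : G) * ((m'⁻¹ * ⟨g, hg⟩ : ↥H) : G) := by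
      rw [Subgroup.coe_mul, Subgroup.coe_inv]
      show g = (m' : G) * ((m' : G)⁻¹ * g)
      group
    rw [h2]
    exact mul_mem hm'X ((le_sup_left : P ≤ _) (hO'P h1))
  have hpow : ∀ x ∈ P, ∀ y' ∈ cj h P, x * x = 1 → y' * y' = 1 → x ∉ P ⊓ cj h P →
      y' ∉ P ⊓ cj h P → (x * y') ^ n ∈ P ⊓ cj h P := by
    rw [hcjh, hinf]
    intro x hx y' hy' _ _ hxO hy'O
    have h1 := hφP ⟨x, hPH hx⟩ hx hxO
    have h2 := hφP₁ ⟨y', hP₁H hy'⟩ hy' hy'O
    have h3 : (((⟨x, hPH hx⟩ * ⟨y', hP₁H hy'⟩) ^ n : ↥H) : G) ∈ O' := by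
      rw [hmemO', map_pow, map_mul, h1, h2, DihedralGroup.sr_mul_sr, DihedralGroup.r_pow,
        ZMod.natCast_self, mul_zero, DihedralGroup.r_zero]
    simpa using h3
  have hcore : ∀ R : Subgroup G, R ≤ P → Bk P h (-1) ≤ normalizer (R : Set G) →
      Bk P h 0 ≤ normalizer (R : Set G) → Bk P h 1 ≤ normalizer (R : Set G) → R = ⊥ := by
    intro R hRP hm1 h0 h1
    rw [Bk_zero] at h0
    have hB1 : Bk P h 1 = cj h P := by unfold Bk; rw [zpow_one]
    have hBm1 : Bk P h (-1) = cj h⁻¹ P := by unfold Bk; rw [zpow_neg_one]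
    rw [hB1] at h1
    rw [hBm1] at hm1
    have hHR : H ≤ normalizer (R : Set G) := by rw [hH]; exact sup_le h0 h1
    have hyH : cj y⁻¹ H ≤ normalizer (R : Set G) := by
      have e1 : cj (u : G)⁻¹ H = H :=
        mem_normalizer_iff_cj.mp (Subgroup.le_normalizer (inv_mem huH))
      have e2 : cj y⁻¹ H = cj h⁻¹ H := by
        rw [hh, mul_inv_rev, cj_mul, e1]
      have e3 : cj h⁻¹ H = cj h⁻¹ P ⊔ P := by
        conv_lhs => rw [hH]
        rw [cj_sup, cj_inv_cj, sup_comm]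
      rw [e2, e3]; exact sup_le hm1 h0
    have hHyR : H ≤ normalizer ((cj y R : Subgroup G) : Set G) := by
      have := cj_le_normalizer y hyH
      rwa [cj_cj_inv] at this
    obtain ⟨R', hR'⟩ : ∃ R' : Subgroup G, R' = R ⊔ cj y R := ⟨_, rfl⟩
    have hR'P : R' ≤ P := by
      rw [hR']; apply sup_le hRP
      rw [← hyN]; exact cj_mono hRP
    have hR'n : H ≤ normalizer (R' : Set G) := by
      intro g hg
      have e1 : cj g R = R := mem_normalizer_iff_cj.mp (hHR hg)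
      have e2 : cj g (cj y R) = cj y R := mem_normalizer_iff_cj.mp (hHyR hg)
      rw [mem_normalizer_iff_cj, hR', cj_sup, e1, e2]
    have hyy : cj (y * y) R = R := by
      apply mem_normalizer_iff_cj.mp
      have hle : P ⊔ Subgroup.centralizer (P : Set G) ≤ normalizer (R : Set G) := by
        apply sup_le h0
        exact (Subgroup.centralizer_le (by exact_mod_cast hRP)).trans
          (Subgroup.centralizer_le_normalizer _)
      have := hle hy2
      rwa [pow_two] at this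
    have hyR' : cj y R' = R' := by
      rw [hR', cj_sup, ← cj_mul, hyy, sup_comm]
    have hbot := hyQ R' hR'P hR'n hyR'
    rw [eq_bot_iff, ← hbot, hR']; exact le_sup_left
  exact structW P h hT hcore H hH hPsyl hB4 n hodd hpow

end glevel

end Cfsg.Agent.Helper10.Tutte
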