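import Mathlib
import Cfsg.Prelude
import Cfsg.Agent.Lib.Helper17.OrthGroup
import Cfsg.Agent.Lib.Helper2.OrthOrders

/-!
# S2547 piece INDEXO (helper10): the index of the commutator subgroup of `O_{2m+1}(q)` is a power of 2

By Cartan–Dieudonné (helper17's `exists_prod_tG`) the isometry group is generated by reflections, which
are involutions, so the abelianisation has exponent dividing 2.
-/

set_option autoImplicit false

namespace Cfsg.Agent.Helper10.SoIndex

open Cfsg.Agent.Helper17.Spinor QuadraticMap

variable {F : Type*} [Field F] {ι : Type} [Fintype ι] [DecidableEq ι]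

/-- abstract form: a finite group in which every element is a product of elements of order at most 2
has commutator subgroup of 2-power index -/
theorem index_commutator_of_gen {O : Type*} [Group O] [Finite O]
    (h : ∀ g : O, ∃ l : List O, (∀ x ∈ l, x * x = 1) ∧ g = l.prod) :
    ∃ k : ℕ, (commutator O).index = 2 ^ k := by
  have hsq : ∀ a : Abelianization O, a ^ 2 = 1 := by
    intro a
    obtain ⟨g, rfl⟩ : ∃ g : O, Abelianization.of g = a := QuotientGroup.mk_surjective a
    obtain ⟨l, hl, rfl⟩ := h g
    clear h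
    induction l with
    | nil => rw [List.prod_nil, map_one, one_pow]
    | cons x l ih =>
      have hx : x * x = 1 := hl x List.mem_cons_self
      have hl' : ∀ y ∈ l, y * y = 1 := fun y hy => hl y (List.mem_cons_of_mem _ hy)
      have ih' := ih hl'
      rw [List.prod_cons, map_mul, mul_pow, ih', mul_one, pow_two, ← map_mul, hx, map_one]
  have hp : IsPGroup 2 (Abelianization O) := by
    intro a
    exact ⟨1, by rw [pow_one]; exact hsq a⟩
  obtain ⟨k, hk⟩ := hp.exists_card_eq
  refine ⟨k, ?_⟩
  rw [Subgroup.index_eq_card]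
  exact hk

theorem index_commutator_isometry [Fintype F] (Q : QuadraticForm F (ι → F))
    (hQ : (polarBilin Q).Nondegenerate)
    (hex : Fintype.card F ≠ 2 ∨ Fintype.card ι ≠ 4) :
    ∃ k : ℕ, (commutator (Cfsg.isometryGroup F (⇑Q))).index = 2 ^ k := by
  apply index_commutator_of_gen
  intro g
  obtain ⟨vs, hvs, hg⟩ := exists_prod_tG Q hQ hex g
  refine ⟨vs.map (tG Q), ?_, hg⟩
  intro x hx
  rw [List.mem_map] at hx
  obtain ⟨v, hv, rfl⟩ := hx
  exact tG_mul_self Q (hvs v hv)

end Cfsg.Agent.Helper10.SoIndex

namespace Cfsg.Agent.Helper13.SoP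

open Cfsg.Agent.Helper2.Orth

/-! PIECE INDEXO -/
theorem exists_index_commutator {F : Type*} [Field F] [Fintype F] (h2 : (2 : F) ≠ 0) (m : ℕ) :
    ∃ k : ℕ, (commutator (Cfsg.isometryGroup F (Cfsg.quadFormOdd m F))).index = 2 ^ k := by
  rw [quadFormOdd_eq]
  apply Cfsg.Agent.Helper10.SoIndex.index_commutator_isometry _ (nondeg_odd m h2)
  right
  simp only [Fintype.card_sum, Fintype.card_unit, Fintype.card_fin]
  omega

end Cfsg.Agent.Helper13.SoP
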