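import Mathlib
import Cfsg.Prelude
import Cfsg.Agent.Lib.Helper13.SuBN2

/-!
# S2547 piece TRANSPORTO (helper10)

`WSU (2m+1) id` (= the special orthogonal group of the antidiagonal form) embeds into the isometry
group of `quadFormOdd m F` (char ≠ 2), with image of index 2 complemented by the central `-1`.
-/

set_option autoImplicit false
set_option linter.unusedSectionVars false
set_option linter.unusedVariables false

namespace Cfsg.Agent.Helper10.SoTr

open Matrix Cfsg.Agent.Helper13.SuBN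

variable {F : Type*} [Field F] (m : ℕ)

/-- the index bijection: middle, first half, reversed second half -/
def eI : Unit ⊕ (Fin m ⊕ Fin m) ≃ Fin (2 * m + 1) where
  toFun
    | Sum.inl _ => ⟨m, by omega⟩
    | Sum.inr (Sum.inl i) => ⟨i.val, by omega⟩
    | Sum.inr (Sum.inr i) => ⟨2 * m - i.val, by omega⟩
  invFun c := if h : c.val < m then Sum.inr (Sum.inl ⟨c.val, h⟩)
     else if h' : c.val = m then Sum.inl ()
     else Sum.inr (Sum.inr ⟨2 * m - c.val, by omega⟩)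
  left_inv := by
    rintro (_ | i | i)
    · simp
    · simp
    · have h1 : ¬ (2 * m - i.val < m) := by omega
      have h2 : ¬ (2 * m - i.val = m) := by omega
      simp only [h1, h2, dite_false]
      congr 2
      apply Fin.ext
      show 2 * m - (2 * m - i.val) = i.val
      omega
  right_inv := by
    intro c
    by_cases h : c.val < m
    · simp only [h, dite_true]
    · by_cases h' : c.val = m
      · dsimp only
        rw [dif_neg h, dif_pos h']
        exact Fin.ext h'.symm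
      · dsimp only
        rw [dif_neg h, dif_neg h']
        apply Fin.ext
        show 2 * m - (2 * m - c.val) = c.val
        omega

/-- the partner involution on the index type -/
def tau : Unit ⊕ (Fin m ⊕ Fin m) → Unit ⊕ (Fin m ⊕ Fin m)
  | Sum.inl u => Sum.inl u
  | Sum.inr (Sum.inl i) => Sum.inr (Sum.inr i)
  | Sum.inr (Sum.inr i) => Sum.inr (Sum.inl i)

theorem rev_eI (b : Unit ⊕ (Fin m ⊕ Fin m)) : Fin.rev (eI m b) = eI m (tau m b) := by
  rcases b with (_ | i | i)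
  · apply Fin.ext
    show 2 * m + 1 - (m + 1) = m
    omega
  · apply Fin.ext
    show 2 * m + 1 - (i.val + 1) = 2 * m - i.val
    omega
  · apply Fin.ext
    show 2 * m + 1 - (2 * m - i.val + 1) = i.val
    omega

/-- the scaling -/
def dS (F : Type*) [Field F] : Unit ⊕ (Fin m ⊕ Fin m) → F
  | Sum.inl _ => 1
  | Sum.inr (Sum.inl _) => 1
  | Sum.inr (Sum.inr _) => 2⁻¹

theorem dS_ne_zero (h2 : (2 : F) ≠ 0) (b : Unit ⊕ (Fin m ⊕ Fin m)) : dS m F b ≠ 0 := by
  rcases b with (_ | i | i)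
  · exact one_ne_zero
  · exact one_ne_zero
  · exact inv_ne_zero h2

/-- transported matrix -/
def jmat (M : Matrix (Fin (2 * m + 1)) (Fin (2 * m + 1)) F) :
    Matrix (Unit ⊕ (Fin m ⊕ Fin m)) (Unit ⊕ (Fin m ⊕ Fin m)) F :=
  Matrix.of fun a b => (dS m F a)⁻¹ * M (eI m a) (eI m b) * dS m F b

theorem jmat_apply (M : Matrix (Fin (2 * m + 1)) (Fin (2 * m + 1)) F) (a b) :
    jmat m M a b = (dS m F a)⁻¹ * M (eI m a) (eI m b) * dS m F b := rfl

theorem jmat_one (h2 : (2 : F) ≠ 0) : jmat m (1 : Matrix (Fin (2 * m + 1)) (Fin (2 * m + 1)) F) = 1 := by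
  ext a b
  rw [jmat_apply, Matrix.one_apply, Matrix.one_apply]
  by_cases h : a = b
  · subst h
    rw [if_pos rfl, if_pos rfl, mul_one, inv_mul_cancel₀ (dS_ne_zero m h2 a)]
  · rw [if_neg h, if_neg (fun e => h ((eI m).injective e)), mul_zero, zero_mul]

theorem jmat_mul (h2 : (2 : F) ≠ 0) (M N : Matrix (Fin (2 * m + 1)) (Fin (2 * m + 1)) F) :
    jmat m (M * N) = jmat m M * jmat m N := by
  ext a b
  rw [jmat_apply, Matrix.mul_apply, Matrix.mul_apply, ← Equiv.sum_comp (eI m), Finset.mul_sum,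
    Finset.sum_mul]
  apply Finset.sum_congr rfl
  intro c _
  rw [jmat_apply, jmat_apply]
  have hc := dS_ne_zero m h2 c
  field_simp

theorem jmat_injective (h2 : (2 : F) ≠ 0) : Function.Injective (jmat (F := F) m) := by
  intro M N h
  ext c c'
  have h1 := congrFun (congrFun h ((eI m).symm c)) ((eI m).symm c')
  rw [jmat_apply, jmat_apply, Equiv.apply_symm_apply, Equiv.apply_symm_apply] at h1
  have ha := dS_ne_zero m h2 ((eI m).symm c)
  have hb := dS_ne_zero m h2 ((eI m).symm c')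
  have h3 := mul_right_cancel₀ hb h1
  exact mul_left_cancel₀ (inv_ne_zero ha) h3

theorem jmat_neg (M : Matrix (Fin (2 * m + 1)) (Fin (2 * m + 1)) F) : jmat m (-M) = - jmat m M := by
  ext a b
  rw [Matrix.neg_apply, jmat_apply, jmat_apply, Matrix.neg_apply]
  ring

/-- inverse transport -/
def kmat (X : Matrix (Unit ⊕ (Fin m ⊕ Fin m)) (Unit ⊕ (Fin m ⊕ Fin m)) F) :
    Matrix (Fin (2 * m + 1)) (Fin (2 * m + 1)) F :=
  Matrix.of fun c c' => dS m F ((eI m).symm c) * X ((eI m).symm c) ((eI m).symm c') *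
    (dS m F ((eI m).symm c'))⁻¹

theorem jmat_kmat (h2 : (2 : F) ≠ 0)
    (X : Matrix (Unit ⊕ (Fin m ⊕ Fin m)) (Unit ⊕ (Fin m ⊕ Fin m)) F) : jmat m (kmat m X) = X := by
  ext a b
  rw [jmat_apply]
  show (dS m F a)⁻¹ * (dS m F ((eI m).symm (eI m a)) * X ((eI m).symm (eI m a))
    ((eI m).symm (eI m b)) * (dS m F ((eI m).symm (eI m b)))⁻¹) * dS m F b = X a b
  rw [Equiv.symm_apply_apply, Equiv.symm_apply_apply]
  have ha := dS_ne_zero m h2 a
  have hb := dS_ne_zero m h2 b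
  field_simp

/-- the vector transport -/
def Lv (v : Unit ⊕ (Fin m ⊕ Fin m) → F) : Fin (2 * m + 1) → F :=
  fun c => dS m F ((eI m).symm c) * v ((eI m).symm c)

theorem Lv_eI (v : Unit ⊕ (Fin m ⊕ Fin m) → F) (b) : Lv m v (eI m b) = dS m F b * v b := by
  unfold Lv
  rw [Equiv.symm_apply_apply]

theorem Lv_mulVec (h2 : (2 : F) ≠ 0) (M : Matrix (Fin (2 * m + 1)) (Fin (2 * m + 1)) F)
    (v : Unit ⊕ (Fin m ⊕ Fin m) → F) : Lv m (jmat m M *ᵥ v) = M *ᵥ Lv m v := by
  funext c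
  obtain ⟨a, rfl⟩ := (eI m).surjective c
  rw [Lv_eI, Matrix.mulVec, Matrix.mulVec, dotProduct, dotProduct, ← Equiv.sum_comp (eI m),
    Finset.mul_sum]
  apply Finset.sum_congr rfl
  intro b _
  rw [Lv_eI, jmat_apply]
  have ha := dS_ne_zero m h2 a
  field_simp

/-- the antidiagonal quadratic form -/
def Qn (w : Fin (2 * m + 1) → F) : F := ∑ c, w c * w (Fin.rev c)

theorem quadFormOdd_eq_Qn (h2 : (2 : F) ≠ 0) (v : Unit ⊕ (Fin m ⊕ Fin m) → F) :
    Cfsg.quadFormOdd m F v = Qn m (Lv m v) := by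
  unfold Qn
  rw [← Equiv.sum_comp (eI m)]
  simp only [rev_eI, Lv_eI]
  rw [Fintype.sum_sum_type, Fintype.sum_sum_type]
  simp only [tau, dS]
  unfold Cfsg.quadFormOdd
  simp only [Finset.univ_unique, Finset.sum_singleton]
  rw [← Finset.sum_add_distrib]
  congr 1
  · ring
  · apply Finset.sum_congr rfl
    intro i _
    field_simp
    ring

/-- the antidiagonal bilinear form -/
def Bn (w w' : Fin (2 * m + 1) → F) : F := ∑ c, w c * w' (Fin.rev c)

theorem Bn_eq (w w' : Fin (2 * m + 1) → F) :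
    Bn m w w' = w ⬝ᵥ (Kmat (2 * m + 1) F *ᵥ w') := by
  unfold Bn dotProduct
  apply Finset.sum_congr rfl
  intro c _
  congr 1
  show w' (Fin.rev c) = ∑ x, Kmat (2 * m + 1) F c x * w' x
  rw [Finset.sum_eq_single (Fin.rev c)]
  · rw [Kmat_apply, if_pos rfl, one_mul]
  · intro x _ hx
    rw [Kmat_apply, if_neg hx, zero_mul]
  · intro h; exact absurd (Finset.mem_univ _) h

theorem Bn_comm (w w' : Fin (2 * m + 1) → F) : Bn m w w' = Bn m w' w := by
  unfold Bn
  rw [← Equiv.sum_comp Fin.revPerm]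
  apply Finset.sum_congr rfl
  intro c _
  show w (Fin.rev c) * w' (Fin.rev (Fin.rev c)) = _
  rw [Fin.rev_rev, mul_comm]

theorem Qn_eq_Bn (w : Fin (2 * m + 1) → F) : Qn m w = Bn m w w := rfl

theorem Bn_add_left (w1 w2 w' : Fin (2 * m + 1) → F) :
    Bn m (w1 + w2) w' = Bn m w1 w' + Bn m w2 w' := by
  unfold Bn
  rw [← Finset.sum_add_distrib]
  apply Finset.sum_congr rfl
  intro c _
  rw [Pi.add_apply, add_mul]

theorem Bn_add_right (w w1 w2 : Fin (2 * m + 1) → F) :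
    Bn m w (w1 + w2) = Bn m w w1 + Bn m w w2 := by
  rw [Bn_comm, Bn_add_left, Bn_comm m w1, Bn_comm m w2]

theorem Bn_mulVec (M : Matrix (Fin (2 * m + 1)) (Fin (2 * m + 1)) F) (w w' : Fin (2 * m + 1) → F) :
    Bn m (M *ᵥ w) (M *ᵥ w') = w ⬝ᵥ ((Mᵀ * Kmat (2 * m + 1) F * M) *ᵥ w') := by
  rw [Bn_eq, dotProduct_comm, Matrix.dotProduct_mulVec, ← Matrix.mulVec_transpose, dotProduct_comm,
    Matrix.mulVec_mulVec, Matrix.mulVec_mulVec, Matrix.mul_assoc]

/-- preservation of the form by a matrix with `Mᵀ K M = K` -/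
theorem Qn_mulVec_of (M : Matrix (Fin (2 * m + 1)) (Fin (2 * m + 1)) F)
    (hM : Mᵀ * Kmat (2 * m + 1) F * M = Kmat (2 * m + 1) F) (w : Fin (2 * m + 1) → F) :
    Qn m (M *ᵥ w) = Qn m w := by
  rw [Qn_eq_Bn, Bn_mulVec, hM, ← Bn_eq, Qn_eq_Bn]

/-- polarisation: a matrix preserving `Qn` satisfies `Mᵀ K M = K` -/
theorem gram_of_Qn (h2 : (2 : F) ≠ 0) (M : Matrix (Fin (2 * m + 1)) (Fin (2 * m + 1)) F)
    (hM : ∀ w, Qn m (M *ᵥ w) = Qn m w) :
    Mᵀ * Kmat (2 * m + 1) F * M = Kmat (2 * m + 1) F := by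
  have hB : ∀ w w', Bn m (M *ᵥ w) (M *ᵥ w') = Bn m w w' := by
    intro w w'
    have h1 := hM (w + w')
    rw [Matrix.mulVec_add, Qn_eq_Bn, Qn_eq_Bn, Bn_add_left, Bn_add_right, Bn_add_right,
      Bn_add_left, Bn_add_right, Bn_add_right, ← Qn_eq_Bn, ← Qn_eq_Bn, ← Qn_eq_Bn, ← Qn_eq_Bn,
      hM w, hM w', Bn_comm m (M *ᵥ w') (M *ᵥ w), Bn_comm m w' w] at h1
    have h3 : 2 * Bn m (M *ᵥ w) (M *ᵥ w') = 2 * Bn m w w' := by linear_combination h1
    exact mul_left_cancel₀ h2 h3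
  ext a b
  have h1 := hB (Pi.single a 1) (Pi.single b 1)
  rw [Bn_mulVec, Bn_eq, Matrix.mulVec_single_one, Matrix.mulVec_single_one,
    single_one_dotProduct, single_one_dotProduct] at h1
  exact h1

theorem Kmat_det_ne_zero (n : ℕ) : (Kmat n F).det ≠ 0 := by
  intro h
  have h1 := congrArg Matrix.det (Kmat_mul_self (n := n) (F := F))
  rw [Matrix.det_mul, h, zero_mul, Matrix.det_one] at h1
  exact zero_ne_one h1

theorem det_sq_of_gram (M : Matrix (Fin (2 * m + 1)) (Fin (2 * m + 1)) F)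
    (hM : Mᵀ * Kmat (2 * m + 1) F * M = Kmat (2 * m + 1) F) : M.det = 1 ∨ M.det = -1 := by
  have h1 := congrArg Matrix.det hM
  rw [Matrix.det_mul, Matrix.det_mul, Matrix.det_transpose] at h1
  have hK := Kmat_det_ne_zero (F := F) (2 * m + 1)
  have h2 : M.det * M.det = 1 := by
    apply mul_right_cancel₀ hK
    rw [one_mul]
    linear_combination h1
  have h3 : (M.det - 1) * (M.det + 1) = 0 := by linear_combination h2
  rcases mul_eq_zero.1 h3 with h | h
  · left; linear_combination h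
  · right; linear_combination h

theorem gram'_of_gram (M : Matrix (Fin (2 * m + 1)) (Fin (2 * m + 1)) F)
    (hM : Mᵀ * Kmat (2 * m + 1) F * M = Kmat (2 * m + 1) F) :
    M * Kmat (2 * m + 1) F * Mᵀ = Kmat (2 * m + 1) F := by
  have h1 : (Kmat (2 * m + 1) F * Mᵀ * Kmat (2 * m + 1) F) * M = 1 := by
    rw [Matrix.mul_assoc, Matrix.mul_assoc, ← Matrix.mul_assoc Mᵀ, hM, Kmat_mul_self]
  have h2 : M * (Kmat (2 * m + 1) F * Mᵀ * Kmat (2 * m + 1) F) = 1 :=
    mul_eq_one_comm.1 h1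
  calc M * Kmat (2 * m + 1) F * Mᵀ
      = M * (Kmat (2 * m + 1) F * Mᵀ * Kmat (2 * m + 1) F) * Kmat (2 * m + 1) F := by
        simp only [Matrix.mul_assoc]
        rw [Kmat_mul_self, Matrix.mul_one]
    _ = Kmat (2 * m + 1) F := by rw [h2, Matrix.one_mul]

theorem map_id_eq (M : Matrix (Fin (2 * m + 1)) (Fin (2 * m + 1)) F) :
    M.map (RingHom.id F) = M := by
  ext a b; rfl

/-- build an element of `WSU` from a gram condition and determinant one -/
def mkWSU (M : Matrix (Fin (2 * m + 1)) (Fin (2 * m + 1)) F)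
    (hM : Mᵀ * Kmat (2 * m + 1) F * M = Kmat (2 * m + 1) F) (hd : M.det = 1) :
    WSU (2 * m + 1) (RingHom.id F) :=
  ⟨⟨M, hd⟩, by
    constructor
    · show Mᵀ * Kmat (2 * m + 1) F * M.map (RingHom.id F) = _
      rw [map_id_eq, hM]
    · show M * Kmat (2 * m + 1) F * (M.map (RingHom.id F))ᵀ = _
      rw [map_id_eq, gram'_of_gram m M hM]⟩

theorem mt_mkWSU (M : Matrix (Fin (2 * m + 1)) (Fin (2 * m + 1)) F)
    (hM : Mᵀ * Kmat (2 * m + 1) F * M = Kmat (2 * m + 1) F) (hd : M.det = 1) :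
    mt (mkWSU m M hM hd) = M := rfl

theorem gram_of_mem (g : WSU (2 * m + 1) (RingHom.id F)) :
    (mt g)ᵀ * Kmat (2 * m + 1) F * mt g = Kmat (2 * m + 1) F := by
  have h := g.2.1
  change (mt g)ᵀ * Kmat (2 * m + 1) F * (mt g).map (RingHom.id F) = _ at h
  rw [map_id_eq] at h
  exact h

/-- the monoid hom on matrices -/
def jm (h2 : (2 : F) ≠ 0) : Matrix (Fin (2 * m + 1)) (Fin (2 * m + 1)) F →*
    Matrix (Unit ⊕ (Fin m ⊕ Fin m)) (Unit ⊕ (Fin m ⊕ Fin m)) F where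
  toFun := jmat m
  map_one' := jmat_one m h2
  map_mul' := jmat_mul m h2

/-- the hom into the general linear group -/
def jGL (h2 : (2 : F) ≠ 0) : WSU (2 * m + 1) (RingHom.id F) →*
    Matrix.GeneralLinearGroup (Unit ⊕ (Fin m ⊕ Fin m)) F :=
  ((Units.map (jm m h2)).comp Matrix.SpecialLinearGroup.toGL).comp
    (WSU (2 * m + 1) (RingHom.id F)).subtype

theorem jGL_val (h2 : (2 : F) ≠ 0) (g : WSU (2 * m + 1) (RingHom.id F)) :
    ((jGL m h2 g : Matrix.GeneralLinearGroup (Unit ⊕ (Fin m ⊕ Fin m)) F) :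
      Matrix (Unit ⊕ (Fin m ⊕ Fin m)) (Unit ⊕ (Fin m ⊕ Fin m)) F) = jmat m (mt g) := rfl

theorem mem_iso_iff (x : Matrix.GeneralLinearGroup (Unit ⊕ (Fin m ⊕ Fin m)) F) :
    x ∈ Cfsg.isometryGroup F (Cfsg.quadFormOdd m F) ↔
      ∀ u, Cfsg.quadFormOdd m F ((x : Matrix _ _ F) *ᵥ u) = Cfsg.quadFormOdd m F u := by
  constructor
  · intro h u
    exact h u u
  · intro h u v
    exact h u

theorem jGL_mem (h2 : (2 : F) ≠ 0) (g : WSU (2 * m + 1) (RingHom.id F)) :
    jGL m h2 g ∈ Cfsg.isometryGroup F (Cfsg.quadFormOdd m F) := by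
  rw [mem_iso_iff]
  intro u
  rw [jGL_val, quadFormOdd_eq_Qn m h2, quadFormOdd_eq_Qn m h2, Lv_mulVec m h2,
    Qn_mulVec_of m _ (gram_of_mem m g)]

/-- the transport hom -/
def jHom (h2 : (2 : F) ≠ 0) : WSU (2 * m + 1) (RingHom.id F) →*
    Cfsg.isometryGroup F (Cfsg.quadFormOdd m F) :=
  (jGL m h2).codRestrict _ (jGL_mem m h2)

theorem jHom_val (h2 : (2 : F) ≠ 0) (g : WSU (2 * m + 1) (RingHom.id F)) :
    (((jHom m h2 g : Cfsg.isometryGroup F (Cfsg.quadFormOdd m F)) :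
      Matrix.GeneralLinearGroup (Unit ⊕ (Fin m ⊕ Fin m)) F) :
      Matrix (Unit ⊕ (Fin m ⊕ Fin m)) (Unit ⊕ (Fin m ⊕ Fin m)) F) = jmat m (mt g) := rfl

theorem jHom_injective (h2 : (2 : F) ≠ 0) : Function.Injective (jHom (F := F) m h2) := by
  intro g g' h
  apply mt_injective
  apply jmat_injective m h2
  rw [← jHom_val m h2 g, ← jHom_val m h2 g', h]

theorem neg_one_mem : (-1 : Matrix.GeneralLinearGroup (Unit ⊕ (Fin m ⊕ Fin m)) F) ∈
    Cfsg.isometryGroup F (Cfsg.quadFormOdd m F) := by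
  rw [mem_iso_iff]
  intro u
  rw [Units.val_neg, Units.val_one, Matrix.neg_mulVec, Matrix.one_mulVec]
  unfold Cfsg.quadFormOdd
  simp only [Pi.neg_apply, neg_mul_neg, neg_sq]

/-- range criterion -/
theorem mem_range_of (h2 : (2 : F) ≠ 0) (x : Cfsg.isometryGroup F (Cfsg.quadFormOdd m F))
    (M : Matrix (Fin (2 * m + 1)) (Fin (2 * m + 1)) F)
    (hx : jmat m M = ((x : Matrix.GeneralLinearGroup (Unit ⊕ (Fin m ⊕ Fin m)) F) : Matrix _ _ F))
    (hd : M.det = 1) : x ∈ (jHom m h2).range := by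
  have hxm := (mem_iso_iff m x.1).1 x.2
  have hQ : ∀ w, Qn m (M *ᵥ w) = Qn m w := by
    intro w
    -- write w = Lv v
    let v : Unit ⊕ (Fin m ⊕ Fin m) → F := fun b => (dS m F b)⁻¹ * w (eI m b)
    have hv : Lv m v = w := by
      funext c
      obtain ⟨a, rfl⟩ := (eI m).surjective c
      rw [Lv_eI]
      show dS m F a * ((dS m F a)⁻¹ * w (eI m a)) = _
      rw [← mul_assoc, mul_inv_cancel₀ (dS_ne_zero m h2 a), one_mul]
    rw [← hv, ← Lv_mulVec m h2, ← quadFormOdd_eq_Qn m h2, ← quadFormOdd_eq_Qn m h2, hx]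
    exact hxm v
  have hg := gram_of_Qn m h2 M hQ
  refine ⟨mkWSU m M hg hd, ?_⟩
  apply Subtype.ext
  apply Units.ext
  rw [jHom_val, mt_mkWSU, hx]

end Cfsg.Agent.Helper10.SoTr

namespace Cfsg.Agent.Helper13.SoP

open Matrix Cfsg.Agent.Helper13.SuBN Cfsg.Agent.Helper10.SoTr

/-! PIECE TRANSPORTO -/
theorem exists_hom_isometryGroup {F : Type*} [Field F] (h2 : (2 : F) ≠ 0) (m : ℕ) :
    ∃ j : WSU (2 * m + 1) (RingHom.id F) →* Cfsg.isometryGroup F (Cfsg.quadFormOdd m F),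
      Function.Injective j ∧
      ∃ z ∈ Subgroup.center (Cfsg.isometryGroup F (Cfsg.quadFormOdd m F)),
        ∀ x : Cfsg.isometryGroup F (Cfsg.quadFormOdd m F), x ∈ j.range ∨ z * x ∈ j.range := by
  refine ⟨jHom m h2, jHom_injective m h2, ⟨-1, neg_one_mem m⟩, ?_, ?_⟩
  · rw [Subgroup.mem_center_iff]
    intro y
    apply Subtype.ext
    apply Units.ext
    show y.1.1 * (-1 : Matrix.GeneralLinearGroup (Unit ⊕ (Fin m ⊕ Fin m)) F).1
      = (-1 : Matrix.GeneralLinearGroup (Unit ⊕ (Fin m ⊕ Fin m)) F).1 * y.1.1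
    rw [Units.val_neg, Units.val_one, mul_neg, mul_one, neg_mul, one_mul]
  · intro x
    set X : Matrix (Unit ⊕ (Fin m ⊕ Fin m)) (Unit ⊕ (Fin m ⊕ Fin m)) F := x.1.1 with hX
    have hjk : jmat m (kmat m X) = X := jmat_kmat m h2 X
    -- the gram condition for kmat X
    have hxm := (mem_iso_iff m x.1).1 x.2
    have hQ : ∀ w, Qn m (kmat m X *ᵥ w) = Qn m w := by
      intro w
      let v : Unit ⊕ (Fin m ⊕ Fin m) → F := fun b => (dS m F b)⁻¹ * w (eI m b)
      have hv : Lv m v = w := by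
        funext c
        obtain ⟨a, rfl⟩ := (eI m).surjective c
        rw [Lv_eI]
        show dS m F a * ((dS m F a)⁻¹ * w (eI m a)) = _
        rw [← mul_assoc, mul_inv_cancel₀ (dS_ne_zero m h2 a), one_mul]
      rw [← hv, ← Lv_mulVec m h2, ← quadFormOdd_eq_Qn m h2, ← quadFormOdd_eq_Qn m h2, hjk]
      exact hxm v
    have hg := gram_of_Qn m h2 _ hQ
    rcases det_sq_of_gram m _ hg with hd | hd
    · left
      exact mem_range_of m h2 x (kmat m X) hjk hd
    · right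
      apply mem_range_of m h2 _ (-(kmat m X))
      · rw [jmat_neg, hjk]
        show -X = (-1 : Matrix.GeneralLinearGroup (Unit ⊕ (Fin m ⊕ Fin m)) F).1 * X
        rw [Units.val_neg, Units.val_one, neg_mul, one_mul]
      · rw [Matrix.det_neg, hd, Fintype.card_fin, pow_succ, pow_mul]
        simp

end Cfsg.Agent.Helper13.SoP
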