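import Mathlib
import Cfsg.Agent.Lib.Helper10.IsolatedInv
import Cfsg.Agent.Lib.Helper10.ClosedSeries

set_option autoImplicit false

namespace Cfsg.Agent.Helper10

variable {S : Type*} [Group S]

theorem sq_eq_one_of_orderOf_two {a : S} (ha : orderOf a = 2) : a * a = 1 := by
  rw [← pow_two, ← ha, pow_orderOf_eq_one]

theorem orderOf_conj_eq (g a : S) : orderOf (g * a * g⁻¹) = orderOf a := by
  have : g * a * g⁻¹ = MulAut.conj g a := by simp [MulAut.conj_apply]
  rw [this, MulEquiv.orderOf_eq]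

/-- two involutions are conjugate by a power of their product, or commute with a common involution
which is a power of their product -/
theorem invol_conj_or_central [Finite S] {a b : S} (ha : a * a = 1) (hb : b * b = 1) :
    (∃ x ∈ Subgroup.zpowers (a * b), x * a * x⁻¹ = b) ∨
    (∃ z ∈ Subgroup.zpowers (a * b), orderOf z = 2 ∧ z * a = a * z ∧ z * b = b * z) := by
  set r := a * b with hr
  have hpos : 0 < orderOf r := orderOf_pos r
  have hainv : a⁻¹ = a := inv_eq_self_of_sq ha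
  have hbinv : b⁻¹ = b := inv_eq_self_of_sq hb
  rcases Nat.even_or_odd (orderOf r) with ⟨s, hs⟩ | ⟨s, hs⟩
  · right
    have hs1 : 0 < s := by omega
    refine ⟨r ^ s, Subgroup.pow_mem _ (Subgroup.mem_zpowers r) s, ?_, ?_, ?_⟩
    · apply orderOf_eq_prime
      · rw [← pow_mul, show s * 2 = orderOf r by omega, pow_orderOf_eq_one]
      · intro h
        have := orderOf_dvd_of_pow_eq_one h
        have := Nat.le_of_dvd hs1 this
        omega
    · have h1 := conj_pow_of_invol ha hb s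
      rw [← hr] at h1
      have h2 : (r⁻¹) ^ s = r ^ s := by
        rw [inv_pow, inv_eq_iff_mul_eq_one, ← pow_add, show s + s = orderOf r by omega,
          pow_orderOf_eq_one]
      rw [h2] at h1
      calc r ^ s * a = (a * r ^ s * a) * a := by rw [h1]
        _ = a * r ^ s * (a * a) := by group
        _ = a * r ^ s := by rw [ha, mul_one]
    · have h1 := conj_pow_of_invol' ha hb s
      rw [← hr] at h1
      have h2 : (r⁻¹) ^ s = r ^ s := by
        rw [inv_pow, inv_eq_iff_mul_eq_one, ← pow_add, show s + s = orderOf r by omega,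
          pow_orderOf_eq_one]
      rw [h2] at h1
      calc r ^ s * b = (b * r ^ s * b) * b := by rw [h1]
        _ = b * r ^ s * (b * b) := by group
        _ = b * r ^ s := by rw [hb, mul_one]
  · left
    refine ⟨r ^ s, Subgroup.pow_mem _ (Subgroup.mem_zpowers r) s, ?_⟩
    have h1 := conj_pow_of_invol ha hb s
    rw [← hr] at h1
    -- `a r^s a = r^{-s}`, so `r^s a r^{-s} = r^{2s} a = r⁻¹ a = b`
    have h2 : r ^ s * a * (r ^ s)⁻¹ = r ^ s * r ^ s * a := by
      have : a * (r ^ s)⁻¹ = r ^ s * a := by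
        have h3 : (r ^ s)⁻¹ = a * r ^ s * a := by rw [h1, inv_pow]
        rw [h3]
        calc a * (a * r ^ s * a) = (a * a) * r ^ s * a := by group
          _ = r ^ s * a := by rw [ha, one_mul]
      rw [mul_assoc, this, mul_assoc]
    have h4 : r ^ s * r ^ s = r⁻¹ := by
      rw [← pow_add, eq_inv_iff_mul_eq_one, ← pow_succ, show s + s + 1 = orderOf r by omega,
        pow_orderOf_eq_one]
    rw [h2, h4, hr, mul_inv_rev, hainv, hbinv, mul_assoc, ha, mul_one]

section cent

variable [Finite S] {M : Subgroup S}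
  (hC : ∀ i ∈ M, orderOf i = 2 → Subgroup.centralizer ({i} : Set S) ≤ M)

include hC in
/-- an involution of `M` is conjugate to every involution outside `M` -/
theorem exists_conj_of_notMem {i j : S} (hi : orderOf i = 2) (hiM : i ∈ M) (hj : orderOf j = 2)
    (hjM : j ∉ M) : ∃ x : S, x * i * x⁻¹ = j := by
  rcases invol_conj_or_central (sq_eq_one_of_orderOf_two hi) (sq_eq_one_of_orderOf_two hj) with
    ⟨x, -, hx⟩ | ⟨z, -, hz2, hzi, hzj⟩
  · exact ⟨x, hx⟩
  · exfalso
    have hzM : z ∈ M := hC i hiM hi (Subgroup.mem_centralizer_singleton_iff.mpr hzi)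
    exact hjM (hC z hzM hz2 (Subgroup.mem_centralizer_singleton_iff.mpr hzj.symm))

include hC in
/-- all involutions are conjugate when the core of `M` has odd order -/
theorem isConj_of_invol (hM : Even (Nat.card M)) (hcore : Odd (Nat.card M.normalCore)) {x y : S}
    (hx : orderOf x = 2) (hy : orderOf y = 2) : IsConj x y := by
  haveI : Fact (Nat.Prime 2) := ⟨Nat.prime_two⟩
  obtain ⟨i₀, hi₀⟩ := exists_prime_orderOf_dvd_card' (G := M) 2 (even_iff_two_dvd.mp hM)
  have hi₀' : orderOf (i₀ : S) = 2 := by rw [Subgroup.orderOf_coe]; exact hi₀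
  have key : ∀ j : S, orderOf j = 2 → IsConj (i₀ : S) j := by
    intro j hj
    by_contra hnc
    have hall : ∀ g : S, g * j * g⁻¹ ∈ M := by
      intro g
      by_contra hg
      obtain ⟨c, hc⟩ := exists_conj_of_notMem hC hi₀' i₀.2 ((orderOf_conj_eq g j).trans hj) hg
      apply hnc
      rw [isConj_iff]
      refine ⟨g⁻¹ * c, ?_⟩
      calc g⁻¹ * c * ↑i₀ * (g⁻¹ * c)⁻¹ = g⁻¹ * (c * ↑i₀ * c⁻¹) * g := by group
        _ = g⁻¹ * (g * j * g⁻¹) * g := by rw [hc]
        _ = j := by group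
    have hjcore : j ∈ M.normalCore := hall
    have h2 : orderOf (⟨j, hjcore⟩ : M.normalCore) = 2 := by
      rw [← Subgroup.orderOf_coe]; exact hj
    have h3 : 2 ∣ Nat.card M.normalCore := h2 ▸ orderOf_dvd_natCard _
    exact (Nat.not_even_iff_odd.mpr hcore) (even_iff_two_dvd.mpr h3)
  exact (key x hx).symm.trans (key y hy)

end cent

/-- the data of Gorenstein's theorem 9.2.1 (ii) -/
structure SEData (M X : Subgroup S) (I : S) : Prop where
  cent : ∀ i ∈ M, orderOf i = 2 → Subgroup.centralizer ({i} : Set S) ≤ M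
  XM : X ≤ M
  Xp : IsPGroup 2 X
  Xidx : ¬ 2 ∣ X.relIndex M
  norm : Subgroup.normalizer (X : Set S) ≤ M
  IX : I ∈ X
  Icomm : ∀ x ∈ X, x * I = I * x
  I2 : orderOf I = 2

section se

variable [Finite S] {M X : Subgroup S} {I : S}

/-- `M` is strongly embedded: an element conjugating an involution of `M` into `M` lies in `M` -/
theorem SEData.mem_of_conj (h : SEData M X I) {t g : S} (ht : orderOf t = 2) (htM : t ∈ M)
    (htg : g⁻¹ * t * g ∈ M) : g ∈ M := by
  haveI : Fact (Nat.Prime 2) := ⟨Nat.prime_two⟩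
  -- conjugate `t` into `X`
  have hZp : IsPGroup 2 (Subgroup.zpowers t) := by
    apply IsPGroup.of_card (n := 1)
    rw [Nat.card_zpowers, ht, pow_one]
  have hZM : Subgroup.zpowers t ≤ M := by rw [Subgroup.zpowers_le]; exact htM
  obtain ⟨m, hmM, hm⟩ := conj_into_relSylow M X (Subgroup.zpowers t) h.XM h.Xp h.Xidx hZM hZp
  have ht₀ : m⁻¹ * t * m ∈ X := by
    apply hm
    rw [mem_rcg]
    have e : m * (m⁻¹ * t * m) * m⁻¹ = t := by group
    rw [e]; exact Subgroup.mem_zpowers t
  -- the central involution `z = m I m⁻¹`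
  set z := m * I * m⁻¹ with hz
  have hzM : z ∈ M := M.mul_mem (M.mul_mem hmM (h.XM h.IX)) (M.inv_mem hmM)
  have hz2 : orderOf z = 2 := (orderOf_conj_eq m I).trans h.I2
  have hzX : ∀ x ∈ X, (m * x * m⁻¹) * z = z * (m * x * m⁻¹) := by
    intro x hx
    have := h.Icomm x hx
    calc (m * x * m⁻¹) * z = m * (x * I) * m⁻¹ := by rw [hz]; group
      _ = m * (I * x) * m⁻¹ := by rw [this]
      _ = z * (m * x * m⁻¹) := by rw [hz]; group
  have hzt : t * z = z * t := by
    have := hzX _ ht₀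
    have e : m * (m⁻¹ * t * m) * m⁻¹ = t := by group
    rwa [e] at this
  -- `g⁻¹ z g ∈ M`
  set t₁ := g⁻¹ * t * g with ht₁
  have ht₁2 : orderOf t₁ = 2 := by
    have := orderOf_conj_eq g⁻¹ t
    rw [inv_inv] at this
    exact this.trans ht
  set z₁ := g⁻¹ * z * g with hz₁
  have hz₁2 : orderOf z₁ = 2 := by
    have := orderOf_conj_eq g⁻¹ z
    rw [inv_inv] at this
    exact this.trans hz2
  have hz₁M : z₁ ∈ M := by
    apply h.cent t₁ htg ht₁2
    rw [Subgroup.mem_centralizer_singleton_iff]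
    calc z₁ * t₁ = g⁻¹ * (z * t) * g := by rw [hz₁, ht₁]; group
      _ = g⁻¹ * (t * z) * g := by rw [hzt]
      _ = t₁ * z₁ := by rw [hz₁, ht₁]; group
  -- `g⁻¹ m X m⁻¹ g ≤ M`
  set R₂ := rcg g (rcg m⁻¹ X) with hR₂
  have hR₂M : R₂ ≤ M := by
    intro y hy
    rw [hR₂, mem_rcg, mem_rcg] at hy
    -- `y = g⁻¹ (m x m⁻¹) g` with `x ∈ X`
    set x := m⁻¹ * (g * y * g⁻¹) * m⁻¹⁻¹ with hx
    have hy' : y = g⁻¹ * (m * x * m⁻¹) * g := by rw [hx]; group
    apply h.cent z₁ hz₁M hz₁2
    rw [Subgroup.mem_centralizer_singleton_iff, hy']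
    have := hzX x hy
    calc g⁻¹ * (m * x * m⁻¹) * g * z₁ = g⁻¹ * ((m * x * m⁻¹) * z) * g := by rw [hz₁]; group
      _ = g⁻¹ * (z * (m * x * m⁻¹)) * g := by rw [this]
      _ = z₁ * (g⁻¹ * (m * x * m⁻¹) * g) := by rw [hz₁]; group
  have hR₂p : IsPGroup 2 R₂ := isPGroup_rcg g (isPGroup_rcg m⁻¹ h.Xp)
  obtain ⟨m₂, hm₂M, hm₂⟩ := conj_into_relSylow M X R₂ h.XM h.Xp h.Xidx hR₂M hR₂p
  rw [hR₂, ← rcg_mul, ← rcg_mul] at hm₂
  have h3 := rcg_eq_of_le_of_finite hm₂
  rw [← mul_assoc] at h3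
  have h4 : m⁻¹ * g * m₂ ∈ M := h.norm (mem_normalizer_iff_rcg.mpr h3)
  have : g = m * (m⁻¹ * g * m₂) * m₂⁻¹ := by group
  rw [this]
  exact M.mul_mem (M.mul_mem hmM h4) (M.inv_mem hm₂M)

end se

section count

variable [Finite S] {M X : Subgroup S} {I : S}

/-- a stronger form of `exists_conj_of_notMem`, remembering where the conjugating element lives -/
theorem SEData.exists_conj_zpowers (h : SEData M X I) {y : S} (hy : orderOf y = 2) (hyM : y ∉ M) :
    ∃ x ∈ Subgroup.zpowers (I * y), x * I * x⁻¹ = y := by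
  rcases invol_conj_or_central (sq_eq_one_of_orderOf_two h.I2) (sq_eq_one_of_orderOf_two hy) with
    ⟨x, hx, hxy⟩ | ⟨z, -, hz2, hzi, hzj⟩
  · exact ⟨x, hx, hxy⟩
  · exfalso
    have hzM : z ∈ M := h.cent I (h.XM h.IX) h.I2 (Subgroup.mem_centralizer_singleton_iff.mpr hzi)
    exact hyM (h.cent z hzM hz2 (Subgroup.mem_centralizer_singleton_iff.mpr hzj.symm))

/-- the key injectivity statement: two elements of `M ∩ uMu⁻¹` inverted by the involution `u ∉ M`
which conjugate `I` to the same involution coincide -/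
theorem SEData.inverted_injective (h : SEData M X I) {u : S} (hu : orderOf u = 2) (huM : u ∉ M)
    {a e : S} (haM : a ∈ M) (heM : e ∈ M) (hau : u * a * u⁻¹ = a⁻¹) (heu : u * e * u⁻¹ = e⁻¹)
    (hae : a * I * a⁻¹ = e * I * e⁻¹) : a = e := by
  have huu : u * u = 1 := sq_eq_one_of_orderOf_two hu
  have huinv : u⁻¹ = u := inv_eq_self_of_sq huu
  set c := a⁻¹ * e with hc
  have hcI : c * I * c⁻¹ = I := by
    calc c * I * c⁻¹ = a⁻¹ * (e * I * e⁻¹) * a := by rw [hc]; group
      _ = a⁻¹ * (a * I * a⁻¹) * a := by rw [hae]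
      _ = I := by group
  set y := u * a with hy
  have hyy : y * y = 1 := by
    calc y * y = (u * a * u⁻¹) * (u * u) * a := by rw [hy]; group
      _ = 1 := by rw [hau, huu]; group
  have hyM : y ∉ M := by
    intro hyM
    apply huM
    have : u = y * a⁻¹ := by rw [hy]; group
    rw [this]; exact M.mul_mem hyM (M.inv_mem haM)
  have hy1 : y ≠ 1 := fun h1 => hyM (h1 ▸ M.one_mem)
  have hy2 : orderOf y = 2 := orderOf_eq_prime (by rw [pow_two]; exact hyy) hy1
  have hyc : y * c * y⁻¹ = c⁻¹ := by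
    calc y * c * y⁻¹ = (u * e * u⁻¹) * (u * a * u⁻¹)⁻¹ := by rw [hy, hc]; group
      _ = e⁻¹ * a := by rw [hau, heu, inv_inv]
      _ = c⁻¹ := by rw [hc]; group
  -- `I` and `y` normalize `⟨c⟩`
  set Nc := Subgroup.normalizer ((Subgroup.zpowers c : Subgroup S) : Set S) with hNc
  have hIN : I ∈ Nc := by
    apply mem_normalizer_of_conj_mem_finite
    intro b hb
    obtain ⟨k, rfl⟩ := Subgroup.mem_zpowers_iff.mp hb
    have : I * c ^ k * I⁻¹ = (I * c * I⁻¹) ^ k := by rw [conj_zpow]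
    rw [this]
    have hIc : I * c * I⁻¹ = c := by
      calc I * c * I⁻¹ = (c * I * c⁻¹) * c * I⁻¹ := by rw [hcI]
        _ = c := by group
    rw [hIc]; exact Subgroup.zpow_mem_zpowers c k
  have hyN : y ∈ Nc := by
    apply mem_normalizer_of_conj_mem_finite
    intro b hb
    obtain ⟨k, rfl⟩ := Subgroup.mem_zpowers_iff.mp hb
    have : y * c ^ k * y⁻¹ = (y * c * y⁻¹) ^ k := by rw [conj_zpow]
    rw [this, hyc]
    exact Subgroup.zpow_mem _ (Subgroup.inv_mem _ (Subgroup.mem_zpowers c)) k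
  obtain ⟨x, hx, hxy⟩ := h.exists_conj_zpowers hy2 hyM
  have hxN : x ∈ Nc := by
    have : Subgroup.zpowers (I * y) ≤ Nc := by
      rw [Subgroup.zpowers_le]; exact Nc.mul_mem hIN hyN
    exact this hx
  -- `c' = x⁻¹ c x ∈ ⟨c⟩` commutes with `I`
  have hc' : x⁻¹ * c * x⁻¹⁻¹ ∈ Subgroup.zpowers c :=
    (Subgroup.mem_normalizer_iff.mp (Subgroup.inv_mem _ hxN) c).mp (Subgroup.mem_zpowers c)
  obtain ⟨k, hk⟩ := Subgroup.mem_zpowers_iff.mp hc'
  have hIck : I * c ^ k * I⁻¹ = c ^ k := by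
    have : I * c ^ k * I⁻¹ = (I * c * I⁻¹) ^ k := by rw [conj_zpow]
    rw [this]
    have hIc : I * c * I⁻¹ = c := by
      calc I * c * I⁻¹ = (c * I * c⁻¹) * c * I⁻¹ := by rw [hcI]
        _ = c := by group
    rw [hIc]
  have hyc2 : y * c * y⁻¹ = c := by
    rw [← hxy]
    calc x * I * x⁻¹ * c * (x * I * x⁻¹)⁻¹ = x * (I * (x⁻¹ * c * x⁻¹⁻¹) * I⁻¹) * x⁻¹ := by group
      _ = x * (x⁻¹ * c * x⁻¹⁻¹) * x⁻¹ := by rw [← hk, hIck]
      _ = c := by group
  -- so `c² = 1`; but `c` lies in a subgroup of odd order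
  have hcc : c * c = 1 := by
    have : c = c⁻¹ := hyc2.symm.trans hyc
    calc c * c = c * c⁻¹ := by rw [← this]
      _ = 1 := mul_inv_cancel c
  have hcM : c ∈ M := M.mul_mem (M.inv_mem haM) heM
  have hc1 : c = 1 := by
    by_contra hne
    have hc2 : orderOf c = 2 := orderOf_eq_prime (by rw [pow_two]; exact hcc) hne
    -- `u c u⁻¹ ∈ M`, so `u ∈ M`
    have huc : u * c * u⁻¹ ∈ M := by
      have : u * c * u⁻¹ = (u * a * u⁻¹)⁻¹ * (u * e * u⁻¹) := by rw [hc]; group
      rw [this, hau, heu, inv_inv]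
      exact M.mul_mem haM (M.inv_mem heM)
    have := h.mem_of_conj (g := u⁻¹) hc2 hcM (by rw [inv_inv]; exact huc)
    exact huM (by simpa using M.inv_mem this)
  calc a = a * c := by rw [hc1, mul_one]
    _ = e := by rw [hc]; group

open Classical in
/-- Gorenstein 9.2.1 (iv): a subgroup of odd order of `M` transitive on the involutions of `M` -/
theorem SEData.exists_transitive (h : SEData M X I) (hcore : Odd (Nat.card M.normalCore)) :
    ∃ D : Subgroup S, D ≤ M ∧ Odd (Nat.card D) ∧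
      ∀ j ∈ M, orderOf j = 2 → ∃ a ∈ D, a * I * a⁻¹ = j := by
  haveI : Fact (Nat.Prime 2) := ⟨Nat.prime_two⟩
  letI := Fintype.ofFinite S
  letI := Fintype.ofFinite (S ⧸ M)
  have hIM : I ∈ M := h.XM h.IX
  set Inv : Finset S := Finset.univ.filter (fun y : S => orderOf y = 2) with hInv
  set J : Finset S := Inv.filter (fun y => y ∈ M) with hJ
  set Out : Finset S := Inv.filter (fun y => y ∉ M) with hOut
  have hIJ : I ∈ J := by
    simp only [hJ, hInv, Finset.mem_filter, Finset.mem_univ, true_and]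
    exact ⟨h.I2, hIM⟩
  have hJpos : 0 < J.card := Finset.card_pos.mpr ⟨I, hIJ⟩
  have hmemJ : ∀ y, y ∈ J ↔ (orderOf y = 2 ∧ y ∈ M) := by
    intro y; simp [hJ, hInv]
  have hmemOut : ∀ y, y ∈ Out ↔ (orderOf y = 2 ∧ y ∉ M) := by
    intro y; simp [hOut, hInv]
  -- counting: `n * |J| ≤ |Inv|`
  have hcount : Fintype.card (S ⧸ M) * J.card ≤ Inv.card := by
    have : ((Finset.univ : Finset (S ⧸ M)) ×ˢ J).card ≤ Inv.card := by
      apply Finset.card_le_card_of_injOn (fun qj => Quotient.out qj.1 * qj.2 * (Quotient.out qj.1)⁻¹)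
      · rintro ⟨q, j⟩ hqj
        have hj : j ∈ J := (Finset.mem_product.mp hqj).2
        have : Quotient.out q * j * (Quotient.out q)⁻¹ ∈ Inv := by
          rw [hInv, Finset.mem_filter]
          exact ⟨Finset.mem_univ _, (orderOf_conj_eq _ j).trans ((hmemJ j).mp hj).1⟩
        exact this
      · rintro ⟨q, j⟩ hqj ⟨q', j'⟩ hqj' heq
        have hj : j ∈ J := (Finset.mem_product.mp hqj).2
        have hj' : j' ∈ J := (Finset.mem_product.mp hqj').2
        simp only at heq
        set g := Quotient.out q with hg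
        set g' := Quotient.out q' with hg'
        have h1 : (g⁻¹ * g')⁻¹ * j * (g⁻¹ * g') = j' := by
          calc (g⁻¹ * g')⁻¹ * j * (g⁻¹ * g') = g'⁻¹ * (g * j * g⁻¹) * g' := by group
            _ = g'⁻¹ * (g' * j' * g'⁻¹) * g' := by rw [heq]
            _ = j' := by group
        have h2 : g⁻¹ * g' ∈ M :=
          h.mem_of_conj ((hmemJ j).mp hj).1 ((hmemJ j).mp hj).2 (h1 ▸ ((hmemJ j').mp hj').2)
        have hqq' : q = q' := by
          rw [← QuotientGroup.out_eq' q, ← QuotientGroup.out_eq' q']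
          exact QuotientGroup.eq.mpr h2
        subst hqq'
        have : j = j' := by
          have h3 : g * j * g⁻¹ = g * j' * g⁻¹ := heq
          have h4 : g⁻¹ * (g * j * g⁻¹) * g = g⁻¹ * (g * j' * g⁻¹) * g := by rw [h3]
          have e1 : g⁻¹ * (g * j * g⁻¹) * g = j := by group
          have e2 : g⁻¹ * (g * j' * g⁻¹) * g = j' := by group
          rw [e1, e2] at h4
          exact h4
        rw [this]
    rwa [Finset.card_product, Finset.card_univ] at this
  have hsplit : J.card + Out.card = Inv.card := by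
    rw [hJ, hOut]
    exact Finset.card_filter_add_card_filter_not (fun y => y ∈ M)
  -- an involution outside `M`
  have hOutne : Out.Nonempty := by
    by_contra hempty
    rw [Finset.not_nonempty_iff_eq_empty] at hempty
    have hall : ∀ g : S, g * I * g⁻¹ ∈ M := by
      intro g
      by_contra hg
      have : g * I * g⁻¹ ∈ Out := (hmemOut _).mpr ⟨(orderOf_conj_eq g I).trans h.I2, hg⟩
      rw [hempty] at this
      exact absurd this (Finset.notMem_empty _)
    have hIcore : I ∈ M.normalCore := hall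
    have h2 : orderOf (⟨I, hIcore⟩ : M.normalCore) = 2 := by
      rw [← Subgroup.orderOf_coe]; exact h.I2
    have h3 : 2 ∣ Nat.card M.normalCore := h2 ▸ orderOf_dvd_natCard _
    exact (Nat.not_even_iff_odd.mpr hcore) (even_iff_two_dvd.mpr h3)
  -- pigeonhole
  set t : Finset (S ⧸ M) := Finset.univ.erase (QuotientGroup.mk 1) with ht
  have hmaps : ∀ y ∈ Out, (QuotientGroup.mk y : S ⧸ M) ∈ t := by
    intro y hy
    rw [ht, Finset.mem_erase]
    refine ⟨?_, Finset.mem_univ _⟩
    intro heq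
    have := QuotientGroup.eq.mp heq
    apply ((hmemOut y).mp hy).2
    have h1 : y⁻¹ ∈ M := by simpa using this
    simpa using M.inv_mem h1
  have htne : t.Nonempty := by
    obtain ⟨y, hy⟩ := hOutne
    exact ⟨_, hmaps y hy⟩
  have htcard : t.card = Fintype.card (S ⧸ M) - 1 := by
    rw [ht, Finset.card_erase_of_mem (Finset.mem_univ _), Finset.card_univ]
  have hle : t.card * J.card ≤ Out.card := by
    rw [htcard, Nat.sub_mul, one_mul]
    omega
  obtain ⟨q, -, hq⟩ := Finset.exists_le_card_fiber_of_mul_le_card_of_maps_to hmaps htne hle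
  set fib := Out.filter (fun y => (QuotientGroup.mk y : S ⧸ M) = q) with hfib
  have hfibne : fib.Nonempty := Finset.card_pos.mp (lt_of_lt_of_le hJpos hq)
  obtain ⟨u, hufib⟩ := hfibne
  have huOut : u ∈ Out := (Finset.mem_filter.mp hufib).1
  have huq : (QuotientGroup.mk u : S ⧸ M) = q := (Finset.mem_filter.mp hufib).2
  have hu2 : orderOf u = 2 := ((hmemOut u).mp huOut).1
  have huM : u ∉ M := ((hmemOut u).mp huOut).2
  have huu : u * u = 1 := sq_eq_one_of_orderOf_two hu2
  have huinv : u⁻¹ = u := inv_eq_self_of_sq huu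
  -- the subgroup `D`
  set D := M ⊓ rcg u M with hD
  have hDodd : Odd (Nat.card D) := by
    by_contra hnodd
    rw [Nat.not_odd_iff_even] at hnodd
    obtain ⟨t₀, ht₀⟩ := exists_prime_orderOf_dvd_card' (G := D) 2 (even_iff_two_dvd.mp hnodd)
    have ht₀' : orderOf (t₀ : S) = 2 := by rw [Subgroup.orderOf_coe]; exact ht₀
    have ht₀M : (t₀ : S) ∈ M := t₀.2.1
    have ht₀u : u * (t₀ : S) * u⁻¹ ∈ M := mem_rcg.mp t₀.2.2
    have := h.mem_of_conj (g := u⁻¹) ht₀' ht₀M (by rw [inv_inv]; exact ht₀u)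
    exact huM (by simpa using M.inv_mem this)
  -- the inverted elements
  set K : Finset S := Finset.univ.filter (fun a => a ∈ D ∧ u * a * u⁻¹ = a⁻¹) with hK
  have hfibK : fib.card ≤ K.card := by
    apply Finset.card_le_card_of_injOn (fun y => u⁻¹ * y)
    · intro y hy
      have hy' : y ∈ fib := hy
      have hyOut : y ∈ Out := (Finset.mem_filter.mp hy').1
      have hyq : (QuotientGroup.mk y : S ⧸ M) = q := (Finset.mem_filter.mp hy').2
      have hy2 : orderOf y = 2 := ((hmemOut y).mp hyOut).1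
      have hyy : y * y = 1 := sq_eq_one_of_orderOf_two hy2
      have hyinv : y⁻¹ = y := inv_eq_self_of_sq hyy
      have haM : u⁻¹ * y ∈ M := QuotientGroup.eq.mp (huq.trans hyq.symm)
      have hinv : u * (u⁻¹ * y) * u⁻¹ = (u⁻¹ * y)⁻¹ := by
        rw [mul_inv_rev, inv_inv, hyinv, huinv]
        calc u * (u * y) * u = (u * u) * y * u := by group
          _ = y * u := by rw [huu, one_mul]
      have hmemD : u⁻¹ * y ∈ D := by
        refine Subgroup.mem_inf.mpr ⟨haM, ?_⟩
        rw [mem_rcg, hinv]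
        exact M.inv_mem haM
      have : u⁻¹ * y ∈ K := by
        rw [hK, Finset.mem_filter]
        exact ⟨Finset.mem_univ _, hmemD, hinv⟩
      exact this
    · intro y _ y' _ heq
      simpa using heq
  have hJK : J.card ≤ K.card := hq.trans hfibK
  -- the map `a ↦ a I a⁻¹` from `K` to `J`
  have himg : (K.image (fun a => a * I * a⁻¹)) = J := by
    apply Finset.eq_of_subset_of_card_le
    · intro j hj
      obtain ⟨a, ha, rfl⟩ := Finset.mem_image.mp hj
      have ha' : a ∈ D ∧ u * a * u⁻¹ = a⁻¹ := by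
        simpa [hK] using ha
      rw [hmemJ]
      exact ⟨(orderOf_conj_eq a I).trans h.I2,
        M.mul_mem (M.mul_mem ha'.1.1 hIM) (M.inv_mem ha'.1.1)⟩
    · rw [Finset.card_image_of_injOn]
      · exact hJK
      · intro a ha e he hae
        have ha' : a ∈ D ∧ u * a * u⁻¹ = a⁻¹ := by
          simpa [hK] using ha
        have he' : e ∈ D ∧ u * e * u⁻¹ = e⁻¹ := by
          simpa [hK] using he
        exact h.inverted_injective hu2 huM ha'.1.1 he'.1.1 ha'.2 he'.2 hae
  refine ⟨D, inf_le_left, hDodd, fun j hjM hj2 => ?_⟩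
  have hjJ : j ∈ J := (hmemJ j).mpr ⟨hj2, hjM⟩
  rw [← himg] at hjJ
  obtain ⟨a, ha, rfl⟩ := Finset.mem_image.mp hjJ
  have ha' : a ∈ D ∧ u * a * u⁻¹ = a⁻¹ := by
    simpa [hK] using ha
  exact ⟨a, ha'.1, rfl⟩

end count

end Cfsg.Agent.Helper10
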