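import Mathlib
import Cfsg.Agent.Lib.Helper13.SylODefs
import Cfsg.Agent.Lib.Helper28.PADefs

/-! # S4613 piece SYLO-T (helper10): `SylOpp p G` and `G` simple imply `NoPAut p G` -/

set_option autoImplicit false

namespace Cfsg.Agent.Helper13.SylO

section grp

variable {G : Type*} [Group G] {p : ℕ} [Fact p.Prime]

/-- the fixed-point subgroup of an automorphism -/
def sylotFix (α : MulAut G) : Subgroup G where
  carrier := {x | α x = x}
  mul_mem' := by
    intro a b ha hb
    simp only [Set.mem_setOf_eq] at *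
    rw [map_mul, ha, hb]
  one_mem' := map_one α
  inv_mem' := by
    intro a ha
    simp only [Set.mem_setOf_eq] at *
    rw [map_inv, ha]

theorem sylot_mem_fix (α : MulAut G) (x : G) : x ∈ sylotFix α ↔ α x = x := Iff.rfl

theorem sylot_mem_smul (α : MulAut G) (E : Sylow p G) (x : G) :
    x ∈ ((α • E : Sylow p G) : Subgroup G) ↔ α⁻¹ x ∈ (E : Subgroup G) := by
  rw [Sylow.pointwise_smul_def, Subgroup.mem_pointwise_smul_iff_inv_smul_mem, MulAut.smul_def]

theorem sylot_inv_fix (α : MulAut G) (x : G) (hx : α x = x) : α⁻¹ x = x := by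
  have : α⁻¹ (α x) = x := by
    simp
  rw [hx] at this
  exact this

theorem sylot_apply_mem_smul (α : MulAut G) (E : Sylow p G) (x : G) (hx : x ∈ (E : Subgroup G)) :
    α x ∈ ((α • E : Sylow p G) : Subgroup G) := by
  rw [sylot_mem_smul]
  simpa using hx

/-- an element of a `p`-group whose `k`-th power is trivial, `p ∤ k`, is trivial -/
theorem sylot_eq_one_of_pow (V : Sylow p G) (u : G) (hu : u ∈ (V : Subgroup G)) (k : ℕ)
    (hk : ¬ p ∣ k) (huk : u ^ k = 1) : u = 1 := by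
  obtain ⟨j, hj⟩ := (IsPGroup.iff_orderOf.1 V.2) ⟨u, hu⟩
  have hj' : orderOf u = p ^ j := by
    rw [← hj]; exact (Subgroup.orderOf_mk u hu).symm
  have h1 : orderOf u ∣ k := orderOf_dvd_of_pow_eq_one huk
  have hcop : Nat.Coprime (p ^ j) k :=
    Nat.Coprime.pow_left j ((Nat.Prime.coprime_iff_not_dvd (Fact.out)).2 hk)
  have h2 : orderOf u ∣ p ^ j := by rw [hj']
  have : orderOf u = 1 := Nat.eq_one_of_dvd_coprimes hcop h2 h1
  exact orderOf_eq_one_iff.1 this

variable [Finite G]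

/-- STEP (1): if `α` (of order prime to `p`) fixes `V` pointwise and `E` is opposite to `V`, then
`α • E = E`. -/
theorem sylot_smul_eq (h : SylOpp p G) (α : MulAut G) (hα : ¬ p ∣ orderOf α) (V E : Sylow p G)
    (hV : ∀ x ∈ (V : Subgroup G), α x = x) (hVE : (V : Subgroup G) ⊓ (E : Subgroup G) = ⊥) :
    α • E = E := by
  have hopp : (V : Subgroup G) ⊓ ((α • E : Sylow p G) : Subgroup G) = ⊥ := by
    rw [eq_bot_iff]
    rintro x ⟨hxV, hxE⟩
    have hxV' : x ∈ (V : Subgroup G) := hxV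
    have hxE' : x ∈ ((α • E : Sylow p G) : Subgroup G) := hxE
    rw [sylot_mem_smul, sylot_inv_fix α x (hV x hxV')] at hxE'
    rw [← hVE]
    exact ⟨hxV', hxE'⟩
  obtain ⟨u, huV, hu⟩ := h.2.1 V E (α • E) hVE hopp
  have hαu : ∀ k : ℕ, α⁻¹ (u ^ k) = u ^ k := fun k =>
    sylot_inv_fix α _ (hV _ (Subgroup.pow_mem _ huV k))
  have hiter : ∀ k : ℕ, ∀ x : G, x ∈ (((α ^ k) • E : Sylow p G) : Subgroup G) ↔
      (u ^ k)⁻¹ * x * u ^ k ∈ (E : Subgroup G) := by
    intro k
    induction k with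
    | zero => intro x; simp
    | succ k ih =>
      intro x
      rw [pow_succ', mul_smul, sylot_mem_smul, ih]
      have e1 : (u ^ k)⁻¹ * α⁻¹ x * u ^ k = α⁻¹ ((u ^ k)⁻¹ * x * u ^ k) := by
        rw [map_mul, map_mul, map_inv, hαu k]
      rw [e1, ← sylot_mem_smul, hu]
      have e2 : u⁻¹ * ((u ^ k)⁻¹ * x * u ^ k) * u = (u ^ (k + 1))⁻¹ * x * u ^ (k + 1) := by
        rw [pow_succ]; group
      rw [e2]
  have hk := hiter (orderOf α)
  rw [pow_orderOf_eq_one, one_smul] at hk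
  have hnorm : u ^ orderOf α ∈ Subgroup.normalizer ((E : Subgroup G) : Set G) := by
    have : (u ^ orderOf α)⁻¹ ∈ Subgroup.normalizer ((E : Subgroup G) : Set G) := by
      rw [Subgroup.mem_normalizer_iff]
      intro x
      rw [hk x, inv_inv]
    simpa using Subgroup.inv_mem _ this
  have hmem : u ^ orderOf α ∈ (V : Subgroup G) ⊓ (E : Subgroup G) := by
    rw [← IsPGroup.inf_normalizer_sylow V.2 E]
    exact ⟨Subgroup.pow_mem _ huV _, hnorm⟩
  rw [hVE, Subgroup.mem_bot] at hmem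
  have hu1 : u = 1 := sylot_eq_one_of_pow V u huV _ hα hmem
  apply Sylow.ext
  ext x
  rw [hu x, hu1]
  simp

/-- STEP: if `α` fixes `V` pointwise and `E` is opposite to `V`, then `α` fixes `E` pointwise. -/
theorem sylot_step (h : SylOpp p G) (α : MulAut G) (hα : ¬ p ∣ orderOf α) (V E : Sylow p G)
    (hV : ∀ x ∈ (V : Subgroup G), α x = x) (hVE : (V : Subgroup G) ⊓ (E : Subgroup G) = ⊥) :
    ∀ x ∈ (E : Subgroup G), α x = x := by
  obtain ⟨W', hW'V, hW'E⟩ := h.2.2 V E
  have hVW' : (V : Subgroup G) ⊓ (W' : Subgroup G) = ⊥ := by rw [inf_comm]; exact hW'V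
  have hE : α • E = E := sylot_smul_eq h α hα V E hV hVE
  have hW : α • W' = W' := sylot_smul_eq h α hα V W' hV hVW'
  obtain ⟨x, hxW', hx⟩ := h.2.1 W' V E hW'V hW'E
  -- `E = x V x⁻¹`
  have hαx : α x ∈ (W' : Subgroup G) := by
    have := sylot_apply_mem_smul α W' x hxW'
    rwa [hW] at this
  -- `x⁻¹ * α x` normalizes `V`
  have hnorm : x⁻¹ * α x ∈ Subgroup.normalizer ((V : Subgroup G) : Set G) := by
    rw [Subgroup.mem_normalizer_iff]
    intro v
    constructor
    · intro hv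
      -- y := x v x⁻¹ ∈ E, α y ∈ E
      have hy : x * v * x⁻¹ ∈ (E : Subgroup G) := by
        rw [hx]; simpa [mul_assoc] using hv
      have hαy : α (x * v * x⁻¹) ∈ (E : Subgroup G) := by
        have := sylot_apply_mem_smul α E _ hy
        rwa [hE] at this
      rw [hx] at hαy
      have e : x⁻¹ * α (x * v * x⁻¹) * x = x⁻¹ * α x * v * (x⁻¹ * α x)⁻¹ := by
        rw [map_mul, map_mul, map_inv, hV v hv]; group
      rwa [e] at hαy
    · intro hv
      -- w := (x⁻¹ αx) v (x⁻¹ αx)⁻¹ ∈ V; then αx v (αx)⁻¹ = x w x⁻¹ ∈ E; apply α⁻¹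
      have hy : x * (x⁻¹ * α x * v * (x⁻¹ * α x)⁻¹) * x⁻¹ ∈ (E : Subgroup G) := by
        rw [hx]; simpa [mul_assoc] using hv
      have e : x * (x⁻¹ * α x * v * (x⁻¹ * α x)⁻¹) * x⁻¹ = α x * v * (α x)⁻¹ := by group
      rw [e] at hy
      have hy2 : α⁻¹ (α x * v * (α x)⁻¹) ∈ (E : Subgroup G) := by
        have h1 : α x * v * (α x)⁻¹ ∈ ((α • E : Sylow p G) : Subgroup G) := by rw [hE]; exact hy
        rwa [sylot_mem_smul] at h1
      have e2 : α⁻¹ (α x * v * (α x)⁻¹) = x * α⁻¹ v * x⁻¹ := by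
        rw [map_mul, map_mul, map_inv]; simp
      rw [e2, hx] at hy2
      have hv' : α⁻¹ v ∈ (V : Subgroup G) := by simpa [mul_assoc] using hy2
      have : α (α⁻¹ v) = α⁻¹ v := hV _ hv'
      have e3 : α (α⁻¹ v) = v := by simp
      rw [e3] at this
      rw [this]; exact hv'
  have hmem : x⁻¹ * α x ∈ (W' : Subgroup G) ⊓ (V : Subgroup G) := by
    rw [← IsPGroup.inf_normalizer_sylow W'.2 V]
    exact ⟨Subgroup.mul_mem _ (Subgroup.inv_mem _ hxW') hαx, hnorm⟩
  rw [hW'V, Subgroup.mem_bot] at hmem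
  have hαx' : α x = x := by
    have := congrArg (fun t => x * t) hmem
    simpa using this
  intro y hy
  have hv : x⁻¹ * y * x ∈ (V : Subgroup G) := (hx y).1 hy
  have e : y = x * (x⁻¹ * y * x) * x⁻¹ := by group
  rw [e, map_mul, map_mul, map_inv, hαx', hV _ hv]

/-- PIECE SYLO-T. -/
theorem noPAut_of_sylOpp {G : Type*} [Group G] [Finite G] [IsSimpleGroup G] (p : ℕ)
    [Fact p.Prime] (h : SylOpp p G) : Cfsg.Agent.Helper28.PA.NoPAut p G := by
  intro α hα U₀ hU₀
  have hall : ∀ W : Sylow p G, ∀ x ∈ (W : Subgroup G), α x = x := by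
    intro W
    obtain ⟨E, hEU, hEW⟩ := h.2.2 U₀ W
    have hE := sylot_step h α hα U₀ E hU₀ (by rw [inf_comm]; exact hEU)
    exact sylot_step h α hα E W hE hEW
  obtain ⟨U₁, hU₁⟩ := h.1
  have hle : Subgroup.normalClosure ((U₁ : Subgroup G) : Set G) ≤ sylotFix α := by
    unfold Subgroup.normalClosure
    rw [Subgroup.closure_le]
    intro y hy
    rw [Group.mem_conjugatesOfSet_iff] at hy
    obtain ⟨a, ha, hay⟩ := hy
    rw [isConj_iff] at hay
    obtain ⟨c, rfl⟩ := hay
    have hmem : c * a * c⁻¹ ∈ (((MulAut.conj c) • U₁ : Sylow p G) : Subgroup G) := by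
      have := sylot_apply_mem_smul (MulAut.conj c) U₁ a ha
      simpa using this
    exact hall _ _ hmem
  have htop : Subgroup.normalClosure ((U₁ : Subgroup G) : Set G) = ⊤ := by
    rcases (Subgroup.normalClosure_normal (s := ((U₁ : Subgroup G) : Set G))).eq_bot_or_eq_top with
      hb | ht
    · exfalso
      apply hU₁
      rw [eq_bot_iff, ← hb]
      exact Subgroup.subset_normalClosure
    · exact ht
  ext x
  have hx : x ∈ sylotFix α := hle (by rw [htop]; trivial)
  have hx' : α x = x := (sylot_mem_fix α x).1 hx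
  rw [hx']
  rfl

end grp

end Cfsg.Agent.Helper13.SylO
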