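import Mathlib
import Cfsg.Prelude.Def_CaseTheorems
import Cfsg.Agent.Lib.T57.Red
import Cfsg.Agent.Lib.T57.NotQ
import Cfsg.Agent.Lib.T57.Core
import Cfsg.Agent.Lib.T57.QData
import Cfsg.Agent.Lib.T57.SylA
import Cfsg.Agent.Lib.T57.Coset
import Cfsg.Agent.Lib.T57.Cyc
import Cfsg.Agent.Lib.T57.Omega
import Cfsg.Agent.Lib.T57.Idx
import Cfsg.Agent.Lib.T57.ZEx
import Cfsg.Agent.Lib.T57.Klein
import Cfsg.Agent.Lib.T57.Norm

/-!
# S1957 assembly (helper10): a normal four-group of a Sylow 2-subgroup of a group of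
characteristic 2 type centralizes every odd-order subgroup it normalizes.
-/

set_option autoImplicit false

namespace Cfsg.Agent.Helper10.T57

open Subgroup

variable {G : Type*} [Group G]

/-- Case B: `a` is not central in `P`; then `Q = O_2(C_G(a))` still normalizes `U`. -/
theorem caseB_normalizes [Finite G] (P : Sylow 2 G) (N Q U : Subgroup G) (a z : G)
    (hUP : U ≤ (P : Subgroup G)) (hUn : (P : Subgroup G) ≤ normalizer (U : Set G))
    (hcyc : IsCyclic ↥((P : Subgroup G) ⊓ centralizer ((P : Subgroup G) : Set G)))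
    (hNa : ∀ n, n ∈ N ↔ n * a = a * n)
    (hQn : ∀ n ∈ N, ∀ x ∈ Q, n * x * n⁻¹ ∈ Q) (hQ2 : IsPGroup 2 ↥Q)
    (hQc : ∀ n ∈ N, (∀ x ∈ Q, n * x = x * n) → n ∈ Q)
    (haU : a ∈ U) (hzU : z ∈ U) (hUmem : ∀ u ∈ U, u = 1 ∨ u = a ∨ u = z ∨ u = a * z)
    (ha2 : a * a = 1) (hz2 : z * z = 1) (haz : a * z = z * a) (ha1 : a ≠ 1) (hz1 : z ≠ 1)
    (haz' : a ≠ z)
    (hzP : ∀ g ∈ (P : Subgroup G), g * z = z * g) (haP : ¬ ∀ g ∈ (P : Subgroup G), g * a = a * g)
    (hzQ : z ∉ Q) : Q ≤ normalizer (U : Set G) := by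
  obtain ⟨g0, hg0, hg0a, hcos⟩ := exists_g0 (P : Subgroup G) U a z hUn haU hUmem ha1 haz' hzP haP
  have hcyc' := fun x hx hxc hx2 =>
    central_invol_unique (P : Subgroup G) hcyc z (hUP hzU) hzP hz2 hz1 x hx hxc hx2
  set P0 : Subgroup G := (P : Subgroup G) ⊓ N with hP0
  have hP0P : P0 ≤ (P : Subgroup G) := inf_le_left
  have hP0N : P0 ≤ N := inf_le_right
  have hcos' : ∀ g ∈ (P : Subgroup G), g ∈ P0 ∨ g0⁻¹ * g ∈ P0 := by
    intro g hg
    rcases hcos g hg with h | h
    · exact Or.inl (mem_inf.mpr ⟨hg, (hNa g).mpr h⟩)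
    · exact Or.inr (mem_inf.mpr ⟨mul_mem (inv_mem hg0) hg, (hNa _).mpr h⟩)
  have hP0Q : P0 ≤ normalizer (Q : Set G) := by
    intro y hy
    have hyN := hP0N hy
    rw [mem_normalizer_iff]
    intro h
    constructor
    · intro hh; exact hQn y hyN h hh
    · intro hh
      have := hQn y⁻¹ (inv_mem hyN) _ hh
      simpa [mul_assoc] using this
  -- every element of `U` is central in `P0`
  have hUcent : ∀ u ∈ U, ∀ y ∈ P0, u * y = y * u := by
    intro u hu y hy
    have hya : y * a = a * y := (hNa y).mp (hP0N hy)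
    have hyz : y * z = z * y := hzP y (hP0P hy)
    rcases hUmem u hu with rfl | rfl | rfl | rfl
    · simp
    · exact hya.symm
    · exact hyz.symm
    · calc a * z * y = a * (z * y) := by group
        _ = a * (y * z) := by rw [hyz]
        _ = (a * y) * z := by group
        _ = (y * a) * z := by rw [hya]
        _ = y * (a * z) := by group
  have hUP0 : U ≤ P0 := by
    intro u hu
    refine mem_inf.mpr ⟨hUP hu, (hNa u).mpr ?_⟩
    rcases hUmem u hu with rfl | rfl | rfl | rfl
    · simp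
    · rfl
    · exact haz.symm
    · calc a * z * a = a * (z * a) := by group
        _ = a * (a * z) := by rw [haz]
  rcases normalizes_P0 P Q P0 g0 hP0P hcos' hQ2 hP0Q with hQle | hQnorm
  · -- `Q ≤ P0`: then `z` centralizes `Q`, so `z ∈ Q`
    exfalso
    apply hzQ
    apply hQc z ((hNa z).mpr haz.symm)
    intro x hx
    exact (hzP x (hP0P (hQle hx))).symm
  · -- `Q` normalizes `P0`, hence `Ω₁(Z(P0)) = U`
    have key : ∀ x ∈ Q, ∀ u ∈ U, x * u * x⁻¹ ∈ U := by
      intro x hx u hu
      have hxn := hQnorm hx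
      have hxn' : x⁻¹ ∈ normalizer (P0 : Set G) := inv_mem hxn
      have heP0 : x * u * x⁻¹ ∈ P0 := (mem_normalizer_iff.mp hxn u).mp (hUP0 hu)
      have hu2 : u * u = 1 := by
        rcases hUmem u hu with rfl | rfl | rfl | rfl
        · simp
        · exact ha2
        · exact hz2
        · calc a * z * (a * z) = a * (z * a) * z := by group
            _ = a * (a * z) * z := by rw [haz]
            _ = (a * a) * (z * z) := by group
            _ = 1 := by rw [ha2, hz2, one_mul]
      refine omega_le (P : Subgroup G) U a z g0 hcyc' hg0 hg0a hcos (hUP haU) (hUP hzU) hzP ha2 hz2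
        haU hzU (x * u * x⁻¹) (hP0P heP0) ((hNa _).mp (hP0N heP0)) ?_ ?_
      · intro y hy hya
        have hyP0 : y ∈ P0 := mem_inf.mpr ⟨hy, (hNa y).mpr hya⟩
        have h1 : x⁻¹ * y * x⁻¹⁻¹ ∈ P0 := (mem_normalizer_iff.mp hxn' y).mp hyP0
        have h2 := hUcent u hu _ h1
        calc x * u * x⁻¹ * y = x * (u * (x⁻¹ * y * x⁻¹⁻¹)) * x⁻¹ := by group
          _ = x * ((x⁻¹ * y * x⁻¹⁻¹) * u) * x⁻¹ := by rw [h2]
          _ = y * (x * u * x⁻¹) := by group
      · calc x * u * x⁻¹ * (x * u * x⁻¹) = x * (u * u) * x⁻¹ := by group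
          _ = 1 := by rw [hu2]; group
    intro x hx
    rw [mem_normalizer_iff]
    intro h
    constructor
    · intro hh; exact key x hx h hh
    · intro hh
      have := key x⁻¹ (inv_mem hx) _ hh
      simpa [mul_assoc] using this

/-- The main contradiction: no nontrivial odd-order `w` is centralized by `a` and inverted by `b`. -/
theorem main_eq_one [Finite G] (h2 : Cfsg.IsCharacteristicTwoType G)
    (P : Sylow 2 G) (U : Subgroup G) (hUP : U ≤ (P : Subgroup G))
    (hUn : (P : Subgroup G) ≤ normalizer (U : Set G)) (hU4 : IsKleinFour ↥U)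
    (hUZ : ¬ IsCyclic ↥((P : Subgroup G) ⊓ centralizer ((P : Subgroup G) : Set G)) →
      U ≤ centralizer ((P : Subgroup G) : Set G))
    (a b w : G) (haU : a ∈ U) (hbU : b ∈ U) (ha1 : a ≠ 1) (hb1 : b ≠ 1) (hab' : a ≠ b)
    (haw : a * w = w * a) (hbw : b * w * b⁻¹ = w⁻¹) (m : ℕ) (hm : Odd m) (hwm : w ^ m = 1) :
    w = 1 := by
  by_contra hw1
  obtain ⟨ha2, hb2, hab, hUmem⟩ := klein_facts U hU4 a b haU hbU ha1 hb1 hab'
  set N : Subgroup G := normalizer ((zpowers a : Subgroup G) : Set G) with hNdef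
  have hNa : ∀ n, n ∈ N ↔ n * a = a * n := fun n => mem_normalizer_zpowers_iff a ha2 ha1 n
  have hne : (zpowers a : Subgroup G) ≠ ⊥ := by
    intro h
    exact ha1 (zpowers_eq_bot.mp h)
  have hchar : Cfsg.IsOfCharacteristicTwo ↥N :=
    h2.2 (zpowers a) (zpowers_invol_isPGroup a ha2) hne
  obtain ⟨Q, hQN, hQn, hQ2, hQc, hQi⟩ := exists_Q N hchar
  have haN : ∀ n ∈ N, n * a = a * n := fun n hn => (hNa n).mp hn
  have haN' : a ∈ N := (hNa a).mpr rfl
  have haQ : a ∈ Q := hQi a haN' ha2 haN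
  have hbN : b ∈ N := (hNa b).mpr hab.symm
  have hwN : w ∈ N := (hNa w).mpr haw.symm
  have habw : (a * b) * w * (a * b)⁻¹ = w⁻¹ := by
    calc (a * b) * w * (a * b)⁻¹ = a * (b * w * b⁻¹) * a⁻¹ := by group
      _ = a * w⁻¹ * a⁻¹ := by rw [hbw]
      _ = (a * w * a⁻¹)⁻¹ := by group
      _ = w⁻¹ := by rw [haw]; group
  have hbQ : b ∉ Q := not_mem_of_inverts N Q b w hQn hQ2 hwN hbw m hm hwm hw1
  have habQ : a * b ∉ Q := not_mem_of_inverts N Q (a * b) w hQn hQ2 hwN habw m hm hwm hw1
  have hQU : Q ≤ normalizer (U : Set G) := by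
    by_cases hcen : ∀ g ∈ (P : Subgroup G), g * a = a * g
    · -- Case A
      have hPN : (P : Subgroup G) ≤ N := fun g hg => (hNa g).mpr (hcen g hg)
      exact (Q_le_sylow P N Q hPN hQn hQ2).trans hUn
    · -- Case B
      have hcyc : IsCyclic ↥((P : Subgroup G) ⊓ centralizer ((P : Subgroup G) : Set G)) := by
        by_contra hnc
        apply hcen
        intro g hg
        exact (mem_centralizer_iff.mp (hUZ hnc haU) g hg)
      obtain ⟨z, hzU, hz1, hzP⟩ := exists_central P U hUP hUn hU4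
      have hza : z ≠ a := by
        rintro rfl
        exact hcen hzP
      rcases hUmem z hzU with h | h | h | h
      · exact absurd h hz1
      · exact absurd h hza
      · -- z = b
        subst h
        exact caseB_normalizes P N Q U a z hUP hUn hcyc hNa hQn hQ2 hQc haU hzU hUmem ha2 hb2 hab
          ha1 hz1 hab' hzP hcen hbQ
      · -- z = a * b
        have hz2 : z * z = 1 := by
          rw [h]
          calc a * b * (a * b) = a * (b * a) * b := by group
            _ = a * (a * b) * b := by rw [hab]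
            _ = (a * a) * (b * b) := by group
            _ = 1 := by rw [ha2, hb2, one_mul]
        have haz : a * z = z * a := by
          rw [h]
          calc a * (a * b) = a * (b * a) := by rw [hab]
            _ = a * b * a := by group
        have hUmem' : ∀ u ∈ U, u = 1 ∨ u = a ∨ u = z ∨ u = a * z := by
          intro u hu
          rcases hUmem u hu with h' | h' | h' | h'
          · exact Or.inl h'
          · exact Or.inr (Or.inl h')
          · right; right; right
            rw [h', h, ← mul_assoc, ha2, one_mul]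
          · right; right; left
            rw [h', h]
        exact caseB_normalizes P N Q U a z hUP hUn hcyc hNa hQn hQ2 hQc haU hzU hUmem' ha2 hz2 haz
          ha1 hz1 hza.symm hzP hcen (h ▸ habQ)
  exact hw1 (core_eq_one N Q U a b w hQN hQn hQ2 hQc hQU haN haQ hbN hwN haU hbU hUmem ha2 hb2 hab
    hbQ habQ hbw m hm hwm)

theorem main [Finite G] (h2 : Cfsg.IsCharacteristicTwoType G)
    (P : Sylow 2 G) (U : Subgroup G) (hUP : U ≤ (P : Subgroup G))
    (hUn : (P : Subgroup G) ≤ normalizer (U : Set G)) (hU4 : IsKleinFour ↥U)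
    (hUZ : ¬ IsCyclic ↥((P : Subgroup G) ⊓ centralizer ((P : Subgroup G) : Set G)) →
      U ≤ centralizer ((P : Subgroup G) : Set G))
    (K : Subgroup G) (hK : Odd (Nat.card K)) (hUK : U ≤ normalizer (K : Set G)) :
    U ≤ centralizer (K : Set G) := by
  by_contra hnc
  obtain ⟨a, haU, b, hbU, w, hwK, ha1, hb1, hab', hw1, haw, hbw⟩ :=
    exists_inverted U hU4 K hK hUK hnc
  apply hw1
  refine main_eq_one h2 P U hUP hUn hU4 hUZ a b w haU hbU ha1 hb1 hab' haw hbw (Nat.card K) hK ?_
  have := pow_card_eq_one' (G := K) (x := ⟨w, hwK⟩)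
  exact congrArg Subtype.val this

end Cfsg.Agent.Helper10.T57
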