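import Mathlib
import Cfsg.Agent.Lib.Helper20.TCDefs
import Cfsg.Agent.Lib.Helper4.GL4SubGL3
import Cfsg.Agent.Lib.Helper2.PSL27

set_option autoImplicit false

/-! Piece PSL3 of S3104: `GL3(2) ≃* PSL3(2)`. -/

namespace Cfsg.Agent.Helper20.TC

open Cfsg Cfsg.Agent.Helper20.GL4Sub

theorem gl3_iso_psl3 :
    Nonempty (GL (Fin 3) (ZMod 2) ≃* Matrix.ProjectiveSpecialLinearGroup (Fin 3) (ZMod 2)) := by
  have hbij : Function.Bijective GL3.psl3ToGL :=
    (Nat.bijective_iff_injective_and_card GL3.psl3ToGL).2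
      ⟨GL3.psl3ToGL_injective, by rw [Cfsg.Agent.Helper2.P27.card_PSL32, GL3.card_GL3]⟩
  exact ⟨(MulEquiv.ofBijective GL3.psl3ToGL hbij).symm⟩

end Cfsg.Agent.Helper20.TC
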