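import Mathlib
import Cfsg.Agent.Lib.Helper20.TCDefs
import Cfsg.Agent.Lib.Helper12.Small60

set_option autoImplicit false

/-! Piece RANGE of S3104: a hom from a nonsolvable group to `Perm (Fin 5)` with kernel of card 3
has range everything or the alternating group. -/

namespace Cfsg.Agent.Helper20.TC

open Cfsg Cfsg.Agent.Helper20.GL4Sub

theorem range_of_not_solvable {Q : Type*} [Group Q] [Finite Q] (hns : ¬ Group.IsSolvable Q)
    (π : Q →* Equiv.Perm (Fin 5)) (hker : Nat.card π.ker = 3) :
    π.range = ⊤ ∨ π.range = alternatingGroup (Fin 5) := by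
  have hkersolv : Group.IsSolvable π.ker :=
    Cfsg.Agent.Helper12.Small60.isSolvable_of_card_lt 3 π.ker hker (by norm_num)
  have hrns : ¬ Group.IsSolvable π.range := by
    intro hr
    apply hns
    have hq : Group.IsSolvable (Q ⧸ π.ker) :=
      solvable_of_solvable_injective
        (f := (QuotientGroup.quotientKerEquivRange π).toMonoidHom)
        (QuotientGroup.quotientKerEquivRange π).injective
    exact Cfsg.Agent.Helper12.Small60.isSolvable_of_normal π.ker hkersolv hq
  have hge : 60 ≤ Nat.card π.range := by
    by_contra hlt
    exact hrns (Cfsg.Agent.Helper12.Small60.isSolvable_of_card_lt _ π.range rfl (by omega))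
  have hcardP : Nat.card (Equiv.Perm (Fin 5)) = 120 := by
    rw [Nat.card_eq_fintype_card, Fintype.card_perm, Fintype.card_fin]
    rfl
  have hmul := Subgroup.card_mul_index π.range
  rw [hcardP] at hmul
  have hdvd : Nat.card π.range ∣ 120 := Dvd.intro _ hmul
  have hle : Nat.card π.range ≤ 120 := Nat.le_of_dvd (by norm_num) hdvd
  have hcases : Nat.card π.range = 60 ∨ Nat.card π.range = 120 := by
    generalize Nat.card π.range = n at *
    interval_cases n <;> first | omega | (exfalso; revert hdvd; decide)
  rcases hcases with h60 | h120
  · right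
    have hidx : π.range.index = 2 := by
      rw [h60] at hmul
      omega
    exact Equiv.Perm.eq_alternatingGroup_of_index_eq_two hidx
  · left
    rw [← Subgroup.card_eq_iff_eq_top, h120, hcardP]

end Cfsg.Agent.Helper20.TC
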