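import Mathlib
import Cfsg.Prelude.Def_LocalEven
import Cfsg.Agent.Lib.Helper10.TMDefs
import Cfsg.Agent.Lib.Helper1.TMP1
import Cfsg.Agent.Lib.Helper1.TMMAIN2Core
import Cfsg.Agent.Lib.Helper9.TMTRANSPORT
import Cfsg.Agent.Lib.Lead.TMORB
import Cfsg.Agent.Lib.Helper19.TMCASE1
import Cfsg.Agent.Lib.Helper19.TMCASE2C
import Cfsg.Agent.Lib.Helper17.TMCASE3

/-!
# S2930 : final assembly (helper10)
-/

set_option autoImplicit false

namespace Cfsg.Agent.Helper10.TM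

open Equiv Equiv.Perm

variable {n : ℕ}

/-- Part 2 : a 3-subgroup of `Alt n` (`n ≥ 5`) over which any two proper subgroups generate a
proper subgroup forces `n ∈ {6, 9, 3 ^ a + 1}` -/
theorem final_main2 (hn : 5 ≤ n) (S : Subgroup (Alt n)) (hS : IsPGroup 3 S) (hU : Unq S) :
    n = 6 ∨ n = 9 ∨ ∃ a : ℕ, 2 ≤ a ∧ n = 3 ^ a + 1 :=
  main2_core hn S (ncard_orb_pow S hS)
    (fun x y z hxy hxz hyz => case1 hn S hU x y z hxy hxz hyz)
    (fun x y hall hxy hx hy => case2c S hS hU x y hall hxy hx hy)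
    (fun htr h12 => case3 S hS hU htr h12)

/-- S2930 : a 3-minimal group whose generalized Fitting subgroup is alternating -/
theorem final {X : Type*} [Group X] [Finite X] (hX : Cfsg.IsPMinimal 3 X) (n : ℕ) (hn : 5 ≤ n)
    (hF : Nonempty (↥(Cfsg.generalizedFittingSubgroup X) ≃* ↥(alternatingGroup (Fin n)))) :
    Cfsg.generalizedFittingSubgroup X = ⊤ ∧
      (n = 6 ∨ n = 9 ∨ ∃ a : ℕ, 2 ≤ a ∧ n = 3 ^ a + 1) := by
  obtain ⟨e⟩ := hF
  have htop := fstar_eq_top hX hn e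
  refine ⟨htop, ?_⟩
  have e1 : X ≃* Alt n :=
    (Subgroup.topEquiv.symm.trans (MulEquiv.subgroupCongr htop.symm)).trans e
  have hA : Cfsg.IsPMinimal 3 (Alt n) := isPMinimal_of_mulEquiv e1 hX
  have S : Sylow 3 (Alt n) := default
  exact final_main2 hn (S : Subgroup (Alt n)) S.isPGroup' (unq_of_isPMinimal hA S)

end Cfsg.Agent.Helper10.TM
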