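import Mathlib
import Cfsg.Prelude.Def_Transfer
import Cfsg.Agent.Lib.Helper1.TateGeneral

/-!
# Tate's theorem, mod `p` form (adapted from helper1's `TateGeneral`)

If `P ≤ V ≤ G` with `P` Sylow in `G`, and every element of `P ∩ O^p(G)` lies in every normal
subgroup of `V` with elementary abelian `p`-quotient, then `P ∩ O^p(G) ≤ O^p(V)`.
-/

set_option autoImplicit false

namespace Cfsg.Agent.Helper10.TateP

open Subgroup Cfsg.Agent.Helper1
open scoped Pointwise commutatorElement

section AbstractStep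

variable {G : Type*} [Group G] {S : Type*} [Group S] {P V M : Subgroup G} {hPV : P ≤ V}
  {σ : V →* S} {Z : Subgroup S}

/-- **General Tate step**, mod `p` form. -/
theorem tate_step_modp [Finite G] [Finite S] {p : ℕ} [Fact p.Prime] (hidx : ¬ p ∣ P.index)
    (hM : M = Cfsg.pResidual p G) (hS : IsPGroup p S)
    (hZc : Z ≤ center S) (hZp : ∀ z ∈ Z, z ^ p = 1)
    (h1 : ∀ y : P, (y : G) ∈ M → σ (Subgroup.inclusion hPV y) ∈ Z)
    (h2 : ∀ y : P, (y : G) ∈ M → ∀ U : Subgroup V, U.Normal → (∀ a b : V, ⁅a, b⁆ ∈ U) →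
      (∀ a : V, a ^ p ∈ U) → Subgroup.inclusion hPV y ∈ U) :
    ∀ y : P, (y : G) ∈ M → σ (Subgroup.inclusion hPV y) = 1 := by
  have hp : p.Prime := Fact.out
  haveI hMn : M.Normal := by rw [hM]; exact Cfsg.Agent.Helper22.pResidual_normal
  set Gt := aG P V M hPV σ Z with hGt
  set K' : Subgroup Gt := (aK (G := G) Z).subgroupOf Gt with hK'
  set A' : Subgroup Gt := (aA P V hPV σ).subgroupOf Gt with hA'
  set U' : Subgroup Gt := (aK (G := G) Z ⊔ aA P V hPV σ).subgroupOf Gt with hU'
  have hKc : K' ≤ center Gt := by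
    intro z hz
    rw [mem_center_iff]; intro x
    have := mem_center_iff.mp (aK_le_center hZc (mem_subgroupOf.mp hz)) (x : G × S)
    exact Subtype.ext this
  have hKp : ∀ k ∈ K', k ^ p = 1 := by
    intro k hk
    apply Subtype.ext
    have := aK_pow hZp _ (mem_subgroupOf.mp hk)
    simpa using this
  haveI : K'.Normal := normal_of_le_center' K' hKc
  haveI : IsMulCommutative K' :=
    ⟨⟨fun a b => by
      apply Subtype.ext
      rw [Subgroup.coe_mul, Subgroup.coe_mul]
      exact mem_center_iff.mp (hKc b.2) a⟩⟩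
  have hKpg : IsPGroup p K' := by
    intro k
    refine ⟨1, ?_⟩
    rw [pow_one]
    apply Subtype.ext
    have := hKp k k.2
    simpa using this
  have hnd : ¬ p ∣ U'.index := by
    have d1 : (aK (G := G) Z ⊔ aA P V hPV σ).relIndex Gt ∣
        (Gt ⊓ P.comap (MonoidHom.fst G S)).relIndex Gt :=
      relIndex_dvd_of_le_left Gt (aG_inf_comap_le hZc h1)
    have d2 : (Gt ⊓ P.comap (MonoidHom.fst G S)).relIndex Gt =
        (P.comap (MonoidHom.fst G S)).relIndex Gt := by
      rw [inf_comm, inf_relIndex_right]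
    have d3 : (P.comap (MonoidHom.fst G S)).relIndex Gt =
        P.relIndex (Gt.map (MonoidHom.fst G S)) := relIndex_comap _ _ _
    have d4 : P ≤ Gt.map (MonoidHom.fst G S) := by
      intro y hy
      exact ⟨aDiag P V hPV σ ⟨y, hy⟩, aA_le_aG ⟨⟨y, hy⟩, rfl⟩, rfl⟩
    have d5 : P.relIndex (Gt.map (MonoidHom.fst G S)) ∣ P.index :=
      Dvd.intro _ (relIndex_mul_index d4)
    intro hdvd
    apply hidx
    refine dvd_trans hdvd (dvd_trans ?_ d5)
    rw [← d3, ← d2]
    exact d1
  have hcop : (Nat.card K').Coprime U'.index := by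
    obtain ⟨n, hn⟩ := hKpg.exists_card_eq
    rw [hn]
    exact Nat.Coprime.pow_left n ((Nat.Prime.coprime_iff_not_dvd hp).mpr hnd)
  have hKU : K' ≤ U' := by
    intro x hx
    exact mem_subgroupOf.mpr (mem_sup_left (mem_subgroupOf.mp hx))
  have hAK : A' ⊓ K' = ⊥ := by
    rw [eq_bot_iff]
    rintro x ⟨h1, h2⟩
    have : (x : G × S) ∈ aA P V hPV σ ⊓ aK (G := G) Z :=
      ⟨mem_subgroupOf.mp h1, mem_subgroupOf.mp h2⟩
    rw [aA_inf_aK, mem_bot] at this
    rw [mem_bot]
    exact Subtype.ext this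
  have hKA : K' ⊔ A' = U' := (subgroupOf_sup aK_le_aG aA_le_aG).symm
  obtain ⟨H', hH'⟩ := gaschutz_exists K' U' hKU hcop A' hAK hKA
  have hb := mem_of_coprime_of_central_complement K' H' hKc hKp hH'
  -- p'-elements of `V` map into `M × 1`
  have hV1 : ∀ v : V, (orderOf v).Coprime p → aDiagV V σ v ∈ Gt := by
    intro v hv
    apply mem_sup_left
    have hσ : σ v = 1 := by
      obtain ⟨k, hk⟩ := hS (σ v)
      have d1 : orderOf (σ v) ∣ p ^ k := orderOf_dvd_of_pow_eq_one hk
      have d2 : orderOf (σ v) ∣ orderOf v := orderOf_map_dvd _ v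
      exact orderOf_eq_one_iff.mp (Nat.eq_one_of_dvd_coprimes (Nat.Coprime.pow_right k hv) d2 d1)
    refine mem_prod.mpr ⟨?_, ?_⟩
    · change (v : G) ∈ M
      rw [hM]
      apply Subgroup.subset_closure
      change (orderOf (v : G)).Coprime p
      rw [Subgroup.orderOf_coe]
      exact hv
    · change σ v ∈ Z
      rw [hσ]; exact Z.one_mem
  have hVall : ∀ v : V, aDiagV V σ v ∈ Gt := by
    have hle : (P.subgroupOf V) ⊔ Cfsg.pResidual p V ≤ Gt.comap (aDiagV V σ) := by
      apply sup_le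
      · intro v hv
        rw [mem_comap]
        apply aA_le_aG
        refine ⟨⟨v, mem_subgroupOf.mp hv⟩, ?_⟩
        rfl
      · unfold Cfsg.pResidual
        rw [closure_le]
        intro v hv
        exact hV1 v hv
    have htop : (P.subgroupOf V) ⊔ Cfsg.pResidual p V = ⊤ := by
      apply Cfsg.Agent.Helper22.sup_pResidual_eq_top
      intro hd
      apply hidx
      have : (P.subgroupOf V).index ∣ P.index := by
        change P.relIndex V ∣ P.index
        exact Subgroup.relIndex_dvd_index_of_le hPV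
      exact dvd_trans hd this
    intro v
    have : v ∈ (P.subgroupOf V) ⊔ Cfsg.pResidual p V := by rw [htop]; exact mem_top v
    exact hle this
  set f : V →* Gt := (aDiagV V σ).codRestrict Gt hVall with hf
  have hcm := commutator_le_comap_of_central_complement K' H' hKc hH' f
  set j : G →* G × S := MonoidHom.inl G S with hj
  have hjG : ∀ m ∈ M, j m ∈ Gt := by
    intro m hm
    apply mem_sup_left
    exact mem_prod.mpr ⟨hm, Subgroup.one_mem _⟩
  have hMH : M ≤ (H'.map Gt.subtype).comap j := by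
    have hMc : M = Subgroup.closure {g : G | (orderOf g).Coprime p} := hM
    rw [hMc, closure_le]
    intro g hgc
    have hgM : g ∈ M := by rw [hMc]; exact Subgroup.subset_closure hgc
    refine ⟨⟨j g, hjG g hgM⟩, ?_, rfl⟩
    apply hb
    have hjinj : Function.Injective j := fun a b hab => by
      have := congrArg Prod.fst hab
      simpa [hj] using this
    rw [Subgroup.orderOf_mk, orderOf_injective j hjinj g]
    exact hgc
  intro w hwM
  obtain ⟨h₁, hh₁, hh₁j⟩ := hMH hwM
  have hH'n : H'.Normal := normal_of_central_complement K' H' hKc hH'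
  have hfw : f (Subgroup.inclusion hPV w) ∈ H' := by
    have hUn : (H'.comap f).Normal := hH'n.comap f
    refine h2 w hwM (H'.comap f) hUn ?_ ?_
    · intro a b
      apply hcm
      rw [_root_.commutator_def]
      exact Subgroup.commutator_mem_commutator (mem_top a) (mem_top b)
    · intro a
      rw [Subgroup.mem_comap, map_pow]
      obtain ⟨k, hk, h, hh, hkh⟩ := exists_mul_of_central_complement K' H' hKc hH' (f a)
      have hkc : Commute k h := (Subgroup.mem_center_iff.mp (hKc hk) h).symm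
      rw [hkh, hkc.mul_pow, hKp k hk, one_mul]
      exact H'.pow_mem hh p
  have ht : h₁⁻¹ * f (Subgroup.inclusion hPV w) ∈ H' := H'.mul_mem (H'.inv_mem hh₁) hfw
  have hval : ((h₁⁻¹ * f (Subgroup.inclusion hPV w) : Gt) : G × S) =
      ((1 : G), σ (Subgroup.inclusion hPV w)) := by
    have e1 : (h₁ : G × S) = j w := hh₁j
    rw [Subgroup.coe_mul, Subgroup.coe_inv, e1]
    ext
    · simp [hj, hf, aDiagV]
    · simp [hj, hf, aDiagV]
  have htK : h₁⁻¹ * f (Subgroup.inclusion hPV w) ∈ K' := by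
    rw [hK', mem_subgroupOf, hval]
    exact mem_prod.mpr ⟨Subgroup.mem_bot.mpr rfl, h1 w hwM⟩
  have h3 : K' ⊓ H' = ⊥ := disjoint_iff.mp hH'.disjoint
  have h4 : h₁⁻¹ * f (Subgroup.inclusion hPV w) ∈ K' ⊓ H' := ⟨htK, ht⟩
  rw [h3, mem_bot] at h4
  have h5 := congrArg Subtype.val h4
  rw [hval] at h5
  have := congrArg Prod.snd h5
  simpa using this

end AbstractStep

section GeneralMain

variable {G : Type*} [Group G] [Finite G] {p : ℕ} [Fact p.Prime]

/-- **Tate's theorem, general form.** If `P ≤ V ≤ G` with `P` a Sylow `p`-subgroup of `G` and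
`P ∩ O^p(G) ≤ V'`, then `P ∩ O^p(G) ≤ O^p(V)`. -/
theorem tate_modp (P : Sylow p G) (V : Subgroup G) (hPV : (P : Subgroup G) ≤ V)
    (h : ∀ (y : G) (hy : y ∈ (P : Subgroup G) ⊓ Cfsg.pResidual p G), ∀ U : Subgroup V, U.Normal →
      (∀ a b : V, ⁅a, b⁆ ∈ U) → (∀ a : V, a ^ p ∈ U) → (⟨y, hPV hy.1⟩ : V) ∈ U) :
    (P : Subgroup G) ⊓ Cfsg.pResidual p G ≤ (Cfsg.pResidual p V).map V.subtype := by
  classical
  haveI hLn : (Cfsg.pResidual p V).Normal := Cfsg.Agent.Helper22.pResidual_normal
  have hT : IsPGroup p (V ⧸ Cfsg.pResidual p V) := Cfsg.Agent.Helper22.isPGroup_quotient_pResidual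
  set τ : V →* V ⧸ Cfsg.pResidual p V := QuotientGroup.mk' (Cfsg.pResidual p V) with hτ
  set M : Subgroup G := Cfsg.pResidual p G with hM
  let S : Set (Subgroup (V ⧸ Cfsg.pResidual p V)) :=
    {R | R.Normal ∧ ∀ y : (P : Subgroup G), (y : G) ∈ M → τ (Subgroup.inclusion hPV y) ∈ R}
  have hSne : S.Nonempty := ⟨⊤, inferInstance, fun y _ => mem_top _⟩
  have hSfin : S.Finite := Set.toFinite S
  obtain ⟨R, hRS, hRmin⟩ := hSfin.exists_minimal hSne
  obtain ⟨hRn, hRC⟩ := hRS
  by_cases hR : R = ⊥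
  · rintro y ⟨hyP, hyM⟩
    have := hRC ⟨y, hyP⟩ hyM
    rw [hR, mem_bot, hτ, QuotientGroup.mk'_apply, QuotientGroup.eq_one_iff] at this
    exact ⟨_, this, rfl⟩
  · exfalso
    obtain ⟨R', hR'n, hlt, hc, hpow⟩ := exists_central_step hT R hR
    have hstep := tate_step_modp (P := (P : Subgroup G)) (V := V) (M := M) (hPV := hPV)
      (σ := (QuotientGroup.mk' R').comp τ) (Z := R.map (QuotientGroup.mk' R'))
      P.not_dvd_index rfl (hT.to_quotient R') (map_mk_le_center R R' hc) (map_mk_pow R R' hpow)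
      (fun y hy => ⟨_, hRC y hy, rfl⟩)
      (fun y hy U hUn hUc hUp => h (y : G) ⟨y.2, hy⟩ U hUn hUc hUp)
    have hR'S : R' ∈ S := by
      refine ⟨hR'n, fun y hy => ?_⟩
      have := hstep y hy
      rw [MonoidHom.comp_apply, QuotientGroup.mk'_apply, QuotientGroup.eq_one_iff] at this
      exact this
    have := hRmin hR'S hlt.le
    exact absurd hlt (not_lt_of_ge this)

end GeneralMain

end Cfsg.Agent.Helper10.TateP
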