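import Mathlib
import Cfsg.Prelude.Def_Local
import Cfsg.Agent.Lib.Helper10.Fusion
import Cfsg.Agent.Lib.Helper10.StabChain
import Cfsg.Agent.Lib.Helper10.SylowMore
import Cfsg.Agent.Lib.Helper10.ClosedSeries
import Cfsg.Agent.Lib.Helper1.Coprime

set_option autoImplicit false

namespace Cfsg.Agent.Helper10

open Cfsg

variable {G : Type*} [Group G]

/-- a `2`-subgroup of a group of odd order is trivial -/
theorem two_subgroup_eq_bot_of_odd [Finite G] {D K : Subgroup G} (hDK : D ≤ K) (hK : Odd (Nat.card K))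
    (hD : IsPGroup 2 D) : D = ⊥ := by
  obtain ⟨k, hk⟩ := IsPGroup.iff_card.mp hD
  have h1 : Nat.card D ∣ Nat.card K := Subgroup.card_dvd_of_le hDK
  rw [hk] at h1
  have hk0 : k = 0 := by
    by_contra hne
    have h2 : 2 ∣ Nat.card K := (dvd_pow_self 2 hne).trans h1
    exact (Nat.not_even_iff_odd.mpr hK) (even_iff_two_dvd.mpr h2)
  rw [hk0, pow_zero] at hk
  exact Subgroup.card_eq_one.mp hk

/-- `2`-subgroups of `A ∩ A^x`, `x ∉ N(A)`, are trivial -/
def TI2 (A : Subgroup G) : Prop :=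
  ∀ x : G, x ∉ Subgroup.normalizer (A : Set G) → ∀ D : Subgroup G, D ≤ A ⊓ rcg x A → IsPGroup 2 D → D = ⊥

theorem TI2_of_isTightlyEmbedded [Finite G] {Q : Subgroup G} (hQ : IsTightlyEmbedded Q) : TI2 Q := by
  intro x hx D hD hD2
  have hx' : x⁻¹ ∉ Subgroup.normalizer (Q : Set G) := fun h => hx (by simpa using Subgroup.inv_mem _ h)
  exact two_subgroup_eq_bot_of_odd hD (hQ.2 x⁻¹ hx') hD2

theorem rcg_eq_bot_iff {c : G} {D : Subgroup G} : rcg c D = ⊥ ↔ D = ⊥ := by
  unfold rcg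
  exact Subgroup.map_eq_bot_iff_of_injective _ (MulAut.conj c⁻¹).injective

theorem TI2_rcg {A : Subgroup G} (hA : TI2 A) (c : G) : TI2 (rcg c A) := by
  intro x hx D hD hD2
  have hx' : c * x * c⁻¹ ∉ Subgroup.normalizer (A : Set G) := by
    intro h
    apply hx
    rw [← rcg_normalizer, mem_rcg]
    exact h
  have h1 : rcg c⁻¹ D ≤ A ⊓ rcg (c * x * c⁻¹) A := by
    have := rcg_mono c⁻¹ hD
    rw [rcg_inf, rcg_inv_rcg, ← rcg_mul, ← rcg_mul] at this
    have e : c * x * c⁻¹ = c * (x * c⁻¹) := by group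
    rw [e]
    exact this
  have := hA _ hx' _ h1 (isPGroup_rcg c⁻¹ hD2)
  exact rcg_eq_bot_iff.mp this

/-- a `2`-subgroup of `H` is no larger than a Sylow `2`-subgroup of `H` -/
theorem card_le_card_of_relSylow [Finite G] {p : ℕ} [Fact p.Prime] {H T D : Subgroup G} (hTH : T ≤ H)
    (hT : IsPGroup p T) (hidx : ¬ p ∣ T.relIndex H) (hDH : D ≤ H) (hD : IsPGroup p D) :
    Nat.card D ≤ Nat.card T := by
  obtain ⟨c, -, hc⟩ := conj_into_relSylow H T D hTH hT hidx hDH hD
  rw [← card_rcg c D]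
  exact Subgroup.card_le_of_le hc

/-- a subgroup `T'` of an internal direct product `T × R` meeting `T` trivially embeds into `R` -/
theorem exists_injective_hom_of_complement {T R T' : Subgroup G}
    (hcomm : ∀ t ∈ T, ∀ r ∈ R, t * r = r * t) (hTR : T ⊓ R = ⊥) (hT' : T' ≤ T ⊔ R)
    (hTT' : T' ⊓ T = ⊥) : ∃ f : ↥T' →* ↥R, Function.Injective f := by
  classical
  have hRN : R ≤ Subgroup.normalizer (T : Set G) := by
    intro r hr
    rw [Subgroup.mem_normalizer_iff]
    intro t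
    constructor
    · intro ht
      have : r * t * r⁻¹ = t := by rw [← hcomm t ht r hr]; group
      rw [this]; exact ht
    · intro ht
      have h1 : r * t * r⁻¹ * r = r * (r * t * r⁻¹) := (hcomm _ ht r hr)
      have : t = r * t * r⁻¹ := by
        have h2 : r * t = r * (r * t * r⁻¹) := by
          calc r * t = r * t * r⁻¹ * r := by group
            _ = r * (r * t * r⁻¹) := h1
        exact mul_left_cancel h2
      rw [this]; exact ht
  have hdec : ∀ y : ↥T', ∃ r : ↥R, (y : G) * (r : G)⁻¹ ∈ T := by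
    intro y
    obtain ⟨t, ht, r, hr, hy⟩ := Cfsg.Agent.Helper1.exists_mul_of_mem_sup hRN (hT' y.2)
    refine ⟨⟨r, hr⟩, ?_⟩
    rw [hy]
    simpa using ht
  have huniq : ∀ (y : G) (r r' : G), r ∈ R → r' ∈ R → y * r⁻¹ ∈ T → y * r'⁻¹ ∈ T → r = r' := by
    intro y r r' hr hr' h1 h2
    have h3 : r * r'⁻¹ ∈ T ⊓ R := by
      refine ⟨?_, R.mul_mem hr (R.inv_mem hr')⟩
      have : r * r'⁻¹ = (y * r⁻¹)⁻¹ * (y * r'⁻¹) := by group
      rw [this]
      exact T.mul_mem (T.inv_mem h1) h2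
    rw [hTR, Subgroup.mem_bot] at h3
    exact mul_inv_eq_one.mp h3
  set f : ↥T' → ↥R := fun y => Classical.choose (hdec y) with hf
  have hfspec : ∀ y : ↥T', (y : G) * ((f y : ↥R) : G)⁻¹ ∈ T := fun y => Classical.choose_spec (hdec y)
  have hmul : ∀ y₁ y₂ : ↥T', f (y₁ * y₂) = f y₁ * f y₂ := by
    intro y₁ y₂
    apply Subtype.ext
    apply huniq ((y₁ * y₂ : ↥T') : G) _ _ (f (y₁ * y₂)).2 (R.mul_mem (f y₁).2 (f y₂).2) (hfspec _)
    have h1 := hfspec y₁
    have h2 := hfspec y₂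
    set t₁ := (y₁ : G) * ((f y₁ : ↥R) : G)⁻¹ with ht₁
    set t₂ := (y₂ : G) * ((f y₂ : ↥R) : G)⁻¹ with ht₂
    have e1 : (y₁ : G) = t₁ * (f y₁ : G) := by rw [ht₁]; group
    have e2 : (y₂ : G) = t₂ * (f y₂ : G) := by rw [ht₂]; group
    have hc : (f y₁ : G) * t₂ = t₂ * (f y₁ : G) := (hcomm t₂ h2 _ (f y₁).2).symm
    have : ((y₁ * y₂ : ↥T') : G) * ((f y₁ : G) * (f y₂ : G))⁻¹ = t₁ * t₂ := by
      rw [Subgroup.coe_mul, e1, e2]
      calc t₁ * (f y₁ : G) * (t₂ * (f y₂ : G)) * ((f y₁ : G) * (f y₂ : G))⁻¹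
          = t₁ * ((f y₁ : G) * t₂) * (f y₁ : G)⁻¹ := by group
        _ = t₁ * (t₂ * (f y₁ : G)) * (f y₁ : G)⁻¹ := by rw [hc]
        _ = t₁ * t₂ := by group
    rw [Subgroup.coe_mul] at this ⊢
    rw [this]
    exact T.mul_mem h1 h2
  refine ⟨MonoidHom.mk' f hmul, ?_⟩
  rw [injective_iff_map_eq_one]
  intro y hy
  have h1 := hfspec y
  have h2 : f y = 1 := hy
  rw [h2] at h1
  simp only [Subgroup.coe_one, inv_one, mul_one] at h1
  have h3 : (y : G) ∈ T' ⊓ T := ⟨y.2, h1⟩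
  rw [hTT', Subgroup.mem_bot] at h3
  exact Subtype.ext h3

/-- the conjugation isomorphism onto a conjugate subgroup -/
noncomputable def rcgEquiv (k : G) (P : Subgroup G) : ↥P ≃* ↥(rcg k P) :=
  P.equivMapOfInjective (MulAut.conj k⁻¹).toMonoidHom (MulAut.conj k⁻¹).injective

/-- **Key lemma on pairs of conjugates of a tightly embedded subgroup.** -/
theorem tight_pair [Finite G] {A B T P : Subgroup G} (hB : TI2 B)
    (hAB : ∀ D : Subgroup G, D ≤ A ⊓ B → IsPGroup 2 D → D = ⊥)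
    (hconj : ∃ c : G, rcg c A = B)
    (hTB : T ≤ B) (hTA : T ≤ Subgroup.normalizer (A : Set G)) (hT2 : IsPGroup 2 T)
    (hTsyl : ¬ 2 ∣ T.relIndex (B ⊓ Subgroup.normalizer (A : Set G))) (hTne : T ≠ ⊥)
    (hPA : P ≤ A) (hP2 : IsPGroup 2 P) (hPsyl : ¬ 2 ∣ P.relIndex A)
    (hTP : T ≤ Subgroup.normalizer (P : Set G)) :
    T ⊓ A = ⊥ ∧ (∀ t ∈ T, ∀ r ∈ P ⊓ Subgroup.normalizer (T : Set G), t * r = r * t) ∧
      P ⊓ Subgroup.normalizer (T : Set G) ≤ Subgroup.normalizer (B : Set G) ∧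
      (P ⊔ T) ⊓ Subgroup.normalizer (T : Set G) = T ⊔ (P ⊓ Subgroup.normalizer (T : Set G)) ∧
      Nat.card T ≤ Nat.card ↥(P ⊓ Subgroup.normalizer (T : Set G)) ∧
      (Nat.card T = Nat.card ↥(P ⊓ Subgroup.normalizer (T : Set G)) →
        Nonempty (↥(P ⊓ Subgroup.normalizer (T : Set G)) ≃* T)) := by
  haveI : Fact (Nat.Prime 2) := ⟨Nat.prime_two⟩
  set R := P ⊓ Subgroup.normalizer (T : Set G) with hR
  have h1 : T ⊓ A = ⊥ :=
    hAB (T ⊓ A) (le_inf inf_le_right (inf_le_left.trans hTB)) (hT2.to_le inf_le_left)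
  have hcomm : ∀ t ∈ T, ∀ r ∈ R, t * r = r * t := by
    intro t ht r hr
    have hx : t * r * t⁻¹ * r⁻¹ ∈ T ⊓ A := by
      constructor
      · have h2 : r * t⁻¹ * r⁻¹ ∈ T := (Subgroup.mem_normalizer_iff.mp hr.2 t⁻¹).mp (T.inv_mem ht)
        have : t * r * t⁻¹ * r⁻¹ = t * (r * t⁻¹ * r⁻¹) := by group
        rw [this]; exact T.mul_mem ht h2
      · have h2 : t * r * t⁻¹ ∈ A := (Subgroup.mem_normalizer_iff.mp (hTA ht) r).mp (hPA hr.1)
        exact A.mul_mem h2 (A.inv_mem (hPA hr.1))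
    rw [h1, Subgroup.mem_bot] at hx
    have : t * r = (t * r * t⁻¹ * r⁻¹) * (r * t) := by group
    rw [this, hx, one_mul]
  have h3 : R ≤ Subgroup.normalizer (B : Set G) := by
    intro r hr
    by_contra hrB
    apply hTne
    apply hB r hrB T (le_inf hTB ?_) hT2
    intro t ht
    rw [mem_rcg]
    exact hTB ((Subgroup.mem_normalizer_iff.mp hr.2 t).mp ht)
  have hTR : T ⊓ R = ⊥ := by
    rw [eq_bot_iff, ← h1]
    exact inf_le_inf_left T (inf_le_left.trans hPA)
  -- the 2-group `S = P T`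
  set S := P ⊔ T with hS
  have hS2 : IsPGroup 2 S := by
    rw [hS, sup_comm]; exact IsPGroup.to_sup_of_normal_right' hT2 hP2 hTP
  have hSA : S ≤ Subgroup.normalizer (A : Set G) := sup_le (hPA.trans Subgroup.le_normalizer) hTA
  set S₀ := T ⊔ R with hS₀
  have hS₀S : S₀ ≤ S := sup_le le_sup_right (inf_le_left.trans le_sup_left)
  have hS₀N : S ⊓ Subgroup.normalizer (T : Set G) = S₀ := by
    apply le_antisymm
    · intro s hs
      obtain ⟨q, hq, t, ht, hst⟩ := Cfsg.Agent.Helper1.exists_mul_of_mem_sup hTP hs.1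
      have hqN : q ∈ Subgroup.normalizer (T : Set G) := by
        have : q = s * t⁻¹ := by rw [hst]; group
        rw [this]
        exact Subgroup.mul_mem _ hs.2 (Subgroup.inv_mem _ (Subgroup.le_normalizer ht))
      rw [hst]
      exact Subgroup.mul_mem _ (Subgroup.mem_sup_right ⟨hq, hqN⟩) (Subgroup.mem_sup_left ht)
    · exact sup_le (le_inf le_sup_right Subgroup.le_normalizer)
        (le_inf (inf_le_left.trans le_sup_left) inf_le_right)
  refine ⟨h1, hcomm, h3, hS₀N, ?_⟩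
  obtain ⟨c, hc⟩ := hconj
  by_cases hSS : S₀ = S
  · -- `P` normalizes `T`
    have hPR : R = P := by
      rw [hR]
      apply inf_eq_left.mpr
      have : P ≤ S ⊓ Subgroup.normalizer (T : Set G) := by
        rw [hS₀N, hSS]; exact le_sup_left
      exact this.trans inf_le_right
    have hcPB : rcg c P ≤ B := hc ▸ rcg_mono c hPA
    have hcPsyl : ¬ 2 ∣ (rcg c P).relIndex B := by
      rw [← hc, relIndex_rcg]; exact hPsyl
    have hcard : Nat.card T ≤ Nat.card R := by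
      rw [hPR, ← card_rcg c P]
      exact card_le_card_of_relSylow hcPB (isPGroup_rcg c hP2) hcPsyl hTB hT2
    refine ⟨hcard, fun heq => ?_⟩
    obtain ⟨d, -, hd⟩ := conj_into_relSylow B (rcg c P) T hcPB (isPGroup_rcg c hP2) hcPsyl hTB hT2
    have hd' : rcg d T = rcg c P := by
      apply Subgroup.eq_of_le_of_card_ge hd
      rw [card_rcg, card_rcg, heq, hPR]
    have hT : T = rcg (c * d⁻¹) P := by
      rw [rcg_mul, ← hd', rcg_inv_rcg]
    exact ⟨(MulEquiv.subgroupCongr hPR).trans ((rcgEquiv (c * d⁻¹) P).trans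
      (MulEquiv.subgroupCongr hT.symm))⟩
  · have hlt : S₀ < S := lt_of_le_of_ne hS₀S hSS
    have hnil : Group.IsNilpotent S := hS2.isNilpotent
    obtain ⟨x, hx, hxS₀⟩ := SetLike.exists_of_lt (lt_inf_normalizer_of_lt S S₀ hlt)
    have hxB : x ∉ Subgroup.normalizer (B : Set G) := by
      intro hxB
      apply hxS₀
      have hS₀B : T = S₀ ⊓ B :=
        eq_of_le_of_relIndex (p := 2) (le_inf le_sup_left hTB)
          (le_inf inf_le_right (inf_le_left.trans (hS₀S.trans hSA))) (hS2.to_le (inf_le_left.trans hS₀S)) hTsyl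
      have h4 : rcg x T ≤ T := by
        have := rcg_mono x (show T ≤ S₀ ⊓ B from le_inf le_sup_left hTB)
        rw [rcg_inf, mem_normalizer_iff_rcg.mp hx.2, mem_normalizer_iff_rcg.mp hxB] at this
        exact this.trans hS₀B.ge
      have h5 : x ∈ Subgroup.normalizer (T : Set G) :=
        mem_normalizer_iff_rcg.mpr (rcg_eq_of_le_of_finite h4)
      rw [← hS₀N]
      exact ⟨hx.1, h5⟩
    set T' := rcg x T with hT'
    have hTT' : T' ⊓ T = ⊥ :=
      hB x hxB (T' ⊓ T) (le_inf (inf_le_right.trans hTB) (inf_le_left.trans (rcg_mono x hTB)))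
        (hT2.to_le inf_le_right)
    have hT'S₀ : T' ≤ T ⊔ R := by
      have := rcg_mono x (show T ≤ S₀ from le_sup_left)
      rwa [mem_normalizer_iff_rcg.mp hx.2] at this
    obtain ⟨f, hf⟩ := exists_injective_hom_of_complement hcomm hTR hT'S₀ hTT'
    have hcard : Nat.card T ≤ Nat.card R := by
      rw [← card_rcg x T]
      exact Nat.card_le_card_of_injective f hf
    refine ⟨hcard, fun heq => ?_⟩
    have hbij : Function.Bijective f := by
      apply Function.Injective.bijective_of_nat_card_le hf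
      rw [card_rcg x T, heq]
    exact ⟨((rcgEquiv x T).trans (MulEquiv.ofBijective f hbij)).symm⟩


end Cfsg.Agent.Helper10
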