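import Mathlib
import Cfsg.Agent.Lib.Helper10.WeakClosure2
import Cfsg.Agent.Lib.Helper10.SecFusion

set_option autoImplicit false

/-! The trace argument: for a Sylow `p`-subgroup `S` of `Γ` whose centre lies in an abelian normal
`p`-subgroup, the central elements of `Γ` in `S` form a direct factor of `Z(S)`. -/

namespace Cfsg.Agent.Helper10

open Cfsg
open scoped commutatorElement

section trace

variable {Γ : Type*} [Group Γ] [Finite Γ] {p : ℕ} [hp : Fact p.Prime]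

theorem trace_complement (S : Subgroup Γ) (hS : IsPGroup p S) (hidx : ¬ p ∣ S.index)
    (V : Subgroup Γ) [hVn : V.Normal] (hVp : IsPGroup p V)
    (hVc : ∀ x ∈ V, ∀ y ∈ V, x * y = y * x)
    (hZV : S ⊓ Subgroup.centralizer (S : Set Γ) ≤ V) :
    ∃ K : Subgroup Γ, K ≤ S ⊓ Subgroup.centralizer (S : Set Γ) ∧
      (S ⊓ Subgroup.center Γ) ⊓ K = ⊥ ∧
      (S ⊓ Subgroup.center Γ) ⊔ K = S ⊓ Subgroup.centralizer (S : Set Γ) := by
  classical
  haveI : Fintype (Γ ⧸ S) := Fintype.ofFinite _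
  letI cg : CommGroup ↥V :=
    { (inferInstance : Group ↥V) with
      mul_comm := fun a b => Subtype.ext (hVc a a.2 b b.2) }
  set Z : Subgroup Γ := S ⊓ Subgroup.centralizer (S : Set Γ) with hZ
  have hVS : V ≤ S := (le_pCore' hVn hVp).trans (pCore_le_sylow S hS hidx)
  -- the conjugates
  let c : (Γ ⧸ S) → ↥Z → ↥V := fun ω z =>
    ⟨ω.out * (z : Γ) * (ω.out)⁻¹, hVn.conj_mem _ (hZV z.2) _⟩
  have hc_mul : ∀ ω (z z' : ↥Z), c ω (z * z') = c ω z * c ω z' := by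
    intro ω z z'
    apply Subtype.ext
    show ω.out * ((z : Γ) * (z' : Γ)) * (ω.out)⁻¹ =
      (ω.out * (z : Γ) * (ω.out)⁻¹) * (ω.out * (z' : Γ) * (ω.out)⁻¹)
    group
  have hc_one : ∀ ω, c ω 1 = 1 := by
    intro ω
    apply Subtype.ext
    show ω.out * ((1 : ↥Z) : Γ) * (ω.out)⁻¹ = 1
    simp
  let τ : ↥Z →* ↥V :=
    { toFun := fun z => ∏ ω : Γ ⧸ S, c ω z
      map_one' := by
        show ∏ ω : Γ ⧸ S, c ω 1 = 1
        simp [hc_one]
      map_mul' := by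
        intro z z'
        show ∏ ω : Γ ⧸ S, c ω (z * z') = (∏ ω : Γ ⧸ S, c ω z) * ∏ ω : Γ ⧸ S, c ω z'
        rw [← Finset.prod_mul_distrib]
        exact Finset.prod_congr rfl (fun ω _ => hc_mul ω z z') }
  have hτ_def : ∀ z : ↥Z, τ z = ∏ ω : Γ ⧸ S, c ω z := fun z => rfl
  -- invariance
  have hcent : ∀ z : ↥Z, ∀ m ∈ S, m * (z : Γ) * m⁻¹ = (z : Γ) := by
    intro z m hm
    have := Subgroup.mem_centralizer_iff.mp z.2.2 m hm
    rw [this]; group
  have hτ_inv : ∀ (z : ↥Z) (γ : Γ), γ * ((τ z : ↥V) : Γ) * γ⁻¹ = ((τ z : ↥V) : Γ) := by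
    intro z γ
    let φ : ↥V →* ↥V := (MulAut.conjNormal γ : MulAut ↥V).toMonoidHom
    have hφ : ∀ v : ↥V, ((φ v : ↥V) : Γ) = γ * (v : Γ) * γ⁻¹ := by
      intro v
      simp [φ, MulAut.conjNormal_apply]
    rw [← hφ, hτ_def, map_prod]
    have h1 : ∀ ω : Γ ⧸ S, φ (c ω z) = c (γ • ω) z := by
      intro ω
      apply Subtype.ext
      rw [hφ]
      show γ * (ω.out * (z : Γ) * (ω.out)⁻¹) * γ⁻¹ = (γ • ω).out * (z : Γ) * ((γ • ω).out)⁻¹
      exact (out_smul_conj (z : Γ) (hcent z) γ ω).symm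
    rw [Finset.prod_congr rfl (fun ω _ => h1 ω)]
    congr 1
    exact Function.Bijective.prod_comp (MulAction.bijective γ) (fun ω => c ω z)
  set W : Subgroup Γ := S ⊓ Subgroup.center Γ with hW
  have hWZ : W ≤ Z := by
    intro w hw
    exact ⟨hw.1, Subgroup.center_le_centralizer _ hw.2⟩
  have hτ_W : ∀ (w : ↥Z), (w : Γ) ∈ W → ((τ w : ↥V) : Γ) = (w : Γ) ^ S.index := by
    intro w hw
    have h1 : ∀ ω : Γ ⧸ S, c ω w = ⟨(w : Γ), hZV w.2⟩ := by
      intro ω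
      apply Subtype.ext
      show ω.out * (w : Γ) * (ω.out)⁻¹ = (w : Γ)
      have := Subgroup.mem_center_iff.mp hw.2 ω.out
      rw [this]; group
    rw [hτ_def, Finset.prod_congr rfl (fun ω _ => h1 ω), Finset.prod_const, Finset.card_univ,
      ← Nat.card_eq_fintype_card, ← Subgroup.index_eq_card]
    simp
  have hτW_mem : ∀ z : ↥Z, ((τ z : ↥V) : Γ) ∈ W := by
    intro z
    refine ⟨hVS (τ z).2, ?_⟩
    show ((τ z : ↥V) : Γ) ∈ Subgroup.center Γ
    rw [Subgroup.mem_center_iff]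
    intro γ
    have := hτ_inv z γ
    calc γ * ((τ z : ↥V) : Γ) = (γ * ((τ z : ↥V) : Γ) * γ⁻¹) * γ := by group
      _ = ((τ z : ↥V) : Γ) * γ := by rw [this]
  have hcop : ∀ x ∈ S, (S.index).Coprime (orderOf x) := by
    intro x hx
    obtain ⟨k, hk⟩ := hS ⟨x, hx⟩
    have hk' : x ^ p ^ k = 1 := by
      have := congrArg Subtype.val hk
      simpa using this
    have h1 : orderOf x ∣ p ^ k := orderOf_dvd_of_pow_eq_one hk'
    have h2 : (S.index).Coprime p := ((Nat.Prime.coprime_iff_not_dvd hp.out).mpr hidx).symm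
    exact Nat.Coprime.coprime_dvd_right h1 (Nat.Coprime.pow_right k h2)
  refine ⟨τ.ker.map Z.subtype, Subgroup.map_subtype_le _, ?_, ?_⟩
  · rw [eq_bot_iff]
    rintro x ⟨hxW, ⟨k, hk, rfl⟩⟩
    rw [Subgroup.mem_bot]
    have h1 : ((τ k : ↥V) : Γ) = (k : Γ) ^ S.index := hτ_W k hxW
    have h2 : τ k = 1 := hk
    rw [h2] at h1
    have h3 : orderOf (k : Γ) ∣ S.index := orderOf_dvd_of_pow_eq_one h1.symm
    have h4 := hcop (k : Γ) hxW.1
    have h5 : orderOf (k : Γ) = 1 := Nat.eq_one_of_dvd_coprimes h4.symm dvd_rfl h3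
    exact orderOf_eq_one_iff.mp h5
  · apply le_antisymm
    · exact sup_le hWZ (Subgroup.map_subtype_le _)
    · intro z hz
      set t : Γ := ((τ ⟨z, hz⟩ : ↥V) : Γ) with ht
      have htW : t ∈ W := hτW_mem ⟨z, hz⟩
      obtain ⟨e, he⟩ := exists_pow_eq_self_of_coprime (hcop t htW.1)
      set u : Γ := t ^ e with hu
      have huW : u ∈ W := Subgroup.pow_mem _ htW e
      have huZ : u ∈ Z := hWZ huW
      have h1 : ((τ ⟨u, huZ⟩ : ↥V) : Γ) = t := by
        rw [hτ_W ⟨u, huZ⟩ huW]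
        show (t ^ e) ^ S.index = t
        rw [← pow_mul, mul_comm, pow_mul]
        exact he
      have h2 : τ (⟨z, hz⟩ * ⟨u, huZ⟩⁻¹) = 1 := by
        rw [map_mul, map_inv]
        have : τ ⟨u, huZ⟩ = τ ⟨z, hz⟩ := Subtype.ext h1
        rw [this, mul_inv_cancel]
      have h3 : z * u⁻¹ ∈ τ.ker.map Z.subtype := ⟨⟨z, hz⟩ * ⟨u, huZ⟩⁻¹, h2, by simp⟩
      have e1 : z = u * (u⁻¹ * z) := by group
      have hcomm : z * u⁻¹ = u⁻¹ * z := by
        have := Subgroup.mem_center_iff.mp (Subgroup.inv_mem _ huW.2) z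
        exact this
      rw [e1, ← hcomm]
      exact Subgroup.mul_mem _ (Subgroup.mem_sup_left huW) (Subgroup.mem_sup_right h3)

end trace

end Cfsg.Agent.Helper10
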