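import Mathlib
import Cfsg.Agent.Lib.Helper10.SecApply
import Cfsg.Agent.Lib.Helper10.PairFusion
import Cfsg.Prelude.Def_PLocal
import Cfsg.Prelude.Def_LocalEven
import Cfsg.Prelude.Def_TwoFusion

/-!
# Pulling a factorization back from the constrained section `N_G(Q) / O_{p'}(N_G(Q))`
(helper10's library; used for S1997)
-/

set_option autoImplicit false

namespace Cfsg.Agent.Helper10

open Cfsg

universe u

section abs

variable {H : Type u} [Group H] [Finite H] {p : ℕ} [Fact p.Prime]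

theorem pgroup_inf_coprime_eq_bot (Q Y : Subgroup H) (hQ : IsPGroup p Q)
    (hY : (Nat.card Y).Coprime p) : Q ⊓ Y = ⊥ := by
  apply Subgroup.inf_eq_bot_of_coprime
  obtain ⟨k, hk⟩ := hQ.exists_card_eq
  rw [hk]
  exact (Nat.Coprime.pow_right k hY).symm

/-- if `Q ⊴ H` is a `p`-subgroup containing its centralizer in the Sylow `p`-subgroup `T`, then
`H / O_{p'}(H)` is constrained -/
theorem constrained_quot_of_centric (T Q Y : Subgroup H) [hYn : Y.Normal]
    (hY : Y = pPrimeCore p H)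
    (hT : IsPGroup p T) (hidx : ¬ p ∣ T.index) (hQn : Q.Normal) (hQT : Q ≤ T)
    (hcen : T ⊓ Subgroup.centralizer (Q : Set H) ≤ Q) : Constrained p (H ⧸ Y) := by
  subst hY
  set π := QuotientGroup.mk' (pPrimeCore p H) with hπ
  have hπs : Function.Surjective π := QuotientGroup.mk'_surjective _
  have hYc : (Nat.card (pPrimeCore p H)).Coprime p := card_pPrimeCore_coprime p
  set Tb := T.map π with hTbdef
  have hTb : IsPGroup p Tb := hT.map π
  have hTbidx : ¬ p ∣ Tb.index := fun hd => hidx (hd.trans (Subgroup.index_map_dvd T hπs))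
  have hbot : pPrimeCore p (H ⧸ pPrimeCore p H) = ⊥ := pPrimeCore_quotient_pPrimeCore' p H
  apply constrained_of_inf_normal Tb hTb hTbidx hbot
  set P := pCore p (H ⧸ pPrimeCore p H) with hP
  haveI hPn : P.Normal := pCore_normal p
  have hPT : P ≤ Tb := pCore_le_sylow Tb hTb hTbidx
  have hQb : Q.map π ≤ P := le_pCore' (hQn.map π hπs) ((hT.to_le hQT).map π)
  have hQY : Q ⊓ pPrimeCore p H = ⊥ := pgroup_inf_coprime_eq_bot Q _ (hT.to_le hQT) hYc
  have key : Tb ⊓ Subgroup.centralizer (P : Set (H ⧸ pPrimeCore p H)) ≤ P := by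
    intro x hx
    obtain ⟨t, ht, rfl⟩ := hx.1
    have htQ : t ∈ T ⊓ Subgroup.centralizer (Q : Set H) := by
      refine ⟨ht, ?_⟩
      show t ∈ Subgroup.centralizer (Q : Set H)
      rw [Subgroup.mem_centralizer_iff]
      intro q hq
      have h1 : π q * π t = π t * π q :=
        Subgroup.mem_centralizer_iff.mp hx.2 (π q) (hQb (Subgroup.mem_map_of_mem π hq))
      have h2 : (q * t) * (t * q)⁻¹ ∈ pPrimeCore p H := by
        rw [← QuotientGroup.eq_one_iff]
        show π ((q * t) * (t * q)⁻¹) = 1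
        rw [map_mul, map_inv, map_mul, map_mul, h1]
        group
      have h3 : (q * t) * (t * q)⁻¹ ∈ Q := by
        have e : (q * t) * (t * q)⁻¹ = q * (t * q⁻¹ * t⁻¹) := by group
        rw [e]
        exact Q.mul_mem hq (hQn.conj_mem _ (Q.inv_mem hq) t)
      have h4 : (q * t) * (t * q)⁻¹ ∈ Q ⊓ pPrimeCore p H := ⟨h3, h2⟩
      rw [hQY, Subgroup.mem_bot] at h4
      exact mul_inv_eq_one.mp h4
    exact hQb (Subgroup.mem_map_of_mem π (hcen htQ))
  have e : Tb ⊓ Subgroup.centralizer (P : Set (H ⧸ pPrimeCore p H)) =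
      P ⊓ Subgroup.centralizer (P : Set (H ⧸ pPrimeCore p H)) :=
    le_antisymm (le_inf key inf_le_right) (inf_le_inf_right _ hPT)
  rw [e]
  haveI : (Subgroup.centralizer (P : Set (H ⧸ pPrimeCore p H))).Normal := Subgroup.normal_centralizer
  exact Subgroup.normal_inf_normal _ _

/-- pulling a factorization `x̄ = ā b̄` back from `H / Y` (`Y` a normal `p'`-subgroup) -/
theorem factor_pullback {W : ∀ (Q : Type u) [Group Q], Subgroup Q} (hW : IsCharPFunctor.{u} p W)
    (T Q Y : Subgroup H) [hYn : Y.Normal] (hYc : (Nat.card Y).Coprime p)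
    (hT : IsPGroup p T) (hQn : Q.Normal) (hQT : Q ≤ T)
    (hcen : T ⊓ Subgroup.centralizer (Q : Set H) ≤ Q)
    (Tb : Subgroup (H ⧸ Y)) (hTb : Tb = T.map (QuotientGroup.mk' Y))
    (x : H) (a' b' : H ⧸ Y)
    (ha' : a' ∈ Subgroup.centralizer
      ((omegaOne p (Tb ⊓ Subgroup.centralizer (Tb : Set (H ⧸ Y))) : Subgroup (H ⧸ Y)) : Set (H ⧸ Y)))
    (hb' : b' ∈ Subgroup.normalizer ((inducedFunctor (G := H ⧸ Y) W Tb : Subgroup (H ⧸ Y)) : Set (H ⧸ Y)))
    (hx : (QuotientGroup.mk' Y) x = a' * b') :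
    ∃ a b : H, x = a * b ∧
      (∀ z ∈ T ⊓ Subgroup.centralizer (T : Set H), z ^ p = 1 → a * z = z * a) ∧
      b ∈ Subgroup.normalizer ((inducedFunctor (G := H) W T : Subgroup H) : Set H) := by
  subst hTb
  set π := QuotientGroup.mk' Y with hπ
  have hπs : Function.Surjective π := QuotientGroup.mk'_surjective _
  have hQp : IsPGroup p Q := hT.to_le hQT
  have hQY : Q ⊓ Y = ⊥ := pgroup_inf_coprime_eq_bot Q Y hQp hYc
  obtain ⟨a₀, ha₀⟩ := hπs a'
  set b₀ := a₀⁻¹ * x with hb₀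
  have hπb₀ : π b₀ = b' := by
    rw [hb₀, map_mul, map_inv, hx, ha₀]; group
  set V := inducedFunctor (G := H) W T with hV
  have hVT : V ≤ T := indW_le T
  have hVp : IsPGroup p V := hT.to_le hVT
  have hVmap : inducedFunctor (G := H ⧸ Y) W (T.map π) = V.map π :=
    indW_map hW π T hT (injOn_mk_of_coprime T Y hT hYc)
  rw [hVmap] at hb'
  have hb'inv : b'⁻¹ ∈ Subgroup.normalizer ((V.map π : Subgroup (H ⧸ Y)) : Set (H ⧸ Y)) :=
    Subgroup.inv_mem _ hb'
  have hrcg : rcg b₀ V ≤ V ⊔ Y := by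
    intro z hz
    rw [mem_rcg] at hz
    have h1 : π (b₀ * z * b₀⁻¹) ∈ V.map π := Subgroup.mem_map_of_mem π hz
    have h2 : b'⁻¹ * π (b₀ * z * b₀⁻¹) * b'⁻¹⁻¹ ∈ V.map π :=
      (Subgroup.mem_normalizer_iff.mp hb'inv _).mp h1
    have h3 : b'⁻¹ * π (b₀ * z * b₀⁻¹) * b'⁻¹⁻¹ = π z := by
      rw [map_mul, map_mul, map_inv, hπb₀]; group
    rw [h3] at h2
    have h4 : z ∈ (V.map π).comap π := h2
    rw [Subgroup.comap_map_eq, hπ, QuotientGroup.ker_mk'] at h4
    exact h4
  obtain ⟨y, hy, hby⟩ := exists_mul_mem_normalizer V Y hVp hYc b₀ hrcg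
  set b := b₀ * y with hb
  set y' := b * y⁻¹ * b⁻¹ with hy'
  have hy'Y : y' ∈ Y := hYn.conj_mem _ (Y.inv_mem hy) b
  refine ⟨a₀ * y', b, ?_, ?_, hby⟩
  · rw [hy', hb, hb₀]; group
  · intro z hz hzp
    have hzQ : z ∈ Q := by
      apply hcen
      refine ⟨hz.1, ?_⟩
      exact Subgroup.centralizer_le (show (Q : Set H) ⊆ (T : Set H) from SetLike.coe_subset_coe.mpr hQT) hz.2
    -- `y'` commutes with `z`
    have h1 : y' * z = z * y' := by
      have h2 : y' * z * y'⁻¹ * z⁻¹ ∈ Q ⊓ Y := by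
        constructor
        · exact Q.mul_mem (hQn.conj_mem z hzQ y') (Q.inv_mem hzQ)
        · have e : y' * z * y'⁻¹ * z⁻¹ = y' * (z * y'⁻¹ * z⁻¹) := by group
          rw [e]
          exact Y.mul_mem hy'Y (hYn.conj_mem _ (Y.inv_mem hy'Y) z)
      rw [hQY, Subgroup.mem_bot] at h2
      have h3 : y' * z = (y' * z * y'⁻¹ * z⁻¹) * (z * y') := by group
      rw [h3, h2, one_mul]
    -- `a₀` commutes with `z`
    have h4 : a₀ * z = z * a₀ := by
      have hπz : π z ∈ omegaOne p ((T.map π) ⊓ Subgroup.centralizer ((T.map π : Subgroup (H ⧸ Y)) : Set (H ⧸ Y))) := by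
        unfold omegaOne
        apply Subgroup.subset_closure
        refine ⟨⟨Subgroup.mem_map_of_mem π hz.1, ?_⟩, ?_⟩
        · show π z ∈ Subgroup.centralizer ((T.map π : Subgroup (H ⧸ Y)) : Set (H ⧸ Y))
          rw [Subgroup.mem_centralizer_iff]
          rintro _ ⟨t, ht, rfl⟩
          have := Subgroup.mem_centralizer_iff.mp hz.2 t ht
          rw [← map_mul, ← map_mul, this]
        · rw [← map_pow, hzp, map_one]
      have h5 : π z * a' = a' * π z := Subgroup.mem_centralizer_iff.mp ha' (π z) hπz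
      have h6 : (z * a₀) * (a₀ * z)⁻¹ ∈ Q ⊓ Y := by
        constructor
        · have e : (z * a₀) * (a₀ * z)⁻¹ = z * (a₀ * z⁻¹ * a₀⁻¹) := by group
          rw [e]
          exact Q.mul_mem hzQ (hQn.conj_mem _ (Q.inv_mem hzQ) a₀)
        · show (z * a₀) * (a₀ * z)⁻¹ ∈ Y
          rw [← QuotientGroup.eq_one_iff]
          show π ((z * a₀) * (a₀ * z)⁻¹) = 1
          rw [map_mul, map_inv, map_mul, map_mul, ha₀, h5]
          group
      rw [hQY, Subgroup.mem_bot] at h6
      exact (mul_inv_eq_one.mp h6).symm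
    calc a₀ * y' * z = a₀ * (y' * z) := by group
      _ = a₀ * (z * y') := by rw [h1]
      _ = (a₀ * z) * y' := by group
      _ = (z * a₀) * y' := by rw [h4]
      _ = z * (a₀ * y') := by group

end abs

section conc

variable {G : Type u} [Group G] [Finite G] {p : ℕ} [Fact p.Prime]

/-- the factorization hypothesis for constrained sections, applied to the section
`N_G(Q) / O_{p'}(N_G(Q))` for a `p`-subgroup `Q ⊴ S` with `C_S(Q) ≤ Q`, gives a factorization of
`N_G(Q)` itself -/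
theorem local_factor (S : Sylow p G) (W : ∀ (Q : Type u) [Group Q], Subgroup Q)
    (hW : IsCharPFunctor.{u} p W)
    (hfacW : ∀ (K R : Subgroup G) [hR : (R.subgroupOf K).Normal],
      Subgroup.centralizer ((pCore p (↥K ⧸ R.subgroupOf K) : Subgroup (↥K ⧸ R.subgroupOf K)) :
        Set (↥K ⧸ R.subgroupOf K)) ≤ pCore p (↥K ⧸ R.subgroupOf K) →
      ∀ T : Sylow p (↥K ⧸ R.subgroupOf K), ∀ x : (↥K ⧸ R.subgroupOf K),
        ∃ a ∈ Subgroup.centralizer ((omegaOne p ((T : Subgroup (↥K ⧸ R.subgroupOf K)) ⊓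
          Subgroup.centralizer ((T : Subgroup (↥K ⧸ R.subgroupOf K)) : Set (↥K ⧸ R.subgroupOf K))) :
            Subgroup (↥K ⧸ R.subgroupOf K)) : Set (↥K ⧸ R.subgroupOf K)),
        ∃ b ∈ Subgroup.normalizer ((inducedFunctor (G := (↥K ⧸ R.subgroupOf K)) W
          (T : Subgroup (↥K ⧸ R.subgroupOf K)) : Subgroup (↥K ⧸ R.subgroupOf K)) :
            Set (↥K ⧸ R.subgroupOf K)), x = a * b)
    (Q : Subgroup G) (hQS : Q ≤ (S : Subgroup G))
    (hSQ : (S : Subgroup G) ≤ Subgroup.normalizer (Q : Set G))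
    (hcen : (S : Subgroup G) ⊓ Subgroup.centralizer (Q : Set G) ≤ Q)
    (x : G) (hx : x ∈ Subgroup.normalizer (Q : Set G)) :
    ∃ a ∈ Subgroup.centralizer ((omegaOne p ((S : Subgroup G) ⊓
        Subgroup.centralizer ((S : Subgroup G) : Set G)) : Subgroup G) : Set G),
      ∃ b ∈ Subgroup.normalizer ((inducedFunctor (G := G) W (S : Subgroup G) : Subgroup G) : Set G),
        x = a * b := by
  classical
  set L := Subgroup.normalizer (Q : Set G) with hL
  set Y' : Subgroup ↥L := pPrimeCore p ↥L with hY'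
  haveI hY'n : Y'.Normal := pPrimeCore_normal p
  set R : Subgroup G := Y'.map L.subtype with hR
  have hRY : R.subgroupOf L = Y' := by
    rw [hR]
    exact Subgroup.comap_map_eq_self_of_injective L.subtype_injective Y'
  haveI hRn : (R.subgroupOf L).Normal := by rw [hRY]; exact hY'n
  set T : Subgroup ↥L := (S : Subgroup G).subgroupOf L with hTdef
  set Q' : Subgroup ↥L := Q.subgroupOf L with hQ'def
  have hT : IsPGroup p T := S.isPGroup'.comap_subtype
  have hTidx : ¬ p ∣ T.index := by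
    show ¬ p ∣ (S : Subgroup G).relIndex L
    exact fun hd => S.not_dvd_index (hd.trans (Subgroup.relIndex_dvd_index_of_le hSQ))
  have hQ'n : Q'.Normal := Subgroup.normal_in_normalizer
  have hQ'T : Q' ≤ T := fun y hy => hQS hy
  have hcen' : T ⊓ Subgroup.centralizer (Q' : Set ↥L) ≤ Q' := by
    intro t ht
    show (t : G) ∈ Q
    apply hcen
    refine ⟨ht.1, ?_⟩
    show (t : G) ∈ Subgroup.centralizer (Q : Set G)
    rw [Subgroup.mem_centralizer_iff]
    intro q hq
    have h1 := Subgroup.mem_centralizer_iff.mp ht.2 ⟨q, Subgroup.le_normalizer hq⟩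
      (show (⟨q, Subgroup.le_normalizer hq⟩ : ↥L) ∈ Q' from hq)
    exact congrArg Subtype.val h1
  have hcon := constrained_quot_of_centric T Q' (R.subgroupOf L) hRY hT hTidx hQ'n hQ'T hcen'
  set π := QuotientGroup.mk' (R.subgroupOf L) with hπ
  have hTbp : IsPGroup p (T.map π) := hT.map π
  have hTbidx : ¬ p ∣ (T.map π).index :=
    fun hd => hTidx (hd.trans (Subgroup.index_map_dvd T (QuotientGroup.mk'_surjective _)))
  let Ts : Sylow p (↥L ⧸ R.subgroupOf L) := hTbp.toSylow hTbidx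
  have hTs : (Ts : Subgroup (↥L ⧸ R.subgroupOf L)) = T.map π := IsPGroup.toSylow_coe hTbp hTbidx
  obtain ⟨a', ha', b', hb', hxab⟩ := hfacW L R hcon Ts (π ⟨x, hx⟩)
  have hYc : (Nat.card (R.subgroupOf L)).Coprime p := by
    rw [hRY]; exact card_pPrimeCore_coprime p
  obtain ⟨a, b, hxab', hacomm, hbn⟩ := factor_pullback hW T Q' (R.subgroupOf L) hYc hT hQ'n hQ'T
    hcen' (Ts : Subgroup (↥L ⧸ R.subgroupOf L)) hTs ⟨x, hx⟩ a' b' ha' hb' hxab
  refine ⟨(a : G), ?_, (b : G), ?_, ?_⟩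
  · have hcl : omegaOne p ((S : Subgroup G) ⊓ Subgroup.centralizer ((S : Subgroup G) : Set G)) ≤
        Subgroup.centralizer ({(a : G)} : Set G) := by
      unfold omegaOne
      rw [Subgroup.closure_le]
      rintro z ⟨hz, hzp⟩
      have hzL : z ∈ L := hSQ hz.1
      rw [SetLike.mem_coe, Subgroup.mem_centralizer_iff]
      intro g hg
      rw [Set.mem_singleton_iff.mp hg]
      have hzT : (⟨z, hzL⟩ : ↥L) ∈ T ⊓ Subgroup.centralizer (T : Set ↥L) := by
        refine ⟨hz.1, ?_⟩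
        show (⟨z, hzL⟩ : ↥L) ∈ Subgroup.centralizer (T : Set ↥L)
        rw [Subgroup.mem_centralizer_iff]
        intro t ht
        have := Subgroup.mem_centralizer_iff.mp hz.2 (t : G) ht
        exact Subtype.ext this
      have h2 := hacomm ⟨z, hzL⟩ hzT (Subtype.ext (by simpa using hzp))
      exact congrArg Subtype.val h2
    rw [Subgroup.mem_centralizer_iff]
    intro h hh
    have := Subgroup.mem_centralizer_iff.mp (hcl hh) (a : G) (Set.mem_singleton _)
    exact this.symm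
  · have e : inducedFunctor (G := G) W (S : Subgroup G) =
        (inducedFunctor (G := ↥L) W T).map L.subtype := by
      have h1 := indW_map hW L.subtype T hT (L.subtype_injective.injOn)
      have h2 : T.map L.subtype = (S : Subgroup G) := Subgroup.map_subgroupOf_eq_of_le hSQ
      rw [h2] at h1
      exact h1
    rw [e]
    exact Subgroup.le_normalizer_map L.subtype (Subgroup.mem_map_of_mem L.subtype hbn)
  · exact congrArg Subtype.val hxab'

end conc

section conc2

variable {G : Type u} [Group G] [Finite G] {p : ℕ} [Fact p.Prime]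

/-- the one-functor factorization hypothesis `G* = C(Ω₁Z(S*)) N(W(S*))` on constrained sections -/
def SecFactor (G : Type u) [Group G] (p : ℕ) (W : ∀ (Q : Type u) [Group Q], Subgroup Q) : Prop :=
  ∀ (K R : Subgroup G) [hR : (R.subgroupOf K).Normal],
      Subgroup.centralizer ((pCore p (↥K ⧸ R.subgroupOf K) : Subgroup (↥K ⧸ R.subgroupOf K)) :
        Set (↥K ⧸ R.subgroupOf K)) ≤ pCore p (↥K ⧸ R.subgroupOf K) →
      ∀ T : Sylow p (↥K ⧸ R.subgroupOf K), ∀ x : (↥K ⧸ R.subgroupOf K),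
        ∃ a ∈ Subgroup.centralizer ((omegaOne p ((T : Subgroup (↥K ⧸ R.subgroupOf K)) ⊓
          Subgroup.centralizer ((T : Subgroup (↥K ⧸ R.subgroupOf K)) : Set (↥K ⧸ R.subgroupOf K))) :
            Subgroup (↥K ⧸ R.subgroupOf K)) : Set (↥K ⧸ R.subgroupOf K)),
        ∃ b ∈ Subgroup.normalizer ((inducedFunctor (G := (↥K ⧸ R.subgroupOf K)) W
          (T : Subgroup (↥K ⧸ R.subgroupOf K)) : Subgroup (↥K ⧸ R.subgroupOf K)) :
            Set (↥K ⧸ R.subgroupOf K)), x = a * b

/-- `Ω₁Z(S)` -/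
abbrev omZ (S : Sylow p G) : Subgroup G :=
  omegaOne p ((S : Subgroup G) ⊓ Subgroup.centralizer ((S : Subgroup G) : Set G))

theorem omZ_le_center (S : Sylow p G) :
    omZ S ≤ (S : Subgroup G) ⊓ Subgroup.centralizer ((S : Subgroup G) : Set G) := by
  unfold omZ omegaOne
  rw [Subgroup.closure_le]
  rintro z ⟨hz, -⟩
  exact hz

/-- a conjugate of an element of `Ω₁Z(S)` by an element of `N_G(W₁(S))` is also a conjugate by an
element of `N_G(W₂(S))` -/
theorem ncl_step (S : Sylow p G) (W₁ W₂ : ∀ (Q : Type u) [Group Q], Subgroup Q)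
    (hW₁ : IsCharPFunctor.{u} p W₁) (hW₂ : IsCharPFunctor.{u} p W₂)
    (hfac₂ : SecFactor G p W₂)
    (hZ₁ : omZ S ≤ inducedFunctor (G := G) W₁ (S : Subgroup G))
    (n : G) (hn : n ∈ Subgroup.normalizer ((inducedFunctor (G := G) W₁ (S : Subgroup G) : Subgroup G) : Set G))
    (z : G) (hz : z ∈ omZ S) :
    ∃ b ∈ Subgroup.normalizer ((inducedFunctor (G := G) W₂ (S : Subgroup G) : Subgroup G) : Set G),
      n * z * n⁻¹ = b * z * b⁻¹ := by
  classical
  have hSp : IsPGroup p (S : Subgroup G) := S.isPGroup'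
  have hc₁ := isConjugacyFunctor_indW (H := G) hW₁
  set V := inducedFunctor (G := G) W₁ (S : Subgroup G) with hV
  have hVS : V ≤ (S : Subgroup G) := indW_le _
  set N₁ := Subgroup.normalizer (V : Set G) with hN₁
  set C₁ := Subgroup.centralizer (V : Set G) with hC₁
  have hSN₁ : (S : Subgroup G) ≤ N₁ := cf_le_normalizer hc₁ hSp
  have htame : ¬ p ∣ ((S : Subgroup G) ⊓ N₁).relIndex N₁ := by
    rw [inf_eq_left.mpr hSN₁]
    exact fun hd => S.not_dvd_index (hd.trans (Subgroup.relIndex_dvd_index_of_le hSN₁))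
  obtain ⟨c, hc, y, hny, hyN, hyC⟩ := centric_factor (S : Subgroup G) hSp V htame n hn
  set Q₁ := V ⊔ ((S : Subgroup G) ⊓ C₁) with hQ₁
  have hyQ : y ∈ Subgroup.normalizer (Q₁ : Set G) :=
    normalizer_inf_le_normalizer_sup V ((S : Subgroup G) ⊓ C₁) ⟨hyN, hyC⟩
  have hQS : Q₁ ≤ (S : Subgroup G) := sup_le hVS inf_le_left
  have hSQ : (S : Subgroup G) ≤ Subgroup.normalizer (Q₁ : Set G) := by
    intro s hs
    apply normalizer_inf_le_normalizer_sup V ((S : Subgroup G) ⊓ C₁)
    refine ⟨hSN₁ hs, ?_⟩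
    have h1 : s ∈ Subgroup.normalizer ((C₁ : Subgroup G) : Set G) :=
      normalizer_le_normalizer_centralizer V (hSN₁ hs)
    show s ∈ Subgroup.normalizer ((((S : Subgroup G) ⊓ C₁ : Subgroup G)) : Set G)
    rw [Subgroup.mem_normalizer_iff] at h1 ⊢
    intro x
    constructor
    · rintro ⟨hx1, hx2⟩
      exact ⟨(S : Subgroup G).mul_mem ((S : Subgroup G).mul_mem hs hx1) ((S : Subgroup G).inv_mem hs),
        (h1 x).mp hx2⟩
    · rintro ⟨hx1, hx2⟩
      refine ⟨?_, (h1 x).mpr hx2⟩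
      have e : x = s⁻¹ * (s * x * s⁻¹) * s := by group
      rw [e]
      exact (S : Subgroup G).mul_mem ((S : Subgroup G).mul_mem ((S : Subgroup G).inv_mem hs) hx1) hs
  have hcen : (S : Subgroup G) ⊓ Subgroup.centralizer (Q₁ : Set G) ≤ Q₁ := by
    refine le_trans ?_ (le_sup_right : (S : Subgroup G) ⊓ C₁ ≤ Q₁)
    exact inf_le_inf_left _ (Subgroup.centralizer_le
      (show (V : Set G) ⊆ (Q₁ : Set G) from SetLike.coe_subset_coe.mpr le_sup_left))
  obtain ⟨a, ha, b, hb, hyab⟩ := local_factor S W₂ hW₂ hfac₂ Q₁ hQS hSQ hcen y⁻¹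
    (Subgroup.inv_mem _ hyQ)
  refine ⟨b⁻¹, Subgroup.inv_mem _ hb, ?_⟩
  have hza : z * a = a * z := Subgroup.mem_centralizer_iff.mp ha z hz
  have hy : y = b⁻¹ * a⁻¹ := by
    have : y = (y⁻¹)⁻¹ := by group
    rw [this, hyab]; group
  have h1 : y * z * y⁻¹ = b⁻¹ * z * b⁻¹⁻¹ := by
    rw [hy]
    have e : b⁻¹ * a⁻¹ * z * (b⁻¹ * a⁻¹)⁻¹ = b⁻¹ * (a⁻¹ * (z * a)) * b := by group
    rw [e, hza]
    group
  have h2 : y * z * y⁻¹ ∈ V := by
    have := (Subgroup.mem_normalizer_iff.mp hyN z).mp (hZ₁ hz)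
    exact this
  have h3 : (y * z * y⁻¹) * c = c * (y * z * y⁻¹) := Subgroup.mem_centralizer_iff.mp hc _ h2
  rw [← h1, hny]
  calc c * y * z * (c * y)⁻¹ = c * (y * z * y⁻¹) * c⁻¹ := by group
    _ = (y * z * y⁻¹) * c * c⁻¹ := by rw [h3]
    _ = y * z * y⁻¹ := by group

end conc2

section conc3

variable {G : Type u} [Group G] [Finite G] {p : ℕ} [Fact p.Prime]

theorem mem_normalizer_closure_of_conj_mem (g : G) (X : Set G)
    (h : ∀ x ∈ X, g⁻¹ * x * g ∈ X) : g ∈ Subgroup.normalizer ((Subgroup.closure X : Subgroup G) : Set G) := by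
  rw [mem_normalizer_iff_rcg]
  apply rcg_eq_of_le_of_finite
  unfold rcg
  rw [MonoidHom.map_closure, Subgroup.closure_le]
  rintro _ ⟨x, hx, rfl⟩
  apply Subgroup.subset_closure
  have := h x hx
  simpa using this

/-- the conjugates of the elements of `Ω₁Z(S)` under `N_G(W(S))` -/
def zConj (S : Sylow p G) (W : ∀ (Q : Type u) [Group Q], Subgroup Q) : Set G :=
  {g | ∃ n ∈ Subgroup.normalizer ((inducedFunctor (G := G) W (S : Subgroup G) : Subgroup G) : Set G),
    ∃ z ∈ omZ S, g = n * z * n⁻¹}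

theorem normalClosure_map_eq (S : Sylow p G) (W : ∀ (Q : Type u) [Group Q], Subgroup Q)
    (N : Subgroup G)
    (hN : N = Subgroup.normalizer ((inducedFunctor (G := G) W (S : Subgroup G) : Subgroup G) : Set G))
    (hZN : omZ S ≤ N) :
    (Subgroup.normalClosure (((omZ S).subgroupOf N : Subgroup ↥N) : Set ↥N)).map N.subtype =
      Subgroup.closure (zConj S W) := by
  unfold Subgroup.normalClosure
  rw [MonoidHom.map_closure]
  congr 1
  ext g
  constructor
  · rintro ⟨g', hg', rfl⟩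
    rw [Group.mem_conjugatesOfSet_iff] at hg'
    obtain ⟨z, hz, hconj⟩ := hg'
    rw [isConj_iff] at hconj
    obtain ⟨c, hc⟩ := hconj
    refine ⟨(c : G), ?_, (z : G), hz, ?_⟩
    · rw [← hN]; exact c.2
    · rw [← hc]; rfl
  · rintro ⟨n, hn, z, hz, rfl⟩
    rw [← hN] at hn
    refine ⟨(⟨n, hn⟩ : ↥N) * ⟨z, hZN hz⟩ * (⟨n, hn⟩ : ↥N)⁻¹, ?_, rfl⟩
    rw [Group.mem_conjugatesOfSet_iff]
    refine ⟨⟨z, hZN hz⟩, hz, ?_⟩
    rw [isConj_iff]
    exact ⟨⟨n, hn⟩, rfl⟩

theorem zConj_subset (S : Sylow p G) (W : ∀ (Q : Type u) [Group Q], Subgroup Q)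
    (hZ : omZ S ≤ inducedFunctor (G := G) W (S : Subgroup G)) :
    zConj S W ⊆ ((inducedFunctor (G := G) W (S : Subgroup G) ⊓
      Subgroup.centralizer ((inducedFunctor (G := G) W (S : Subgroup G) : Subgroup G) : Set G) :
        Subgroup G) : Set G) := by
  rintro _ ⟨n, hn, z, hz, rfl⟩
  set V := inducedFunctor (G := G) W (S : Subgroup G) with hV
  have hVS : V ≤ (S : Subgroup G) := indW_le _
  have hzV : z ∈ V := hZ hz
  have hzC : z ∈ Subgroup.centralizer (V : Set G) :=
    Subgroup.centralizer_le (show (V : Set G) ⊆ ((S : Subgroup G) : Set G) from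
      SetLike.coe_subset_coe.mpr hVS) (omZ_le_center S hz).2
  refine ⟨(Subgroup.mem_normalizer_iff.mp hn z).mp hzV, ?_⟩
  exact (Subgroup.mem_normalizer_iff.mp (normalizer_le_normalizer_centralizer V hn) z).mp hzC

theorem zConj_pow (S : Sylow p G) (W : ∀ (Q : Type u) [Group Q], Subgroup Q) :
    ∀ g ∈ zConj S W, g ^ p = 1 := by
  rintro _ ⟨n, hn, z, hz, rfl⟩
  have hzp : z ^ p = 1 := by
    have hle : omZ S ≤ (Subgroup.closure {x : G | x ^ p = 1 ∧
        x ∈ Subgroup.centralizer ((S : Subgroup G) : Set G)}) := by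
      unfold omZ omegaOne
      apply Subgroup.closure_mono
      rintro x ⟨hx, hxp⟩
      exact ⟨hxp, hx.2⟩
    have h1 := hle hz
    -- all elements of the closure have `p`-th power one, since the generators commute with `S ∋` them
    have hcomm : ∀ x ∈ omZ S, x ∈ Subgroup.centralizer ((omZ S : Subgroup G) : Set G) := by
      intro x hx
      exact Subgroup.centralizer_le (show ((omZ S : Subgroup G) : Set G) ⊆ ((S : Subgroup G) : Set G)
        from SetLike.coe_subset_coe.mpr ((omZ_le_center S).trans inf_le_left)) (omZ_le_center S hx).2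
    clear h1 hle
    have key : ∀ x ∈ omZ S, x ^ p = 1 := by
      intro x hx
      unfold omZ omegaOne at hx
      induction hx using Subgroup.closure_induction with
      | mem y hy => exact hy.2
      | one => exact one_pow p
      | mul a b ha hb iha ihb =>
        have hab : Commute a b := by
          have ha' : a ∈ omZ S := ha
          have hb' : b ∈ omZ S := hb
          have := Subgroup.mem_centralizer_iff.mp (hcomm b hb') a ha'
          exact this
        rw [hab.mul_pow, iha, ihb, one_mul]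
      | inv a ha iha => rw [inv_pow, iha, inv_one]
    exact key z hz
  have e : (n * z * n⁻¹) ^ p = n * z ^ p * n⁻¹ := by
    rw [conj_pow]
  rw [e, hzp]; group

end conc3

section conc4

variable {G : Type u} [Group G] [Finite G] {p : ℕ} [Fact p.Prime]

/-- Glauberman's triple factorization theorem, in closure form -/
theorem triple_main (S : Sylow p G) (W₁ W₂ : ∀ (Q : Type u) [Group Q], Subgroup Q)
    (hW₁ : IsCharPFunctor.{u} p W₁) (hW₂ : IsCharPFunctor.{u} p W₂)
    (hfac₁ : SecFactor G p W₁) (hfac₂ : SecFactor G p W₂)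
    (hctl : FamilyControlsStrongFusionIn p
      {inducedFunctor (G := G) W₁, inducedFunctor (G := G) W₂} ⊤)
    (hZ₁ : omZ S ≤ inducedFunctor (G := G) W₁ (S : Subgroup G))
    (hZ₂ : omZ S ≤ inducedFunctor (G := G) W₂ (S : Subgroup G)) :
    Subgroup.closure (zConj S W₁) ≤ (S : Subgroup G) ∧
      IsElementaryAbelian p (Subgroup.closure (zConj S W₁)) ∧
      IsStronglyClosed (Subgroup.closure (zConj S W₁)) (S : Subgroup G) ∧
      ControlsStrongFusion p (Subgroup.closure (zConj S W₁)) := by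
  classical
  set A := Subgroup.closure (zConj S W₁) with hA
  set V₁ := inducedFunctor (G := G) W₁ (S : Subgroup G) with hV₁
  set V₂ := inducedFunctor (G := G) W₂ (S : Subgroup G) with hV₂
  set N₁ := Subgroup.normalizer (V₁ : Set G) with hN₁
  set N₂ := Subgroup.normalizer (V₂ : Set G) with hN₂
  have hSp : IsPGroup p (S : Subgroup G) := S.isPGroup'
  have hV₁S : V₁ ≤ (S : Subgroup G) := indW_le _
  have hAle : A ≤ V₁ ⊓ Subgroup.centralizer (V₁ : Set G) :=
    (Subgroup.closure_le _).mpr (zConj_subset S W₁ hZ₁)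
  have hAS : A ≤ (S : Subgroup G) := hAle.trans (inf_le_left.trans hV₁S)
  have hcomm : ∀ a ∈ A, ∀ b ∈ A, a * b = b * a := by
    intro a ha b hb
    exact Subgroup.mem_centralizer_iff.mp (hAle hb).2 a (hAle ha).1
  have hpow : ∀ a ∈ A, a ^ p = 1 := by
    intro a ha
    induction ha using Subgroup.closure_induction with
    | mem y hy => exact zConj_pow S W₁ y hy
    | one => exact one_pow p
    | mul a b ha hb iha ihb =>
      have hab : Commute a b := hcomm a ha b hb
      rw [hab.mul_pow, iha, ihb, one_mul]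
    | inv a ha iha => rw [inv_pow, iha, inv_one]
  have hN₁A : N₁ ≤ Subgroup.normalizer (A : Set G) := by
    intro n hn
    apply mem_normalizer_closure_of_conj_mem
    rintro _ ⟨m, hm, z, hz, rfl⟩
    refine ⟨n⁻¹ * m, N₁.mul_mem (N₁.inv_mem hn) hm, z, hz, ?_⟩
    group
  have hN₂A : N₂ ≤ Subgroup.normalizer (A : Set G) := by
    intro m hm
    apply mem_normalizer_closure_of_conj_mem
    rintro _ ⟨n, hn, z, hz, rfl⟩
    obtain ⟨b, hb, hnb⟩ := ncl_step S W₁ W₂ hW₁ hW₂ hfac₂ hZ₁ n hn z hz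
    obtain ⟨n', hn', hbn'⟩ := ncl_step S W₂ W₁ hW₂ hW₁ hfac₁ hZ₂ (m⁻¹ * b)
      (N₂.mul_mem (N₂.inv_mem hm) hb) z hz
    refine ⟨n', hn', z, hz, ?_⟩
    rw [← hbn', hnb]
    group
  -- control of strong fusion
  have h𝓦G : ∀ W ∈ ({inducedFunctor (G := G) W₁, inducedFunctor (G := G) W₂} :
      Set (Subgroup G → Subgroup G)), IsConjugacyFunctor p W := by
    rintro W hW
    rcases hW with rfl | hW
    · exact isConjugacyFunctor_indW hW₁
    · rw [Set.mem_singleton_iff.mp hW]; exact isConjugacyFunctor_indW hW₂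
  have hrel : ¬ p ∣ (S : Subgroup G).relIndex ⊤ := by
    rw [Subgroup.relIndex_top_right]; exact S.not_dvd_index
  have hctl' : ∀ (A' : Set G) (g : G), A' ⊆ ((S : Subgroup G) : Set G) →
      (fun a => g * a * g⁻¹) '' A' ⊆ ((S : Subgroup G) : Set G) →
      ∃ x ∈ Subgroup.normalizer (A : Set G), ∀ a ∈ A', g * a * g⁻¹ = x * a * x⁻¹ := by
    intro A' g hA' hgA'
    have hgA'' : rcs g⁻¹ A' ⊆ ((S : Subgroup G) : Set G) := by
      rintro _ ⟨a, ha, rfl⟩
      have := hgA' ⟨a, ha, rfl⟩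
      simpa using this
    obtain ⟨g', hch, hag⟩ := fcs_transfer h𝓦G hctl (S : Subgroup G) le_top hSp hrel A' g⁻¹
      (Subgroup.mem_top _) hA' hgA''
    have hg' : g' ∈ Subgroup.normalizer (A : Set G) := by
      apply nchain_mem_of_le ?_ hch
      rintro N ⟨W, hW, rfl⟩
      rcases hW with rfl | hW
      · exact inf_le_right.trans hN₁A
      · rw [Set.mem_singleton_iff.mp hW]; exact inf_le_right.trans hN₂A
    refine ⟨g'⁻¹, Subgroup.inv_mem _ hg', fun a ha => ?_⟩
    have := hag a ha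
    rw [inv_inv] at this
    rw [inv_inv, this]
  refine ⟨hAS, ⟨⟨⟨fun a b => Subtype.ext (hcomm a a.2 b b.2)⟩⟩, hpow⟩, ⟨hAS, ?_⟩, ⟨S, hAS, ?_⟩⟩
  · intro x hx g hgx
    obtain ⟨n, hn, hna⟩ := hctl' {x} g
      (by intro y hy; rw [Set.mem_singleton_iff.mp hy]; exact hAS hx)
      (by rintro _ ⟨y, hy, rfl⟩; rw [Set.mem_singleton_iff.mp hy]; exact hgx)
    rw [hna x (Set.mem_singleton x)]
    exact (Subgroup.mem_normalizer_iff.mp hn x).mp hx
  · intro A' hA'
    exact ⟨hA', fun g hg => hctl' A' g hA' hg⟩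

end conc4

end Cfsg.Agent.Helper10
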