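import Mathlib
import Cfsg.Agent.Lib.Helper1.Coprime
import Cfsg.Agent.Lib.Helper3.Thompson
import Cfsg.Agent.Lib.Helper15.CoprimeGen2
import Cfsg.Agent.Lib.Helper10.PCompCover
import Cfsg.Agent.Lib.Helper9.ThompsonRepl

set_option autoImplicit false

namespace Cfsg.Agent.Helper10

open Cfsg

universe u

section

variable {S : Type u} [Group S] [Finite S]

/-- configuration: a normal `p`-subgroup `P` with complement-like elementary abelian `q`-group `Q`,
two independent elements `x₁ x₂` of `Q`, all other elements of `Q` acting fixed point freely on `P` -/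
structure Cfg (p q : ℕ) (P Q : Subgroup S) (x₁ x₂ : S) : Prop where
  hpq : p ≠ q
  hP : IsPGroup p P
  hPn : P.Normal
  hsup : P ⊔ Q = ⊤
  hQ : IsElementaryAbelian q Q
  hx₁ : x₁ ∈ Q
  hx₂ : x₂ ∈ Q
  h12 : x₂ ∉ Subgroup.zpowers x₁
  h21 : x₁ ∉ Subgroup.zpowers x₂
  honly : ∀ u ∈ Q, u ∉ Subgroup.zpowers x₁ → u ∉ Subgroup.zpowers x₂ →
    P ⊓ Subgroup.centralizer ({u} : Set S) = ⊥

variable {p q : ℕ} [Fact p.Prime] [Fact q.Prime] {P Q : Subgroup S} {x₁ x₂ : S}

theorem Cfg.symm (h : Cfg p q P Q x₁ x₂) : Cfg p q P Q x₂ x₁ :=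
  { h with hx₁ := h.hx₂, hx₂ := h.hx₁, h12 := h.h21, h21 := h.h12,
           honly := fun u hu h2 h1 => h.honly u hu h1 h2 }

theorem Cfg.hQp (h : Cfg p q P Q x₁ x₂) : IsPGroup q Q :=
  Cfsg.Agent.Helper3.IsElementaryAbelian.isPGroup h.hQ

theorem Cfg.coprime (h : Cfg p q P Q x₁ x₂) {A N : Subgroup S} (hA : A ≤ Q) (hN : N ≤ P) :
    (Nat.card A).Coprime (Nat.card N) :=
  IsPGroup.coprime_card_of_ne q p (Ne.symm h.hpq) A N (h.hQp.to_le hA) (h.hP.to_le hN)

theorem Cfg.inf_eq_bot (h : Cfg p q P Q x₁ x₂) {A N : Subgroup S} (hA : A ≤ Q) (hN : N ≤ P) :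
    A ⊓ N = ⊥ :=
  (Subgroup.disjoint_of_coprime_natCard (h.coprime hA hN)).eq_bot

theorem Cfg.x₁_ne_one (h : Cfg p q P Q x₁ x₂) : x₁ ≠ 1 := fun e =>
  h.h21 (e ▸ Subgroup.one_mem _)

theorem Cfg.comm (h : Cfg p q P Q x₁ x₂) {a b : S} (ha : a ∈ Q) (hb : b ∈ Q) : a * b = b * a :=
  Cfsg.Agent.Helper3.IsElementaryAbelian.commute h.hQ ha hb

theorem Cfg.mul_notMem (h : Cfg p q P Q x₁ x₂) :
    x₁ * x₂ ∉ Subgroup.zpowers x₁ ∧ x₁ * x₂ ∉ Subgroup.zpowers x₂ := by
  constructor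
  · intro hm
    apply h.h12
    have := Subgroup.mul_mem _ (Subgroup.inv_mem _ (Subgroup.mem_zpowers x₁)) hm
    simpa using this
  · intro hm
    apply h.h21
    have := Subgroup.mul_mem _ hm (Subgroup.inv_mem _ (Subgroup.mem_zpowers x₂))
    simpa using this

theorem Cfg.fix_both (h : Cfg p q P Q x₁ x₂) {c : S} (hc : c ∈ P)
    (h1 : c ∈ Subgroup.centralizer ({x₁} : Set S)) (h2 : c ∈ Subgroup.centralizer ({x₂} : Set S)) :
    c = 1 := by
  have hm := h.mul_notMem
  have hb := h.honly (x₁ * x₂) (Q.mul_mem h.hx₁ h.hx₂) hm.1 hm.2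
  have : c ∈ P ⊓ Subgroup.centralizer ({x₁ * x₂} : Set S) := by
    rw [Subgroup.mem_inf]
    refine ⟨hc, ?_⟩
    rw [Subgroup.mem_centralizer_iff] at h1 h2 ⊢
    intro z hz
    rw [Set.mem_singleton_iff] at hz
    subst hz
    have e1 : x₁ * c = c * x₁ := h1 x₁ rfl
    have e2 : x₂ * c = c * x₂ := h2 x₂ rfl
    rw [mul_assoc, e2, ← mul_assoc, e1, mul_assoc]
  rw [hb] at this
  exact Subgroup.mem_bot.mp this

/-- a nontrivial element of `⟨x₁⟩` has the same centralizer as `x₁` -/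
theorem Cfg.centralizer_eq (h : Cfg p q P Q x₁ x₂) {u : S} (hu : u ∈ Subgroup.zpowers x₁)
    (hu1 : u ≠ 1) :
    Subgroup.centralizer ({u} : Set S) = Subgroup.centralizer ({x₁} : Set S) := by
  have hq : q.Prime := Fact.out
  have hx₁q : x₁ ^ q = 1 := h.hQ.2 x₁ h.hx₁
  have huQ : u ∈ Q := (Subgroup.zpowers_le.mpr h.hx₁) hu
  have huq : u ^ q = 1 := h.hQ.2 u huQ
  have ho1 : orderOf x₁ = q := orderOf_eq_prime hx₁q h.x₁_ne_one
  have hou : orderOf u = q := orderOf_eq_prime huq hu1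
  have hle : Subgroup.zpowers u ≤ Subgroup.zpowers x₁ := Subgroup.zpowers_le.mpr hu
  have heq : Subgroup.zpowers u = Subgroup.zpowers x₁ :=
    Subgroup.eq_of_le_of_card_ge hle (by rw [Nat.card_zpowers, Nat.card_zpowers, ho1, hou])
  have hx₁u : x₁ ∈ Subgroup.zpowers u := by rw [heq]; exact Subgroup.mem_zpowers x₁
  have key : ∀ {a b : S}, b ∈ Subgroup.zpowers a →
      Subgroup.centralizer ({a} : Set S) ≤ Subgroup.centralizer ({b} : Set S) := by
    intro a b hb
    obtain ⟨n, rfl⟩ := Subgroup.mem_zpowers_iff.mp hb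
    intro g hg
    rw [Subgroup.mem_centralizer_iff] at hg ⊢
    intro z hz
    rw [Set.mem_singleton_iff] at hz
    subst hz
    have h1 : Commute a g := hg a (Set.mem_singleton a)
    exact (h1.zpow_left n)
  exact le_antisymm (key hx₁u) (key hu)

theorem Cfg.sq_le_card (h : Cfg p q P Q x₁ x₂) : q ^ 2 ≤ Nat.card Q := by
  have hq : q.Prime := Fact.out
  obtain ⟨k, hk⟩ := IsPGroup.iff_card.mp h.hQp
  have hx₁q : x₁ ^ q = 1 := h.hQ.2 x₁ h.hx₁
  have ho1 : orderOf x₁ = q := orderOf_eq_prime hx₁q h.x₁_ne_one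
  have hle : Subgroup.zpowers x₁ ≤ Q := Subgroup.zpowers_le.mpr h.hx₁
  have hlt : Nat.card (Subgroup.zpowers x₁) < Nat.card Q := by
    by_contra hcon
    push Not at hcon
    have := Subgroup.eq_of_le_of_card_ge hle hcon
    exact h.h12 (this ▸ h.hx₂)
  rw [Nat.card_zpowers, ho1, hk] at hlt
  rw [hk]
  have hk2 : 2 ≤ k := by
    by_contra hcon
    push Not at hcon
    have hq2 : 2 ≤ q := hq.two_le
    interval_cases k
    · rw [pow_zero] at hlt; omega
    · rw [pow_one] at hlt; omega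
  exact Nat.pow_le_pow_right hq.pos hk2

/-- some nontrivial element of `Q` has a fixed point in `Z(P)` -/
theorem Cfg.exists_fixed_center (h : Cfg p q P Q x₁ x₂) (hPne : P ≠ ⊥) :
    ∃ u ∈ Q, u ≠ 1 ∧
      (Subgroup.center ↥P).map P.subtype ⊓ Subgroup.centralizer ({u} : Set S) ≠ ⊥ := by
  by_contra hcon
  push Not at hcon
  set ZP := (Subgroup.center ↥P).map P.subtype with hZP
  have hZPle : ZP ≤ P := Subgroup.map_subtype_le _
  haveI := h.hPn
  have hQN : Q ≤ Subgroup.normalizer (ZP : Set S) := by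
    have h1 : Subgroup.normalizer (P : Set S) = ⊤ := Subgroup.normalizer_eq_top P
    have h2 := normalizer_le_normalizer_map_of_characteristic P (Subgroup.center ↥P)
    rw [h1] at h2
    exact le_top.trans h2
  have hcop : (Nat.card ZP).Coprime q := by
    have := h.coprime (le_refl Q) hZPle
    obtain ⟨k, hk⟩ := IsPGroup.iff_card.mp (h.hP.to_le hZPle)
    rw [hk]
    exact Nat.Coprime.pow_left k ((Nat.coprime_primes Fact.out Fact.out).mpr h.hpq)
  have hle : ZP ≤ ⊥ :=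
    Cfsg.Agent.Helper15.le_of_forall_ne_one_inf_centralizer_le h.hQ h.sq_le_card hcop hQN ⊥
      (fun u hu hu1 => le_of_eq (hcon u hu hu1))
  have hne : ZP ≠ ⊥ := by
    haveI : Nontrivial ↥P := by
      rw [← not_subsingleton_iff_nontrivial]
      intro hs
      exact hPne (Subgroup.eq_bot_of_subsingleton P)
    have hc : Subgroup.center ↥P ≠ ⊥ := by
      intro hb
      have := h.hP.center_nontrivial
      rw [hb] at this
      exact not_nontrivial _ this
    intro hb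
    apply hc
    rw [hZP] at hb
    exact (Subgroup.map_eq_bot_iff_of_injective _ P.subtype_injective).mp hb
  exact hne (le_bot_iff.mp hle)

theorem Cfg.injOn (h : Cfg p q P Q x₁ x₂) (N : Subgroup S) [N.Normal] (hNP : N ≤ P) {a b : S}
    (ha : a ∈ Q) (hb : b ∈ Q) (hab : QuotientGroup.mk' N a = QuotientGroup.mk' N b) : a = b := by
  rw [QuotientGroup.mk'_apply, QuotientGroup.mk'_apply, QuotientGroup.eq] at hab
  have h1 : a⁻¹ * b ∈ Q ⊓ N := ⟨Q.mul_mem (Q.inv_mem ha) hb, hab⟩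
  rw [h.inf_eq_bot (le_refl Q) hNP, Subgroup.mem_bot] at h1
  exact (inv_mul_eq_one.mp h1)

theorem Cfg.notMem_zpowers_map (h : Cfg p q P Q x₁ x₂) (N : Subgroup S) [N.Normal] (hNP : N ≤ P)
    {a b : S} (ha : a ∈ Q) (hb : b ∈ Q) (hab : b ∉ Subgroup.zpowers a) :
    QuotientGroup.mk' N b ∉ Subgroup.zpowers (QuotientGroup.mk' N a) := by
  intro hm
  obtain ⟨k, hk⟩ := Subgroup.mem_zpowers_iff.mp hm
  rw [← map_zpow] at hk
  have := h.injOn N hNP (Q.zpow_mem ha k) hb hk
  exact hab (this ▸ Subgroup.zpow_mem _ (Subgroup.mem_zpowers a) k)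

theorem Cfg.quot (h : Cfg p q P Q x₁ x₂) (N : Subgroup S) [hN : N.Normal] (hNP : N ≤ P) :
    Cfg p q (P.map (QuotientGroup.mk' N)) (Q.map (QuotientGroup.mk' N))
      (QuotientGroup.mk' N x₁) (QuotientGroup.mk' N x₂) := by
  set π := QuotientGroup.mk' N with hπ
  have hsurj : Function.Surjective π := QuotientGroup.mk'_surjective N
  refine
    { hpq := h.hpq
      hP := h.hP.map π
      hPn := h.hPn.map π hsurj
      hsup := by rw [← Subgroup.map_sup, h.hsup, Subgroup.map_top_of_surjective π hsurj]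
      hQ := Cfsg.Agent.Helper3.isElementaryAbelian_map π h.hQ
      hx₁ := Subgroup.mem_map_of_mem π h.hx₁
      hx₂ := Subgroup.mem_map_of_mem π h.hx₂
      h12 := h.notMem_zpowers_map N hNP h.hx₁ h.hx₂ h.h12
      h21 := h.notMem_zpowers_map N hNP h.hx₂ h.hx₁ h.h21
      honly := ?_ }
  rintro _ ⟨u, hu, rfl⟩ hu1 hu2
  have hu1' : u ∉ Subgroup.zpowers x₁ := by
    intro hm
    obtain ⟨k, rfl⟩ := Subgroup.mem_zpowers_iff.mp hm
    apply hu1
    rw [map_zpow]
    exact Subgroup.zpow_mem _ (Subgroup.mem_zpowers _) k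
  have hu2' : u ∉ Subgroup.zpowers x₂ := by
    intro hm
    obtain ⟨k, rfl⟩ := Subgroup.mem_zpowers_iff.mp hm
    apply hu2
    rw [map_zpow]
    exact Subgroup.zpow_mem _ (Subgroup.mem_zpowers _) k
  have hbot := h.honly u hu hu1' hu2'
  rw [eq_bot_iff]
  rintro _ ⟨⟨a, haP, rfl⟩, hac⟩
  rw [Subgroup.mem_bot]
  have hcomm : π u * π a = π a * π u :=
    (Subgroup.mem_centralizer_iff.mp hac) (π u) (Set.mem_singleton _)
  have hAD : Subgroup.zpowers u ≤ Subgroup.normalizer (N : Set S) := by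
    rw [Subgroup.normalizer_eq_top N]; exact le_top
  have hcop : (Nat.card (Subgroup.zpowers u)).Coprime (Nat.card N) :=
    h.coprime (Subgroup.zpowers_le.mpr hu) hNP
  obtain ⟨c, hc, hac'⟩ := Cfsg.Agent.Helper1.exists_centralizer_mem_coset N (Subgroup.zpowers u) hAD
    hcop (Or.inl inferInstance) a (by
      intro α hα
      obtain ⟨k, rfl⟩ := Subgroup.mem_zpowers_iff.mp hα
      rw [← QuotientGroup.eq_one_iff]
      show π (a⁻¹ * u ^ k * a * (u ^ k)⁻¹) = 1
      have hck : Commute (π u ^ k) (π a) := (Commute.zpow_left hcomm k)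
      rw [map_mul, map_mul, map_mul, map_inv, map_inv, map_zpow, mul_assoc (π a)⁻¹, hck.eq,
        ← mul_assoc, inv_mul_cancel, one_mul, mul_inv_cancel])
  have hcP : c ∈ P := by
    have := P.mul_mem haP (hNP hac')
    simpa using this
  have hcu : c ∈ Subgroup.centralizer ({u} : Set S) := by
    rw [Subgroup.mem_centralizer_iff]
    intro z hz
    rw [Set.mem_singleton_iff] at hz
    subst hz
    exact (Subgroup.mem_centralizer_iff.mp hc) z (Subgroup.mem_zpowers z)
  have hc1 : c = 1 := by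
    have : c ∈ P ⊓ Subgroup.centralizer ({u} : Set S) := ⟨hcP, hcu⟩
    rw [hbot] at this
    exact Subgroup.mem_bot.mp this
  rw [hc1, mul_one] at hac'
  have : a ∈ N := by simpa using N.inv_mem hac'
  rw [hπ, QuotientGroup.mk'_apply, QuotientGroup.eq_one_iff]
  exact this

omit [Finite S] in
theorem conj_mem_centralizer_singleton {g y c : S} (h : g * y = y * g)
    (hc : c ∈ Subgroup.centralizer ({y} : Set S)) :
    g * c * g⁻¹ ∈ Subgroup.centralizer ({y} : Set S) := by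
  rw [Subgroup.mem_centralizer_iff] at hc ⊢
  intro z hz
  rw [Set.mem_singleton_iff] at hz
  subst hz
  have h1 : z * c = c * z := hc z rfl
  have h2 : g⁻¹ * z = z * g⁻¹ := by
    rw [eq_mul_inv_iff_mul_eq, mul_assoc, ← h, inv_mul_cancel_left]
  calc z * (g * c * g⁻¹) = (z * g) * c * g⁻¹ := by group
    _ = g * (z * c) * g⁻¹ := by rw [← h]; group
    _ = g * c * (z * g⁻¹) := by rw [h1]; group
    _ = g * c * g⁻¹ * z := by rw [← h2]; group

omit [Finite S] in
theorem mem_centralizer_singleton_iff' {a c : S} :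
    c ∈ Subgroup.centralizer ({a} : Set S) ↔ a * c = c * a := by
  rw [Subgroup.mem_centralizer_iff]
  constructor
  · intro h; exact h a rfl
  · intro h z hz
    rw [Set.mem_singleton_iff] at hz
    rw [hz]; exact h

theorem Cfg.step (h : Cfg p q P Q x₁ x₂) (N : Subgroup S) [hN : N.Normal]
    (hNZ : N ≤ (Subgroup.center ↥P).map P.subtype)
    (hNc : N ≤ Subgroup.centralizer ({x₁} : Set S))
    (hquot : ∀ a ∈ P.map (QuotientGroup.mk' N) ⊓
        Subgroup.centralizer ({QuotientGroup.mk' N x₁} : Set (S ⧸ N)),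
      ∀ b ∈ P.map (QuotientGroup.mk' N) ⊓
        Subgroup.centralizer ({QuotientGroup.mk' N x₂} : Set (S ⧸ N)), a * b = b * a) :
    ∀ a ∈ P ⊓ Subgroup.centralizer ({x₁} : Set S),
      ∀ b ∈ P ⊓ Subgroup.centralizer ({x₂} : Set S), a * b = b * a := by
  classical
  set π := QuotientGroup.mk' N with hπ
  haveI := h.hPn
  have hNP : N ≤ P := hNZ.trans (Subgroup.map_subtype_le _)
  intro a ha b hb
  obtain ⟨haP, hax⟩ := ha
  have hax' : x₁ * a = a * x₁ := mem_centralizer_singleton_iff'.mp hax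
  -- elements of N are central in P
  have hNcent : ∀ n ∈ N, ∀ g ∈ P, g * n = n * g := by
    intro n hn g hg
    obtain ⟨z, hz, rfl⟩ := hNZ hn
    have := (Subgroup.mem_center_iff.mp hz) ⟨g, hg⟩
    exact congrArg Subtype.val this
  -- commutators with a lie in N
  have hcommN : ∀ b' ∈ P ⊓ Subgroup.centralizer ({x₂} : Set S), a * b' * a⁻¹ * b'⁻¹ ∈ N := by
    intro b' hb'
    have h1 : π a ∈ P.map π ⊓ Subgroup.centralizer ({π x₁} : Set (S ⧸ N)) := by
      refine Subgroup.mem_inf.mpr ⟨Subgroup.mem_map_of_mem π haP, ?_⟩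
      rw [mem_centralizer_singleton_iff', ← map_mul, ← map_mul, hax']
    have h2 : π b' ∈ P.map π ⊓ Subgroup.centralizer ({π x₂} : Set (S ⧸ N)) := by
      refine Subgroup.mem_inf.mpr ⟨Subgroup.mem_map_of_mem π hb'.1, ?_⟩
      rw [mem_centralizer_singleton_iff', ← map_mul, ← map_mul,
        mem_centralizer_singleton_iff'.mp hb'.2]
    have h3 := hquot _ h1 _ h2
    rw [← QuotientGroup.eq_one_iff]
    show π (a * b' * a⁻¹ * b'⁻¹) = 1
    rw [map_mul, map_mul, map_mul, map_inv, map_inv, h3, mul_inv_cancel_right, mul_inv_cancel]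
  set K := P ⊓ Subgroup.centralizer ({x₂} : Set S) ⊓ Subgroup.centralizer ({a} : Set S) with hK
  have hKP : K ≤ P := inf_le_left.trans inf_le_left
  have hx₁x₂ : x₁ * x₂ = x₂ * x₁ := h.comm h.hx₁ h.hx₂
  have hx₁K : x₁ ∈ Subgroup.normalizer (K : Set S) := by
    apply Cfsg.Agent.Helper9.mem_normalizer_of_conj_mem
    rintro k ⟨⟨hkP, hk2⟩, hka⟩
    exact ⟨⟨h.hPn.conj_mem k hkP x₁, conj_mem_centralizer_singleton hx₁x₂ hk2⟩,
      conj_mem_centralizer_singleton hax' hka⟩
  have hAK : Subgroup.zpowers x₁ ≤ Subgroup.normalizer (K : Set S) := Subgroup.zpowers_le.mpr hx₁K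
  have hcop : (Nat.card (Subgroup.zpowers x₁)).Coprime (Nat.card K) :=
    h.coprime (Subgroup.zpowers_le.mpr h.hx₁) hKP
  obtain ⟨c₀, hc₀, hbc₀⟩ := Cfsg.Agent.Helper1.exists_centralizer_mem_coset K (Subgroup.zpowers x₁)
    hAK hcop (Or.inl inferInstance) b (by
      intro α hα
      have hαQ : α ∈ Q := (Subgroup.zpowers_le.mpr h.hx₁) hα
      have hαx₂ : α * x₂ = x₂ * α := h.comm hαQ h.hx₂
      have hαa : α * a = a * α := by
        obtain ⟨k, rfl⟩ := Subgroup.mem_zpowers_iff.mp hα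
        exact ((Commute.zpow_left (show Commute x₁ a from hax') k)).eq
      set b' := α * b * α⁻¹ with hb'
      have hb'mem : b' ∈ P ⊓ Subgroup.centralizer ({x₂} : Set S) :=
        ⟨h.hPn.conj_mem b hb.1 α, conj_mem_centralizer_singleton hαx₂ hb.2⟩
      have hcN := hcommN b hb
      have hc'N := hcommN b' hb'mem
      -- α centralizes N
      have hαN : ∀ n ∈ N, α * n * α⁻¹ = n := by
        intro n hn
        obtain ⟨k, rfl⟩ := Subgroup.mem_zpowers_iff.mp hα
        have h1 : Commute x₁ n := mem_centralizer_singleton_iff'.mp (hNc hn)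
        rw [(h1.zpow_left k).eq, mul_inv_cancel_right]
      have hαinv : α⁻¹ * a = a * α⁻¹ := by
        rw [eq_mul_inv_iff_mul_eq, mul_assoc, ← hαa, inv_mul_cancel_left]
      have hc'eq : a * b' * a⁻¹ * b'⁻¹ = a * b * a⁻¹ * b⁻¹ := by
        have e : a * b' * a⁻¹ * b'⁻¹ = α * (a * b * a⁻¹ * b⁻¹) * α⁻¹ := by
          have hαa' : a * α = α * a := hαa.symm
          have hαinv' : α⁻¹ * a⁻¹ = a⁻¹ * α⁻¹ := by
            rw [← mul_inv_rev, ← mul_inv_rev, hαa]
          calc a * b' * a⁻¹ * b'⁻¹ = (a * α) * b * (α⁻¹ * a⁻¹) * α * b⁻¹ * α⁻¹ := by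
                rw [hb']; group
            _ = (α * a) * b * (a⁻¹ * α⁻¹) * α * b⁻¹ * α⁻¹ := by rw [hαa', hαinv']
            _ = α * (a * b * a⁻¹ * b⁻¹) * α⁻¹ := by group
        rw [e, hαN _ hcN]
      set c := a * b * a⁻¹ * b⁻¹ with hc
      have hcb : b * c = c * b := hNcent c hcN b hb.1
      have hcb' : b' * c = c * b' := hNcent c hcN b' hb'mem.1
      have h1 : a * b * a⁻¹ = c * b := by rw [hc]; group
      have h2 : a * b' * a⁻¹ = c * b' := by rw [← hc'eq]; group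
      have hmem : b⁻¹ * b' ∈ K := by
        refine Subgroup.mem_inf.mpr ⟨Subgroup.mul_mem _ (Subgroup.inv_mem _ hb) hb'mem, ?_⟩
        rw [mem_centralizer_singleton_iff']
        have e3 : a * (b⁻¹ * b') * a⁻¹ = (a * b * a⁻¹)⁻¹ * (a * b' * a⁻¹) := by group
        have e4 : a * (b⁻¹ * b') * a⁻¹ = b⁻¹ * b' := by
          rw [e3, h1, h2, mul_inv_rev, mul_assoc, inv_mul_cancel_left]
        calc a * (b⁻¹ * b') = (a * (b⁻¹ * b') * a⁻¹) * a := by group
          _ = b⁻¹ * b' * a := by rw [e4]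
      have e5 : b⁻¹ * α * b * α⁻¹ = b⁻¹ * b' := by rw [hb']; group
      rw [e5]; exact hmem)
  have hc₀mem : c₀ ∈ P ⊓ Subgroup.centralizer ({x₂} : Set S) := by
    have := Subgroup.mul_mem _ hb (hbc₀.1)
    simpa using this
  have hc₀x₁ : c₀ ∈ Subgroup.centralizer ({x₁} : Set S) := by
    rw [mem_centralizer_singleton_iff']
    exact (Subgroup.mem_centralizer_iff.mp hc₀) x₁ (Subgroup.mem_zpowers x₁)
  have hc₀1 : c₀ = 1 := h.fix_both hc₀mem.1 hc₀x₁ hc₀mem.2
  rw [hc₀1, mul_one] at hbc₀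
  have hbK : b ∈ K := by simpa using K.inv_mem hbc₀
  exact mem_centralizer_singleton_iff'.mp hbK.2

/-- the statement proved by induction -/
def Commutes (P : Subgroup S) (x₁ x₂ : S) : Prop :=
  ∀ a ∈ P ⊓ Subgroup.centralizer ({x₁} : Set S),
    ∀ b ∈ P ⊓ Subgroup.centralizer ({x₂} : Set S), a * b = b * a

theorem Cfg.commutes_of_mem (h : Cfg p q P Q x₁ x₂)
    (IH : ∀ (S' : Type u) [Group S'] [Finite S'], Nat.card S' < Nat.card S →
      ∀ (P' Q' : Subgroup S') (y₁ y₂ : S'), Cfg p q P' Q' y₁ y₂ → Commutes P' y₁ y₂)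
    {u : S} (hu : u ∈ Subgroup.zpowers x₁) (hu1 : u ≠ 1)
    (hne : (Subgroup.center ↥P).map P.subtype ⊓ Subgroup.centralizer ({u} : Set S) ≠ ⊥) :
    Commutes P x₁ x₂ := by
  haveI := h.hPn
  rw [h.centralizer_eq hu hu1] at hne
  set ZP := (Subgroup.center ↥P).map P.subtype with hZP
  set N := ZP ⊓ Subgroup.centralizer ({x₁} : Set S) with hN
  have hNZ : N ≤ ZP := inf_le_left
  have hNc : N ≤ Subgroup.centralizer ({x₁} : Set S) := inf_le_right
  have hZPP : ZP ≤ P := Subgroup.map_subtype_le _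
  have hNP : N ≤ P := hNZ.trans hZPP
  -- N is normal in S
  have hPN : P ≤ Subgroup.normalizer (N : Set S) := by
    intro g hg
    apply Cfsg.Agent.Helper9.mem_normalizer_of_conj_mem
    intro n hn
    obtain ⟨z, hz, hze⟩ := hNZ hn
    have h1 := (Subgroup.mem_center_iff.mp hz) ⟨g, hg⟩
    have h2 : g * n = n * g := by rw [← hze]; exact congrArg Subtype.val h1
    rw [h2, mul_inv_cancel_right]; exact hn
  have hQN : Q ≤ Subgroup.normalizer (N : Set S) := by
    intro g hg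
    apply Cfsg.Agent.Helper9.mem_normalizer_of_conj_mem
    intro n hn
    refine ⟨?_, conj_mem_centralizer_singleton (h.comm hg h.hx₁) hn.2⟩
    have h1 : Subgroup.normalizer (P : Set S) = ⊤ := Subgroup.normalizer_eq_top P
    have h2 := normalizer_le_normalizer_map_of_characteristic P (Subgroup.center ↥P)
    rw [h1] at h2
    have h3 : g ∈ Subgroup.normalizer (ZP : Set S) := h2 (Subgroup.mem_top g)
    exact (Subgroup.mem_normalizer_iff.mp h3 n).mp hn.1
  haveI hNn : N.Normal := by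
    rw [← Subgroup.normalizer_eq_top_iff, eq_top_iff, ← h.hsup]
    exact sup_le hPN hQN
  have hcard : Nat.card (S ⧸ N) < Nat.card S := by
    have h1 : Nat.card S = Nat.card (S ⧸ N) * Nat.card N :=
      Subgroup.card_eq_card_quotient_mul_card_subgroup N
    have h2 : 1 < Nat.card N := by
      rw [Subgroup.one_lt_card_iff_ne_bot]; exact hne
    have h3 : 0 < Nat.card (S ⧸ N) := Nat.card_pos
    rw [h1]
    nlinarith
  have hquot := IH (S ⧸ N) hcard _ _ _ _ (h.quot N hNP)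
  exact h.step N hNZ hNc hquot

theorem Cfg.commutes_aux : ∀ (n : ℕ) (S : Type u) [Group S] [Finite S], Nat.card S = n →
    ∀ (P Q : Subgroup S) (x₁ x₂ : S), Cfg p q P Q x₁ x₂ → Commutes P x₁ x₂ := by
  intro n
  induction n using Nat.strong_induction_on with
  | _ n ih =>
  intro S _ _ hn P Q x₁ x₂ h
  have IH : ∀ (S' : Type u) [Group S'] [Finite S'], Nat.card S' < Nat.card S →
      ∀ (P' Q' : Subgroup S') (y₁ y₂ : S'), Cfg p q P' Q' y₁ y₂ → Commutes P' y₁ y₂ := by
    intro S' _ _ hlt P' Q' y₁ y₂ h'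
    exact ih (Nat.card S') (hn ▸ hlt) S' rfl P' Q' y₁ y₂ h'
  by_cases hP : P = ⊥
  · intro a ha b hb
    have : a = 1 := by
      have := ha.1
      rw [hP] at this
      exact Subgroup.mem_bot.mp this
    rw [this, one_mul, mul_one]
  · obtain ⟨u, huQ, hu1, hne⟩ := h.exists_fixed_center hP
    have hcases : u ∈ Subgroup.zpowers x₁ ∨ u ∈ Subgroup.zpowers x₂ := by
      by_contra hcon
      push Not at hcon
      have hb := h.honly u huQ hcon.1 hcon.2
      apply hne
      rw [eq_bot_iff, ← hb]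
      exact inf_le_inf_right _ (Subgroup.map_subtype_le _)
    rcases hcases with hu | hu
    · exact h.commutes_of_mem IH hu hu1 hne
    · have := h.symm.commutes_of_mem IH hu hu1 hne
      intro a ha b hb
      exact (this b hb a ha).symm

theorem Cfg.commutes (h : Cfg p q P Q x₁ x₂) : Commutes P x₁ x₂ :=
  Cfg.commutes_aux (Nat.card S) S rfl P Q x₁ x₂ h

end

end Cfsg.Agent.Helper10
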