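import Mathlib
import Cfsg.Agent.Lib.Helper11.Unitary2
import Cfsg.Agent.Lib.Helper23.Sym4Q1

/-!
# Piece U1 of S6001 (helper10 for helper17): a unitary transvection in `SU₄(p)`
-/

set_option autoImplicit false

namespace Cfsg.Agent.Helper10.USym4U1

open Matrix Cfsg.Agent.Helper11.Herm Cfsg.Agent.Helper23.Sym4Q1

section general

variable {F : Type*} [Field F]

/-- `1 + c v v^†` for `v = (1, e, 0, 0)`, `e' = e^p` -/
def T (e e' c : F) : Matrix (Fin 4) (Fin 4) F :=
  !![1 + c, c * e', 0, 0; c * e, 1 - c, 0, 0; 0, 0, 1, 0; 0, 0, 0, 1]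

theorem T_zero (e e' : F) : T e e' 0 = 1 := by
  ext a b; fin_cases a <;> fin_cases b <;> simp [T]

theorem T_mul_T (e e' : F) (h : e * e' = -1) (c d : F) : T e e' c * T e e' d = T e e' (c + d) := by
  ext a b; fin_cases a <;> fin_cases b <;>
    simp [T, Matrix.mul_apply, Fin.sum_univ_four]
  · linear_combination (c * d) * h
  · ring
  · ring
  · linear_combination (c * d) * h

theorem T_pow (e e' : F) (h : e * e' = -1) (c : F) (n : ℕ) : T e e' c ^ n = T e e' (n * c) := by
  induction n with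
  | zero => simp [T_zero]
  | succ k ih =>
    rw [pow_succ, ih, T_mul_T e e' h]
    congr 1
    push_cast
    ring

theorem det_T (e e' : F) (h : e * e' = -1) (c : F) : (T e e' c).det = 1 := by
  rw [Matrix.det_succ_row_zero]
  simp [T, Fin.sum_univ_four, Matrix.det_fin_three, Fin.succAbove, Matrix.submatrix]
  linear_combination (-(c * c)) * h

/-- the injection of `F³` onto the fixed space -/
def Pm (e' : F) : Matrix (Fin 4) (Fin 3) F := !![-e', 0, 0; 1, 0, 0; 0, 1, 0; 0, 0, 1]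

/-- a left inverse of `Pm` -/
def Qm : Matrix (Fin 3) (Fin 4) F := !![0, 1, 0, 0; 0, 0, 1, 0; 0, 0, 0, 1]

theorem Qm_mul_Pm (e' : F) : (Qm : Matrix (Fin 3) (Fin 4) F) * Pm e' = 1 := by
  ext a b; fin_cases a <;> fin_cases b <;>
    simp [Pm, Qm, Matrix.mul_apply, Fin.sum_univ_four]

theorem T_mul_Pm (e e' : F) (h : e * e' = -1) (c : F) : T e e' c * Pm e' = Pm e' := by
  ext a b; fin_cases a <;> fin_cases b <;>
    simp [T, Pm, Matrix.mul_apply, Fin.sum_univ_four]
  · ring
  · linear_combination (-c) * h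

theorem isU_T (φ : F →+* F) (e e' a : F) (h : e * e' = -1) (he : φ e = e') (he' : φ e' = e)
    (ha : φ a = -a) : IsU φ (T e e' a) := by
  unfold IsU
  ext i j; fin_cases i <;> fin_cases j <;>
    simp [T, Matrix.mul_apply, Fin.sum_univ_four, he, he', ha]
  · linear_combination (-(a * a)) * h
  · ring
  · ring
  · linear_combination (-(a * a)) * h

end general

variable {F : Type*} [Field F] [Fintype F] {p : ℕ} [Fact p.Prime] [CharP F p]

theorem exists_not_fixed (hF : Fintype.card F = p ^ 2) (φ : F →+* F) (hφ : ∀ x, φ x = x ^ p) :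
    ∃ b : F, φ b ≠ b := by
  by_contra hcon
  push Not at hcon
  have hq := two_le_q hF
  obtain ⟨ζ, hζ⟩ := IsCyclic.exists_generator (α := Fˣ)
  have h1 : (ζ : F) ^ p = (ζ : F) := by
    rw [← hφ, hcon]
  have h3 : ζ ^ (p - 1) = 1 := by
    apply Units.ext
    rw [Units.val_pow_eq_pow_val, Units.val_one]
    have : (ζ : F) ^ (p - 1) * (ζ : F) = 1 * (ζ : F) := by
      rw [← pow_succ, Nat.sub_add_cancel (by omega), h1, one_mul]
    exact mul_right_cancel₀ ζ.ne_zero this
  have h4 := orderOf_dvd_of_pow_eq_one h3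
  rw [orderOf_eq_card_of_forall_mem_zpowers hζ, card_units_eq hF] at h4
  have h5 := Nat.le_of_dvd (by omega) h4
  have h6 : p < p ^ 2 := by nlinarith
  omega

theorem exists_skew (hF : Fintype.card F = p ^ 2) (φ : F →+* F) (hφ : ∀ x, φ x = x ^ p) :
    ∃ a : F, a ≠ 0 ∧ φ a = -a := by
  obtain ⟨b, hb⟩ := exists_not_fixed hF φ hφ
  refine ⟨b - φ b, ?_, ?_⟩
  · intro h
    exact hb (sub_eq_zero.1 h).symm
  · rw [map_sub, frob_frob hF φ hφ]
    ring

/-- PIECE U1 -/
theorem exists_transvectionU (hF : Fintype.card F = p ^ 2) (hp2 : p ≠ 2) :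
    ∃ x : GL (Fin 4) F, x ∈ Cfsg.GU 4 F p ⊓ Cfsg.Geo.specialLinear (Fin 4) F ∧ x ^ p = 1 ∧
      (∀ z : F, (x : Matrix (Fin 4) (Fin 4) F) ≠ z • (1 : Matrix (Fin 4) (Fin 4) F)) ∧
      3 ≤ Module.finrank F
        (Module.End.eigenspace (Matrix.toLin' (x : Matrix (Fin 4) (Fin 4) F)) 1) := by
  obtain ⟨φ, hφ⟩ := exists_frob hF
  obtain ⟨a, ha0, ha⟩ := exists_skew hF φ hφ
  obtain ⟨e, he0, hee⟩ := frob_norm_surj hF φ hφ (-1) (by simp) (by simp)
  set e' : F := φ e with he'
  have hφe' : φ e' = e := frob_frob hF φ hφ e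
  have hmul : ∀ c d : F, T e e' c * T e e' d = T e e' (c + d) := T_mul_T e e' hee
  refine ⟨⟨T e e' a, T e e' (-a), ?_, ?_⟩, ⟨?_, ?_⟩, ?_, ?_, ?_⟩
  · rw [hmul, add_neg_cancel, T_zero]
  · rw [hmul, neg_add_cancel, T_zero]
  · show (⟨T e e' a, T e e' (-a), _, _⟩ : GL (Fin 4) F) ∈ Cfsg.GU 4 F p
    rw [mem_GU_iff_isU φ hφ]
    exact isU_T φ e e' a hee rfl hφe' ha
  · show (⟨T e e' a, T e e' (-a), _, _⟩ : GL (Fin 4) F) ∈ Cfsg.Geo.specialLinear (Fin 4) F
    rw [mem_specialLinear_iff]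
    exact det_T e e' hee a
  · apply Units.ext
    show T e e' a ^ p = 1
    rw [T_pow e e' hee, CharP.cast_eq_zero F p, zero_mul, T_zero]
  · intro z hz
    have hz : T e e' a = z • (1 : Matrix (Fin 4) (Fin 4) F) := hz
    have h0 := congrFun (congrFun hz 1) 0
    simp [T] at h0
    rcases h0 with h0 | h0
    · exact ha0 h0
    · exact he0 h0
  · show 3 ≤ Module.finrank F
        (Module.End.eigenspace (Matrix.toLin' (T e e' a)) 1)
    set M : Matrix (Fin 4) (Fin 4) F := T e e' a with hM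
    have hmem : ∀ v : Fin 3 → F,
        Matrix.toLin' (Pm e' : Matrix (Fin 4) (Fin 3) F) v ∈
          Module.End.eigenspace (Matrix.toLin' M) 1 := by
      intro v
      rw [Module.End.mem_eigenspace_iff, one_smul, ← LinearMap.comp_apply, ← Matrix.toLin'_mul,
        hM, T_mul_Pm e e' hee]
    let g : (Fin 3 → F) →ₗ[F] Module.End.eigenspace (Matrix.toLin' M) 1 :=
      LinearMap.codRestrict _ (Matrix.toLin' (Pm e' : Matrix (Fin 4) (Fin 3) F)) hmem
    have hinj : Function.Injective g := by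
      intro v w hvw
      have h1 : Matrix.toLin' (Pm e' : Matrix (Fin 4) (Fin 3) F) v =
          Matrix.toLin' (Pm e' : Matrix (Fin 4) (Fin 3) F) w := congrArg Subtype.val hvw
      have h2 := congrArg (Matrix.toLin' (Qm : Matrix (Fin 3) (Fin 4) F)) h1
      rw [← LinearMap.comp_apply, ← LinearMap.comp_apply, ← Matrix.toLin'_mul, Qm_mul_Pm,
        Matrix.toLin'_one] at h2
      exact h2
    have := LinearMap.finrank_le_finrank_of_injective hinj
    rwa [Module.finrank_fin_fun] at this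

end Cfsg.Agent.Helper10.USym4U1
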