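import Mathlib
import Cfsg.Agent.Lib.Helper11.Unitary2
import Cfsg.Agent.Lib.Helper23.Sym4Q1

/-!
# Piece U2 of S6001 (helper10 for helper17): an element of order 3 in `SU₄(p)`, `p ≡ 2 (mod 3)`
-/

set_option autoImplicit false

namespace Cfsg.Agent.Helper10.USym4U2

open Matrix Cfsg.Agent.Helper11.Herm Cfsg.Agent.Helper23.Sym4Q1

variable {F : Type*} [Field F] [Fintype F] {p : ℕ} [Fact p.Prime] [CharP F p]

/-- a primitive cube root of unity of norm one -/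
theorem exists_omega (hF : Fintype.card F = p ^ 2) (hp3 : p % 3 = 2) :
    ∃ ω : F, ω ^ 2 + ω + 1 = 0 ∧ ω ^ (p + 1) = 1 := by
  have hp : p.Prime := Fact.out
  have h3 : 3 ∣ Nat.card Fˣ := by
    rw [card_units_eq hF, sq_sub_one p hp.one_lt.le]
    exact Dvd.dvd.mul_right (by omega) _
  haveI : Fact (Nat.Prime 3) := ⟨by norm_num⟩
  obtain ⟨u, hu⟩ := exists_prime_orderOf_dvd_card' 3 h3
  have hu3 : u ^ 3 = 1 := by rw [← hu]; exact pow_orderOf_eq_one u
  have hu1 : u ≠ 1 := by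
    intro h
    rw [h, orderOf_one] at hu
    omega
  have hω3 : (u : F) ^ 3 = 1 := by
    have := congrArg Units.val hu3
    rwa [Units.val_pow_eq_pow_val, Units.val_one] at this
  have hω1 : (u : F) ≠ 1 := by
    intro h
    apply hu1
    exact Units.ext h
  refine ⟨(u : F), ?_, ?_⟩
  · have h : ((u : F) - 1) * ((u : F) ^ 2 + (u : F) + 1) = 0 := by
      linear_combination hω3
    rcases mul_eq_zero.1 h with h | h
    · exact absurd (sub_eq_zero.1 h) hω1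
    · exact h
  · obtain ⟨k, hk⟩ : 3 ∣ p + 1 := by omega
    rw [hk, pow_mul, hω3, one_pow]

theorem three_ne_zero (hp3 : p % 3 = 2) : (3 : F) ≠ 0 := by
  have hp : p.Prime := Fact.out
  intro h
  have h' : ((3 : ℕ) : F) = 0 := by exact_mod_cast h
  rw [CharP.cast_eq_zero_iff F p] at h'
  have := Nat.le_of_dvd (by norm_num) h'
  have h2 := hp.two_le
  interval_cases p <;> omega

/-- PIECE U2 -/
theorem exists_x3U (hF : Fintype.card F = p ^ 2) (hp3 : p % 3 = 2) :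
    ∃ x : GL (Fin 4) F, x ∈ Cfsg.GU 4 F p ⊓ Cfsg.Geo.specialLinear (Fin 4) F ∧ x ^ 3 = 1 ∧
      (∀ z : F, (x : Matrix (Fin 4) (Fin 4) F) ≠ z • (1 : Matrix (Fin 4) (Fin 4) F)) ∧
      (x : Matrix (Fin 4) (Fin 4) F).trace *
        ((x⁻¹ : GL (Fin 4) F) : Matrix (Fin 4) (Fin 4) F).trace = 7 := by
  obtain ⟨ω, hω, hωp⟩ := exists_omega hF hp3
  obtain ⟨φ, hφ⟩ := exists_frob hF
  have h3 : (3 : F) ≠ 0 := three_ne_zero hp3
  refine ⟨⟨M3 ω, N3 ω, M3_mul_N3 ω hω, N3_mul_M3 ω hω⟩, ⟨?_, ?_⟩, ?_, ?_, ?_⟩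
  · show (⟨M3 ω, N3 ω, M3_mul_N3 ω hω, N3_mul_M3 ω hω⟩ : GL (Fin 4) F) ∈ Cfsg.GU 4 F p
    rw [mem_GU_iff_isU φ hφ]
    show IsU φ (M3 ω)
    have : M3 ω = Matrix.diagonal ![ω, ω, ω, 1] := by
      ext a b; fin_cases a <;> fin_cases b <;> simp [M3]
    rw [this]
    apply isU_diagonal
    intro i
    have hn : ω * φ ω = 1 := by rw [hφ, ← pow_succ', hωp]
    fin_cases i <;> simp [hn]
  · show (⟨M3 ω, N3 ω, M3_mul_N3 ω hω, N3_mul_M3 ω hω⟩ : GL (Fin 4) F) ∈
      Cfsg.Geo.specialLinear (Fin 4) F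
    rw [mem_specialLinear_iff]
    show (M3 ω).det = 1
    rw [det_M3, omega_cube ω hω]
  · apply Units.ext
    show M3 ω ^ 3 = 1
    rw [pow_succ, pow_two, M3_mul_M3, N3_mul_M3 ω hω]
  · intro z hz
    have hz : M3 ω = z • (1 : Matrix (Fin 4) (Fin 4) F) := hz
    have h0 := congrFun (congrFun hz 0) 0
    have h1 := congrFun (congrFun hz 3) 3
    simp [M3] at h0 h1
    apply h3
    have : ω = 1 := by rw [h0, ← h1]
    rw [this] at hω
    linear_combination hω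
  · show (M3 ω).trace * (N3 ω).trace = 7
    simp only [Matrix.trace, Fin.sum_univ_four, Matrix.diag, M3, N3]
    simp
    linear_combination (9 * ω - 6) * hω

end Cfsg.Agent.Helper10.USym4U2
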