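import Mathlib
import Cfsg.Prelude.Def_Solvable
import Cfsg.Agent.Lib.Helper20.W3Defs

/-! # S3300 piece W3-EA (helper10): `C_E(k)` is elementary abelian when `z ∈ H_k ∖ K_k` -/

set_option autoImplicit false

namespace Cfsg.Agent.Helper20.W3

open Cfsg.Agent.Helper8.XS Cfsg.Agent.Helper8.AB

section ctx

variable {G : Type*} [Group G] [Finite G] {z : G} {H E K : Subgroup G} {n : ℕ}

/-- if `x` commutes with `r z r⁻¹` then `r⁻¹ x r ∈ H = C(z)` -/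
theorem w3ea_conj_mem (c : Ctx3 z H E K n) (r x : G)
    (hx : x * (r * z * r⁻¹) = (r * z * r⁻¹) * x) : r⁻¹ * x * r ∈ H := by
  rw [c.hH]
  calc r⁻¹ * x * r * z = r⁻¹ * (x * (r * z * r⁻¹)) * r := by group
    _ = r⁻¹ * ((r * z * r⁻¹) * x) * r := by rw [hx]
    _ = z * (r⁻¹ * x * r) := by group

/-- PIECE W3-EA: if `z ∈ H_k ∖ K_k` (`k = r z r⁻¹`) then `C_E(k)` is elementary abelian. -/
theorem elem_abelian (c : Ctx3 z H E K n) (χ : ↥H →* ℤˣ) (r : G)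
    (hr : valH χ (r⁻¹ * z * r) = -1) :
    (∀ x ∈ E, x * (r * z * r⁻¹) = (r * z * r⁻¹) * x →
      ∀ y ∈ E, y * (r * z * r⁻¹) = (r * z * r⁻¹) * y → x * y = y * x) ∧
    (∀ x ∈ E, x * (r * z * r⁻¹) = (r * z * r⁻¹) * x → x * x = 1) := by
  have hne : valH χ (r⁻¹ * z * r) ≠ 1 := by
    rw [hr]; decide
  have xs : XSp E z := c.loc.xs
  have hinv : ∀ x : G, x * (r * z * r⁻¹) = (r * z * r⁻¹) * x →
      x⁻¹ * (r * z * r⁻¹) = (r * z * r⁻¹) * x⁻¹ := by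
    intro x hx
    calc x⁻¹ * (r * z * r⁻¹) = x⁻¹ * ((r * z * r⁻¹) * x) * x⁻¹ := by group
      _ = x⁻¹ * (x * (r * z * r⁻¹)) * x⁻¹ := by rw [hx]
      _ = (r * z * r⁻¹) * x⁻¹ := by group
  constructor
  · intro x hx hxk y hy hyk
    rcases xs.hcomm x hx y hy with h | h
    · exact h
    · exfalso
      apply hne
      have hA : r⁻¹ * x⁻¹ * r ∈ H := w3ea_conj_mem c r x⁻¹ (hinv x hxk)
      have hB : r⁻¹ * y⁻¹ * r ∈ H := w3ea_conj_mem c r y⁻¹ (hinv y hyk)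
      have hz : z = x * y * x⁻¹ * y⁻¹ := by
        rw [h]; group
      have : r⁻¹ * z * r =
          (r⁻¹ * x⁻¹ * r)⁻¹ * (r⁻¹ * y⁻¹ * r)⁻¹ * (r⁻¹ * x⁻¹ * r) * (r⁻¹ * y⁻¹ * r) := by
        rw [hz]; group
      rw [this]
      exact val_comm χ hA hB
  · intro x hx hxk
    rcases xs.hsq x hx with h | h
    · exact h
    · exfalso
      apply hne
      have hA : r⁻¹ * x * r ∈ H := w3ea_conj_mem c r x hxk
      have : r⁻¹ * z * r = (r⁻¹ * x * r) * (r⁻¹ * x * r) := by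
        rw [← h]; group
      rw [this]
      exact val_sq χ hA

end ctx

end Cfsg.Agent.Helper20.W3
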