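import Mathlib
import Cfsg.Prelude.Def_Solvable
import Cfsg.Agent.Lib.Helper20.W3Defs

/-! # S3300 piece W3-SGN (helper10): the sign character of `H` with kernel `K` -/

set_option autoImplicit false

namespace Cfsg.Agent.Helper20.W3

open Cfsg.Agent.Helper8.XS Cfsg.Agent.Helper8.AB

/-- the sign character attached to a subgroup of index two -/
theorem w3sgn_of_index_two {H : Type*} [Group H] (N : Subgroup H) (hN : N.index = 2) :
    ∃ χ : H →* ℤˣ, ∀ h : H, χ h = 1 ↔ h ∈ N := by
  classical
  refine ⟨{ toFun := fun h => if h ∈ N then 1 else -1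
            map_one' := by simp [N.one_mem]
            map_mul' := ?_ }, ?_⟩
  · intro a b
    have h := Subgroup.mul_mem_iff_of_index_two hN (a := a) (b := b)
    by_cases ha : a ∈ N <;> by_cases hb : b ∈ N <;> simp [ha, hb, h]
  · intro h
    show (if h ∈ N then (1 : ℤˣ) else -1) = 1 ↔ h ∈ N
    by_cases hh : h ∈ N
    · simp [hh]
    · simp only [hh, if_false, iff_false]
      decide

section ctx

variable {G : Type*} [Group G] [Finite G] {z : G} {H E K : Subgroup G} {n : ℕ}

/-- PIECE W3-SGN: the sign character of `H` with kernel `K`. -/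
theorem exists_sgn (c : Ctx3 z H E K n) :
    ∃ χ : ↥H →* ℤˣ, ∀ h : ↥H, χ h = 1 ↔ (h : G) ∈ K := by
  obtain ⟨χ, hχ⟩ := w3sgn_of_index_two (K.subgroupOf H) c.hKi
  exact ⟨χ, fun h => by rw [hχ h, Subgroup.mem_subgroupOf]⟩

end ctx

end Cfsg.Agent.Helper20.W3
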