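import Mathlib
import Cfsg.Prelude.Def_Transfer
import Cfsg.Agent.Lib.Helper10.SylowAux

set_option autoImplicit false

/-! Auxiliary lemmas for the Wielandt–Yoshida transfer theorem. -/

namespace Cfsg.Agent.Helper10.WY

open Finset

section arith

variable {p : ℕ} [hp : Fact p.Prime]

theorem choose_pred_prime_zmod (k : ℕ) (hk : k ≤ p - 1) :
    (((p - 1).choose k : ℕ) : ZMod p) = (-1) ^ k := by
  have hpp := hp.out
  induction k with
  | zero => simp
  | succ k ih =>
    have hk' : k ≤ p - 1 := by omega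
    have h1 : p.choose (k + 1) = (p - 1).choose k + (p - 1).choose (k + 1) := by
      have : p = (p - 1) + 1 := by have := hpp.pos; omega
      conv_lhs => rw [this]
      rw [Nat.choose_succ_succ]
    have h2 : p ∣ p.choose (k + 1) := hpp.dvd_choose_self (by omega) (by have := hpp.pos; omega)
    have h3 : ((p.choose (k + 1) : ℕ) : ZMod p) = 0 := (ZMod.natCast_eq_zero_iff _ _).mpr h2
    rw [h1, Nat.cast_add, ih hk'] at h3
    rw [pow_succ]
    linear_combination h3

theorem coeff_zmod (k : ℕ) (hk : k ≤ p - 1) :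
    ((((-1 : ℤ) ^ (p - 1 - k) * ((p - 1).choose k : ℕ) : ℤ)) : ZMod p) = 1 := by
  have hpp := hp.out
  push_cast
  rw [choose_pred_prime_zmod k hk, ← pow_add]
  have : p - 1 - k + k = p - 1 := by omega
  rw [this]
  exact ZMod.pow_card_sub_one_eq_one (by
    intro h
    have : (1 : ZMod p) = 0 := by
      have := congrArg (fun t => -t) h
      simpa using this
    exact one_ne_zero this)

/-- In an additive group of exponent `p`, the `(p-1)`-st forward difference at `0` is the sum of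
the first `p` values. -/
theorem fwdDiff_iter_pred_prime {B : Type*} [AddCommGroup B] (hB : ∀ b : B, p • b = 0)
    (f : ℕ → B) : (fwdDiff (1 : ℕ))^[p - 1] f 0 = ∑ k ∈ range p, f k := by
  have hpp := hp.out
  rw [fwdDiff_iter_eq_sum_shift]
  have hp1 : p - 1 + 1 = p := by have := hpp.pos; omega
  rw [hp1]
  apply Finset.sum_congr rfl
  intro k hk
  rw [Finset.mem_range] at hk
  have hk' : k ≤ p - 1 := by omega
  have h1 := coeff_zmod (p := p) k hk'
  have h2 : ((((-1 : ℤ) ^ (p - 1 - k) * ((p - 1).choose k : ℕ) : ℤ)) : ZMod p) = ((1 : ℤ) : ZMod p) := by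
    rw [h1]; simp
  rw [ZMod.intCast_eq_intCast_iff_dvd_sub] at h2
  obtain ⟨m, hm⟩ := h2
  have h3 : ((-1 : ℤ) ^ (p - 1 - k) * ((p - 1).choose k : ℕ) : ℤ) = 1 - (p : ℤ) * m := by
    linarith
  rw [h3, sub_smul, one_smul, mul_comm, mul_smul]
  have : ((p : ℤ) • f (0 + k • 1)) = 0 := by
    rw [natCast_zsmul]; exact hB _
  rw [this, smul_zero, sub_zero]
  simp

end arith

section norm

variable {G : Type*} [Group G] {A : Type*} [CommGroup A] {p : ℕ} [hp : Fact p.Prime]

/-- the commutator map `y ↦ [y, z] = y⁻¹ z⁻¹ y z` -/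
def cz (z : G) : G → G := fun y => y⁻¹ * z⁻¹ * y * z

theorem cz_mem {M : Subgroup G} {z : G} (hz : ∀ m ∈ M, z⁻¹ * m * z ∈ M) {y : G} (hy : y ∈ M) :
    cz z y ∈ M := by
  have : cz z y = y⁻¹ * (z⁻¹ * y * z) := by unfold cz; group
  rw [this]
  exact M.mul_mem (M.inv_mem hy) (hz y hy)

theorem cz_iter_mem {M : Subgroup G} {z : G} (hz : ∀ m ∈ M, z⁻¹ * m * z ∈ M) {y : G} (hy : y ∈ M)
    (k : ℕ) : (cz z)^[k] y ∈ M := by
  induction k generalizing y with
  | zero => simpa using hy
  | succ k ih => rw [Function.iterate_succ_apply]; exact ih (cz_mem hz hy)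

theorem conj_pow_mem {M : Subgroup G} {z : G} (hz : ∀ m ∈ M, z⁻¹ * m * z ∈ M) {y : G} (hy : y ∈ M)
    (i : ℕ) : (z ^ i)⁻¹ * y * z ^ i ∈ M := by
  induction i with
  | zero => simpa using hy
  | succ i ih =>
    have : (z ^ (i + 1))⁻¹ * y * z ^ (i + 1) = z⁻¹ * ((z ^ i)⁻¹ * y * z ^ i) * z := by
      rw [pow_succ]; group
    rw [this]; exact hz _ ih

/-- **Norm lemma**: for a map `ν` multiplicative on `M` with values in a commutative group of
exponent `p`, and `z` normalizing `M`: the product of `ν` over the `p` conjugates of `x` by powers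
of `z` is `ν` of the `(p-1)`-fold commutator. -/
theorem norm_lemma (hA : ∀ a : A, a ^ p = 1) (M : Subgroup G) (z : G)
    (hz : ∀ m ∈ M, z⁻¹ * m * z ∈ M) (ν : G → A)
    (hν : ∀ g ∈ M, ∀ h ∈ M, ν (g * h) = ν g * ν h) {x : G} (hx : x ∈ M) :
    ∏ i ∈ range p, ν ((z ^ i)⁻¹ * x * z ^ i) = ν ((cz z)^[p - 1] x) := by
  have hν1 : ν 1 = 1 := by
    have := hν 1 M.one_mem 1 M.one_mem
    rw [mul_one] at this
    exact (mul_eq_left.mp this.symm)
  have hνinv : ∀ g ∈ M, ν g⁻¹ = (ν g)⁻¹ := by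
    intro g hg
    have := hν g⁻¹ (M.inv_mem hg) g hg
    rw [inv_mul_cancel, hν1] at this
    exact eq_inv_of_mul_eq_one_left this.symm
  -- the additive sequence attached to `y`
  let b : G → ℕ → Additive A := fun y i => Additive.ofMul (ν ((z ^ i)⁻¹ * y * z ^ i))
  have hstep : ∀ y ∈ M, fwdDiff (1 : ℕ) (b y) = b (cz z y) := by
    intro y hy
    funext i
    show Additive.ofMul (ν ((z ^ (i + 1))⁻¹ * y * z ^ (i + 1))) -
      Additive.ofMul (ν ((z ^ i)⁻¹ * y * z ^ i)) = Additive.ofMul (ν ((z ^ i)⁻¹ * cz z y * z ^ i))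
    have e : (z ^ i)⁻¹ * cz z y * z ^ i =
        ((z ^ i)⁻¹ * y * z ^ i)⁻¹ * ((z ^ (i + 1))⁻¹ * y * z ^ (i + 1)) := by
      unfold cz; rw [pow_succ]; group
    rw [e, hν _ (M.inv_mem (conj_pow_mem hz hy i)) _ (conj_pow_mem hz hy (i + 1)),
      hνinv _ (conj_pow_mem hz hy i)]
    rw [← ofMul_div, div_eq_mul_inv, mul_comm]
  have hiter : ∀ k : ℕ, ∀ y ∈ M, (fwdDiff (1 : ℕ))^[k] (b y) = b ((cz z)^[k] y) := by
    intro k
    induction k with
    | zero => intro y _; rfl
    | succ k ih =>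
      intro y hy
      rw [Function.iterate_succ_apply, Function.iterate_succ_apply, hstep y hy]
      exact ih _ (cz_mem hz hy)
  have hB : ∀ c : Additive A, p • c = 0 := by
    intro c
    show Additive.ofMul ((Additive.toMul c) ^ p) = 0
    rw [hA]; rfl
  have h1 := fwdDiff_iter_pred_prime (p := p) hB (b x)
  rw [hiter (p - 1) x hx] at h1
  have h2 : b ((cz z)^[p - 1] x) 0 = Additive.ofMul (ν ((cz z)^[p - 1] x)) := by
    show Additive.ofMul (ν ((z ^ 0)⁻¹ * (cz z)^[p - 1] x * z ^ 0)) = _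
    simp
  rw [h2] at h1
  have h3 : ∑ k ∈ range p, b x k = Additive.ofMul (∏ i ∈ range p, ν ((z ^ i)⁻¹ * x * z ^ i)) := by
    rw [ofMul_prod]
  rw [h3] at h1
  exact (Additive.ofMul.injective h1).symm

end norm

section cyclicQuot

variable {P : Type*} [Group P] {p : ℕ} [hp : Fact p.Prime]

/-- In a group with a normal subgroup `M` of index `p`, every element is `g^i m` for a fixed
`g ∉ M`. -/
theorem exists_pow_mul_mem (M : Subgroup P) [M.Normal] (hM : M.index = p) {g : P} (hg : g ∉ M)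
    (h : P) : ∃ i < p, (g ^ i)⁻¹ * h ∈ M := by
  have hpp := hp.out
  have hcard : Nat.card (P ⧸ M) = p := hM
  have hg1 : (QuotientGroup.mk g : P ⧸ M) ≠ 1 := by
    intro h1; exact hg ((QuotientGroup.eq_one_iff g).mp h1)
  haveI : Finite (P ⧸ M) := Nat.finite_of_card_ne_zero (by rw [hcard]; exact hpp.ne_zero)
  have htop : Subgroup.zpowers (QuotientGroup.mk g : P ⧸ M) = ⊤ :=
    zpowers_eq_top_of_prime_card hcard hg1
  have hh : (QuotientGroup.mk h : P ⧸ M) ∈ Subgroup.zpowers (QuotientGroup.mk g : P ⧸ M) := by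
    rw [htop]; exact Subgroup.mem_top _
  obtain ⟨k, hk⟩ := Subgroup.mem_zpowers_iff.mp hh
  have hord : orderOf (QuotientGroup.mk g : P ⧸ M) = p := by
    have h1 : orderOf (QuotientGroup.mk g : P ⧸ M) ∣ p := by
      rw [← hcard]; exact orderOf_dvd_natCard _
    rcases (Nat.dvd_prime hpp).mp h1 with h2 | h2
    · exact absurd (orderOf_eq_one_iff.mp h2) hg1
    · exact h2
  refine ⟨(k % (p : ℤ)).toNat, ?_, ?_⟩
  · have h1 : 0 ≤ k % (p : ℤ) := Int.emod_nonneg _ (by exact_mod_cast hpp.ne_zero)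
    have h2 : k % (p : ℤ) < p := Int.emod_lt_of_pos _ (by exact_mod_cast hpp.pos)
    omega
  · have h1 : 0 ≤ k % (p : ℤ) := Int.emod_nonneg _ (by exact_mod_cast hpp.ne_zero)
    have h3 : (QuotientGroup.mk g : P ⧸ M) ^ (k % (p : ℤ)).toNat = QuotientGroup.mk h := by
      rw [← zpow_natCast, Int.toNat_of_nonneg h1, ← hk, ← hord, zpow_mod_orderOf]
    rw [← QuotientGroup.eq, QuotientGroup.mk_pow]
    exact h3

theorem pow_eq_of_mem (M : Subgroup P) [M.Normal] (hM : M.index = p) {g : P} (hg : g ∉ M)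
    {i j : ℕ} (hi : i < p) (hj : j < p) (h : (g ^ j)⁻¹ * g ^ i ∈ M) : i = j := by
  have hpp := hp.out
  have hcard : Nat.card (P ⧸ M) = p := hM
  have hg1 : (QuotientGroup.mk g : P ⧸ M) ≠ 1 := by
    intro h1; exact hg ((QuotientGroup.eq_one_iff g).mp h1)
  haveI : Finite (P ⧸ M) := Nat.finite_of_card_ne_zero (by rw [hcard]; exact hpp.ne_zero)
  have hord : orderOf (QuotientGroup.mk g : P ⧸ M) = p := by
    have h1 : orderOf (QuotientGroup.mk g : P ⧸ M) ∣ p := by
      rw [← hcard]; exact orderOf_dvd_natCard _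
    rcases (Nat.dvd_prime hpp).mp h1 with h2 | h2
    · exact absurd (orderOf_eq_one_iff.mp h2) hg1
    · exact h2
  have h2 : (QuotientGroup.mk g : P ⧸ M) ^ j = (QuotientGroup.mk g : P ⧸ M) ^ i := by
    rw [← QuotientGroup.mk_pow, ← QuotientGroup.mk_pow]
    exact QuotientGroup.eq.mpr h
  have hinj := pow_injOn_Iio_orderOf (x := (QuotientGroup.mk g : P ⧸ M))
  have hi' : i ∈ Set.Iio (orderOf (QuotientGroup.mk g : P ⧸ M)) := by rw [hord]; exact hi
  have hj' : j ∈ Set.Iio (orderOf (QuotientGroup.mk g : P ⧸ M)) := by rw [hord]; exact hj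
  exact (hinj hj' hi' h2).symm

end cyclicQuot

section weak

variable {G : Type*} [Group G] [Finite G] {p : ℕ} [hp : Fact p.Prime]

theorem sylow_le_normalizer (S : Sylow p G) (W : Subgroup G)
    (hW : Cfsg.IsWeaklyClosed W (S : Subgroup G)) :
    (S : Subgroup G) ≤ Subgroup.normalizer (W : Set G) := by
  intro s hs
  have h1 : W.map (MulAut.conj s).toMonoidHom ≤ (S : Subgroup G) := by
    rintro _ ⟨w, hw, rfl⟩
    simp only [MulEquiv.coe_toMonoidHom, MulAut.conj_apply]
    exact (S : Subgroup G).mul_mem ((S : Subgroup G).mul_mem hs (hW.1 hw)) ((S : Subgroup G).inv_mem hs)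
  have h2 := hW.2 s h1
  rw [Subgroup.mem_normalizer_iff]
  intro h
  constructor
  · intro hh
    rw [← h2]
    exact ⟨h, hh, by simp [MulAut.conj_apply]⟩
  · intro hh
    rw [← h2] at hh
    obtain ⟨w, hw, hwe⟩ := hh
    simp only [MulEquiv.coe_toMonoidHom, MulAut.conj_apply] at hwe
    have : w = h := by
      have := congrArg (fun t => s⁻¹ * t * s) hwe
      simpa [mul_assoc] using this
    rw [← this]; exact hw

/-- If `W` fixes the coset `t N_G(W)` then `t ∈ N_G(W)`. -/
theorem mem_normalizer_of_conj_le (S : Sylow p G) (W : Subgroup G)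
    (hW : Cfsg.IsWeaklyClosed W (S : Subgroup G)) (t : G)
    (ht : ∀ w ∈ W, t⁻¹ * w * t ∈ Subgroup.normalizer (W : Set G)) :
    t ∈ Subgroup.normalizer (W : Set G) := by
  set N := Subgroup.normalizer (W : Set G) with hN
  have hSN : (S : Subgroup G) ≤ N := sylow_le_normalizer S W hW
  set R : Subgroup G := W.map (MulAut.conj t⁻¹).toMonoidHom with hR
  have hRp : IsPGroup p R := (S.2.to_le hW.1).map _
  have hRN : R ≤ N := by
    rintro _ ⟨w, hw, rfl⟩
    simp only [MulEquiv.coe_toMonoidHom, MulAut.conj_apply, inv_inv]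
    exact ht w hw
  obtain ⟨c, hcN, hc⟩ := pSubgroup_conj_into_sylow_in_subgroup S N hSN R hRp hRN
  have h1 : W.map (MulAut.conj (t * c)⁻¹).toMonoidHom ≤ (S : Subgroup G) := by
    rintro _ ⟨w, hw, rfl⟩
    simp only [MulEquiv.coe_toMonoidHom, MulAut.conj_apply, inv_inv]
    have h2 := hc (t⁻¹ * w * t) ⟨w, hw, by simp [MulAut.conj_apply]⟩
    have e : (t * c)⁻¹ * w * (t * c) = c⁻¹ * (t⁻¹ * w * t) * c := by group
    rw [e]; exact h2
  have h2 := hW.2 (t * c)⁻¹ h1
  have h3 : (t * c)⁻¹ ∈ N := by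
    rw [hN, Subgroup.mem_normalizer_iff]
    intro h
    constructor
    · intro hh
      rw [← h2]
      exact ⟨h, hh, by simp only [MulEquiv.coe_toMonoidHom, MulAut.conj_apply]⟩
    · intro hh
      rw [← h2] at hh
      obtain ⟨w, hw, hwe⟩ := hh
      simp only [MulEquiv.coe_toMonoidHom, MulAut.conj_apply] at hwe
      have : w = h := by
        have := congrArg (fun u => (t * c) * u * (t * c)⁻¹) hwe
        simpa [mul_assoc] using this
      rw [← this]; exact hw
  have h4 : t * c ∈ N := by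
    have := N.inv_mem h3
    simpa using this
  have := N.mul_mem h4 (N.inv_mem hcN)
  simpa using this

end weak

end Cfsg.Agent.Helper10.WY
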