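import Mathlib
import Cfsg.Prelude.Def_Transfer
import Cfsg.Agent.Lib.Helper10.CocTransfer
import Cfsg.Agent.Lib.Helper10.WYAux
import Cfsg.Agent.Lib.Helper1.PGroupCoatom
import Cfsg.Agent.Lib.Helper9.FrattiniElem

set_option autoImplicit false
set_option maxHeartbeats 1000000

/-! The contribution of one orbit in the Wielandt–Yoshida argument. -/

namespace Cfsg.Agent.Helper10.WY

open Finset

variable {G : Type*} [Group G] [Finite G] {p : ℕ} [hp : Fact p.Prime]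

/-- the commutator hypothesis -/
def Hyp (p : ℕ) (S W : Subgroup G) : Prop :=
  ∀ x ∈ S, ∀ z ∈ W, ∀ W₀ : Subgroup ↥W, IsCoatom W₀ →
    (fun y : G => y⁻¹ * z⁻¹ * y * z)^[p - 1] x ∈ W₀.map W.subtype →
    (fun y : G => y⁻¹ * z⁻¹ * y * z)^[p - 1] x ∈ ((frattini ↥W₀).map W₀.subtype).map W.subtype

/-- the weaker commutator hypothesis -/
def Hyp2 (p : ℕ) (S W : Subgroup G) : Prop :=
  ∀ x ∈ S, ∀ z ∈ W, ∀ W₀ : Subgroup ↥W, IsCoatom W₀ →
    z ∉ W₀.map W.subtype → (x ∈ W → x ∈ W₀.map W.subtype) →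
    (fun y : G => y⁻¹ * z⁻¹ * y * z)^[p - 1] x ∈ W₀.map W.subtype →
    (fun y : G => y⁻¹ * z⁻¹ * y * z)^[p - 1] x ∈ ((frattini ↥W₀).map W₀.subtype).map W.subtype

theorem hyp2_of_hyp {p : ℕ} {S W : Subgroup G} (h : Hyp p S W) : Hyp2 p S W :=
  fun x hx z hz W₀ hco _ _ hu => h x hx z hz W₀ hco hu

open Classical in
theorem orbit_prod_eq_one₂ (S : Sylow p G) (W : Subgroup G)
    (hW : Cfsg.IsWeaklyClosed W (S : Subgroup G))
    {A : Type*} [CommGroup A] (hA : ∀ a : A, a ^ p = 1)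
    (N : Subgroup G) (hN : N = Subgroup.normalizer (W : Set G))
    (lam : ↥N →* A) [Fintype (G ⧸ N)]
    (hH : Hyp2 p (S : Subgroup G) W) (x : G) (hx : x ∈ (S : Subgroup G))
    (ω₁ : G ⧸ N) (hω₁ : ω₁ ≠ CT.base N) (hfix : x • ω₁ = ω₁)
    (hvan : ∀ x' ∈ (S : Subgroup G), orderOf x' = orderOf x →
      ∀ (ω : G ⧸ N) (n : ℕ), 1 < n → n ∣ orderOf x' →
        x' ^ n • ω = ω → CT.coc N lam (x' ^ n) ω = 1) :
    ∏ ω ∈ (Finset.univ.filter (fun ω => ∃ g ∈ W ⊔ Subgroup.zpowers x, g • ω₁ = ω)).filter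
        (fun ω => x • ω = ω), CT.coc N lam x ω = 1 := by
  have hpp := hp.out
  have hSN : (S : Subgroup G) ≤ N := by rw [hN]; exact sylow_le_normalizer S W hW
  have hWS : W ≤ (S : Subgroup G) := hW.1
  have hWn : ∀ s ∈ (S : Subgroup G), ∀ w ∈ W, s⁻¹ * w * s ∈ W := by
    intro s hs w hw
    have h1 : s⁻¹ ∈ Subgroup.normalizer (W : Set G) := by
      rw [← hN]; exact N.inv_mem (hSN hs)
    rw [Subgroup.mem_normalizer_iff] at h1
    have := (h1 w).mp hw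
    simpa using this
  set P₁ : Subgroup G := W ⊔ Subgroup.zpowers x with hP₁
  have hP₁S : P₁ ≤ (S : Subgroup G) := sup_le hWS (Subgroup.zpowers_le.mpr hx)
  have hP₁p : IsPGroup p P₁ := S.2.to_le hP₁S
  have hWP₁ : W ≤ P₁ := le_sup_left
  have hxP₁ : x ∈ P₁ := (le_sup_right : Subgroup.zpowers x ≤ P₁) (Subgroup.mem_zpowers x)
  set St : Subgroup G := MulAction.stabilizer G ω₁ with hSt
  set D : Subgroup G := P₁ ⊓ St with hD
  have hxD : x ∈ D := Subgroup.mem_inf.mpr ⟨hxP₁, MulAction.mem_stabilizer_iff.mpr hfix⟩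
  -- `W` does not fix `ω₁`
  have hWSt : ∃ w ∈ W, w • ω₁ ≠ ω₁ := by
    by_contra hcon
    push Not at hcon
    apply hω₁
    have ht : ∀ w ∈ W, (CT.rep N ω₁)⁻¹ * w * CT.rep N ω₁ ∈ N := by
      intro w hw
      rw [← CT.fixed_iff, CT.mk_rep]
      exact hcon w hw
    have h1 : CT.rep N ω₁ ∈ N := by
      have h := mem_normalizer_of_conj_le S W hW (CT.rep N ω₁)
        (fun w hw => by rw [← hN]; exact ht w hw)
      rw [← hN] at h
      exact h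
    rw [← CT.mk_rep N ω₁, CT.mk_eq_smul_base]
    exact CT.smul_base N h1
  set D' : Subgroup ↥P₁ := D.subgroupOf P₁ with hD'
  have hD'top : D' ≠ ⊤ := by
    intro h
    obtain ⟨w, hw, hwne⟩ := hWSt
    have h1 : (⟨w, hWP₁ hw⟩ : ↥P₁) ∈ D' := by rw [h]; exact Subgroup.mem_top _
    rw [hD', Subgroup.mem_subgroupOf] at h1
    exact hwne (Subgroup.mem_inf.mp h1).2
  obtain ⟨M', hM'co, hDM'⟩ := (eq_top_or_exists_le_coatom D').resolve_left hD'top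
  obtain ⟨hM'n, hM'idx⟩ := Cfsg.Agent.Helper1.coatom_normal_index_of_isPGroup hP₁p M' hM'co
  set M : Subgroup G := M'.map P₁.subtype with hM
  have hMP₁ : M ≤ P₁ := Subgroup.map_subtype_le M'
  have hmemM : ∀ (g : G) (hg : g ∈ P₁), g ∈ M ↔ (⟨g, hg⟩ : ↥P₁) ∈ M' := by
    intro g hg
    constructor
    · rintro ⟨y, hy, hyg⟩
      have : y = ⟨g, hg⟩ := Subtype.ext hyg
      rw [← this]; exact hy
    · intro h; exact ⟨⟨g, hg⟩, h, rfl⟩
  have hDM : D ≤ M := by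
    intro d hd
    have hdP : d ∈ P₁ := (Subgroup.mem_inf.mp hd).1
    rw [hmemM d hdP]
    apply hDM'
    rw [hD', Subgroup.mem_subgroupOf]
    exact hd
  have hxM : x ∈ M := hDM hxD
  have hMnorm : ∀ g ∈ P₁, ∀ m ∈ M, g⁻¹ * m * g ∈ M := by
    intro g hg m hm
    have hmP := hMP₁ hm
    rw [hmemM _ (P₁.mul_mem (P₁.mul_mem (P₁.inv_mem hg) hmP) hg)]
    have h1 := hM'n.conj_mem ⟨m, hmP⟩ ((hmemM m hmP).mp hm) (⟨g, hg⟩ : ↥P₁)⁻¹
    have e : (⟨g⁻¹ * m * g, P₁.mul_mem (P₁.mul_mem (P₁.inv_mem hg) hmP) hg⟩ : ↥P₁) =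
        (⟨g, hg⟩ : ↥P₁)⁻¹ * ⟨m, hmP⟩ * ((⟨g, hg⟩ : ↥P₁)⁻¹)⁻¹ := by
      apply Subtype.ext; simp
    rw [e]; exact h1
  have hzex : ∃ z ∈ W, z ∉ M := by
    by_contra hcon
    push Not at hcon
    have h1 : P₁ ≤ M := sup_le hcon (Subgroup.zpowers_le.mpr hxM)
    apply hM'co.1
    rw [eq_top_iff]
    intro y _
    exact (hmemM y.1 y.2).mp (h1 y.2)
  obtain ⟨z, hzW, hzM⟩ := hzex
  have hzP₁ : z ∈ P₁ := hWP₁ hzW
  have hzS : z ∈ (S : Subgroup G) := hWS hzW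
  have hCQ : ∀ g ∈ P₁, g ∉ M → ∀ h ∈ P₁, ∃ i < p, (g ^ i)⁻¹ * h ∈ M := by
    intro g hg hgM h hh
    obtain ⟨i, hi, hmem⟩ := exists_pow_mul_mem M' hM'idx (g := ⟨g, hg⟩)
      (fun hc => hgM ((hmemM g hg).mpr hc)) ⟨h, hh⟩
    refine ⟨i, hi, ?_⟩
    have hP : (g ^ i)⁻¹ * h ∈ P₁ := P₁.mul_mem (P₁.inv_mem (P₁.pow_mem hg i)) hh
    rw [hmemM _ hP]
    have e : (⟨(g ^ i)⁻¹ * h, hP⟩ : ↥P₁) = ((⟨g, hg⟩ : ↥P₁) ^ i)⁻¹ * ⟨h, hh⟩ := by
      apply Subtype.ext; simp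
    rw [e]; exact hmem
  have hzMn : ∀ m ∈ M, z⁻¹ * m * z ∈ M := hMnorm z hzP₁
  -- the block and the orbit
  set B₀ : Finset (G ⧸ N) := Finset.univ.filter (fun β => ∃ m ∈ M, m • ω₁ = β) with hB₀
  have hB₀inv : ∀ m ∈ M, ∀ β ∈ B₀, m • β ∈ B₀ := by
    intro m hm β hβ
    rw [hB₀, Finset.mem_filter] at hβ ⊢
    obtain ⟨-, m', hm', rfl⟩ := hβ
    exact ⟨Finset.mem_univ _, m * m', M.mul_mem hm hm', mul_smul _ _ _⟩
  set ν : G → A := CT.T N lam B₀ with hν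
  have hνmul : ∀ g ∈ M, ∀ h ∈ M, ν (g * h) = ν g * ν h := by
    intro g _ h hh
    exact CT.T_mul N lam B₀ g h (hB₀inv h hh)
  -- conjugates of `x`
  have hxi_mem : ∀ i : ℕ, (z ^ i)⁻¹ * x * z ^ i ∈ M := fun i => conj_pow_mem hzMn hxM i
  have hxi_S : ∀ i : ℕ, (z ^ i)⁻¹ * x * z ^ i ∈ (S : Subgroup G) := fun i => hP₁S (hMP₁ (hxi_mem i))
  have hxi_ord : ∀ i : ℕ, orderOf ((z ^ i)⁻¹ * x * z ^ i) = orderOf x := by
    intro i
    have := (MulAut.conj (z ^ i)⁻¹).orderOf_eq x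
    rw [MulAut.conj_apply, inv_inv] at this
    exact this
  -- evaluation of `ν` at the conjugates
  have hνxi : ∀ i : ℕ, ν ((z ^ i)⁻¹ * x * z ^ i) =
      ∏ β ∈ B₀.filter (fun β => ((z ^ i)⁻¹ * x * z ^ i) • β = β),
        CT.coc N lam ((z ^ i)⁻¹ * x * z ^ i) β := by
    intro i
    apply CT.T_eq_prod_fixed N lam _ B₀ (hB₀inv _ (hxi_mem i))
    intro ω _ n hn1 hnd hfixn
    exact hvan _ (hxi_S i) (hxi_ord i) ω n hn1 hnd hfixn
  -- rewrite each factor in terms of `x`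
  have hfac : ∀ i : ℕ, ν ((z ^ i)⁻¹ * x * z ^ i) =
      ∏ β ∈ B₀.filter (fun β => x • (z ^ i • β) = z ^ i • β), CT.coc N lam x (z ^ i • β) := by
    intro i
    rw [hνxi i]
    have hiff : ∀ β : G ⧸ N, ((z ^ i)⁻¹ * x * z ^ i) • β = β ↔ x • (z ^ i • β) = z ^ i • β := by
      intro β
      rw [mul_smul, mul_smul]
      constructor
      · intro h
        have := congrArg (fun t => z ^ i • t) h
        simpa using this
      · intro h
        rw [h, inv_smul_smul]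
    apply Finset.prod_congr
    · ext β
      simp only [Finset.mem_filter, hiff]
    · intro β hβ
      have hβfix := (Finset.mem_filter.mp hβ).2
      have h1 := CT.coc_conj N lam (z ^ i) ((z ^ i)⁻¹ * x * z ^ i) β ((hiff β).mpr hβfix)
      have e : z ^ i * ((z ^ i)⁻¹ * x * z ^ i) * (z ^ i)⁻¹ = x := by group
      rw [e] at h1
      exact h1.symm
  -- the bijection
  have hbij : ∏ ω ∈ (Finset.univ.filter (fun ω => ∃ g ∈ P₁, g • ω₁ = ω)).filter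
        (fun ω => x • ω = ω), CT.coc N lam x ω =
      ∏ i ∈ range p, ∏ β ∈ B₀.filter (fun β => x • (z ^ i • β) = z ^ i • β),
        CT.coc N lam x (z ^ i • β) := by
    rw [Finset.prod_sigma']
    symm
    apply Finset.prod_bij (fun (q : Σ _ : ℕ, G ⧸ N) _ => z ^ q.1 • q.2)
    · rintro ⟨i, β⟩ hq
      rw [Finset.mem_sigma] at hq
      obtain ⟨-, hβ⟩ := hq
      simp only at hβ
      rw [Finset.mem_filter] at hβ
      obtain ⟨hβB, hβfix⟩ := hβ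
      rw [hB₀, Finset.mem_filter] at hβB
      obtain ⟨-, m, hm, rfl⟩ := hβB
      rw [Finset.mem_filter, Finset.mem_filter]
      refine ⟨⟨Finset.mem_univ _, z ^ i * m, P₁.mul_mem (P₁.pow_mem hzP₁ i) (hMP₁ hm), ?_⟩, hβfix⟩
      exact mul_smul _ _ _
    · rintro ⟨i, β⟩ hq ⟨j, β'⟩ hq' heq
      rw [Finset.mem_sigma] at hq hq'
      obtain ⟨hi, hβ⟩ := hq
      obtain ⟨hj, hβ'⟩ := hq'
      simp only at hβ hβ' heq
      rw [Finset.mem_range] at hi hj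
      have hβB := (Finset.mem_filter.mp hβ).1
      have hβ'B := (Finset.mem_filter.mp hβ').1
      rw [hB₀, Finset.mem_filter] at hβB hβ'B
      obtain ⟨-, m, hm, rfl⟩ := hβB
      obtain ⟨-, m', hm', rfl⟩ := hβ'B
      have h1 : ((z ^ j * m')⁻¹ * (z ^ i * m)) • ω₁ = ω₁ := by
        calc ((z ^ j * m')⁻¹ * (z ^ i * m)) • ω₁
            = (z ^ j * m')⁻¹ • (z ^ i • m • ω₁) := by rw [mul_smul, mul_smul]
          _ = (z ^ j * m')⁻¹ • (z ^ j • m' • ω₁) := by rw [heq]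
          _ = ω₁ := by rw [← mul_smul (z ^ j) m', inv_smul_smul]
      have h2 : (z ^ j * m')⁻¹ * (z ^ i * m) ∈ D := by
        refine Subgroup.mem_inf.mpr ⟨?_, h1⟩
        exact P₁.mul_mem (P₁.inv_mem (P₁.mul_mem (P₁.pow_mem hzP₁ j) (hMP₁ hm')))
          (P₁.mul_mem (P₁.pow_mem hzP₁ i) (hMP₁ hm))
      have h3 : (z ^ j)⁻¹ * z ^ i ∈ M := by
        have h4 := M.mul_mem (M.mul_mem hm' (hDM h2)) (M.inv_mem hm)
        have e : m' * ((z ^ j * m')⁻¹ * (z ^ i * m)) * m⁻¹ = (z ^ j)⁻¹ * z ^ i := by group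
        rwa [e] at h4
      have hP : (z ^ j)⁻¹ * z ^ i ∈ P₁ := P₁.mul_mem (P₁.inv_mem (P₁.pow_mem hzP₁ j)) (P₁.pow_mem hzP₁ i)
      have h5 : ((⟨z, hzP₁⟩ : ↥P₁) ^ j)⁻¹ * (⟨z, hzP₁⟩ : ↥P₁) ^ i ∈ M' := by
        have := (hmemM _ hP).mp h3
        have e : (⟨(z ^ j)⁻¹ * z ^ i, hP⟩ : ↥P₁) = ((⟨z, hzP₁⟩ : ↥P₁) ^ j)⁻¹ * (⟨z, hzP₁⟩ : ↥P₁) ^ i := by
          apply Subtype.ext; simp
        rwa [e] at this
      have hij : i = j := pow_eq_of_mem M' hM'idx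
        (fun hc => hzM ((hmemM z hzP₁).mpr hc)) hi hj h5
      subst hij
      have h6 : m • ω₁ = m' • ω₁ := MulAction.injective (z ^ i) heq
      rw [h6]
    · intro ω hω
      rw [Finset.mem_filter, Finset.mem_filter] at hω
      obtain ⟨⟨-, g, hg, rfl⟩, hωfix⟩ := hω
      obtain ⟨i, hi, hmem⟩ := hCQ z hzP₁ hzM g hg
      have hgω : g • ω₁ = z ^ i • (((z ^ i)⁻¹ * g) • ω₁) := by
        rw [← mul_smul]; congr 1; group
      refine ⟨⟨i, ((z ^ i)⁻¹ * g) • ω₁⟩, ?_, hgω.symm⟩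
      rw [Finset.mem_sigma]
      refine ⟨Finset.mem_range.mpr hi, ?_⟩
      simp only
      rw [Finset.mem_filter]
      refine ⟨?_, ?_⟩
      · rw [hB₀, Finset.mem_filter]
        exact ⟨Finset.mem_univ _, _, hmem, rfl⟩
      · rw [← hgω]; exact hωfix
    · rintro ⟨i, β⟩ _
      rfl
  rw [hbij]
  have h1 : ∏ i ∈ range p, ∏ β ∈ B₀.filter (fun β => x • (z ^ i • β) = z ^ i • β),
      CT.coc N lam x (z ^ i • β) = ∏ i ∈ range p, ν ((z ^ i)⁻¹ * x * z ^ i) :=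
    Finset.prod_congr rfl (fun i _ => (hfac i).symm)
  rw [h1, norm_lemma hA M z hzMn ν hνmul hxM]
  -- the commutator lies in `W ∩ M`
  set u : G := (cz z)^[p - 1] x with hu
  have huM : u ∈ M := cz_iter_mem hzMn hxM (p - 1)
  have huW : u ∈ W := by
    have hp1 : p - 1 = (p - 2) + 1 := by have := hpp.two_le; omega
    rw [hu, hp1, Function.iterate_succ_apply']
    set y := (cz z)^[p - 2] x with hy
    have hyS : y ∈ (S : Subgroup G) := by
      apply cz_iter_mem (M := (S : Subgroup G)) _ hx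
      intro m hm
      exact (S : Subgroup G).mul_mem ((S : Subgroup G).mul_mem ((S : Subgroup G).inv_mem hzS) hm) hzS
    have e : cz z y = (y⁻¹ * z⁻¹ * y) * z := by unfold cz; group
    rw [e]
    refine W.mul_mem ?_ hzW
    have := hWn y hyS z⁻¹ (W.inv_mem hzW)
    exact this
  -- the coatom of `W`
  set W₀ : Subgroup ↥W := M.subgroupOf W with hW₀
  have hW₀co : IsCoatom W₀ := by
    constructor
    · intro h
      have : (⟨z, hzW⟩ : ↥W) ∈ W₀ := by rw [h]; exact Subgroup.mem_top _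
      rw [hW₀, Subgroup.mem_subgroupOf] at this
      exact hzM this
    · intro K hK
      obtain ⟨k, hkK, hkW₀⟩ := SetLike.exists_of_lt hK
      rw [hW₀, Subgroup.mem_subgroupOf] at hkW₀
      rw [eq_top_iff]
      intro w _
      obtain ⟨i, _, hmem⟩ := hCQ (k : G) (hWP₁ k.2) hkW₀ (w : G) (hWP₁ w.2)
      have h2 : (k ^ i)⁻¹ * w ∈ W₀ := by
        rw [hW₀, Subgroup.mem_subgroupOf]
        simpa using hmem
      have h3 := K.mul_mem (K.pow_mem hkK i) (hK.le h2)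
      simpa using h3
  have huW₀ : u ∈ W₀.map W.subtype := by
    refine Subgroup.mem_map.mpr ⟨⟨u, huW⟩, ?_, rfl⟩
    rw [hW₀, Subgroup.mem_subgroupOf]
    exact huM
  have hzW₀ : z ∉ W₀.map W.subtype := by
    rintro ⟨z', hz', hz'z⟩
    have hz'' : z' ∈ W₀ := hz'
    rw [hW₀, Subgroup.mem_subgroupOf] at hz''
    have e : ((z' : ↥W) : G) = z := hz'z
    rw [e] at hz''
    exact hzM hz''
  have hxW₀ : x ∈ W → x ∈ W₀.map W.subtype := by
    intro hxW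
    refine Subgroup.mem_map.mpr ⟨⟨x, hxW⟩, ?_, rfl⟩
    rw [hW₀, Subgroup.mem_subgroupOf]
    exact hxM
  have hfr := hH x hx z hzW W₀ hW₀co hzW₀ hxW₀ huW₀
  -- the character on `W₀`
  let χ : ↥W₀ →* A :=
    { toFun := fun w => ν ((w : ↥W) : G)
      map_one' := by
        show ν ((1 : G)) = 1
        exact CT.T_one N lam B₀
      map_mul' := by
        intro a b
        have ha : ((a : ↥W) : G) ∈ M := Subgroup.mem_subgroupOf.mp a.2
        have hb : ((b : ↥W) : G) ∈ M := Subgroup.mem_subgroupOf.mp b.2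
        show ν ((((a * b : ↥W₀) : ↥W) : G)) = _
        rw [Subgroup.coe_mul, Subgroup.coe_mul]
        exact hνmul _ ha _ hb }
  have hker : frattini ↥W₀ ≤ χ.ker :=
    Cfsg.Agent.Helper9.frattini_le_ker_of_elementary (p := p) χ (fun a b => mul_comm a b) hA
  obtain ⟨f₁, ⟨f, hf, hff₁⟩, hf₁u⟩ := hfr
  have h2 : χ f = 1 := hker hf
  have h3 : ν u = χ f := by
    show ν u = ν ((f : ↥W) : G)
    have e1 : (f₁ : G) = u := hf₁u
    have e2 : ((f : ↥W₀) : ↥W) = f₁ := hff₁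
    rw [← e1, ← e2]
  rw [h3, h2]

end Cfsg.Agent.Helper10.WY
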