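import Mathlib
import Cfsg.Prelude.Def_Transfer
import Cfsg.Agent.Lib.Helper10.CocTransfer
import Cfsg.Agent.Lib.Helper10.WYAux
import Cfsg.Agent.Lib.Helper10.WYOrbit

set_option autoImplicit false
set_option maxHeartbeats 1000000

/-! The Wielandt–Yoshida transfer theorem, mod `p` form: under the commutator hypothesis, the
transfer of `G` into an elementary abelian quotient of `N_G(W)` restricts to `S` as the given map. -/

namespace Cfsg.Agent.Helper10.WY

open Finset

variable {G : Type*} [Group G] [Finite G] {p : ℕ} [hp : Fact p.Prime]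

open Classical in
theorem transfer_eq₂ (S : Sylow p G) (W : Subgroup G)
    (hW : Cfsg.IsWeaklyClosed W (S : Subgroup G))
    {A : Type*} [CommGroup A] (hA : ∀ a : A, a ^ p = 1)
    (N : Subgroup G) (hN : N = Subgroup.normalizer (W : Set G))
    (lam : ↥N →* A) [Fintype (G ⧸ N)]
    (hH : Hyp2 p (S : Subgroup G) W) :
    ∀ x ∈ (S : Subgroup G), ∀ hxN : x ∈ N, CT.T N lam Finset.univ x = lam ⟨x, hxN⟩ := by
  have hpp := hp.out
  have hSN : (S : Subgroup G) ≤ N := by rw [hN]; exact sylow_le_normalizer S W hW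
  set v : G → A := CT.T N lam Finset.univ with hv
  have hvmul : ∀ g h : G, v (g * h) = v g * v h :=
    fun g h => CT.T_mul N lam Finset.univ g h (fun _ _ => Finset.mem_univ _)
  have hv1 : v 1 = 1 := CT.T_one N lam Finset.univ
  have hvconj : ∀ k y : G, v (k * y * k⁻¹) = v y := by
    intro k y
    rw [hvmul, hvmul, mul_comm (v k), mul_assoc, ← hvmul, mul_inv_cancel, hv1, mul_one]
  suffices H : ∀ n : ℕ, ∀ x ∈ (S : Subgroup G), orderOf x = n → ∀ hxN : x ∈ N,
      v x = lam ⟨x, hxN⟩ from fun x hx hxN => H (orderOf x) x hx rfl hxN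
  intro n
  induction n using Nat.strong_induction_on with
  | _ n IH =>
  intro x hx hxn hxN
  subst hxn
  -- Step 1: fusion of elements of smaller order
  have hstep1 : ∀ y ∈ (S : Subgroup G), orderOf y < orderOf x → ∀ hyN : y ∈ N,
      ∀ ω : G ⧸ N, y • ω = ω → CT.coc N lam y ω = lam ⟨y, hyN⟩ := by
    intro y hy hylt hyN ω hω
    set t := CT.rep N ω with ht
    have hωt : ((t : G) : G ⧸ N) = ω := CT.mk_rep N ω
    have htN : t⁻¹ * y * t ∈ N := by
      rw [← CT.fixed_iff, hωt]; exact hω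
    have hc1 : CT.coc N lam y ω = lam ⟨t⁻¹ * y * t, htN⟩ := by
      conv_lhs => rw [← hωt]
      exact CT.coc_fixed N lam y t htN
    set R : Subgroup G := Subgroup.zpowers (t⁻¹ * y * t) with hR
    have hRN : R ≤ N := Subgroup.zpowers_le.mpr htN
    have hRp : IsPGroup p R := by
      have h1 : IsPGroup p ((Subgroup.zpowers y).map (MulAut.conj t⁻¹).toMonoidHom) :=
        (S.2.to_le (Subgroup.zpowers_le.mpr hy)).map _
      have h2 : (Subgroup.zpowers y).map (MulAut.conj t⁻¹).toMonoidHom = R := by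
        rw [MonoidHom.map_zpowers]
        simp only [MulEquiv.coe_toMonoidHom, MulAut.conj_apply, inv_inv]
        rfl
      rwa [h2] at h1
    obtain ⟨c, hcN, hc⟩ := pSubgroup_conj_into_sylow_in_subgroup S N hSN R hRp hRN
    have hy'S : c⁻¹ * (t⁻¹ * y * t) * c ∈ (S : Subgroup G) :=
      hc _ (Subgroup.mem_zpowers _)
    have hy'N : c⁻¹ * (t⁻¹ * y * t) * c ∈ N := hSN hy'S
    have hc2 : lam ⟨t⁻¹ * y * t, htN⟩ = lam ⟨c⁻¹ * (t⁻¹ * y * t) * c, hy'N⟩ := by
      have e : (⟨c⁻¹ * (t⁻¹ * y * t) * c, hy'N⟩ : ↥N) =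
          (⟨c, hcN⟩ : ↥N)⁻¹ * ⟨t⁻¹ * y * t, htN⟩ * ⟨c, hcN⟩ := by
        apply Subtype.ext; simp
      rw [e, map_mul, map_mul, map_inv, mul_comm, ← mul_assoc, mul_inv_cancel, one_mul]
    have hord : orderOf (c⁻¹ * (t⁻¹ * y * t) * c) = orderOf y := by
      have h1 := (MulAut.conj (t * c)⁻¹).orderOf_eq y
      rw [MulAut.conj_apply, inv_inv] at h1
      have e : (t * c)⁻¹ * y * (t * c) = c⁻¹ * (t⁻¹ * y * t) * c := by group
      rw [e] at h1
      exact h1
    have hvy' : v (c⁻¹ * (t⁻¹ * y * t) * c) = v y := by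
      have e : c⁻¹ * (t⁻¹ * y * t) * c = (t * c)⁻¹ * y * ((t * c)⁻¹)⁻¹ := by group
      rw [e]; exact hvconj _ _
    have h1 := IH (orderOf y) hylt y hy rfl hyN
    have h2 := IH (orderOf y) hylt _ hy'S hord hy'N
    rw [hc1, hc2, ← h2, hvy', h1]
  -- Step 2: vanishing of the contributions of the nontrivial cycles
  have hvan : ∀ x' ∈ (S : Subgroup G), orderOf x' = orderOf x →
      ∀ (ω : G ⧸ N) (n : ℕ), 1 < n → n ∣ orderOf x' →
        x' ^ n • ω = ω → CT.coc N lam (x' ^ n) ω = 1 := by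
    intro x' hx' hord ω n hn1 hnd hfixn
    have hx'N : x' ∈ N := hSN hx'
    have hpos : 0 < orderOf x' := orderOf_pos x'
    have hlt : orderOf (x' ^ n) < orderOf x := by
      rw [← hord, orderOf_pow' x' (by omega : n ≠ 0), Nat.gcd_eq_right hnd]
      exact Nat.div_lt_self hpos hn1
    have hyS : x' ^ n ∈ (S : Subgroup G) := (S : Subgroup G).pow_mem hx' n
    rw [hstep1 (x' ^ n) hyS hlt (N.pow_mem hx'N n) ω hfixn]
    have e : (⟨x' ^ n, N.pow_mem hx'N n⟩ : ↥N) = (⟨x', hx'N⟩ : ↥N) ^ n := by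
      apply Subtype.ext; simp
    rw [e, map_pow]
    -- `p ∣ n`
    obtain ⟨k, hk⟩ := S.2 ⟨x', hx'⟩
    have hk' : x' ^ p ^ k = 1 := by
      have := congrArg Subtype.val hk
      simpa using this
    have hd : orderOf x' ∣ p ^ k := orderOf_dvd_of_pow_eq_one hk'
    have hnpk : n ∣ p ^ k := hnd.trans hd
    obtain ⟨j, _, hj⟩ := (Nat.dvd_prime_pow hpp).mp hnpk
    have hj0 : j ≠ 0 := by
      rintro rfl
      rw [pow_zero] at hj; omega
    obtain ⟨j', rfl⟩ := Nat.exists_eq_succ_of_ne_zero hj0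
    rw [hj, pow_succ', pow_mul, hA, one_pow]
  -- Step 3: evaluation by fixed points
  have hev : v x = ∏ ω ∈ Finset.univ.filter (fun ω : G ⧸ N => x • ω = ω), CT.coc N lam x ω := by
    apply CT.T_eq_prod_fixed N lam x Finset.univ (fun _ _ => Finset.mem_univ _)
    intro ω _ n hn1 hnd hfixn
    exact hvan x hx rfl ω n hn1 hnd hfixn
  -- Step 4: grouping by orbits of `P₁ = W⟨x⟩`
  set P₁ : Subgroup G := W ⊔ Subgroup.zpowers x with hP₁
  have hP₁S : P₁ ≤ (S : Subgroup G) := sup_le hW.1 (Subgroup.zpowers_le.mpr hx)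
  have hxP₁ : x ∈ P₁ := (le_sup_right : Subgroup.zpowers x ≤ P₁) (Subgroup.mem_zpowers x)
  have hclaim : ∀ Y : Finset (G ⧸ N), CT.base N ∉ Y → (∀ ω ∈ Y, ∀ g ∈ P₁, g • ω ∈ Y) →
      ∏ ω ∈ Y.filter (fun ω => x • ω = ω), CT.coc N lam x ω = 1 := by
    intro Y
    induction Y using Finset.strongInduction with
    | H Y ih =>
    intro hbase hinv
    by_cases hemp : Y.filter (fun ω => x • ω = ω) = ∅
    · rw [hemp, Finset.prod_empty]
    · obtain ⟨ω₁, hω₁⟩ := Finset.nonempty_iff_ne_empty.mpr hemp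
      obtain ⟨hω₁Y, hω₁fix⟩ := Finset.mem_filter.mp hω₁
      have hω₁base : ω₁ ≠ CT.base N := fun h => hbase (h ▸ hω₁Y)
      set Ω : Finset (G ⧸ N) := Finset.univ.filter (fun ω => ∃ g ∈ P₁, g • ω₁ = ω) with hΩ
      have hΩY : Ω ⊆ Y := by
        intro ω hω
        obtain ⟨-, g, hg, rfl⟩ := Finset.mem_filter.mp hω
        exact hinv ω₁ hω₁Y g hg
      have hω₁Ω : ω₁ ∈ Ω := Finset.mem_filter.mpr ⟨Finset.mem_univ _, 1, P₁.one_mem, one_smul _ _⟩
      have hlt : Y \ Ω ⊂ Y := by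
        refine Finset.ssubset_iff_subset_ne.mpr ⟨Finset.sdiff_subset, ?_⟩
        intro h
        have : ω₁ ∈ Y \ Ω := by rw [h]; exact hω₁Y
        exact (Finset.mem_sdiff.mp this).2 hω₁Ω
      have hbase' : CT.base N ∉ Y \ Ω := fun h => hbase (Finset.mem_sdiff.mp h).1
      have hinv' : ∀ ω ∈ Y \ Ω, ∀ g ∈ P₁, g • ω ∈ Y \ Ω := by
        intro ω hω g hg
        obtain ⟨hωY, hωΩ⟩ := Finset.mem_sdiff.mp hω
        refine Finset.mem_sdiff.mpr ⟨hinv ω hωY g hg, ?_⟩
        intro h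
        obtain ⟨-, h', hh', hh'ω⟩ := Finset.mem_filter.mp h
        apply hωΩ
        refine Finset.mem_filter.mpr ⟨Finset.mem_univ _, g⁻¹ * h', P₁.mul_mem (P₁.inv_mem hg) hh', ?_⟩
        rw [mul_smul, hh'ω, inv_smul_smul]
      have h1 := ih (Y \ Ω) hlt hbase' hinv'
      have h2 := orbit_prod_eq_one₂ S W hW hA N hN lam hH x hx ω₁ hω₁base hω₁fix hvan
      have hsub : Ω.filter (fun ω => x • ω = ω) ⊆ Y.filter (fun ω => x • ω = ω) :=
        Finset.filter_subset_filter _ hΩY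
      have hsd : Y.filter (fun ω => x • ω = ω) \ Ω.filter (fun ω => x • ω = ω) =
          (Y \ Ω).filter (fun ω => x • ω = ω) := by
        ext ω
        simp only [Finset.mem_sdiff, Finset.mem_filter]
        tauto
      rw [← Finset.prod_sdiff hsub, hsd, h1, one_mul]
      exact h2
  have hbfix : x • CT.base N = CT.base N := CT.smul_base N hxN
  have hbmem : CT.base N ∈ Finset.univ.filter (fun ω : G ⧸ N => x • ω = ω) :=
    Finset.mem_filter.mpr ⟨Finset.mem_univ _, hbfix⟩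
  have herase : (Finset.univ.filter (fun ω : G ⧸ N => x • ω = ω)).erase (CT.base N) =
      (Finset.univ.erase (CT.base N)).filter (fun ω => x • ω = ω) := by
    ext ω
    simp only [Finset.mem_erase, Finset.mem_filter, Finset.mem_univ, true_and, and_true]
  have hrest := hclaim (Finset.univ.erase (CT.base N)) (Finset.notMem_erase _ _) (by
    intro ω hω g hg
    refine Finset.mem_erase.mpr ⟨?_, Finset.mem_univ _⟩
    intro h
    apply (Finset.mem_erase.mp hω).1
    have hgN : g ∈ N := hSN (hP₁S hg)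
    have : ω = g⁻¹ • CT.base N := by rw [← h, inv_smul_smul]
    rw [this]; exact CT.smul_base N (N.inv_mem hgN))
  rw [hev, ← Finset.mul_prod_erase _ _ hbmem, herase, hrest, mul_one]
  exact CT.coc_base N lam hxN

end Cfsg.Agent.Helper10.WY
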