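import Mathlib
import Cfsg.Prelude.Def_Transfer
import Cfsg.Prelude.Def_BaumannBlocks
import Cfsg.Agent.Lib.Helper10.WYMain
import Cfsg.Agent.Lib.Helper10.TateModP
import Cfsg.Agent.Lib.Helper22.PResidual
import Cfsg.Agent.Lib.Helper25.PResidual

set_option autoImplicit false
set_option maxHeartbeats 1000000

/-! The Wielandt–Yoshida theorem: control of the largest `p`-quotient by `N_G(W)`. -/

namespace Cfsg.Agent.Helper10.WY

open scoped commutatorElement

variable {G : Type*} [Group G] [Finite G] {p : ℕ} [hp : Fact p.Prime]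

/-- Under the commutator hypothesis, `S ∩ O^p(G) ≤ O^p(N_G(W))`. -/
theorem sylow_inf_pResidual_le₂ (S : Sylow p G) (W : Subgroup G)
    (hW : Cfsg.IsWeaklyClosed W (S : Subgroup G)) (hH : Hyp2 p (S : Subgroup G) W) :
    (S : Subgroup G) ⊓ Cfsg.pResidual p G ≤
      (Cfsg.pResidual p ↥(Subgroup.normalizer (W : Set G))).map
        (Subgroup.normalizer (W : Set G)).subtype := by
  classical
  have hpp := hp.out
  set N := Subgroup.normalizer (W : Set G) with hN
  have hSN : (S : Subgroup G) ≤ N := sylow_le_normalizer S W hW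
  apply TateP.tate_modp S N hSN
  intro y hy U hUn hUc hUp
  -- the quotient `N ⧸ U` is commutative of exponent `p`
  letI : CommGroup (↥N ⧸ U) :=
    { (inferInstance : Group (↥N ⧸ U)) with
      mul_comm := by
        intro a b
        induction a using QuotientGroup.induction_on with
        | H a =>
        induction b using QuotientGroup.induction_on with
        | H b =>
        rw [← QuotientGroup.mk_mul, ← QuotientGroup.mk_mul, QuotientGroup.eq]
        have e : (a * b)⁻¹ * (b * a) = ⁅b⁻¹, a⁻¹⁆ := by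
          rw [commutatorElement_def]; group
        rw [e]; exact hUc _ _ }
  have hA : ∀ a : ↥N ⧸ U, a ^ p = 1 := by
    intro a
    induction a using QuotientGroup.induction_on with
    | H a =>
    rw [← QuotientGroup.mk_pow, QuotientGroup.eq_one_iff]
    exact hUp a
  set lam : ↥N →* ↥N ⧸ U := QuotientGroup.mk' U with hlam
  haveI : Fintype (G ⧸ N) := Fintype.ofFinite _
  have hyN : y ∈ N := hSN hy.1
  have h1 := transfer_eq₂ S W hW hA N hN lam hH y hy.1 hyN
  -- the transfer kills `O^p(G)`
  let v : G →* ↥N ⧸ U :=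
    { toFun := CT.T N lam Finset.univ
      map_one' := CT.T_one N lam Finset.univ
      map_mul' := fun g h => CT.T_mul N lam Finset.univ g h (fun _ _ => Finset.mem_univ _) }
  have hker : Cfsg.pResidual p G ≤ v.ker := by
    apply Cfsg.Agent.Helper22.pResidual_le_ker v
    intro a
    have hd : orderOf a ∣ p := orderOf_dvd_of_pow_eq_one (hA a)
    rcases (Nat.dvd_prime hpp).mp hd with h | h
    · exact ⟨0, by rw [h, pow_zero]⟩
    · exact ⟨1, by rw [h, pow_one]⟩
  have h2 : CT.T N lam Finset.univ y = 1 := hker hy.2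
  rw [h2] at h1
  have h3 : lam ⟨y, hyN⟩ = 1 := h1.symm
  rw [hlam, QuotientGroup.mk'_apply, QuotientGroup.eq_one_iff] at h3
  exact h3

/-- Under the commutator hypothesis, `O^p(N_G(W)) = O^p(G) ∩ N_G(W)`. -/
theorem pResidualOf_normalizer_eq₂ (S : Sylow p G) (W : Subgroup G)
    (hW : Cfsg.IsWeaklyClosed W (S : Subgroup G)) (hH : Hyp2 p (S : Subgroup G) W) :
    Cfsg.pResidualOf p (Subgroup.normalizer (W : Set G)) =
      Cfsg.pResidual p G ⊓ Subgroup.normalizer (W : Set G) := by
  set N := Subgroup.normalizer (W : Set G) with hN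
  have hSN : (S : Subgroup G) ≤ N := sylow_le_normalizer S W hW
  have hmain := sylow_inf_pResidual_le₂ S W hW hH
  unfold Cfsg.pResidualOf
  apply le_antisymm
  · apply le_inf
    · exact Cfsg.Agent.Helper25.map_pResidual_le' p N.subtype N.subtype_injective
    · exact Subgroup.map_subtype_le _
  · rintro g ⟨hgR, hgN⟩
    obtain ⟨r, hr, u, hu, hgru⟩ :=
      Cfsg.Agent.Helper25.exists_mul_pResidual p (S.subtype hSN) (⟨g, hgN⟩ : ↥N)
    have hrS : (r : G) ∈ (S : Subgroup G) := by
      rw [Sylow.coe_subtype, Subgroup.mem_subgroupOf] at hr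
      exact hr
    have huK : (u : G) ∈ (Cfsg.pResidual p ↥N).map N.subtype := ⟨u, hu, rfl⟩
    have huR : (u : G) ∈ Cfsg.pResidual p G :=
      Cfsg.Agent.Helper25.map_pResidual_le' p N.subtype N.subtype_injective huK
    have hg' : g = (r : G) * (u : G) := by
      have := congrArg Subtype.val hgru
      simpa using this
    have hrR : (r : G) ∈ Cfsg.pResidual p G := by
      have : (r : G) = g * (u : G)⁻¹ := by rw [hg']; group
      rw [this]
      exact (Cfsg.pResidual p G).mul_mem hgR ((Cfsg.pResidual p G).inv_mem huR)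
    have hrK := hmain (Subgroup.mem_inf.mpr ⟨hrS, hrR⟩)
    rw [hg']
    exact Subgroup.mul_mem _ hrK huK

/-- Under the commutator hypothesis, `S ∩ O^p(G) ≤ O^p(N_G(W))`. -/
theorem sylow_inf_pResidual_le (S : Sylow p G) (W : Subgroup G)
    (hW : Cfsg.IsWeaklyClosed W (S : Subgroup G)) (hH : Hyp p (S : Subgroup G) W) :
    (S : Subgroup G) ⊓ Cfsg.pResidual p G ≤
      (Cfsg.pResidual p ↥(Subgroup.normalizer (W : Set G))).map
        (Subgroup.normalizer (W : Set G)).subtype :=
  sylow_inf_pResidual_le₂ S W hW (hyp2_of_hyp hH)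

/-- Under the commutator hypothesis, `O^p(N_G(W)) = O^p(G) ∩ N_G(W)`. -/
theorem pResidualOf_normalizer_eq (S : Sylow p G) (W : Subgroup G)
    (hW : Cfsg.IsWeaklyClosed W (S : Subgroup G)) (hH : Hyp p (S : Subgroup G) W) :
    Cfsg.pResidualOf p (Subgroup.normalizer (W : Set G)) =
      Cfsg.pResidual p G ⊓ Subgroup.normalizer (W : Set G) :=
  pResidualOf_normalizer_eq₂ S W hW (hyp2_of_hyp hH)

end Cfsg.Agent.Helper10.WY
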