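import Mathlib
import Cfsg.Agent.Lib.Helper10.WYFinal

set_option autoImplicit false
set_option maxHeartbeats 1000000

/-! The Wielandt–Yoshida theorem, derived-subgroup form. -/

namespace Cfsg.Agent.Helper10.WY

open scoped commutatorElement

/-- A `p`-element which is a commutator product times an element of `O^p` lies in the derived
subgroup. -/
theorem mem_commutator_of_mul {X : Type*} [Group X] [Finite X] {p : ℕ} [hp : Fact p.Prime]
    (y c r : X) (hy : ∃ k : ℕ, y ^ p ^ k = 1) (hc : c ∈ commutator X)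
    (hr : r ∈ Cfsg.pResidual p X) (hycr : y = c * r) : y ∈ commutator X := by
  have hpp := hp.out
  set φ : X →* Abelianization X := Abelianization.of with hφ
  let T : Subgroup (Abelianization X) :=
    { carrier := {a | (orderOf a).Coprime p}
      one_mem' := by simp
      mul_mem' := by
        intro a b ha hb
        have h1 : orderOf (a * b) ∣ orderOf a * orderOf b :=
          (Commute.all a b).orderOf_mul_dvd_mul_orderOf
        exact Nat.Coprime.coprime_dvd_left h1 (Nat.Coprime.mul_left ha hb)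
      inv_mem' := by
        intro a ha
        show (orderOf a⁻¹).Coprime p
        rw [orderOf_inv]; exact ha }
  have hRT : (Cfsg.pResidual p X).map φ ≤ T := by
    unfold Cfsg.pResidual
    rw [MonoidHom.map_closure, Subgroup.closure_le]
    rintro _ ⟨g, hg, rfl⟩
    show (orderOf (φ g)).Coprime p
    exact Nat.Coprime.coprime_dvd_left (orderOf_map_dvd φ g) hg
  have hφc : φ c = 1 := by
    have : c ∈ φ.ker := by rw [hφ, Abelianization.ker_of]; exact hc
    exact this
  have hφy : φ y = φ r := by rw [hycr, map_mul, hφc, one_mul]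
  have h1 : (orderOf (φ y)).Coprime p := by
    rw [hφy]; exact hRT ⟨r, hr, rfl⟩
  obtain ⟨k, hk⟩ := hy
  have h2 : orderOf (φ y) ∣ p ^ k := by
    apply orderOf_dvd_of_pow_eq_one
    rw [← map_pow, hk, map_one]
  have h3 : orderOf (φ y) = 1 :=
    Nat.eq_one_of_dvd_coprimes (Nat.Coprime.pow_right k h1) dvd_rfl h2
  have h4 : φ y = 1 := orderOf_eq_one_iff.mp h3
  have : y ∈ φ.ker := h4
  rwa [hφ, Abelianization.ker_of] at this

variable {G : Type*} [Group G] [Finite G] {p : ℕ} [hp : Fact p.Prime]

theorem sylow_inf_commutator_eq₂ (S : Sylow p G) (W : Subgroup G)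
    (hW : Cfsg.IsWeaklyClosed W (S : Subgroup G)) (hH : Hyp2 p (S : Subgroup G) W) :
    (S : Subgroup G) ⊓ commutator G =
      (S : Subgroup G) ⊓ ⁅Subgroup.normalizer (W : Set G), Subgroup.normalizer (W : Set G)⁆ := by
  set N := Subgroup.normalizer (W : Set G) with hN
  have hSN : (S : Subgroup G) ≤ N := sylow_le_normalizer S W hW
  have hres := pResidualOf_normalizer_eq₂ S W hW hH
  apply le_antisymm
  · rintro y ⟨hyS, hyc⟩
    refine Subgroup.mem_inf.mpr ⟨hyS, ?_⟩
    have hyN : y ∈ N := hSN hyS
    haveI hRn : (Cfsg.pResidual p G).Normal := Cfsg.Agent.Helper22.pResidual_normal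
    set R := Cfsg.pResidual p G with hR
    set f : ↥N →* G ⧸ R := (QuotientGroup.mk' R).comp N.subtype with hf
    have hfsurj : Function.Surjective f := by
      intro q
      obtain ⟨g, rfl⟩ := QuotientGroup.mk'_surjective R q
      obtain ⟨r, hr, u, hu, hgru⟩ := Cfsg.Agent.Helper25.exists_mul_pResidual p S g
      refine ⟨⟨r, hSN hr⟩, ?_⟩
      rw [hf, MonoidHom.comp_apply, Subgroup.coe_subtype, hgru, map_mul]
      have : QuotientGroup.mk' R u = 1 := (QuotientGroup.eq_one_iff u).mpr hu
      rw [this, mul_one]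
    have h1 : QuotientGroup.mk' R y ∈ commutator (G ⧸ R) := by
      have h2 : (commutator G).map (QuotientGroup.mk' R) ≤ commutator (G ⧸ R) := by
        rw [commutator_def, Subgroup.map_commutator, commutator_def]
        exact Subgroup.commutator_mono le_top le_top
      exact h2 ⟨y, hyc, rfl⟩
    have h3 : commutator (G ⧸ R) = (commutator ↥N).map f := by
      rw [commutator_def, commutator_def, Subgroup.map_commutator, ← MonoidHom.range_eq_map,
        MonoidHom.range_eq_top.mpr hfsurj]
    rw [h3] at h1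
    obtain ⟨n', hn', hfn'⟩ := h1
    have h4 : (y⁻¹ * (n' : G)) ∈ R ⊓ N := by
      refine Subgroup.mem_inf.mpr ⟨?_, N.mul_mem (N.inv_mem hyN) n'.2⟩
      have : QuotientGroup.mk' R (y⁻¹ * (n' : G)) = 1 := by
        rw [map_mul, map_inv]
        have : QuotientGroup.mk' R (n' : G) = QuotientGroup.mk' R y := hfn'
        rw [this, inv_mul_cancel]
      exact (QuotientGroup.eq_one_iff _).mp this
    rw [← hres] at h4
    obtain ⟨k, hk, hky⟩ := h4
    have hyeq : (⟨y, hyN⟩ : ↥N) = n' * k⁻¹ := by
      apply Subtype.ext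
      have hky' : (k : G) = y⁻¹ * (n' : G) := hky
      simp only [Subgroup.coe_mul, Subgroup.coe_inv, hky']
      group
    have hyp : ∃ j : ℕ, (⟨y, hyN⟩ : ↥N) ^ p ^ j = 1 := by
      obtain ⟨j, hj⟩ := S.2 ⟨y, hyS⟩
      refine ⟨j, ?_⟩
      apply Subtype.ext
      have := congrArg Subtype.val hj
      simpa using this
    have h5 := mem_commutator_of_mul (p := p) (⟨y, hyN⟩ : ↥N) n' k⁻¹ hyp hn'
      (Subgroup.inv_mem _ hk) hyeq
    rw [← Subgroup.map_subtype_commutator]
    exact ⟨⟨y, hyN⟩, h5, rfl⟩
  · apply inf_le_inf_left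
    rw [commutator_def]
    exact Subgroup.commutator_mono le_top le_top

theorem sylow_inf_commutator_eq (S : Sylow p G) (W : Subgroup G)
    (hW : Cfsg.IsWeaklyClosed W (S : Subgroup G)) (hH : Hyp p (S : Subgroup G) W) :
    (S : Subgroup G) ⊓ commutator G =
      (S : Subgroup G) ⊓ ⁅Subgroup.normalizer (W : Set G), Subgroup.normalizer (W : Set G)⁆ :=
  sylow_inf_commutator_eq₂ S W hW (hyp2_of_hyp hH)

end Cfsg.Agent.Helper10.WY
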