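import Mathlib
import Cfsg.Agent.Lib.Helper10.TraceCompl
import Cfsg.Agent.Lib.Helper10.SylowMore
import Cfsg.Agent.Lib.Helper10.ClosedSeries

set_option autoImplicit false

/-! The weakly closed elements of a Sylow subgroup form a direct factor of its centre, under a
control hypothesis. -/

namespace Cfsg.Agent.Helper10

open Cfsg
open scoped commutatorElement

section ambient

variable {G : Type*} [Group G] [Finite G] {p : ℕ} [hp : Fact p.Prime]

theorem map_subgroupOf_inf_center {S N : Subgroup G} (hSN : S ≤ N) :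
    (S.subgroupOf N ⊓ Subgroup.center ↥N).map N.subtype =
      S ⊓ Subgroup.centralizer (N : Set G) := by
  ext x
  constructor
  · rintro ⟨y, hy, rfl⟩
    obtain ⟨hy1, hy2⟩ := Subgroup.mem_inf.mp hy
    refine Subgroup.mem_inf.mpr ⟨Subgroup.mem_subgroupOf.mp hy1, ?_⟩
    rw [Subgroup.mem_centralizer_iff]
    intro n hn
    have := Subgroup.mem_center_iff.mp hy2 ⟨n, hn⟩
    exact congrArg Subtype.val this
  · intro hx
    obtain ⟨hx1, hx2⟩ := Subgroup.mem_inf.mp hx
    refine ⟨⟨x, hSN hx1⟩, Subgroup.mem_inf.mpr ⟨Subgroup.mem_subgroupOf.mpr hx1, ?_⟩, rfl⟩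
    rw [Subgroup.mem_center_iff]
    intro n
    apply Subtype.ext
    exact Subgroup.mem_centralizer_iff.mp hx2 (n : G) n.2

theorem map_subgroupOf_inf_centralizer {S N : Subgroup G} (hSN : S ≤ N) :
    (S.subgroupOf N ⊓ Subgroup.centralizer ((S.subgroupOf N : Subgroup ↥N) : Set ↥N)).map
      N.subtype = S ⊓ Subgroup.centralizer (S : Set G) := by
  ext x
  constructor
  · rintro ⟨y, hy, rfl⟩
    obtain ⟨hy1, hy2⟩ := Subgroup.mem_inf.mp hy
    refine Subgroup.mem_inf.mpr ⟨Subgroup.mem_subgroupOf.mp hy1, ?_⟩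
    rw [Subgroup.mem_centralizer_iff]
    intro s hs
    have := Subgroup.mem_centralizer_iff.mp hy2 ⟨s, hSN hs⟩ (Subgroup.mem_subgroupOf.mpr hs)
    exact congrArg Subtype.val this
  · intro hx
    obtain ⟨hx1, hx2⟩ := Subgroup.mem_inf.mp hx
    refine ⟨⟨x, hSN hx1⟩, Subgroup.mem_inf.mpr ⟨Subgroup.mem_subgroupOf.mpr hx1, ?_⟩, rfl⟩
    rw [Subgroup.mem_centralizer_iff]
    intro s hs
    apply Subtype.ext
    exact Subgroup.mem_centralizer_iff.mp hx2 (s : G) (Subgroup.mem_subgroupOf.mp hs)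

/-- the trace argument inside a subgroup `N ≥ S` -/
theorem trace_complement_in (S : Subgroup G) (hS : IsPGroup p S) (hidx : ¬ p ∣ S.index)
    (N V : Subgroup G) (hSN : S ≤ N) (hNV : N ≤ Subgroup.normalizer (V : Set G)) (hVS : V ≤ S)
    (hVc : ∀ x ∈ V, ∀ y ∈ V, x * y = y * x)
    (hZV : S ⊓ Subgroup.centralizer (S : Set G) ≤ V) :
    ∃ K : Subgroup G, K ≤ S ⊓ Subgroup.centralizer (S : Set G) ∧
      (S ⊓ Subgroup.centralizer (N : Set G)) ⊓ K = ⊥ ∧
      (S ⊓ Subgroup.centralizer (N : Set G)) ⊔ K = S ⊓ Subgroup.centralizer (S : Set G) := by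
  have hS' : IsPGroup p (S.subgroupOf N) := hS.comap_subtype
  have hidx' : ¬ p ∣ (S.subgroupOf N).index := by
    intro h
    apply hidx
    exact dvd_trans h (Subgroup.relIndex_dvd_index_of_le hSN)
  haveI hVn : (V.subgroupOf N).Normal := Subgroup.normal_subgroupOf_of_le_normalizer hNV
  have hVp : IsPGroup p (V.subgroupOf N) := (hS.to_le hVS).comap_subtype
  obtain ⟨K', hK'1, hK'2, hK'3⟩ := trace_complement (S.subgroupOf N) hS' hidx' (V.subgroupOf N) hVp
    (by
      intro x hx y hy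
      apply Subtype.ext
      exact hVc _ (Subgroup.mem_subgroupOf.mp hx) _ (Subgroup.mem_subgroupOf.mp hy))
    (by
      intro x hx
      rw [Subgroup.mem_subgroupOf]
      apply hZV
      rw [← map_subgroupOf_inf_centralizer hSN]
      exact ⟨x, hx, rfl⟩)
  have hinj := N.subtype_injective
  refine ⟨K'.map N.subtype, ?_, ?_, ?_⟩
  · rw [← map_subgroupOf_inf_centralizer hSN]
    exact Subgroup.map_mono hK'1
  · rw [← map_subgroupOf_inf_center hSN, ← Subgroup.map_inf _ _ _ hinj, hK'2, Subgroup.map_bot]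
  · rw [← map_subgroupOf_inf_center hSN, ← Subgroup.map_sup, hK'3,
      map_subgroupOf_inf_centralizer hSN]

/-- weakly closed elements form a direct factor of `Z(S)`, given a subgroup `N ≥ S` and an abelian
`V ≥ Z(S)` normalized by `N` such that the elements of `S` central in `N` are weakly closed -/
theorem wc_direct_factor (S : Subgroup G) (hS : IsPGroup p S) (hidx : ¬ p ∣ S.index)
    (N V : Subgroup G) (hSN : S ≤ N) (hNV : N ≤ Subgroup.normalizer (V : Set G)) (hVS : V ≤ S)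
    (hVc : ∀ x ∈ V, ∀ y ∈ V, x * y = y * x)
    (hZV : S ⊓ Subgroup.centralizer (S : Set G) ≤ V)
    (hwc : ∀ x ∈ S ⊓ Subgroup.centralizer (N : Set G), ∀ g : G, g * x * g⁻¹ ∈ S →
      g * x * g⁻¹ = x) :
    ∃ W K : Subgroup G,
      (∀ x : G, x ∈ W ↔ (x ∈ S ∧ ∀ g : G, g * x * g⁻¹ ∈ S → g * x * g⁻¹ = x)) ∧
      K ≤ S ⊓ Subgroup.centralizer (S : Set G) ∧ W ⊓ K = ⊥ ∧
      W ⊔ K = S ⊓ Subgroup.centralizer (S : Set G) := by
  obtain ⟨K, hK1, hK2, hK3⟩ := trace_complement_in S hS hidx N V hSN hNV hVS hVc hZV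
  refine ⟨S ⊓ Subgroup.centralizer (N : Set G), K, ?_, hK1, hK2, hK3⟩
  intro x
  constructor
  · intro hx
    exact ⟨(Subgroup.mem_inf.mp hx).1, hwc x hx⟩
  · rintro ⟨hxS, hx⟩
    have hxZ : x ∈ S ⊓ Subgroup.centralizer (S : Set G) := by
      refine Subgroup.mem_inf.mpr ⟨hxS, ?_⟩
      rw [Subgroup.mem_centralizer_iff]
      intro s hs
      have h1 := hx s (S.mul_mem (S.mul_mem hs hxS) (S.inv_mem hs))
      calc s * x = (s * x * s⁻¹) * s := by group
        _ = x * s := by rw [h1]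
    have hxV : x ∈ V := hZV hxZ
    refine Subgroup.mem_inf.mpr ⟨hxS, ?_⟩
    rw [Subgroup.mem_centralizer_iff]
    intro n hn
    have h1 : n * x * n⁻¹ ∈ V := (Subgroup.mem_normalizer_iff.mp (hNV hn) x).mp hxV
    have h2 := hx n (hVS h1)
    calc n * x = (n * x * n⁻¹) * n := by group
      _ = x * n := by rw [h2]

end ambient

end Cfsg.Agent.Helper10
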