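import Mathlib
import Cfsg.Agent.Lib.Helper10.WeakDirect
import Cfsg.Agent.Lib.Helper10.WellPlaced
import Cfsg.Agent.Lib.Helper10.KInfWeak
import Cfsg.Agent.Lib.Helper10.PSolvBalance
import Cfsg.Agent.S1985

set_option autoImplicit false

/-! The two sources of control for the weakly closed elements: the lower K-infinity subgroup for odd
`p`, and `O_{p',p}` in solvable groups. -/

namespace Cfsg.Agent.Helper10

open Cfsg
open scoped commutatorElement

universe u

section cwc

variable {G : Type*} [Group G] [Finite G] {p : ℕ} [hp : Fact p.Prime]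

theorem card_le_card_of_sylow {S T : Subgroup G} (hS : IsPGroup p S) (hTidx : ¬ p ∣ T.index) :
    Nat.card S ≤ Nat.card T := by
  obtain ⟨a, ha⟩ := hS.exists_card_eq
  have h1 : Nat.card S ∣ Nat.card G := Subgroup.card_subgroup_dvd_card S
  have h2 : Nat.card T * T.index = Nat.card G := Subgroup.card_mul_index T
  rw [← h2, ha] at h1
  have hcop : (p ^ a).Coprime T.index :=
    Nat.Coprime.pow_left a ((Nat.Prime.coprime_iff_not_dvd hp.out).mpr hTidx)
  have h3 : p ^ a ∣ Nat.card T := hcop.dvd_of_dvd_mul_right h1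
  rw [ha]
  exact Nat.le_of_dvd Nat.card_pos h3

/-- control of weak closure of elements, for an arbitrary Sylow subgroup -/
theorem cwc_sylow (W : Subgroup G → Subgroup G) (hW : IsConjugacyFunctor p W)
    (h : ControlsWeakClosureOfElementsIn p W ⊤) (S : Subgroup G) (hS : IsPGroup p S)
    (hidx : ¬ p ∣ S.index) :
    ∀ x ∈ S ⊓ Subgroup.centralizer ((Subgroup.normalizer ((W S : Subgroup G) : Set G) :
      Subgroup G) : Set G), ∀ g : G, g * x * g⁻¹ ∈ S → g * x * g⁻¹ = x := by
  obtain ⟨-, T, -, hT, hTidx, hT'⟩ := h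
  rw [Subgroup.relIndex_top_right] at hTidx
  obtain ⟨c, -, hc⟩ := conj_into_relSylow (⊤ : Subgroup G) T S le_top hT
    (by rwa [Subgroup.relIndex_top_right]) le_top hS
  have hST : rcg c S = T := by
    apply Subgroup.eq_of_le_of_card_ge hc
    rw [card_rcg]
    exact card_le_card_of_sylow hT hidx
  have hWST : rcg c (W S) = W T := by
    rw [← cf_rcg hW hS c, hST]
  intro x hx g hg
  obtain ⟨hxS, hxC⟩ := Subgroup.mem_inf.mp hx
  -- `y = c⁻¹ x c ∈ T`
  set y := c⁻¹ * x * c with hy
  have hyT : y ∈ T := by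
    rw [← hST, mem_rcg]
    have e : c * y * c⁻¹ = x := by rw [hy]; group
    rw [e]; exact hxS
  have hyC : y ∈ Subgroup.centralizer (((⊤ : Subgroup G) ⊓
      Subgroup.normalizer ((W T : Subgroup G) : Set G) : Subgroup G) : Set G) := by
    rw [Subgroup.mem_centralizer_iff]
    intro n hn
    have hn' : n ∈ Subgroup.normalizer ((W T : Subgroup G) : Set G) := (Subgroup.mem_inf.mp hn).2
    have h1 : c * n * c⁻¹ ∈ Subgroup.normalizer ((W S : Subgroup G) : Set G) := by
      rw [← hWST, ← rcg_normalizer, mem_rcg] at hn'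
      exact hn'
    have h2 := Subgroup.mem_centralizer_iff.mp hxC _ h1
    have e1 : n * y = c⁻¹ * ((c * n * c⁻¹) * x) * c := by rw [hy]; group
    have e2 : y * n = c⁻¹ * (x * (c * n * c⁻¹)) * c := by rw [hy]; group
    rw [e1, e2, h2]
  have h3 := hT' y (Subgroup.mem_inf.mpr ⟨hyT, hyC⟩) (c⁻¹ * g * c) (Subgroup.mem_top _) (by
    rw [← hST, mem_rcg]
    have e : c * (c⁻¹ * g * c * y * (c⁻¹ * g * c)⁻¹) * c⁻¹ = g * x * g⁻¹ := by rw [hy]; group
    rw [e]; exact hg)
  have e : g * x * g⁻¹ = c * (c⁻¹ * g * c * y * (c⁻¹ * g * c)⁻¹) * c⁻¹ := by rw [hy]; group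
  rw [e, h3, hy]
  group

end cwc

section kinf

variable {G : Type u} [Group G] [Finite G] {p : ℕ} [hp : Fact p.Prime]

/-- for odd `p`, the weakly closed elements of `S` form a direct factor of `Z(S)` -/
theorem wc_direct_factor_odd (hp2 : p ≠ 2) (S : Sylow p G) :
    ∃ W K : Subgroup G,
      (∀ x : G, x ∈ W ↔ (x ∈ (S : Subgroup G) ∧
        ∀ g : G, g * x * g⁻¹ ∈ (S : Subgroup G) → g * x * g⁻¹ = x)) ∧
      K ≤ (S : Subgroup G) ⊓ Subgroup.centralizer ((S : Subgroup G) : Set G) ∧ W ⊓ K = ⊥ ∧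
      W ⊔ K = (S : Subgroup G) ⊓ Subgroup.centralizer ((S : Subgroup G) : Set G) := by
  have hWc := isConjugacyFunctor_indW (H := G) (isCharPFunctor_kInfLower.{u} p)
  set K₀ := inducedFunctor (G := G) kInfLower (S : Subgroup G) with hK₀
  have hK₀S : K₀ ≤ (S : Subgroup G) := indW_le _
  have hZK : (S : Subgroup G) ⊓ Subgroup.centralizer ((S : Subgroup G) : Set G) ≤ K₀ :=
    kinf_hWZ (fun Q _ => center_le_kInfLower) (S : Subgroup G)
  apply wc_direct_factor (S : Subgroup G) S.2 S.not_dvd_index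
    (Subgroup.normalizer (K₀ : Set G)) (K₀ ⊓ Subgroup.centralizer (K₀ : Set G))
    (cf_le_normalizer hWc S.2)
  · refine le_trans (le_inf le_rfl (normalizer_le_normalizer_centralizer K₀)) ?_
    exact Subgroup.inf_normalizer_le_normalizer_inf
  · exact inf_le_left.trans hK₀S
  · intro x hx y hy
    exact (Subgroup.mem_centralizer_iff.mp hy.2 x hx.1)
  · intro z hz
    refine Subgroup.mem_inf.mpr ⟨hZK hz, ?_⟩
    exact Subgroup.centralizer_le (by exact_mod_cast hK₀S) hz.2
  · exact cwc_sylow _ hWc (Cfsg.Agent.S1985.result hp2) (S : Subgroup G) S.2 S.not_dvd_index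

end kinf

end Cfsg.Agent.Helper10
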