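import Mathlib
import Cfsg.Agent.Lib.Helper10.WeakDirect
import Cfsg.Agent.Lib.Helper10.PSolvBalance
import Cfsg.Agent.Lib.Helper10.SylowMore
import Cfsg.Agent.Lib.Helper7.PLocal2

set_option autoImplicit false

/-! In a solvable group the weakly closed elements of a Sylow subgroup form a direct factor of its
centre. -/

namespace Cfsg.Agent.Helper10

open Cfsg
open scoped commutatorElement

section solv

variable {G : Type*} [Group G] [Finite G] {p : ℕ} [hp : Fact p.Prime]

theorem wc_direct_factor_solvable (hs : Group.IsSolvable G) (S : Sylow p G) :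
    ∃ W K : Subgroup G,
      (∀ x : G, x ∈ W ↔ (x ∈ (S : Subgroup G) ∧
        ∀ g : G, g * x * g⁻¹ ∈ (S : Subgroup G) → g * x * g⁻¹ = x)) ∧
      K ≤ (S : Subgroup G) ⊓ Subgroup.centralizer ((S : Subgroup G) : Set G) ∧ W ⊓ K = ⊥ ∧
      W ⊔ K = (S : Subgroup G) ⊓ Subgroup.centralizer ((S : Subgroup G) : Set G) := by
  haveI hOn : (pPrimeCore p G).Normal := Cfsg.Agent.Helper22.pPrimeCore_normal p
  set π := QuotientGroup.mk' (pPrimeCore p G) with hπ
  have hπs : Function.Surjective π := QuotientGroup.mk'_surjective _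
  set Qb := pCore p (G ⧸ pPrimeCore p G) with hQb
  have hcon : Subgroup.centralizer (Qb : Set (G ⧸ pPrimeCore p G)) ≤ Qb :=
    centralizer_pCore_quotient_le_of_isSolvable p hs
  haveI hQbn : Qb.Normal := pCore_normal p
  set L := Qb.comap π with hL
  haveI hLn : L.Normal := Subgroup.Normal.comap hQbn π
  set T₀ := (S : Subgroup G) ⊓ L with hT₀
  -- `Q̄ ≤ π(S)`
  have hQbS : Qb ≤ (S : Subgroup G).map π := by
    apply pCore_le_sylow _ (S.2.map π)
    intro h
    exact S.not_dvd_index (dvd_trans h (Subgroup.index_map_dvd (S : Subgroup G) hπs))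
  have hker : ∀ y ∈ (S : Subgroup G), π y = 1 → y = 1 := by
    intro y hy h1
    have h2 : y ∈ pPrimeCore p G := by
      rw [← QuotientGroup.ker_mk' (pPrimeCore p G)]; exact h1
    have h3 : (orderOf y).Coprime p := by
      have := Cfsg.Agent.Helper22.card_pPrimeCore_coprime (G := G) p
      have h4 : orderOf y ∣ Nat.card (pPrimeCore p G) := by
        have := orderOf_dvd_natCard (⟨y, h2⟩ : ↥(pPrimeCore p G))
        rwa [Subgroup.orderOf_mk] at this
      exact Nat.Coprime.coprime_dvd_left h4 this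
    exact Cfsg.Agent.Helper7.eq_one_of_isPGroup_of_coprime S.2 hy h3
  have hSN : (S : Subgroup G) ≤ Subgroup.normalizer (T₀ : Set G) := by
    refine le_trans (le_inf Subgroup.le_normalizer ?_) Subgroup.inf_normalizer_le_normalizer_inf
    rw [Subgroup.normalizer_eq_top_iff.mpr hLn]; exact le_top
  apply wc_direct_factor (S : Subgroup G) S.2 S.not_dvd_index
    (Subgroup.normalizer (T₀ : Set G)) (T₀ ⊓ Subgroup.centralizer (T₀ : Set G)) hSN
  · refine le_trans (le_inf le_rfl (normalizer_le_normalizer_centralizer T₀)) ?_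
    exact Subgroup.inf_normalizer_le_normalizer_inf
  · exact inf_le_left.trans inf_le_left
  · intro x hx y hy
    exact (Subgroup.mem_centralizer_iff.mp hy.2 x hx.1)
  · intro z hz
    obtain ⟨hzS, hzC⟩ := Subgroup.mem_inf.mp hz
    have hzL : z ∈ L := by
      show π z ∈ Qb
      apply hcon
      rw [Subgroup.mem_centralizer_iff]
      intro q hq
      obtain ⟨s, hs', rfl⟩ := hQbS hq
      rw [← map_mul, ← map_mul, Subgroup.mem_centralizer_iff.mp hzC s hs']
    refine Subgroup.mem_inf.mpr ⟨Subgroup.mem_inf.mpr ⟨hzS, hzL⟩, ?_⟩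
    exact Subgroup.centralizer_le (by exact_mod_cast (inf_le_left : T₀ ≤ (S : Subgroup G))) hzC
  · intro x hx g hg
    obtain ⟨hxS, hxC⟩ := Subgroup.mem_inf.mp hx
    have hT₀p : IsPGroup p T₀ := S.2.to_le inf_le_left
    have hidx : ¬ p ∣ T₀.relIndex L := inf_normal_relSylow (S : Subgroup G) L S.2 S.not_dvd_index
    obtain ⟨c, hcL, hgc⟩ := frattini_elt L T₀ inf_le_right hT₀p hidx g
    obtain ⟨s, hsS, hsc⟩ := hQbS (show π c ∈ Qb from hcL)
    have h1 : x * s = s * x := (Subgroup.mem_centralizer_iff.mp hxC s (hSN hsS)).symm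
    have h2 : x * (g * c) = (g * c) * x := (Subgroup.mem_centralizer_iff.mp hxC _ hgc).symm
    have h3 : π x * π c = π c * π x := by
      rw [← hsc, ← map_mul, ← map_mul, h1]
    have h4 : π x * (π g * π c) = (π g * π c) * π x := by
      rw [← map_mul, ← map_mul, ← map_mul, h2]
    have h5 : π x * π g = π g * π x := by
      have e1 : π x * π g = (π x * (π g * π c)) * (π c)⁻¹ := by group
      rw [e1, h4]
      have e2 : π g * π c * π x * (π c)⁻¹ = π g * (π c * π x) * (π c)⁻¹ := by group
      rw [e2, ← h3]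
      group
    have h6 : π (g * x * g⁻¹ * x⁻¹) = 1 := by
      rw [map_mul, map_mul, map_mul, map_inv, map_inv, ← h5]
      group
    have h7 := hker _ (Subgroup.mul_mem _ hg (Subgroup.inv_mem _ hxS)) h6
    calc g * x * g⁻¹ = (g * x * g⁻¹ * x⁻¹) * x := by group
      _ = x := by rw [h7, one_mul]

end solv

end Cfsg.Agent.Helper10
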