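import Mathlib
import Cfsg.Agent.Lib.Helper10.WYAux

set_option autoImplicit false

/-! Shift-invariant subgroups of the functions on `ZMod p`, and the order of a Sylow
`p`-subgroup of the symmetric group of degree `p ^ 2`. -/

namespace Cfsg.Agent.Helper10.Wr

variable {p : ℕ} [hp : Fact p.Prime]

/-- the difference operator on functions on `ZMod p` -/
def Dl : (ZMod p → ZMod p) →ₗ[ZMod p] (ZMod p → ZMod p) where
  toFun f := fun i => f (i + 1) - f i
  map_add' f g := by funext i; simp only [Pi.add_apply]; ring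
  map_smul' c f := by funext i; simp only [Pi.smul_apply, smul_eq_mul, RingHom.id_apply]; ring

theorem Dl_apply (f : ZMod p → ZMod p) (i : ZMod p) : Dl f i = f (i + 1) - f i := rfl

theorem Dl_pow_shift (f : ZMod p → ZMod p) (j : ZMod p) (n : ℕ) :
    (fwdDiff (1 : ℕ))^[n] (fun k : ℕ => f (j + k)) = fun k : ℕ => ((Dl ^ n) f) (j + k) := by
  induction n generalizing f with
  | zero => rfl
  | succ n ih =>
    rw [Function.iterate_succ_apply, pow_succ, Module.End.mul_apply]
    have : fwdDiff (1 : ℕ) (fun k : ℕ => f (j + k)) = fun k : ℕ => (Dl f) (j + k) := by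
      funext k
      simp only [fwdDiff, Dl_apply, Nat.cast_add, Nat.cast_one, add_assoc]
    rw [this, ih]

theorem sum_range_cast (g : ZMod p → ZMod p) :
    ∑ k ∈ Finset.range p, g (k : ZMod p) = ∑ i, g i := by
  haveI : NeZero p := ⟨hp.out.ne_zero⟩
  symm
  apply Finset.sum_bij (fun (i : ZMod p) _ => i.val)
  · intro i _; exact Finset.mem_range.mpr (ZMod.val_lt i)
  · intro i _ j _ h; exact ZMod.val_injective p h
  · intro k hk
    exact ⟨(k : ZMod p), Finset.mem_univ _, ZMod.val_cast_of_lt (Finset.mem_range.mp hk)⟩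
  · intro i _; rw [ZMod.natCast_zmod_val]

theorem Dl_pow_pred (f : ZMod p → ZMod p) (j : ZMod p) :
    ((Dl ^ (p - 1)) f) j = ∑ i, f i := by
  have h1 := WY.fwdDiff_iter_pred_prime (p := p) (B := ZMod p)
    (fun b => by rw [nsmul_eq_mul, CharP.cast_eq_zero, zero_mul]) (fun k : ℕ => f (j + k))
  rw [Dl_pow_shift] at h1
  simp only [Nat.cast_zero, add_zero] at h1
  rw [h1, sum_range_cast (fun i => f (j + i))]
  exact Fintype.sum_equiv (Equiv.addLeft j) _ _ (fun i => rfl)

theorem const_of_Dl_eq_zero (f : ZMod p → ZMod p) (h : Dl f = 0) : ∀ i, f i = f 0 := by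
  haveI : NeZero p := ⟨hp.out.ne_zero⟩
  have h1 : ∀ i, f (i + 1) = f i := fun i => by
    have := congrFun h i
    rw [Dl_apply] at this
    exact sub_eq_zero.mp this
  have h2 : ∀ k : ℕ, f (k : ZMod p) = f 0 := by
    intro k
    induction k with
    | zero => simp
    | succ k ih => rw [Nat.cast_succ, h1, ih]
  intro i
  rw [← ZMod.natCast_zmod_val i]
  exact h2 _

/-- An additive subgroup of the functions on `ZMod p`, invariant under the shift and containing
a function with nonzero sum, is everything. -/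
theorem eq_top_of_shift_invariant (V : AddSubgroup (ZMod p → ZMod p))
    (hV : ∀ f ∈ V, (fun i => f (i + 1)) ∈ V) (v : ZMod p → ZMod p) (hv : v ∈ V)
    (hs : ∑ i, v i ≠ 0) : V = ⊤ := by
  haveI : NeZero p := ⟨hp.out.ne_zero⟩
  have hpp := hp.out
  have hsm : ∀ (c : ZMod p) (f : ZMod p → ZMod p), f ∈ V → c • f ∈ V := by
    intro c f hf
    have : c • f = c.val • f := by
      rw [← Nat.cast_smul_eq_nsmul (ZMod p), ZMod.natCast_zmod_val]
    rw [this]; exact V.nsmul_mem hf _
  have hD : ∀ f ∈ V, Dl f ∈ V := fun f hf => V.sub_mem (hV f hf) hf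
  have hDk : ∀ k : ℕ, ∀ f ∈ V, (Dl ^ k) f ∈ V := by
    intro k
    induction k with
    | zero => intro f hf; simpa using hf
    | succ k ih => intro f hf; rw [pow_succ, Module.End.mul_apply]; exact ih _ (hD f hf)
  set s := ∑ i, v i with hs_def
  have key : ∀ k : ℕ, k ≤ p → ∀ f : ZMod p → ZMod p, (Dl ^ k) f = 0 → f ∈ V := by
    intro k
    induction k with
    | zero =>
      intro _ f hf
      rw [pow_zero, Module.End.one_apply] at hf
      rw [hf]; exact V.zero_mem
    | succ k ih =>
      intro hk f hf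
      have hk' : k ≤ p := by omega
      rw [pow_succ', Module.End.mul_apply] at hf
      have hc := const_of_Dl_eq_zero _ hf
      set a := ((Dl ^ k) f) 0 with ha
      set w := (Dl ^ (p - 1 - k)) v with hw_def
      have hw : w ∈ V := hDk _ v hv
      have hwk : (Dl ^ k) w = fun _ => s := by
        funext j
        rw [hw_def, ← Module.End.mul_apply, ← pow_add, (by omega : k + (p - 1 - k) = p - 1)]
        exact Dl_pow_pred v j
      have hg : (Dl ^ k) (f - (a / s) • w) = 0 := by
        rw [map_sub, map_smul, hwk]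
        funext j
        simp only [Pi.sub_apply, Pi.smul_apply, smul_eq_mul, Pi.zero_apply]
        rw [hc j, div_mul_cancel₀ _ hs, sub_self]
      have h1 := ih hk' _ hg
      have h2 := V.add_mem h1 (hsm (a / s) w hw)
      simpa using h2
  rw [eq_top_iff]
  intro f _
  apply key p le_rfl
  have hp1 : (Dl (p := p)) ^ p = Dl * Dl ^ (p - 1) := by
    rw [← pow_succ']
    congr 1
    have := hpp.pos; omega
  rw [hp1, Module.End.mul_apply]
  have hc : (Dl ^ (p - 1)) f = fun _ => ∑ i, f i := funext (Dl_pow_pred f)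
  rw [hc]
  funext j
  rw [Dl_apply]
  simp

/-- the order of a Sylow `p`-subgroup of the symmetric group of degree `p ^ 2` -/
theorem card_sylow_perm (Q : Sylow p (Equiv.Perm (Fin (p ^ 2)))) :
    Nat.card (Q : Subgroup (Equiv.Perm (Fin (p ^ 2)))) = p ^ (p + 1) := by
  have hpp := hp.out
  rw [Sylow.card_eq_multiplicity, Nat.card_eq_fintype_card, Fintype.card_perm, Fintype.card_fin]
  congr 1
  rw [Nat.factorization_def _ hpp, padicValNat_factorial (b := 3)]
  · have : Finset.Ico 1 3 = {1, 2} := by decide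
    rw [this, Finset.sum_pair (by norm_num)]
    rw [pow_one, sq, Nat.mul_div_cancel _ hpp.pos, Nat.div_self (Nat.mul_pos hpp.pos hpp.pos)]
  · rw [Nat.log_pow hpp.one_lt]; norm_num

end Cfsg.Agent.Helper10.Wr
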