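import Mathlib
import Cfsg.Agent.Lib.Helper10.WYAux
import Cfsg.Agent.Lib.Helper10.WreathLA
import Cfsg.Agent.Lib.Helper10.CocTransfer
import Cfsg.Agent.Lib.Helper1.PGroupCoatom

set_option autoImplicit false
set_option maxHeartbeats 1000000

/-! A finite `p`-group with a maximal subgroup `M`, `z ∉ M`, `x ∈ M` such that the
`(p-1)`-fold commutator `[x, z, …, z]` is not in the Frattini subgroup of `M` has the wreath
product of two groups of order `p` as a homomorphic image. -/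

namespace Cfsg.Agent.Helper10.Wr

variable {p : ℕ} [hp : Fact p.Prime]

theorem wreath_image {P : Type*} [Group P] [Finite P] (hP : IsPGroup p P) (M : Subgroup P)
    (hM : IsCoatom M) (z x : P) (hz : z ∉ M) (hx : x ∈ M)
    (hu : (WY.cz z)^[p - 1] x ∉ (frattini ↥M).map M.subtype) :
    ∃ (Q : Sylow p (Equiv.Perm (Fin (p ^ 2))))
      (f : P →* ↥(Q : Subgroup (Equiv.Perm (Fin (p ^ 2))))), Function.Surjective f := by
  classical
  have hpp := hp.out
  haveI : NeZero p := ⟨hpp.ne_zero⟩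
  obtain ⟨hMn, hMidx⟩ := Cfsg.Agent.Helper1.coatom_normal_index_of_isPGroup hP M hM
  haveI := hMn
  have hzn : ∀ m ∈ M, z⁻¹ * m * z ∈ M := by
    intro m hm
    have := hMn.conj_mem m hm z⁻¹
    simpa using this
  set u : P := (WY.cz z)^[p - 1] x with hu_def
  have huM : u ∈ M := WY.cz_iter_mem hzn hx (p - 1)
  have hu' : (⟨u, huM⟩ : ↥M) ∉ frattini ↥M := by
    intro h; exact hu ⟨⟨u, huM⟩, h, rfl⟩
  obtain ⟨K', hK'co, huK'⟩ : ∃ K' : Subgroup ↥M, IsCoatom K' ∧ (⟨u, huM⟩ : ↥M) ∉ K' := by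
    by_contra hcon
    push Not at hcon
    apply hu'
    unfold frattini Order.radical
    rw [Subgroup.mem_iInf]
    intro K
    rw [Subgroup.mem_iInf]
    exact fun hK => hcon K hK
  have hMp : IsPGroup p ↥M := hP.to_subgroup M
  obtain ⟨hK'n, hK'idx⟩ := Cfsg.Agent.Helper1.coatom_normal_index_of_isPGroup hMp K' hK'co
  haveI := hK'n
  -- the character
  have hcardQ : Nat.card (↥M ⧸ K') = p := hK'idx
  have hcardZ : Nat.card (Multiplicative (ZMod p)) = p := by
    rw [Nat.card_eq_fintype_card, Fintype.card_multiplicative, ZMod.card]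
  set e := mulEquivOfPrimeCardEq (p := p) hcardQ hcardZ with he
  set χ : ↥M →* Multiplicative (ZMod p) := e.toMonoidHom.comp (QuotientGroup.mk' K') with hχ
  have hχker : ∀ m : ↥M, χ m = 1 ↔ m ∈ K' := by
    intro m
    show e (QuotientGroup.mk' K' m) = 1 ↔ _
    rw [MulEquiv.map_eq_one_iff, QuotientGroup.mk'_apply, QuotientGroup.eq_one_iff]
  set ν : P → Multiplicative (ZMod p) := fun g => if h : g ∈ M then χ ⟨g, h⟩ else 1 with hν
  have hνM : ∀ (g : P) (hg : g ∈ M), ν g = χ ⟨g, hg⟩ := by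
    intro g hg
    simp only [hν, dif_pos hg]
  have hνmul : ∀ g ∈ M, ∀ h ∈ M, ν (g * h) = ν g * ν h := by
    intro g hg h hh
    rw [hνM _ (M.mul_mem hg hh), hνM _ hg, hνM _ hh, ← map_mul]
    rfl
  have hν1 : ν 1 = 1 := by
    rw [hνM 1 M.one_mem]
    exact map_one χ
  have hνinv : ∀ g ∈ M, ν g⁻¹ = (ν g)⁻¹ := by
    intro g hg
    rw [hνM _ (M.inv_mem hg), hνM _ hg, ← map_inv]
    rfl
  have hνconj : ∀ n ∈ M, ∀ m ∈ M, ν (n⁻¹ * m * n) = ν m := by
    intro n hn m hm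
    rw [hνmul _ (M.mul_mem (M.inv_mem hn) hm) _ hn, hνmul _ (M.inv_mem hn) _ hm, hνinv n hn]
    rw [mul_comm (ν n)⁻¹, mul_assoc, inv_mul_cancel, mul_one]
  -- `z ^ p ∈ M`
  have hzp : z ^ p ∈ M := by
    have h1 : (QuotientGroup.mk z : P ⧸ M) ^ Nat.card (P ⧸ M) = 1 := pow_card_eq_one'
    have h2 : Nat.card (P ⧸ M) = p := hMidx
    rw [h2, ← QuotientGroup.mk_pow, QuotientGroup.eq_one_iff] at h1
    exact h1
  have hper : ∀ a : ℕ, ∀ m ∈ M, ν ((z ^ (a % p))⁻¹ * m * z ^ (a % p)) = ν ((z ^ a)⁻¹ * m * z ^ a) := by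
    intro a m hm
    have ha : a = a % p + p * (a / p) := (Nat.mod_add_div a p).symm
    set r := a % p with hr
    set n : P := (z ^ p) ^ (a / p) with hn
    have hnM : n ∈ M := M.pow_mem hzp _
    have e1 : z ^ a = z ^ r * n := by
      rw [hn, ← pow_mul, ← pow_add, ← ha]
    rw [e1]
    have e2 : (z ^ r * n)⁻¹ * m * (z ^ r * n) = n⁻¹ * ((z ^ r)⁻¹ * m * z ^ r) * n := by group
    rw [e2, hνconj n hnM _ (WY.conj_pow_mem hzn hm r)]
  -- the map into the functions
  set Θ : ↥M → ZMod p → ZMod p :=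
    fun m i => Multiplicative.toAdd (ν ((z ^ i.val)⁻¹ * (m : P) * z ^ i.val)) with hΘ
  have hΘmul : ∀ m n : ↥M, Θ (m * n) = Θ m + Θ n := by
    intro m n
    funext i
    show Multiplicative.toAdd (ν ((z ^ i.val)⁻¹ * ((m * n : ↥M) : P) * z ^ i.val)) =
      Multiplicative.toAdd (ν ((z ^ i.val)⁻¹ * (m : P) * z ^ i.val)) +
      Multiplicative.toAdd (ν ((z ^ i.val)⁻¹ * (n : P) * z ^ i.val))
    rw [← toAdd_mul, ← hνmul _ (WY.conj_pow_mem hzn m.2 _) _ (WY.conj_pow_mem hzn n.2 _)]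
    congr 2
    rw [Subgroup.coe_mul]
    group
  let Θh : ↥M →* Multiplicative (ZMod p → ZMod p) :=
    MonoidHom.mk' (fun m => Multiplicative.ofAdd (Θ m)) (by
      intro m n
      rw [hΘmul]
      rfl)
  have hΘ1 : Θ 1 = 0 := by
    have := map_one Θh
    exact this
  have hΘinv : ∀ m : ↥M, Θ m⁻¹ = - Θ m := by
    intro m
    have := map_inv Θh m
    exact this
  have hΘshift : ∀ m : ↥M, ∀ hm' : z⁻¹ * (m : P) * z ∈ M,
      Θ ⟨z⁻¹ * (m : P) * z, hm'⟩ = fun i => Θ m (i + 1) := by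
    intro m hm'
    funext i
    show Multiplicative.toAdd (ν ((z ^ i.val)⁻¹ * (z⁻¹ * (m : P) * z) * z ^ i.val)) =
      Multiplicative.toAdd (ν ((z ^ (i + 1).val)⁻¹ * (m : P) * z ^ (i + 1).val))
    congr 1
    have h1 : (i + 1).val = (i.val + 1) % p := by
      rw [ZMod.val_add]
      congr 2
      haveI : Fact (1 < p) := ⟨hpp.one_lt⟩
      exact ZMod.val_one p
    rw [h1, hper (i.val + 1) _ m.2]
    congr 1
    rw [pow_succ]
    group
  -- the image
  let V : AddSubgroup (ZMod p → ZMod p) :=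
    { carrier := Set.range Θ
      zero_mem' := ⟨1, hΘ1⟩
      add_mem' := by
        rintro _ _ ⟨m, rfl⟩ ⟨n, rfl⟩
        exact ⟨m * n, hΘmul m n⟩
      neg_mem' := by
        rintro _ ⟨m, rfl⟩
        exact ⟨m⁻¹, hΘinv m⟩ }
  have hVshift : ∀ f ∈ V, (fun i => f (i + 1)) ∈ V := by
    rintro _ ⟨m, rfl⟩
    exact ⟨⟨z⁻¹ * (m : P) * z, hzn _ m.2⟩, hΘshift m _⟩
  have hsum : ∑ i, Θ ⟨x, hx⟩ i ≠ 0 := by
    rw [← sum_range_cast]
    have h1 : ∀ k ∈ Finset.range p, Θ ⟨x, hx⟩ (k : ZMod p) =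
        Multiplicative.toAdd (ν ((z ^ k)⁻¹ * x * z ^ k)) := by
      intro k hk
      show Multiplicative.toAdd (ν ((z ^ (k : ZMod p).val)⁻¹ * x * z ^ (k : ZMod p).val)) = _
      rw [ZMod.val_cast_of_lt (Finset.mem_range.mp hk)]
    rw [Finset.sum_congr rfl h1, ← toAdd_prod]
    rw [WY.norm_lemma (p := p) (fun a => by
        show Multiplicative.ofAdd (p • Multiplicative.toAdd a) = 1
        rw [nsmul_eq_mul, CharP.cast_eq_zero, zero_mul]; rfl) M z hzn ν hνmul hx]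
    intro h0
    apply huK'
    rw [← hχker, ← hνM u huM]
    exact h0
  have hVtop : V = ⊤ := eq_top_of_shift_invariant V hVshift (Θ ⟨x, hx⟩) ⟨⟨x, hx⟩, rfl⟩ hsum
  have hΘsurj : Function.Surjective Θh := by
    intro f
    have : Multiplicative.toAdd f ∈ V := by rw [hVtop]; exact AddSubgroup.mem_top _
    obtain ⟨m, hm⟩ := this
    exact ⟨m, congrArg Multiplicative.ofAdd hm⟩
  -- the subgroup `K` and the permutation action
  set K : Subgroup P := K'.map M.subtype with hK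
  have hKM : K ≤ M := Subgroup.map_subtype_le K'
  have hmemK : ∀ (g : P) (hg : g ∈ M), g ∈ K ↔ (⟨g, hg⟩ : ↥M) ∈ K' := by
    intro g hg
    constructor
    · rintro ⟨y, hy, hyg⟩
      have : y = ⟨g, hg⟩ := Subtype.ext hyg
      rw [← this]; exact hy
    · intro h; exact ⟨⟨g, hg⟩, h, rfl⟩
  have hKidx : Nat.card (P ⧸ K) = p ^ 2 := by
    show K.index = p ^ 2
    rw [hK, Subgroup.index_map_subtype, hK'idx, hMidx, sq]
  let e₂ : (P ⧸ K) ≃ Fin (p ^ 2) := Finite.equivFinOfCardEq hKidx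
  set ρ : P →* Equiv.Perm (Fin (p ^ 2)) :=
    (Equiv.permCongrHom e₂).toMonoidHom.comp (MulAction.toPermHom P (P ⧸ K)) with hρ
  have hker : ∀ g ∈ ρ.ker, ∀ t : P, t⁻¹ * g * t ∈ K := by
    intro g hg t
    rw [MonoidHom.mem_ker] at hg
    have h1 : MulAction.toPermHom P (P ⧸ K) g = 1 := by
      have : (Equiv.permCongrHom e₂) (MulAction.toPermHom P (P ⧸ K) g) = 1 := hg
      exact (MulEquiv.map_eq_one_iff _).mp this
    have h2 : g • ((t : P) : P ⧸ K) = ((t : P) : P ⧸ K) := by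
      have := congrArg (fun σ : Equiv.Perm (P ⧸ K) => σ ((t : P) : P ⧸ K)) h1
      exact this
    exact (CT.fixed_iff K g t).mp h2
  have hkerM : ∀ g ∈ ρ.ker, g ∈ M := by
    intro g hg
    have := hker g hg 1
    simp only [inv_one, one_mul, mul_one] at this
    exact hKM this
  have hcardker : Nat.card ρ.ker ≤ Nat.card Θh.ker := by
    apply Nat.card_le_card_of_injective
      (fun g : ρ.ker => (⟨⟨g.1, hkerM g.1 g.2⟩, by
        rw [MonoidHom.mem_ker]
        show Multiplicative.ofAdd (Θ ⟨g.1, hkerM g.1 g.2⟩) = 1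
        have : Θ ⟨g.1, hkerM g.1 g.2⟩ = 0 := by
          funext i
          show Multiplicative.toAdd (ν ((z ^ i.val)⁻¹ * (g.1 : P) * z ^ i.val)) = 0
          have h1 := hker g.1 g.2 (z ^ i.val)
          have h1M : (z ^ i.val)⁻¹ * (g.1 : P) * z ^ i.val ∈ M := hKM h1
          rw [hνM _ h1M, (hχker _).mpr ((hmemK _ h1M).mp h1)]
          rfl
        rw [this]; rfl⟩ : Θh.ker))
    intro a b hab
    apply Subtype.ext
    have := congrArg (fun t : Θh.ker => ((t : ↥M) : P)) hab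
    exact this
  -- counting
  have hc1 : Nat.card ρ.ker * Nat.card ρ.range = Nat.card P := by
    rw [← Subgroup.index_ker]; exact Subgroup.card_mul_index _
  have hc2 : Nat.card ↥M * p = Nat.card P := by
    rw [← hMidx]; exact Subgroup.card_mul_index _
  have hc3 : Nat.card Θh.ker * p ^ p = Nat.card ↥M := by
    have h1 : Nat.card Θh.range = p ^ p := by
      rw [MonoidHom.range_eq_top.mpr hΘsurj, Subgroup.card_top, Nat.card_eq_fintype_card,
        Fintype.card_multiplicative, Fintype.card_fun, ZMod.card]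
    rw [← h1, ← Subgroup.index_ker]; exact Subgroup.card_mul_index _
  have hrange : p ^ (p + 1) ≤ Nat.card ρ.range := by
    have hpos : 0 < Nat.card ρ.ker := Nat.card_pos
    have h1 : Nat.card ρ.ker * Nat.card ρ.range = Nat.card Θh.ker * p ^ (p + 1) := by
      rw [hc1, ← hc2, ← hc3, pow_succ, mul_assoc]
    have h2 : Nat.card ρ.ker * p ^ (p + 1) ≤ Nat.card ρ.ker * Nat.card ρ.range := by
      rw [h1]; exact Nat.mul_le_mul_right _ hcardker
    exact Nat.le_of_mul_le_mul_left h2 hpos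
  -- the Sylow subgroup
  have hrp : IsPGroup p ρ.range := hP.of_surjective ρ.rangeRestrict ρ.rangeRestrict_surjective
  obtain ⟨Q, hQ⟩ := hrp.exists_le_sylow
  have hQeq : ρ.range = (Q : Subgroup (Equiv.Perm (Fin (p ^ 2)))) := by
    apply Subgroup.eq_of_le_of_card_ge hQ
    rw [card_sylow_perm Q]; exact hrange
  refine ⟨Q, ρ.codRestrict (Q : Subgroup (Equiv.Perm (Fin (p ^ 2)))) (fun g => hQ ⟨g, rfl⟩), ?_⟩
  rintro ⟨q, hq⟩
  rw [← hQeq] at hq
  obtain ⟨g, rfl⟩ := hq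
  exact ⟨g, rfl⟩

end Cfsg.Agent.Helper10.Wr
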